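import Groth.Statements.S5457
-- import your own Groth.Agent.* helpers here

set_option autoImplicit false
open RootD

namespace Groth.Agent.S5457

/-- Given a translation-invariant partial order (pulled back along an additive map to an ordered abelian
group) for which every root is > 0 or < 0, the roots > 0 form a system of positive roots. -/
theorem result {ι M N : Type*} [AddCommGroup M] [AddCommGroup N]
    (P : RootPairing ι ℤ M N) [Finite ι] {G : Type*} [AddCommGroup G] [PartialOrder G]
    [IsOrderedAddMonoid G] (φ : M →+ G) (hφ : ∀ i : ι, 0 < φ (P.root i) ∨ φ (P.root i) < 0) :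
    RootD.IsPosSys P {i : ι | 0 < φ (P.root i)} := by
  have hneg : ∀ a : ι, φ (P.root (P.reflectionPerm a a)) = - φ (P.root a) := fun a => by simp
  refine ⟨?_, ?_, ?_⟩
  · intro i hi
    show ¬ (0 < φ (P.root (P.reflectionPerm i i)))
    rw [hneg]
    intro h'
    exact lt_asymm hi (neg_pos.mp h')
  · intro i
    rcases hφ i with h | h
    · exact Or.inl h
    · right
      show 0 < φ (P.root (P.reflectionPerm i i))
      rw [hneg]
      exact neg_pos.mpr h
  · intro k n hn hk
    have hnn : ∀ x ∈ RootD.natSpan P {i : ι | 0 < φ (P.root i)}, 0 ≤ φ x := by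
      intro x hx
      unfold RootD.natSpan at hx
      induction hx using AddSubmonoid.closure_induction with
      | mem x hx =>
        obtain ⟨i, hi, rfl⟩ := hx
        exact hi.le
      | zero => simp
      | add x y _ _ hx hy => rw [map_add]; exact add_nonneg hx hy
    have h0 := hnn _ hk
    rw [map_nsmul] at h0
    rcases hφ k with h | h
    · exact h
    · exfalso
      have := nsmul_neg h (Nat.pos_iff_ne_zero.mp hn)
      exact lt_irrefl _ (lt_of_le_of_lt h0 this)

end Groth.Agent.S5457
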