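import Groth.Statements.S5503
-- import your own Groth.Agent.* helpers here

set_option autoImplicit false
open RootPairing
open scoped Pointwise
open RootD

namespace Groth.Agent.S5503

/-- And the reference for u in the Weyl group: for an automorphism u of a root datum and a root α, u s_α
u⁻¹ = s_{u(α)}; hence W(R) is a normal subgroup of Aut(R). -/
theorem result {ι M N : Type*} [AddCommGroup M] [AddCommGroup N]
    (P : RootPairing ι ℤ M N) [Finite ι] (u : P.Aut) (i : ι) :
    u * Equiv.reflection P i * u⁻¹ = Equiv.reflection P (u • i) := by
  apply RootPairing.Equiv.weightHom_injective P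
  ext x
  have hui : u • i = u.toHom.indexEquiv i := rfl
  have key : ∀ m : M, P.toLinearMap (u.toHom.weightMap m) (P.coroot (u • i)) =
      P.toLinearMap m (P.coroot i) := by
    intro m
    have h := LinearMap.congr_fun
      (RootPairing.Hom.weight_coweight_transpose_apply P P (P.coroot (u • i)) u.toHom) m
    simp at h
    rw [h, RootPairing.Hom.coroot_coweightMap_apply, hui, Equiv.symm_apply_apply]
  simp [RootPairing.reflection_apply]
  rw [RootPairing.Hom.root_weightMap_apply, ← hui, ← key]
  simp

end Groth.Agent.S5503
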