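import Groth.Statements.S5504
import Groth.Agent.H8.RootLib
import Groth.Agent.S5503
-- import your own Groth.Agent.* helpers here

set_option autoImplicit false
open RootPairing
open scoped Pointwise
open RootD

namespace Groth.Agent.S5504


open Groth.Agent.H8

variable {ι M N : Type*} [AddCommGroup M] [AddCommGroup N]

lemma refl_pos {P : RootPairing ι ℤ M N} {Δ : Set ι} (hΔ : RootD.IsSimpleSys P Δ) {k b : ι}
    (hk : k ∈ posOf P Δ) (hb : b ∈ Δ) (hli : LinearIndependent ℤ ![P.root k, P.root b]) :
    P.reflectionPerm b k ∈ posOf P Δ := by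
  obtain ⟨j, hjb, hj⟩ := exists_coef_pos_ne hΔ hk hli
  apply mem_posOf_of_pos hΔ (j := j)
  rw [coef_reflectionPerm, coef_simple hΔ hb]
  simp only [Finsupp.coe_sub, Finsupp.coe_smul, Pi.sub_apply, Pi.smul_apply, smul_eq_mul]
  rw [Finsupp.single_eq_of_ne hjb]
  simpa using hj

lemma refl_mul_self (P : RootPairing ι ℤ M N) (a : ι) :
    Equiv.reflection P a * Equiv.reflection P a = 1 := by
  have h := mul_inv_cancel (Equiv.reflection P a)
  rwa [RootPairing.Equiv.reflection_inv] at h

lemma exch {P : RootPairing ι ℤ M N} [Finite ι] {Δ : Set ι} (hΔ : RootD.IsSimpleSys P Δ)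
    (a : ι) (ha : a ∈ Δ) :
    ∀ l : List ι, (∀ b ∈ l, b ∈ Δ) →
      (l.map fun b => Equiv.reflection P b).prod • a ∉ posOf P Δ →
      ∃ l' : List ι, (∀ b ∈ l', b ∈ Δ) ∧ l'.length + 1 = l.length ∧
        (l'.map fun b => Equiv.reflection P b).prod =
          (l.map fun b => Equiv.reflection P b).prod * Equiv.reflection P a := by
  intro l
  induction l with
  | nil =>
    intro _ h
    simp only [List.map_nil, List.prod_nil, one_smul] at h
    exact absurd (simple_mem_posOf ha) h
  | cons b l0 ih =>
    intro hl h
    have hb : b ∈ Δ := hl b (List.mem_cons_self)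
    have hl0 : ∀ c ∈ l0, c ∈ Δ := fun c hc => hl c (List.mem_cons_of_mem b hc)
    simp only [List.map_cons, List.prod_cons] at h ⊢
    set u := (l0.map fun b => Equiv.reflection P b).prod with hu
    by_cases h0 : u • a ∈ posOf P Δ
    · -- the exchange happens at b
      have hk : P.reflectionPerm b (u • a) ∉ posOf P Δ := by
        rw [← reflection_smul_idx, ← mul_smul]
        exact h
      have hdep : ¬ LinearIndependent ℤ ![P.root (u • a), P.root b] := by
        intro hli
        exact hk (refl_pos hΔ h0 hb hli)
      have hroot : ∃ t : ℤ, P.root (u • a) = t • P.root b := by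
        rcases dep_simple hΔ h0 hb hdep with h1 | h1
        · exact ⟨1, by rw [h1, one_smul]⟩
        · exact ⟨2, h1⟩
      obtain ⟨t, ht⟩ := hroot
      have hrefl : Equiv.reflection P (u • a) = Equiv.reflection P b :=
        aut_reflection_eq P (reflection_eq_of_root_eq_smul P ht)
      have hconj := Groth.Agent.S5503.result P u a
      rw [hrefl] at hconj
      refine ⟨l0, hl0, by simp, ?_⟩
      rw [← hconj]
      calc u = u * (Equiv.reflection P a * Equiv.reflection P a) := by
              rw [refl_mul_self, mul_one]
        _ = u * Equiv.reflection P a * u⁻¹ * u * Equiv.reflection P a := by group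
    · obtain ⟨l0', hl0', hlen, hprod⟩ := ih hl0 h0
      refine ⟨b :: l0', ?_, by simp [← hlen], ?_⟩
      · intro c hc
        rcases List.mem_cons.mp hc with rfl | hc
        · exact hb
        · exact hl0' c hc
      · simp only [List.map_cons, List.prod_cons]
        rw [hprod, mul_assoc]

/-- Stated for the group generated by the simple reflections (rather than for the abstractly presented
group): if w = s_{α_1} ⋯ s_{α_m} is a word of minimal length in the simple reflections, then w(α_m)
is a negative root. -/
theorem result {ι M N : Type*} [AddCommGroup M] [AddCommGroup N]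
    (P : RootPairing ι ℤ M N) [Finite ι] (Δ : Set ι) (hΔ : RootD.IsSimpleSys P Δ)
    (l : List ι) (hl : ∀ a ∈ l, a ∈ Δ) (hne : l ≠ [])
    (hmin : ∀ l' : List ι, (∀ a ∈ l', a ∈ Δ) →
      (l'.map fun a => Equiv.reflection P a).prod = (l.map fun a => Equiv.reflection P a).prod → l.length ≤ l'.length) :
    -P.root ((l.map fun a => Equiv.reflection P a).prod • l.getLast hne) ∈ RootD.natSpan P Δ := by
  set m := l.getLast hne with hm
  have hsplit : l = l.dropLast ++ [m] := (List.dropLast_append_getLast hne).symm
  set v := (l.dropLast.map fun a => Equiv.reflection P a).prod with hv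
  have hmΔ : m ∈ Δ := hl m (List.getLast_mem hne)
  have hdl : ∀ a ∈ l.dropLast, a ∈ Δ := fun a ha => hl a (List.mem_of_mem_dropLast ha)
  have hprod : (l.map fun a => Equiv.reflection P a).prod = v * Equiv.reflection P m := by
    conv_lhs => rw [hsplit]
    simp [hv]
  have hneg : -P.root ((l.map fun a => Equiv.reflection P a).prod • m) = P.root (v • m) := by
    rw [hprod, mul_smul, root_smul_idx, root_smul_idx, reflection_smul_vec,
      RootPairing.reflection_apply_self, smul_neg, neg_neg, ← root_smul_idx]
  rw [hneg]
  by_contra hcon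
  obtain ⟨l', hl', hlen, hprod'⟩ := exch hΔ m hmΔ l.dropLast hdl hcon
  have h1 := hmin l' hl' (by rw [hprod', hprod])
  have h2 : l.dropLast.length + 1 = l.length := by
    rw [List.length_dropLast]
    have : 0 < l.length := List.length_pos_of_ne_nil hne
    omega
  omega

end Groth.Agent.S5504
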