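import Groth.Statements.S5467
import Groth.Agent.H8.RootLib
-- import your own Groth.Agent.* helpers here

set_option autoImplicit false
open RootD

namespace Groth.Agent.S5467

/-- For an indivisible positive non-simple root α there is a simple root β with (β^v, α) > 0 such that
s_β(α) is positive; its order relative to Δ is then smaller than that of α by (β^v, α). -/
theorem result {ι M N : Type*} [AddCommGroup M] [AddCommGroup N]
    (P : RootPairing ι ℤ M N) [Finite ι] (Δ : Set ι) (hΔ : RootD.IsSimpleSys P Δ)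
    (k : ι) (hk : k ∈ RootD.posOf P Δ) (hkΔ : k ∉ Δ) (hind : RootD.IsIndiv P k) :
    ∃ i ∈ Δ, 0 < P.pairing k i ∧ P.reflectionPerm i k ∈ RootD.posOf P Δ := by
  classical
  have := Fintype.ofFinite ι
  have hnn := (Groth.Agent.H8.mem_posOf_iff hΔ k).mp hk
  obtain ⟨j, hcj, hpj⟩ := Groth.Agent.H8.exists_pos_coef_pairing_pos P k
    (Groth.Agent.H8.coef hΔ k) hnn (Groth.Agent.H8.coef_spec hΔ k)
  have hjΔ : j ∈ Δ := by
    by_contra hj
    rw [Groth.Agent.H8.coef_apply_of_not_mem hΔ hj] at hcj
    exact lt_irrefl _ hcj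
  refine ⟨j, hjΔ, hpj, ?_⟩
  by_cases hli : LinearIndependent ℤ ![P.root k, P.root j]
  · obtain ⟨l, hlj, hpos⟩ := Groth.Agent.H8.exists_coef_pos_ne hΔ hk hli
    apply Groth.Agent.H8.mem_posOf_of_pos hΔ (j := l)
    rw [Groth.Agent.H8.coef_reflectionPerm, Groth.Agent.H8.coef_simple hΔ hjΔ]
    simp only [Finsupp.coe_sub, Finsupp.coe_smul, Pi.sub_apply, Pi.smul_apply, smul_eq_mul]
    rw [Finsupp.single_eq_of_ne hlj, mul_zero, sub_zero]
    exact hpos
  · exfalso
    rw [LinearIndependent.pair_iff] at hli
    push Not at hli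
    obtain ⟨s, t, hst, hne⟩ := hli
    have hs : s ≠ 0 := by
      intro hs0
      have ht := hne hs0
      rw [hs0, zero_smul, zero_add] at hst
      exact P.ne_zero j (Groth.Agent.H8.zsmul_cancel P ht (by rw [hst, smul_zero]))
    have hc0 : s • Groth.Agent.H8.coef hΔ k + t • Finsupp.single j 1 = 0 := by
      apply Groth.Agent.H8.eq_of_lc_eq hΔ
      · exact Submodule.add_mem _ (Submodule.smul_mem _ _ (Groth.Agent.H8.coef_supp hΔ k))
          (Submodule.smul_mem _ _ (Finsupp.single_mem_supported ℤ 1 hjΔ))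
      · exact Submodule.zero_mem _
      · rw [map_add, map_smul, map_smul, Groth.Agent.H8.coef_spec]
        simp [hst]
    have hcoef : Groth.Agent.H8.coef hΔ k =
        (Groth.Agent.H8.coef hΔ k j) • Finsupp.single j 1 := by
      ext l
      by_cases hl : l = j
      · subst hl; simp
      · have := congrArg (fun f => f l) hc0
        simp only [Finsupp.coe_add, Finsupp.coe_smul, Pi.add_apply, Pi.smul_apply, smul_eq_mul,
          Finsupp.coe_zero, Pi.zero_apply] at this
        rw [Finsupp.single_eq_of_ne hl, mul_zero, add_zero] at this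
        simp only [Finsupp.coe_smul, Pi.smul_apply, smul_eq_mul]
        rw [Finsupp.single_eq_of_ne hl, mul_zero]
        rcases mul_eq_zero.mp this with h | h
        · exact absurd h hs
        · exact h
    have hr : P.root k = (Groth.Agent.H8.coef hΔ k j) • P.root j := by
      rw [← Groth.Agent.H8.coef_spec hΔ k, hcoef]; simp
    have hdvd := Groth.Agent.H8.dvd_two_of_root_eq_smul P hr
    have hc2 : Groth.Agent.H8.coef hΔ k j ≤ 2 := Int.le_of_dvd (by norm_num) hdvd
    have hc1 : 1 ≤ Groth.Agent.H8.coef hΔ k j := hcj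
    rcases (show Groth.Agent.H8.coef hΔ k j = 1 ∨ Groth.Agent.H8.coef hΔ k j = 2 by omega)
      with h1 | h1
    · rw [h1, one_smul] at hr
      have : k = j := P.root.injective hr
      exact hkΔ (this ▸ hjΔ)
    · rw [h1] at hr
      exact hind j hr.symm

end Groth.Agent.S5467
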