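import Groth.Statements.S5488
import Groth.Agent.H8.RootLib
-- import your own Groth.Agent.* helpers here

set_option autoImplicit false
open RootPairing
open scoped Pointwise
open RootD

namespace Groth.Agent.S5488

/-- The reduced datum of indivisible roots has the same Weyl group: the reflections in indivisible roots
generate W. -/
theorem result {ι M N : Type*} [AddCommGroup M] [AddCommGroup N]
    (P : RootPairing ι ℤ M N) [Finite ι] :
    Subgroup.closure ((fun i : ι => Equiv.reflection P i) '' {i : ι | RootD.IsIndiv P i}) = P.weylGroup := by
  apply le_antisymm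
  · rw [Subgroup.closure_le]
    rintro _ ⟨i, _, rfl⟩
    exact P.reflection_mem_weylGroup i
  · show Subgroup.closure _ ≤ _
    rw [Subgroup.closure_le]
    rintro _ ⟨k, rfl⟩
    by_cases hk : RootD.IsIndiv P k
    · exact Subgroup.subset_closure ⟨k, hk, rfl⟩
    · simp only [RootD.IsIndiv, not_forall, not_not] at hk
      obtain ⟨j, hj⟩ := hk
      have hj' : RootD.IsIndiv P j := by
        intro j' hj'
        have h4 : P.root k = (4 : ℤ) • P.root j' := by
          rw [← hj, ← hj', smul_smul]; norm_num
        have := Groth.Agent.H8.dvd_two_of_root_eq_smul P h4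
        norm_num at this
      have heq : RootPairing.Equiv.reflection P k = RootPairing.Equiv.reflection P j :=
        Groth.Agent.H8.aut_reflection_eq P (Groth.Agent.H8.reflection_eq_of_root_eq_smul P hj.symm)
      rw [heq]
      exact Subgroup.subset_closure ⟨j, hj', rfl⟩

end Groth.Agent.S5488
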