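import Groth.Statements.S5508
import Groth.Agent.H8.RootLib
import Groth.Agent.S5467
import Groth.Agent.S5488
import Groth.Agent.S5503
-- import your own Groth.Agent.* helpers here

set_option autoImplicit false
open RootPairing
open scoped Pointwise
open RootD

namespace Groth.Agent.S5508

/-- For an arbitrary (possibly non-reduced) root datum and a system of simple roots Δ in the root-only
sense: the simple reflections generate the Weyl group, and every indivisible root is conjugate under
the Weyl group to a simple root. -/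
theorem result {ι M N : Type*} [AddCommGroup M] [AddCommGroup N]
    (P : RootPairing ι ℤ M N) [Finite ι] (Δ : Set ι) (hΔ : RootD.IsSimpleSys P Δ) :
    Subgroup.closure ((fun i : ι => Equiv.reflection P i) '' Δ) = P.weylGroup ∧
      ∀ k : ι, RootD.IsIndiv P k → ∃ g : P.Aut, g ∈ P.weylGroup ∧ ∃ i ∈ Δ, g • i = k := by
  classical
  have := Fintype.ofFinite ι
  set W := Subgroup.closure ((fun i : ι => RootPairing.Equiv.reflection P i) '' Δ) with hW
  have hsW : ∀ i ∈ Δ, RootPairing.Equiv.reflection P i ∈ W :=
    fun i hi => Subgroup.subset_closure ⟨i, hi, rfl⟩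
  have hind_refl : ∀ i k : ι, RootD.IsIndiv P k → RootD.IsIndiv P (P.reflectionPerm i k) := by
    intro i k hk j hj
    apply hk (P.reflectionPerm i j)
    rw [RootPairing.root_reflectionPerm, ← map_zsmul, hj, ← RootPairing.root_reflectionPerm,
      RootPairing.reflectionPerm_self]
  have hposA : ∀ n : ℕ, ∀ k : ι, k ∈ RootD.posOf P Δ → RootD.IsIndiv P k →
      Groth.Agent.H8.height hΔ k ≤ n → ∃ g ∈ W, ∃ i ∈ Δ, g • i = k := by
    intro n
    induction n with
    | zero =>
      intro k hk _ hh
      have := Groth.Agent.H8.one_le_height hΔ hk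
      omega
    | succ n ih =>
      intro k hk hind hh
      by_cases hkΔ : k ∈ Δ
      · exact ⟨1, one_mem _, k, hkΔ, one_smul _ _⟩
      · obtain ⟨i, hi, hpos, hpos'⟩ := Groth.Agent.S5467.result P Δ hΔ k hk hkΔ hind
        have hht := Groth.Agent.H8.height_reflectionPerm hΔ hi k
        obtain ⟨g, hg, d, hd, hgd⟩ := ih (P.reflectionPerm i k) hpos' (hind_refl i k hind)
          (by rw [hht]; push_cast at hh; omega)
        refine ⟨RootPairing.Equiv.reflection P i * g, mul_mem (hsW i hi) hg, d, hd, ?_⟩
        rw [mul_smul, hgd, Groth.Agent.H8.reflection_smul_idx, RootPairing.reflectionPerm_self]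
  have hA : ∀ k : ι, RootD.IsIndiv P k → ∃ g ∈ W, ∃ i ∈ Δ, g • i = k := by
    intro k hk
    rcases hΔ.mem_or_neg_mem k with h | h
    · exact hposA (Groth.Agent.H8.height hΔ k).toNat k h hk (Int.self_le_toNat _)
    · have hk' : P.reflectionPerm k k ∈ RootD.posOf P Δ := by
        show P.root (P.reflectionPerm k k) ∈ RootD.natSpan P Δ
        rw [Groth.Agent.H8.root_neg]; exact h
      obtain ⟨g, hg, d, hd, hgd⟩ := hposA _ _ hk' (hind_refl k k hk) (Int.self_le_toNat _)
      refine ⟨g * RootPairing.Equiv.reflection P d, mul_mem hg (hsW d hd), d, hd, ?_⟩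
      apply P.root.injective
      rw [mul_smul, Groth.Agent.H8.reflection_smul_idx, Groth.Agent.H8.root_smul_idx,
        Groth.Agent.H8.root_neg, smul_neg, ← Groth.Agent.H8.root_smul_idx, hgd,
        Groth.Agent.H8.root_neg, neg_neg]
  have hWle : W ≤ P.weylGroup := by
    rw [Subgroup.closure_le]
    rintro _ ⟨i, _, rfl⟩
    exact P.reflection_mem_weylGroup i
  refine ⟨le_antisymm hWle ?_, ?_⟩
  · rw [← Groth.Agent.S5488.result P, Subgroup.closure_le]
    rintro _ ⟨k, hk, rfl⟩
    obtain ⟨g, hg, i, hi, hgi⟩ := hA k hk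
    have := Groth.Agent.S5503.result P g i
    rw [hgi] at this
    show RootPairing.Equiv.reflection P k ∈ W
    rw [← this]
    exact mul_mem (mul_mem hg (hsW i hi)) (inv_mem hg)
  · intro k hk
    obtain ⟨g, hg, i, hi, hgi⟩ := hA k hk
    exact ⟨g, hWle hg, i, hi, hgi⟩

end Groth.Agent.S5508
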