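import Groth.Agent.IsocLib

/-!
# Determinants of semilinear maps for the `Isoc` statements (helper25)

`p`-adic orders (`Isoc.IsOrdP`) of products, inverses and Frobenius twists; the matrix of a
semilinear map in a basis, multiplicativity of `Isoc.detCoeff` along iterates, invariance of the
order of `detCoeff` under change of basis, and the bound / equality `r·h ≤ s·d` (`= s·d`) for
`F^s(M) ⊆ p^r M` (`= p^r M`) on a lattice `M`.
-/

set_option autoImplicit false
set_option linter.unusedSectionVars false

noncomputable section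

open scoped Pointwise Isocrystal

universe u v

namespace Groth.Agent.IsocDet

open Groth.Agent.IsocLib

section OrdP

variable {p : ℕ} [Fact p.Prime] {k : Type u} [Field k] [CharP k p] [PerfectRing k p]

theorem isOrdP_mul {x y : FractionRing (WittVector p k)} {n m : ℤ} (hx : Isoc.IsOrdP x n)
    (hy : Isoc.IsOrdP y m) : Isoc.IsOrdP (x * y) (n + m) := by
  obtain ⟨u, rfl⟩ := hx
  obtain ⟨v, rfl⟩ := hy
  refine ⟨u * v, ?_⟩
  rw [zpow_add₀ p_ne_zero, Units.val_mul, map_mul]
  ring

theorem isOrdP_one : Isoc.IsOrdP (1 : FractionRing (WittVector p k)) 0 :=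
  ⟨1, by simp⟩

theorem algebraMap_unit_ne_zero (u : (WittVector p k)ˣ) :
    algebraMap (WittVector p k) (FractionRing (WittVector p k)) (u : WittVector p k) ≠ 0 :=
  (u.isUnit.map (algebraMap (WittVector p k) (FractionRing (WittVector p k)))).ne_zero

theorem isOrdP_ne_zero {x : FractionRing (WittVector p k)} {n : ℤ} (h : Isoc.IsOrdP x n) : x ≠ 0 := by
  obtain ⟨u, rfl⟩ := h
  exact mul_ne_zero (zpow_ne_zero _ p_ne_zero) (algebraMap_unit_ne_zero u)

theorem isOrdP_inv {x : FractionRing (WittVector p k)} {n : ℤ} (h : Isoc.IsOrdP x n) :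
    Isoc.IsOrdP x⁻¹ (-n) := by
  obtain ⟨u, rfl⟩ := h
  refine ⟨u⁻¹, ?_⟩
  rw [mul_inv, ← zpow_neg, map_units_inv]

theorem isUnit_iterate_sig (a : ℤ) (s : ℕ) {w : WittVector p k} (hw : IsUnit w) :
    IsUnit ((⇑(sig p k a))^[s] w) := by
  induction s with
  | zero => simpa using hw
  | succ s ih => rw [Function.iterate_succ_apply']; exact ih.map (sig p k a)

theorem isOrdP_frob_pow (a : ℤ) (s : ℕ) {x : FractionRing (WittVector p k)} {n : ℤ}
    (h : Isoc.IsOrdP x n) : Isoc.IsOrdP (((Isoc.frob p k a) ^ s) x) n := by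
  obtain ⟨u, rfl⟩ := h
  refine ⟨(isUnit_iterate_sig a s u.isUnit).unit, ?_⟩
  rw [map_mul, frob_pow_pzpow, frob_pow_algebraMap, IsUnit.unit_spec]

theorem isOrdP_frob (a : ℤ) {x : FractionRing (WittVector p k)} {n : ℤ}
    (h : Isoc.IsOrdP x n) : Isoc.IsOrdP (Isoc.frob p k a x) n := by
  have := isOrdP_frob_pow a 1 h
  rwa [pow_one] at this

theorem exists_isOrdP {x : FractionRing (WittVector p k)} (hx : x ≠ 0) : ∃ n : ℤ, Isoc.IsOrdP x n := by
  obtain ⟨n, w, hw⟩ := exists_ppow_mul_eq_algebraMap x
  have hw0 : w ≠ 0 := by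
    rintro rfl
    rw [map_zero] at hw
    exact hx ((mul_eq_zero.1 hw).resolve_left (pow_ne_zero _ p_ne_zero))
  obtain ⟨m, u, hu⟩ := WittVector.exists_eq_pow_p_mul' w hw0
  refine ⟨(m : ℤ) - n, u, ?_⟩
  have hp : (p : FractionRing (WittVector p k)) ^ n ≠ 0 := pow_ne_zero _ p_ne_zero
  have : x = algebraMap (WittVector p k) _ w / (p : FractionRing (WittVector p k)) ^ n := by
    rw [← hw]; field_simp
  rw [this, hu, map_mul, map_pow, map_natCast, zpow_sub₀ p_ne_zero, zpow_natCast, zpow_natCast]
  field_simp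

/-- If `p^n u = p^e w` with `u` a unit and `w` integral, then `e ≤ n`. -/
theorem le_of_isOrdP {x : FractionRing (WittVector p k)} {n e : ℤ} (h : Isoc.IsOrdP x n)
    {w : WittVector p k} (hx : x = (p : FractionRing (WittVector p k)) ^ e *
      algebraMap (WittVector p k) (FractionRing (WittVector p k)) w) : e ≤ n := by
  obtain ⟨u, rfl⟩ := h
  by_contra hlt
  push Not at hlt
  obtain ⟨t, ht⟩ : ∃ t : ℕ, e = n + (t + 1 : ℕ) := ⟨(e - n - 1).toNat, by omega⟩
  rw [ht, zpow_add₀ p_ne_zero, mul_assoc] at hx
  have h2 := mul_left_cancel₀ (zpow_ne_zero n p_ne_zero) hx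
  rw [zpow_natCast] at h2
  have h3 : algebraMap (WittVector p k) (FractionRing (WittVector p k)) (u : WittVector p k) =
      algebraMap (WittVector p k) (FractionRing (WittVector p k)) ((p : WittVector p k) ^ (t + 1) * w) := by
    rw [h2, map_mul, map_pow, map_natCast]
  have h4 := IsFractionRing.injective (WittVector p k) (FractionRing (WittVector p k)) h3
  have h5 : (p : WittVector p k) ∣ (u : WittVector p k) := by
    rw [h4, pow_succ']; exact dvd_mul_of_dvd_left (dvd_mul_right _ _) _
  exact p_not_isUnit_W (isUnit_of_dvd_unit h5 u.isUnit)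

theorem isOrdP_unique {x : FractionRing (WittVector p k)} {n m : ℤ} (h1 : Isoc.IsOrdP x n)
    (h2 : Isoc.IsOrdP x m) : n = m := by
  obtain ⟨u, hu⟩ := h1
  obtain ⟨v, hv⟩ := h2
  exact le_antisymm (le_of_isOrdP ⟨v, hv⟩ hu) (le_of_isOrdP ⟨u, hu⟩ hv)

end OrdP

section Mat

variable {p : ℕ} [Fact p.Prime] {k : Type u} [Field k]
variable {N : Type v} [AddCommGroup N] [Module (FractionRing (WittVector p k)) N]

/-- The matrix of a map in a basis: `(i, j)` entry the `i`-th coordinate of `f (b j)`. -/
def matOf {ι : Type*} [Fintype ι] (b : Module.Basis ι (FractionRing (WittVector p k)) N) (f : N → N) :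
    Matrix ι ι (FractionRing (WittVector p k)) :=
  Matrix.of fun i j => b.repr (f (b j)) i

theorem detCoeff_eq {n : ℕ} (b : Module.Basis (Fin n) (FractionRing (WittVector p k)) N)
    {τ : FractionRing (WittVector p k) →+* FractionRing (WittVector p k)} (G : N →ₛₗ[τ] N) :
    Isoc.detCoeff b G = (matOf b G).det := rfl

theorem matOf_comp {ι : Type*} [Fintype ι] (b : Module.Basis ι (FractionRing (WittVector p k)) N)
    {τ : FractionRing (WittVector p k) →+* FractionRing (WittVector p k)} (G : N →ₛₗ[τ] N) (f : N → N) :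
    matOf b (G ∘ f) = matOf b G * (matOf b f).map τ := by
  ext l j
  simp only [matOf, Matrix.of_apply, Function.comp_apply, Matrix.mul_apply, Matrix.map_apply]
  conv_lhs => rw [← b.sum_repr (f (b j))]
  rw [map_sum, map_sum, Finset.sum_apply']
  simp only [map_smulₛₗ, Finsupp.smul_apply, smul_eq_mul, RingHom.id_apply]
  refine Finset.sum_congr rfl fun i _ => ?_
  rw [mul_comm]

theorem matOf_id {ι : Type*} [Fintype ι] [DecidableEq ι]
    (b : Module.Basis ι (FractionRing (WittVector p k)) N) : matOf b id = 1 := by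
  ext i j
  simp [matOf, Matrix.one_apply, Finsupp.single_apply, eq_comm]

theorem detCoeff_iter_zero {n : ℕ} (b : Module.Basis (Fin n) (FractionRing (WittVector p k)) N)
    {τ : FractionRing (WittVector p k) →+* FractionRing (WittVector p k)} (F : N →ₛₗ[τ] N) :
    Isoc.detCoeff b (Isoc.iter F 0) = 1 := by
  rw [detCoeff_eq, Isoc.coe_iter, Function.iterate_zero, matOf_id, Matrix.det_one]

theorem detCoeff_iter_succ {n : ℕ} (b : Module.Basis (Fin n) (FractionRing (WittVector p k)) N)
    {τ : FractionRing (WittVector p k) →+* FractionRing (WittVector p k)} (F : N →ₛₗ[τ] N) (s : ℕ) :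
    Isoc.detCoeff b (Isoc.iter F (s + 1)) = Isoc.detCoeff b F * τ (Isoc.detCoeff b (Isoc.iter F s)) := by
  rw [detCoeff_eq, detCoeff_eq, detCoeff_eq, Isoc.coe_iter, Isoc.coe_iter, Function.iterate_succ',
    matOf_comp, Matrix.det_mul, RingHom.map_det]
  rfl

theorem toMatrix_mul_matOf {ι : Type*} [Fintype ι] [DecidableEq ι]
    (b b' : Module.Basis ι (FractionRing (WittVector p k)) N)
    {τ : FractionRing (WittVector p k) →+* FractionRing (WittVector p k)} (G : N →ₛₗ[τ] N) :
    b.toMatrix b' * matOf b' G = matOf b G * (b.toMatrix b').map τ := by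
  ext l j
  have e1 : b.repr (G (b' j)) l = ∑ i, b.repr (b' i) l * b'.repr (G (b' j)) i := by
    conv_lhs => rw [← b'.sum_repr (G (b' j))]
    rw [map_sum, Finset.sum_apply']
    simp only [map_smul, Finsupp.smul_apply, smul_eq_mul]
    exact Finset.sum_congr rfl fun i _ => mul_comm _ _
  have e2 : b.repr (G (b' j)) l = ∑ i, b.repr (G (b i)) l * τ (b.repr (b' j) i) := by
    conv_lhs => rw [← b.sum_repr (b' j)]
    rw [map_sum, map_sum, Finset.sum_apply']
    simp only [map_smulₛₗ, Finsupp.smul_apply, smul_eq_mul, RingHom.id_apply]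
    exact Finset.sum_congr rfl fun i _ => mul_comm _ _
  simp only [Matrix.mul_apply, Module.Basis.toMatrix_apply, matOf, Matrix.of_apply, Matrix.map_apply]
  rw [← e1, ← e2]

end Mat

section DetOrd

variable {p : ℕ} [Fact p.Prime] {k : Type u} [Field k] [CharP k p] [PerfectRing k p]
variable {N : Type v} [AddCommGroup N] [Module (FractionRing (WittVector p k)) N]

theorem isOrdP_detCoeff_iter (a : ℤ) {n : ℕ} (b : Module.Basis (Fin n) (FractionRing (WittVector p k)) N)
    (F : N →ₛₗ[Isoc.frob p k a] N) {d : ℤ} (hd : Isoc.IsOrdP (Isoc.detCoeff b F) d) (s : ℕ) :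
    Isoc.IsOrdP (Isoc.detCoeff b (Isoc.iter F s)) (s * d) := by
  induction s with
  | zero =>
    rw [detCoeff_iter_zero]
    simpa using (isOrdP_one (p := p) (k := k))
  | succ s ih =>
    rw [detCoeff_iter_succ]
    have := isOrdP_mul hd (isOrdP_frob a ih)
    convert this using 1
    push_cast; ring

theorem isOrdP_detCoeff_change (a : ℤ) (s : ℕ) {n : ℕ}
    (b b' : Module.Basis (Fin n) (FractionRing (WittVector p k)) N)
    (G : N →ₛₗ[(Isoc.frob p k a) ^ s] N) {d : ℤ} (hd : Isoc.IsOrdP (Isoc.detCoeff b G) d) :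
    Isoc.IsOrdP (Isoc.detCoeff b' G) d := by
  have hmat := toMatrix_mul_matOf b b' G
  have hdet := congrArg Matrix.det hmat
  rw [Matrix.det_mul, Matrix.det_mul] at hdet
  have hmap : ((b.toMatrix b').map ⇑((Isoc.frob p k a) ^ s)).det =
      ((Isoc.frob p k a) ^ s) (b.toMatrix b').det := (RingHom.map_det _ _).symm
  rw [hmap] at hdet
  have hP : (b.toMatrix b').det ≠ 0 := by
    intro h0
    have := congrArg Matrix.det (Module.Basis.toMatrix_mul_toMatrix_flip b b')
    rw [Matrix.det_mul, h0, zero_mul, Matrix.det_one] at this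
    exact zero_ne_one this
  obtain ⟨e, he⟩ := exists_isOrdP hP
  have h1 : Isoc.detCoeff b' G =
      Isoc.detCoeff b G * ((Isoc.frob p k a) ^ s) (b.toMatrix b').det * ((b.toMatrix b').det)⁻¹ := by
    rw [detCoeff_eq, detCoeff_eq, ← hdet]
    field_simp
  rw [h1]
  have := isOrdP_mul (isOrdP_mul hd (isOrdP_frob_pow a s he)) (isOrdP_inv he)
  convert this using 1
  ring

end DetOrd

section Lattice

variable {p : ℕ} [Fact p.Prime] {k : Type u} [Field k] [CharP k p] [PerfectRing k p]
variable {N : Type v} [AddCommGroup N] [Module (WittVector p k) N]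
  [Module (FractionRing (WittVector p k)) N] [IsScalarTower (WittVector p k) (FractionRing (WittVector p k)) N]

theorem repr_extend_coe {M : Submodule (WittVector p k) N} [M.IsLattice (FractionRing (WittVector p k))]
    {n : ℕ} (bW : Module.Basis (Fin n) (WittVector p k) M) (m : M) (i : Fin n) :
    (bW.extendOfIsLattice (FractionRing (WittVector p k))).repr (m : N) i =
      algebraMap (WittVector p k) (FractionRing (WittVector p k)) (bW.repr m i) := by
  set e := bW.extendOfIsLattice (FractionRing (WittVector p k))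
  have h1 : (m : N) = ∑ j, (algebraMap (WittVector p k) (FractionRing (WittVector p k))
      (bW.repr m j)) • e j := by
    conv_lhs => rw [← bW.sum_repr m]
    rw [Submodule.coe_sum]
    refine Finset.sum_congr rfl fun j _ => ?_
    rw [Submodule.coe_smul, Module.Basis.extendOfIsLattice_apply, algebraMap_smul]
  rw [h1, e.repr_sum_self]

/-- The matrix of `F^s` in the basis of a lattice `M` with `F^s(M) ⊆ p^r M`. -/
theorem matOf_lattice (a : ℤ) (F : N →ₛₗ[Isoc.frob p k a] N) (M : Submodule (WittVector p k) N)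
    [M.IsLattice (FractionRing (WittVector p k))] {n : ℕ} (bW : Module.Basis (Fin n) (WittVector p k) M)
    (s : ℕ) (r : ℤ) (hle : Isoc.latImg F s M ≤ Isoc.pPow r M) :
    ∃ Wm : Matrix (Fin n) (Fin n) (WittVector p k),
      matOf (bW.extendOfIsLattice (FractionRing (WittVector p k))) (Isoc.iter F s) =
        ((p : FractionRing (WittVector p k)) ^ r) •
          Wm.map (algebraMap (WittVector p k) (FractionRing (WittVector p k))) := by
  set e := bW.extendOfIsLattice (FractionRing (WittVector p k))
  have hm : ∀ j, ((p : FractionRing (WittVector p k)) ^ (-r)) • (⇑F)^[s] (e j) ∈ M := by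
    intro j
    have := hle (mem_latImg F s M (show e j ∈ M by
      rw [Module.Basis.extendOfIsLattice_apply]; exact (bW j).2))
    rwa [mem_pPow_iff] at this
  refine ⟨Matrix.of fun i j => bW.repr ⟨_, hm j⟩ i, ?_⟩
  ext i j
  simp only [matOf, Matrix.of_apply, Matrix.smul_apply, Matrix.map_apply, smul_eq_mul, Isoc.coe_iter]
  rw [← repr_extend_coe bW ⟨_, hm j⟩ i]
  simp only [map_smul, Finsupp.smul_apply, smul_eq_mul]
  rw [← mul_assoc, ← zpow_add₀ p_ne_zero, add_neg_cancel, zpow_zero, one_mul]

theorem detCoeff_lattice (a : ℤ) (F : N →ₛₗ[Isoc.frob p k a] N) (M : Submodule (WittVector p k) N)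
    [M.IsLattice (FractionRing (WittVector p k))] {n : ℕ} (bW : Module.Basis (Fin n) (WittVector p k) M)
    (s : ℕ) (r : ℤ) (hle : Isoc.latImg F s M ≤ Isoc.pPow r M) :
    ∃ w : WittVector p k,
      Isoc.detCoeff (bW.extendOfIsLattice (FractionRing (WittVector p k))) (Isoc.iter F s) =
        (p : FractionRing (WittVector p k)) ^ (r * n) *
          algebraMap (WittVector p k) (FractionRing (WittVector p k)) w := by
  obtain ⟨Wm, hW⟩ := matOf_lattice a F M bW s r hle
  refine ⟨Wm.det, ?_⟩
  rw [detCoeff_eq, hW, Matrix.det_smul, Fintype.card_fin, RingHom.map_det, ← zpow_natCast,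
    ← zpow_mul]
  rfl

theorem le_of_lattice (a : ℤ) (F : N →ₛₗ[Isoc.frob p k a] N) (M : Submodule (WittVector p k) N)
    [M.IsLattice (FractionRing (WittVector p k))] {n : ℕ} (bW : Module.Basis (Fin n) (WittVector p k) M)
    (s : ℕ) (r : ℤ) (hle : Isoc.latImg F s M ≤ Isoc.pPow r M) {e₀ : ℤ}
    (he : Isoc.IsOrdP (Isoc.detCoeff (bW.extendOfIsLattice (FractionRing (WittVector p k)))
      (Isoc.iter F s)) e₀) : r * n ≤ e₀ := by
  obtain ⟨w, hw⟩ := detCoeff_lattice a F M bW s r hle
  exact le_of_isOrdP he hw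

theorem isOrdP_of_lattice_eq (a : ℤ) (F : N →ₛₗ[Isoc.frob p k a] N) (M : Submodule (WittVector p k) N)
    [M.IsLattice (FractionRing (WittVector p k))] {n : ℕ} (bW : Module.Basis (Fin n) (WittVector p k) M)
    (s : ℕ) (r : ℤ) (heq : Isoc.latImg F s M = Isoc.pPow r M) :
    Isoc.IsOrdP (Isoc.detCoeff (bW.extendOfIsLattice (FractionRing (WittVector p k)))
      (Isoc.iter F s)) (r * n) := by
  set e := bW.extendOfIsLattice (FractionRing (WittVector p k))
  obtain ⟨Wm, hW⟩ := matOf_lattice a F M bW s r heq.le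
  -- preimages of `p^r e_j`
  have hv : ∀ j, ∃ v ∈ M, (⇑F)^[s] v = ((p : FractionRing (WittVector p k)) ^ r) • e j := by
    intro j
    have : ((p : FractionRing (WittVector p k)) ^ r) • e j ∈ Isoc.latImg F s M := by
      rw [heq]
      exact smul_mem_pPow r M (show e j ∈ M by
        rw [Module.Basis.extendOfIsLattice_apply]; exact (bW j).2)
    exact (mem_latImg_iff a F s M _).1 this
  choose v hvM hvF using hv
  let Vm : Matrix (Fin n) (Fin n) (WittVector p k) := Matrix.of fun i j => bW.repr ⟨v j, hvM j⟩ i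
  have hprod : Wm * Vm.map (⇑(sig p k a))^[s] = 1 := by
    refine Matrix.ext fun l j => ?_
    have hp0 : (p : FractionRing (WittVector p k)) ^ r ≠ 0 := zpow_ne_zero _ p_ne_zero
    apply IsFractionRing.injective (WittVector p k) (FractionRing (WittVector p k))
    apply mul_left_cancel₀ hp0
    -- coordinates of `F^s (v j)` in two ways
    have hA : e.repr ((⇑F)^[s] (v j)) l = (p : FractionRing (WittVector p k)) ^ r *
        (if l = j then 1 else 0) := by
      rw [hvF j, map_smul, Finsupp.smul_apply, smul_eq_mul, e.repr_self, Finsupp.single_apply]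
      simp [eq_comm]
    have hvexp : v j = ∑ i, (algebraMap (WittVector p k) (FractionRing (WittVector p k)) (Vm i j)) • e i := by
      conv_lhs => rw [← e.sum_repr (v j)]
      refine Finset.sum_congr rfl fun i _ => ?_
      congr 1
      exact repr_extend_coe bW ⟨v j, hvM j⟩ i
    have hB : e.repr ((⇑F)^[s] (v j)) l = ∑ i, algebraMap (WittVector p k) (FractionRing (WittVector p k))
        ((⇑(sig p k a))^[s] (Vm i j)) * ((p : FractionRing (WittVector p k)) ^ r *
          algebraMap (WittVector p k) (FractionRing (WittVector p k)) (Wm l i)) := by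
      rw [hvexp, ← Isoc.coe_iter, map_sum, map_sum, Finset.sum_apply']
      refine Finset.sum_congr rfl fun i _ => ?_
      rw [map_smulₛₗ, map_smul, Finsupp.smul_apply, smul_eq_mul, frob_pow_algebraMap]
      congr 1
      have := congrArg (fun A => A l i) hW
      simp only [matOf, Matrix.of_apply, Matrix.smul_apply, Matrix.map_apply, smul_eq_mul] at this
      exact this
    rw [hA] at hB
    rw [Matrix.mul_apply, Matrix.one_apply, map_sum]
    have hite : algebraMap (WittVector p k) (FractionRing (WittVector p k)) (if l = j then 1 else 0) =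
        (if l = j then 1 else 0) := by split_ifs <;> simp
    rw [hite, hB, Finset.mul_sum]
    refine Finset.sum_congr rfl fun i _ => ?_
    simp only [Matrix.map_apply, map_mul]
    ring
  have hunit : IsUnit Wm.det := by
    have := congrArg Matrix.det hprod
    rw [Matrix.det_mul, Matrix.det_one] at this
    exact IsUnit.of_mul_eq_one _ this
  refine ⟨hunit.unit, ?_⟩
  rw [IsUnit.unit_spec, detCoeff_eq, hW, Matrix.det_smul, Fintype.card_fin, RingHom.map_det,
    ← zpow_natCast, ← zpow_mul]
  rfl

theorem exists_latticeBasis (M : Submodule (WittVector p k) N)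
    (hM : M.IsLattice (FractionRing (WittVector p k))) {h : ℕ}
    (b : Module.Basis (Fin h) (FractionRing (WittVector p k)) N) :
    Nonempty (Module.Basis (Fin h) (WittVector p k) M) := by
  have : Module.Free (WittVector p k) M := Submodule.IsLattice.free (FractionRing (WittVector p k)) M
  have : Module.Finite (WittVector p k) M := Submodule.IsLattice.finite (FractionRing (WittVector p k)) M
  have hrank : Module.rank (WittVector p k) M = (h : Cardinal) := by
    rw [Submodule.IsLattice.rank' (FractionRing (WittVector p k)) M, rank_eq_card_basis b,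
      Fintype.card_fin]
  have hfin : Module.finrank (WittVector p k) M = h := Module.finrank_eq_of_rank_eq hrank
  exact ⟨(Module.finBasis (WittVector p k) M).reindex (finCongr hfin)⟩

/-- `F^s(M) ⊆ p^r M` for a lattice `M` forces `r·h ≤ s·orddet(F)`. -/
theorem det_le (a : ℤ) (F : N →ₛₗ[Isoc.frob p k a] N) {h : ℕ}
    (b : Module.Basis (Fin h) (FractionRing (WittVector p k)) N) {d : ℤ}
    (hd : Isoc.IsOrdP (Isoc.detCoeff b F) d) (M : Submodule (WittVector p k) N)
    (hM : M.IsLattice (FractionRing (WittVector p k))) (s : ℕ) (r : ℤ)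
    (hle : Isoc.latImg F s M ≤ Isoc.pPow r M) : r * h ≤ s * d := by
  obtain ⟨bW⟩ := exists_latticeBasis M hM b
  have h1 := isOrdP_detCoeff_iter a b F hd s
  have h2 := isOrdP_detCoeff_change a s b (bW.extendOfIsLattice (FractionRing (WittVector p k)))
    (Isoc.iter F s) h1
  exact le_of_lattice a F M bW s r hle h2

/-- `F^s(M) = p^r M` for a lattice `M` forces `r·h = s·orddet(F)`. -/
theorem det_eq (a : ℤ) (F : N →ₛₗ[Isoc.frob p k a] N) {h : ℕ}
    (b : Module.Basis (Fin h) (FractionRing (WittVector p k)) N) {d : ℤ}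
    (hd : Isoc.IsOrdP (Isoc.detCoeff b F) d) (M : Submodule (WittVector p k) N)
    (hM : M.IsLattice (FractionRing (WittVector p k))) (s : ℕ) (r : ℤ)
    (heq : Isoc.latImg F s M = Isoc.pPow r M) : r * h = s * d := by
  obtain ⟨bW⟩ := exists_latticeBasis M hM b
  have h1 := isOrdP_detCoeff_iter a b F hd s
  have h2 := isOrdP_detCoeff_change a s b (bW.extendOfIsLattice (FractionRing (WittVector p k)))
    (Isoc.iter F s) h1
  have h3 := isOrdP_of_lattice_eq a F M bW s r heq
  exact isOrdP_unique h3 h2

end Lattice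

end Groth.Agent.IsocDet
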