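import Groth.Prelude.Def_Isoc
import Mathlib.RingTheory.Filtration
import Mathlib.RingTheory.Nakayama

/-!
# Helper library for the `Isoc` statements (helper25)

Elementary facts about `p`-power twists `Isoc.pPow` of `W`-submodules, the images `Isoc.latImg` of
iterates of a `σ^a`-semilinear map, Nakayama and Krull for lattices, and comparison of lattices.
-/

set_option autoImplicit false
set_option linter.unusedSectionVars false

noncomputable section

open scoped Pointwise Isocrystal

universe u v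

namespace Groth.Agent.IsocLib

section Basic

variable {p : ℕ} [Fact p.Prime] {k : Type u} [Field k] [CharP k p] [PerfectRing k p]

theorem p_ne_zero : (p : FractionRing (WittVector p k)) ≠ 0 := by
  have : (p : FractionRing (WittVector p k)) =
      algebraMap (WittVector p k) _ (p : WittVector p k) := by simp
  rw [this]
  intro h
  rw [IsFractionRing.to_map_eq_zero_iff] at h
  exact (WittVector.irreducible p).ne_zero h

theorem p_not_isUnit_W : ¬ IsUnit (p : WittVector p k) := (WittVector.irreducible p).not_isUnit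

variable {N : Type v} [AddCommGroup N] [Module (WittVector p k) N]
  [Module (FractionRing (WittVector p k)) N] [IsScalarTower (WittVector p k) (FractionRing (WittVector p k)) N]

theorem mem_pPow_iff (r : ℤ) (M : Submodule (WittVector p k) N) (x : N) :
    x ∈ Isoc.pPow r M ↔ ((p : FractionRing (WittVector p k)) ^ (-r)) • x ∈ M := by
  unfold Isoc.pPow
  rw [Submodule.mem_smul_pointwise_iff_exists]
  constructor
  · rintro ⟨m, hm, rfl⟩
    rwa [smul_smul, ← zpow_add₀ p_ne_zero, neg_add_cancel, zpow_zero, one_smul]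
  · intro h
    exact ⟨_, h, by rw [smul_smul, ← zpow_add₀ p_ne_zero, add_neg_cancel, zpow_zero, one_smul]⟩

theorem smul_mem_pPow (r : ℤ) (M : Submodule (WittVector p k) N) {x : N} (hx : x ∈ M) :
    ((p : FractionRing (WittVector p k)) ^ r) • x ∈ Isoc.pPow r M := by
  rw [mem_pPow_iff, smul_smul, ← zpow_add₀ p_ne_zero, neg_add_cancel, zpow_zero, one_smul]
  exact hx

theorem pPow_zero (M : Submodule (WittVector p k) N) : Isoc.pPow 0 M = M := by
  ext x; rw [mem_pPow_iff, neg_zero, zpow_zero, one_smul]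

theorem pPow_pPow (r s : ℤ) (M : Submodule (WittVector p k) N) :
    Isoc.pPow r (Isoc.pPow s M) = Isoc.pPow (r + s) M := by
  ext x
  rw [mem_pPow_iff, mem_pPow_iff, mem_pPow_iff, smul_smul, ← zpow_add₀ p_ne_zero, neg_add, add_comm (-s)]

theorem pPow_mono (r : ℤ) {M M' : Submodule (WittVector p k) N} (h : M ≤ M') :
    Isoc.pPow r M ≤ Isoc.pPow r M' := fun x hx => by
  rw [mem_pPow_iff] at hx ⊢; exact h hx

theorem pPow_le_pPow_iff (r : ℤ) {M M' : Submodule (WittVector p k) N} :
    Isoc.pPow r M ≤ Isoc.pPow r M' ↔ M ≤ M' := by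
  refine ⟨fun h => ?_, pPow_mono r⟩
  have := pPow_mono (-r) h
  rwa [pPow_pPow, pPow_pPow, neg_add_cancel, pPow_zero, pPow_zero] at this

theorem le_pPow_iff (r : ℤ) {X M : Submodule (WittVector p k) N} :
    X ≤ Isoc.pPow r M ↔ Isoc.pPow (-r) X ≤ M := by
  rw [← pPow_le_pPow_iff (-r), pPow_pPow, neg_add_cancel, pPow_zero]

theorem ppow_nat_smul_mem (n : ℕ) {M : Submodule (WittVector p k) N} {x : N} (hx : x ∈ M) :
    ((p : FractionRing (WittVector p k)) ^ (n : ℤ)) • x ∈ M := by
  have : ((p : FractionRing (WittVector p k)) ^ (n : ℤ)) • x = ((p : WittVector p k) ^ n) • x := by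
    rw [zpow_natCast, ← algebraMap_smul (FractionRing (WittVector p k)) ((p : WittVector p k) ^ n) x]
    simp
  rw [this]; exact M.smul_mem _ hx

theorem pPow_antitone {r r' : ℤ} (h : r ≤ r') (M : Submodule (WittVector p k) N) :
    Isoc.pPow r' M ≤ Isoc.pPow r M := by
  intro x hx
  rw [mem_pPow_iff] at hx ⊢
  obtain ⟨n, hn⟩ : ∃ n : ℕ, r' - r = n := ⟨(r' - r).toNat, by omega⟩
  have := ppow_nat_smul_mem n hx
  rwa [smul_smul, ← zpow_add₀ p_ne_zero, ← hn, show r' - r + -r' = -r by ring] at this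

theorem le_pPow_neg_nat (n : ℕ) (M : Submodule (WittVector p k) N) : M ≤ Isoc.pPow (-(n : ℤ)) M := by
  have := pPow_antitone (show -(n : ℤ) ≤ 0 by omega) M
  rwa [pPow_zero] at this

theorem pPow_nat_le (n : ℕ) (M : Submodule (WittVector p k) N) : Isoc.pPow (n : ℤ) M ≤ M := by
  have := pPow_antitone (show (0 : ℤ) ≤ n by omega) M
  rwa [pPow_zero] at this

/-- Nakayama: a finitely generated `W`-submodule with `M ≤ p M` is zero. -/
theorem eq_bot_of_le_pPow_one (M : Submodule (WittVector p k) N) (hM : M.FG)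
    (h : M ≤ Isoc.pPow 1 M) : M = ⊥ := by
  classical
  apply Submodule.eq_bot_of_le_smul_of_le_jacobson_bot (Ideal.span {(p : WittVector p k)}) M hM
  · intro x hx
    have hx' := h hx
    rw [mem_pPow_iff] at hx'
    have : x = (p : WittVector p k) • (((p : FractionRing (WittVector p k)) ^ (-(1 : ℤ))) • x) := by
      rw [← algebraMap_smul (FractionRing (WittVector p k)) (p : WittVector p k), smul_smul]
      simp only [map_natCast]
      rw [← zpow_one_add₀ p_ne_zero]
      simp
    rw [this]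
    exact Submodule.smul_mem_smul (Ideal.subset_span rfl) hx'
  · rw [IsLocalRing.jacobson_eq_maximalIdeal ⊥ bot_ne_top, Ideal.span_le, Set.singleton_subset_iff]
    exact (IsLocalRing.mem_maximalIdeal _).mpr p_not_isUnit_W

theorem not_le_pPow_of_pos (M : Submodule (WittVector p k) N) (hM : M.FG) (hne : M ≠ ⊥) {r : ℤ}
    (hr : 0 < r) : ¬ M ≤ Isoc.pPow r M := by
  intro h
  exact hne (eq_bot_of_le_pPow_one M hM (h.trans (pPow_antitone (by omega) M)))

/-- Krull: a vector lying in every `p^n M`, `M` finitely generated, is zero. -/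
theorem eq_zero_of_forall_mem_pPow (M : Submodule (WittVector p k) N) (hM : M.FG) (x : N)
    (hx : ∀ n : ℕ, x ∈ Isoc.pPow (n : ℤ) M) : x = 0 := by
  have hx0 : x ∈ M := by simpa [pPow_zero] using hx 0
  have : Module.Finite (WittVector p k) M := Module.Finite.iff_fg.mpr hM
  have hI : Ideal.span {(p : WittVector p k)} ≠ ⊤ := by
    rw [Ne, Ideal.span_singleton_eq_top]; exact p_not_isUnit_W
  have key := Ideal.iInf_pow_smul_eq_bot_of_isLocalRing (M := M) _ hI
  have hmem : (⟨x, hx0⟩ : M) ∈ (⨅ i : ℕ, (Ideal.span {(p : WittVector p k)}) ^ i • ⊤ : Submodule (WittVector p k) M) := by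
    rw [Submodule.mem_iInf]
    intro n
    have hn := hx n
    rw [mem_pPow_iff] at hn
    have e : ((p : WittVector p k) ^ n) • (⟨_, hn⟩ : M) = ⟨x, hx0⟩ := by
      apply Subtype.ext
      rw [Submodule.coe_smul]
      change ((p : WittVector p k) ^ n) • (((p : FractionRing (WittVector p k)) ^ (-(n : ℤ))) • x) = x
      rw [← algebraMap_smul (FractionRing (WittVector p k)) ((p : WittVector p k) ^ n), smul_smul]
      simp only [map_pow, map_natCast]
      rw [← zpow_natCast, ← zpow_add₀ p_ne_zero, add_neg_cancel, zpow_zero, one_smul]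
    rw [← e]
    exact Submodule.smul_mem_smul (Ideal.pow_mem_pow (Ideal.mem_span_singleton_self _) n) Submodule.mem_top
  rw [key] at hmem
  have := (Submodule.mem_bot _).mp hmem
  exact congrArg Subtype.val this

/-- Every element of `L` becomes integral after multiplication by a power of `p`. -/
theorem exists_ppow_mul_eq_algebraMap (l : FractionRing (WittVector p k)) :
    ∃ (n : ℕ) (w : WittVector p k), (p : FractionRing (WittVector p k)) ^ n * l =
      algebraMap (WittVector p k) _ w := by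
  obtain ⟨w₁, w₂, hw₂, rfl⟩ := IsFractionRing.div_surjective (A := WittVector p k) l
  have hw₂0 : w₂ ≠ 0 := nonZeroDivisors.ne_zero hw₂
  obtain ⟨n, u, hu⟩ := WittVector.exists_eq_pow_p_mul' w₂ hw₂0
  refine ⟨n, w₁ * ((u⁻¹ : (WittVector p k)ˣ) : WittVector p k), ?_⟩
  have hU : algebraMap (WittVector p k) (FractionRing (WittVector p k)) ((u⁻¹ : (WittVector p k)ˣ) : WittVector p k) =
      (algebraMap (WittVector p k) (FractionRing (WittVector p k)) (u : WittVector p k))⁻¹ :=
    map_units_inv (algebraMap (WittVector p k) (FractionRing (WittVector p k))) u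
  have hU0 : algebraMap (WittVector p k) (FractionRing (WittVector p k)) (u : WittVector p k) ≠ 0 :=
    (u.isUnit.map (algebraMap (WittVector p k) (FractionRing (WittVector p k)))).ne_zero
  have hp : (p : FractionRing (WittVector p k)) ^ n ≠ 0 := pow_ne_zero _ p_ne_zero
  rw [hu, map_mul, map_mul, map_pow, map_natCast, hU]
  field_simp

/-- A vector becomes a member of a lattice after multiplication by a power of `p`. -/
theorem exists_ppow_smul_mem (M : Submodule (WittVector p k) N)
    (hM : M.IsLattice (FractionRing (WittVector p k))) (x : N) :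
    ∃ c : ℕ, ((p : FractionRing (WittVector p k)) ^ (c : ℤ)) • x ∈ M := by
  have hx : x ∈ Submodule.span (FractionRing (WittVector p k)) (M : Set N) := by
    rw [hM.span_eq_top]; trivial
  induction hx using Submodule.span_induction with
  | mem y hy => exact ⟨0, by simpa using hy⟩
  | zero => exact ⟨0, by simp⟩
  | add y z _ _ hy hz =>
    obtain ⟨a, ha⟩ := hy
    obtain ⟨b, hb⟩ := hz
    refine ⟨a + b, ?_⟩
    rw [smul_add]
    refine M.add_mem ?_ ?_
    · have := ppow_nat_smul_mem b ha
      rwa [smul_smul, ← zpow_add₀ p_ne_zero, show (b : ℤ) + a = ((a + b : ℕ) : ℤ) by push_cast; ring] at this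
    · have := ppow_nat_smul_mem a hb
      rwa [smul_smul, ← zpow_add₀ p_ne_zero, show (a : ℤ) + b = ((a + b : ℕ) : ℤ) by push_cast; ring] at this
  | smul l y _ hy =>
    obtain ⟨a, ha⟩ := hy
    obtain ⟨n, w, hw⟩ := exists_ppow_mul_eq_algebraMap l
    refine ⟨n + a, ?_⟩
    have : ((p : FractionRing (WittVector p k)) ^ ((n + a : ℕ) : ℤ)) • (l • y) =
        w • (((p : FractionRing (WittVector p k)) ^ (a : ℤ)) • y) := by
      rw [← algebraMap_smul (FractionRing (WittVector p k)) w, ← hw, smul_smul, smul_smul]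
      congr 1
      rw [zpow_natCast, zpow_natCast, pow_add]; ring
    rw [this]
    exact M.smul_mem w ha

/-- A finitely generated `W`-submodule lies in `p^{-c} M` for a lattice `M` and some `c`. -/
theorem exists_le_pPow_neg (M : Submodule (WittVector p k) N)
    (hM : M.IsLattice (FractionRing (WittVector p k))) (X : Submodule (WittVector p k) N) (hX : X.FG) :
    ∃ c : ℕ, X ≤ Isoc.pPow (-(c : ℤ)) M := by
  classical
  obtain ⟨S, rfl⟩ := hX
  choose c hc using fun x : N => exists_ppow_smul_mem M hM x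
  refine ⟨Finset.sup (α := ℕ) S c, ?_⟩
  rw [Submodule.span_le]
  intro x hx
  rw [SetLike.mem_coe, mem_pPow_iff, neg_neg]
  have hle : c x ≤ S.sup c := Finset.le_sup (f := c) hx
  have := ppow_nat_smul_mem (S.sup c - c x) (hc x)
  rwa [smul_smul, ← zpow_add₀ p_ne_zero, show ((S.sup c - c x : ℕ) : ℤ) + c x = ((S.sup c : ℕ) : ℤ) by omega] at this

end Basic

section Iter

variable {p : ℕ} [Fact p.Prime] {k : Type u} [Field k] [CharP k p] [PerfectRing k p]
variable {N : Type v} [AddCommGroup N] [Module (WittVector p k) N]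
  [Module (FractionRing (WittVector p k)) N] [IsScalarTower (WittVector p k) (FractionRing (WittVector p k)) N]

theorem iterate_map_add' {τ : FractionRing (WittVector p k) →+* FractionRing (WittVector p k)}
    (F : N →ₛₗ[τ] N) (s : ℕ) (x y : N) : (⇑F)^[s] (x + y) = (⇑F)^[s] x + (⇑F)^[s] y := by
  rw [← Isoc.coe_iter]; exact map_add _ x y

theorem iterate_map_zero' {τ : FractionRing (WittVector p k) →+* FractionRing (WittVector p k)}
    (F : N →ₛₗ[τ] N) (s : ℕ) : (⇑F)^[s] 0 = 0 := by
  rw [← Isoc.coe_iter]; exact map_zero _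

theorem iterate_map_sub' {τ : FractionRing (WittVector p k) →+* FractionRing (WittVector p k)}
    (F : N →ₛₗ[τ] N) (s : ℕ) (x y : N) : (⇑F)^[s] (x - y) = (⇑F)^[s] x - (⇑F)^[s] y := by
  rw [← Isoc.coe_iter]; exact map_sub _ x y

theorem iterate_smul_L {τ : FractionRing (WittVector p k) →+* FractionRing (WittVector p k)}
    (F : N →ₛₗ[τ] N) (s : ℕ) (c : FractionRing (WittVector p k)) (x : N) :
    (⇑F)^[s] (c • x) = (τ ^ s) c • (⇑F)^[s] x :=
  (Isoc.iter F s).map_smulₛₗ c x

theorem frob_pow_pzpow (a : ℤ) (s : ℕ) (r : ℤ) :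
    ((Isoc.frob p k a) ^ s) ((p : FractionRing (WittVector p k)) ^ r) = (p : FractionRing (WittVector p k)) ^ r := by
  rw [map_zpow₀, map_natCast]

theorem iterate_pzpow_smul (a : ℤ) (F : N →ₛₗ[Isoc.frob p k a] N) (s : ℕ) (r : ℤ) (x : N) :
    (⇑F)^[s] (((p : FractionRing (WittVector p k)) ^ r) • x) =
      ((p : FractionRing (WittVector p k)) ^ r) • (⇑F)^[s] x := by
  rw [iterate_smul_L, frob_pow_pzpow]

/-- The automorphism `σ^a` of `W`. -/
abbrev sig (p : ℕ) [Fact p.Prime] (k : Type u) [Field k] [CharP k p] [PerfectRing k p] (a : ℤ) :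
    WittVector p k ≃+* WittVector p k :=
  WittVector.frobeniusEquiv p k ^ a

theorem frob_pow_algebraMap (a : ℤ) (s : ℕ) (w : WittVector p k) :
    ((Isoc.frob p k a) ^ s) (algebraMap (WittVector p k) (FractionRing (WittVector p k)) w) =
      algebraMap (WittVector p k) (FractionRing (WittVector p k)) ((⇑(sig p k a))^[s] w) := by
  rw [RingHom.coe_pow]
  induction s with
  | zero => rfl
  | succ s ih =>
    rw [Function.iterate_succ_apply', ih, Isoc.frob_algebraMap, Function.iterate_succ_apply']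

theorem iterate_W_smul (a : ℤ) (F : N →ₛₗ[Isoc.frob p k a] N) (s : ℕ) (w : WittVector p k) (x : N) :
    (⇑F)^[s] (w • x) = ((⇑(sig p k a))^[s] w) • (⇑F)^[s] x := by
  rw [← algebraMap_smul (FractionRing (WittVector p k)) w x, iterate_smul_L, frob_pow_algebraMap,
    algebraMap_smul]

theorem sig_iterate_surjective (a : ℤ) (s : ℕ) : Function.Surjective (⇑(sig p k a))^[s] :=
  (sig p k a).surjective.iterate s

theorem latImg_le_iff {τ : FractionRing (WittVector p k) →+* FractionRing (WittVector p k)}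
    (F : N →ₛₗ[τ] N) (s : ℕ) (M X : Submodule (WittVector p k) N) :
    Isoc.latImg F s M ≤ X ↔ ∀ m ∈ M, (⇑F)^[s] m ∈ X := by
  unfold Isoc.latImg
  rw [Submodule.span_le, Set.image_subset_iff]
  rfl

theorem mem_latImg {τ : FractionRing (WittVector p k) →+* FractionRing (WittVector p k)}
    (F : N →ₛₗ[τ] N) (s : ℕ) (M : Submodule (WittVector p k) N) {m : N} (hm : m ∈ M) :
    (⇑F)^[s] m ∈ Isoc.latImg F s M :=
  Submodule.subset_span ⟨m, hm, rfl⟩

theorem latImg_zero {τ : FractionRing (WittVector p k) →+* FractionRing (WittVector p k)}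
    (F : N →ₛₗ[τ] N) (M : Submodule (WittVector p k) N) : Isoc.latImg F 0 M = M := by
  unfold Isoc.latImg
  rw [Function.iterate_zero, Set.image_id, Submodule.span_eq]

theorem latImg_mono {τ : FractionRing (WittVector p k) →+* FractionRing (WittVector p k)}
    (F : N →ₛₗ[τ] N) (s : ℕ) {M M' : Submodule (WittVector p k) N} (h : M ≤ M') :
    Isoc.latImg F s M ≤ Isoc.latImg F s M' :=
  Submodule.span_mono (Set.image_mono h)

/-- For `τ = σ^a` the image of a `W`-submodule under `F^s` is already a `W`-submodule. -/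
theorem mem_latImg_iff (a : ℤ) (F : N →ₛₗ[Isoc.frob p k a] N) (s : ℕ) (M : Submodule (WittVector p k) N)
    (y : N) : y ∈ Isoc.latImg F s M ↔ ∃ m ∈ M, (⇑F)^[s] m = y := by
  constructor
  · intro hy
    unfold Isoc.latImg at hy
    induction hy using Submodule.span_induction with
    | mem x hx => exact hx
    | zero => exact ⟨0, M.zero_mem, iterate_map_zero' F s⟩
    | add x y _ _ hx hy =>
      obtain ⟨m, hm, rfl⟩ := hx
      obtain ⟨m', hm', rfl⟩ := hy
      exact ⟨m + m', M.add_mem hm hm', iterate_map_add' F s m m'⟩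
    | smul w x _ hx =>
      obtain ⟨m, hm, rfl⟩ := hx
      obtain ⟨w', rfl⟩ := sig_iterate_surjective (p := p) (k := k) a s w
      exact ⟨w' • m, M.smul_mem w' hm, iterate_W_smul a F s w' m⟩
  · rintro ⟨m, hm, rfl⟩
    exact mem_latImg F s M hm

theorem latImg_pPow (a : ℤ) (F : N →ₛₗ[Isoc.frob p k a] N) (s : ℕ) (r : ℤ)
    (M : Submodule (WittVector p k) N) :
    Isoc.latImg F s (Isoc.pPow r M) = Isoc.pPow r (Isoc.latImg F s M) := by
  ext y
  rw [mem_latImg_iff, mem_pPow_iff, mem_latImg_iff]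
  constructor
  · rintro ⟨m, hm, rfl⟩
    rw [mem_pPow_iff] at hm
    exact ⟨_, hm, by rw [iterate_pzpow_smul]⟩
  · rintro ⟨m, hm, hmy⟩
    refine ⟨((p : FractionRing (WittVector p k)) ^ r) • m, smul_mem_pPow r M hm, ?_⟩
    rw [iterate_pzpow_smul, hmy, smul_smul, ← zpow_add₀ p_ne_zero, add_neg_cancel, zpow_zero, one_smul]

theorem latImg_add (a : ℤ) (F : N →ₛₗ[Isoc.frob p k a] N) (s t : ℕ) (M : Submodule (WittVector p k) N) :
    Isoc.latImg F (s + t) M = Isoc.latImg F s (Isoc.latImg F t M) := by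
  ext y
  rw [mem_latImg_iff, mem_latImg_iff]
  constructor
  · rintro ⟨m, hm, rfl⟩
    exact ⟨_, (mem_latImg_iff a F t M _).mpr ⟨m, hm, rfl⟩, by rw [Function.iterate_add_apply]⟩
  · rintro ⟨z, hz, rfl⟩
    obtain ⟨m, hm, rfl⟩ := (mem_latImg_iff a F t M z).mp hz
    exact ⟨m, hm, by rw [Function.iterate_add_apply]⟩

theorem latImg_fg (a : ℤ) (F : N →ₛₗ[Isoc.frob p k a] N) (s : ℕ) {M : Submodule (WittVector p k) N}
    (hM : M.FG) : (Isoc.latImg F s M).FG := by
  classical
  obtain ⟨S, rfl⟩ := hM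
  refine ⟨S.image (⇑F)^[s], ?_⟩
  apply le_antisymm
  · rw [Submodule.span_le]
    intro y hy
    rw [Finset.coe_image] at hy
    obtain ⟨x, hx, rfl⟩ := hy
    exact mem_latImg F s _ (Submodule.subset_span hx)
  · rw [latImg_le_iff]
    intro m hm
    induction hm using Submodule.span_induction with
    | mem x hx => exact Submodule.subset_span (by rw [Finset.coe_image]; exact ⟨x, hx, rfl⟩)
    | zero => rw [iterate_map_zero']; exact Submodule.zero_mem _
    | add x y _ _ hx hy => rw [iterate_map_add']; exact Submodule.add_mem _ hx hy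
    | smul w x _ hx => rw [iterate_W_smul]; exact Submodule.smul_mem _ _ hx

/-- `F^s(M) ≤ p^r M` propagates: `F^{s j}(M) ≤ p^{r j} M`. -/
theorem latImg_mul_le (a : ℤ) (F : N →ₛₗ[Isoc.frob p k a] N) (s : ℕ) (r : ℤ)
    (M : Submodule (WittVector p k) N) (h : Isoc.latImg F s M ≤ Isoc.pPow r M) (j : ℕ) :
    Isoc.latImg F (s * j) M ≤ Isoc.pPow (r * j) M := by
  induction j with
  | zero => rw [Nat.mul_zero, latImg_zero, Nat.cast_zero, mul_zero, pPow_zero]
  | succ j ih =>
    rw [Nat.mul_succ, add_comm, latImg_add a F s (s * j)]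
    calc Isoc.latImg F s (Isoc.latImg F (s * j) M) ≤ Isoc.latImg F s (Isoc.pPow (r * j) M) :=
          latImg_mono F s ih
      _ = Isoc.pPow (r * j) (Isoc.latImg F s M) := latImg_pPow a F s _ M
      _ ≤ Isoc.pPow (r * j) (Isoc.pPow r M) := pPow_mono _ h
      _ = Isoc.pPow (r * (j + 1 : ℕ)) M := by rw [pPow_pPow]; push_cast; ring_nf

theorem latImg_mul_eq (a : ℤ) (F : N →ₛₗ[Isoc.frob p k a] N) (s : ℕ) (r : ℤ)
    (M : Submodule (WittVector p k) N) (h : Isoc.latImg F s M = Isoc.pPow r M) (j : ℕ) :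
    Isoc.latImg F (s * j) M = Isoc.pPow (r * j) M := by
  induction j with
  | zero => rw [Nat.mul_zero, latImg_zero, Nat.cast_zero, mul_zero, pPow_zero]
  | succ j ih =>
    rw [Nat.mul_succ, add_comm, latImg_add a F s (s * j), ih, latImg_pPow, h, pPow_pPow]
    congr 1; push_cast; ring

end Iter

section Ord

variable {p : ℕ} [Fact p.Prime] {k : Type u} [Field k] [CharP k p] [PerfectRing k p]
variable {N : Type v} [AddCommGroup N] [Module (WittVector p k) N]
  [Module (FractionRing (WittVector p k)) N] [IsScalarTower (WittVector p k) (FractionRing (WittVector p k)) N]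

theorem lattice_ne_bot [Nontrivial N] (M : Submodule (WittVector p k) N)
    (hM : M.IsLattice (FractionRing (WittVector p k))) : M ≠ ⊥ := by
  intro h
  have := hM.span_eq_top
  rw [h, Submodule.bot_coe, Submodule.span_zero_singleton] at this
  exact bot_ne_top this

theorem exists_ne_zero_mem_of_ne_bot {M : Submodule (WittVector p k) N} (h : M ≠ ⊥) :
    ∃ m ∈ M, m ≠ 0 := by
  by_contra hcon
  push Not at hcon
  exact h ((Submodule.eq_bot_iff M).mpr hcon)

theorem latImg_ne_bot {τ : FractionRing (WittVector p k) →+* FractionRing (WittVector p k)}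
    (F : N →ₛₗ[τ] N) (hF : Function.Injective F) (s : ℕ) {M : Submodule (WittVector p k) N}
    (h : M ≠ ⊥) : Isoc.latImg F s M ≠ ⊥ := by
  obtain ⟨m, hm, hm0⟩ := exists_ne_zero_mem_of_ne_bot h
  intro hbot
  have := mem_latImg F s M hm
  rw [hbot, Submodule.mem_bot] at this
  apply hm0
  apply hF.iterate s
  rw [this, iterate_map_zero']

/-- Existence of the order of a nonzero finitely generated submodule relative to a lattice. -/
theorem exists_greatest_le_pPow (M : Submodule (WittVector p k) N)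
    (hM : M.IsLattice (FractionRing (WittVector p k))) (X : Submodule (WittVector p k) N) (hX : X.FG)
    (hX0 : X ≠ ⊥) :
    ∃ r : ℤ, X ≤ Isoc.pPow r M ∧ ∀ z : ℤ, X ≤ Isoc.pPow z M → z ≤ r := by
  obtain ⟨y, hy, hy0⟩ := exists_ne_zero_mem_of_ne_bot hX0
  obtain ⟨R, hR⟩ : ∃ R : ℕ, y ∉ Isoc.pPow (R : ℤ) M := by
    by_contra hcon
    push Not at hcon
    exact hy0 (eq_zero_of_forall_mem_pPow M hM.fg y hcon)
  obtain ⟨c, hc⟩ := exists_le_pPow_neg M hM X hX
  obtain ⟨r, hr, hmax⟩ := Int.exists_greatest_of_bdd (P := fun z => X ≤ Isoc.pPow z M)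
    ⟨R, fun z hz => by
      by_contra hzR
      exact hR (pPow_antitone (by omega) M (hz hy))⟩ ⟨_, hc⟩
  exact ⟨r, hr, hmax⟩

theorem isOrd_of_greatest {τ : FractionRing (WittVector p k) →+* FractionRing (WittVector p k)}
    (F : N →ₛₗ[τ] N) (s : ℕ) (M : Submodule (WittVector p k) N) (r : ℤ)
    (hr : Isoc.latImg F s M ≤ Isoc.pPow r M) (hmax : ∀ z : ℤ, Isoc.latImg F s M ≤ Isoc.pPow z M → z ≤ r) :
    Isoc.IsOrd M F s r :=
  ⟨hr, fun h => by have := hmax _ h; omega⟩

theorem isOrd_le {τ : FractionRing (WittVector p k) →+* FractionRing (WittVector p k)}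
    {F : N →ₛₗ[τ] N} {s : ℕ} {M : Submodule (WittVector p k) N} {r : ℤ} (h : Isoc.IsOrd M F s r)
    {z : ℤ} (hz : Isoc.latImg F s M ≤ Isoc.pPow z M) : z ≤ r := by
  by_contra hcon
  exact h.2 (hz.trans (pPow_antitone (by omega) M))

theorem isOrd_unique {τ : FractionRing (WittVector p k) →+* FractionRing (WittVector p k)}
    {F : N →ₛₗ[τ] N} {s : ℕ} {M : Submodule (WittVector p k) N} {r r' : ℤ} (h : Isoc.IsOrd M F s r)
    (h' : Isoc.IsOrd M F s r') : r = r' :=
  le_antisymm (isOrd_le h' h.1) (isOrd_le h h'.1)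

/-- `p^c M ≤ F(M)` for some `c` when `F` is surjective. -/
theorem exists_pPow_le_latImg_one (a : ℤ) (F : N →ₛₗ[Isoc.frob p k a] N) (hF : Function.Surjective F)
    (M : Submodule (WittVector p k) N) (hM : M.IsLattice (FractionRing (WittVector p k))) :
    ∃ c : ℕ, Isoc.pPow (c : ℤ) M ≤ Isoc.latImg F 1 M := by
  classical
  obtain ⟨S, hS⟩ := hM.fg
  choose y hy using hF
  choose c' hc' using fun x : N => exists_ppow_smul_mem M hM (y x)
  refine ⟨Finset.sup (α := ℕ) S c', ?_⟩
  have key : M ≤ Isoc.pPow (-((Finset.sup (α := ℕ) S c' : ℕ) : ℤ)) (Isoc.latImg F 1 M) := by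
    conv_lhs => rw [← hS]
    rw [Submodule.span_le]
    intro x hx
    rw [SetLike.mem_coe, mem_pPow_iff, neg_neg]
    have hle : c' x ≤ Finset.sup (α := ℕ) S c' := Finset.le_sup (f := c') hx
    have hmem := ppow_nat_smul_mem (Finset.sup (α := ℕ) S c' - c' x) (hc' x)
    rw [smul_smul, ← zpow_add₀ p_ne_zero,
      show ((Finset.sup (α := ℕ) S c' - c' x : ℕ) : ℤ) + c' x = ((Finset.sup (α := ℕ) S c' : ℕ) : ℤ) by
        omega] at hmem
    have := mem_latImg F 1 M hmem
    rwa [iterate_pzpow_smul, Function.iterate_one, hy] at this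
  have := (le_pPow_iff _).mp key
  rwa [neg_neg] at this

theorem pPow_mul_le_latImg (a : ℤ) (F : N →ₛₗ[Isoc.frob p k a] N) (M : Submodule (WittVector p k) N)
    (c : ℤ) (h : Isoc.pPow c M ≤ Isoc.latImg F 1 M) (n : ℕ) :
    Isoc.pPow (c * n) M ≤ Isoc.latImg F n M := by
  induction n with
  | zero => rw [Nat.cast_zero, mul_zero, pPow_zero, latImg_zero]
  | succ n ih =>
    calc Isoc.pPow (c * (n + 1 : ℕ)) M = Isoc.pPow (c * n) (Isoc.pPow c M) := by
          rw [pPow_pPow]; congr 1; push_cast; ring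
      _ ≤ Isoc.pPow (c * n) (Isoc.latImg F 1 M) := pPow_mono _ h
      _ = Isoc.latImg F 1 (Isoc.pPow (c * n) M) := (latImg_pPow a F 1 _ M).symm
      _ ≤ Isoc.latImg F 1 (Isoc.latImg F n M) := latImg_mono F 1 ih
      _ = Isoc.latImg F (n + 1) M := by rw [add_comm, latImg_add a F 1 n]

theorem le_of_latImg_le (a : ℤ) (F : N →ₛₗ[Isoc.frob p k a] N) (hF : Function.Injective F) (s : ℕ)
    {Y Z : Submodule (WittVector p k) N} (h : Isoc.latImg F s Y ≤ Isoc.latImg F s Z) : Y ≤ Z := by
  intro y hy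
  obtain ⟨z, hz, hzy⟩ := (mem_latImg_iff a F s Z _).mp (h (mem_latImg F s Y hy))
  rw [← hF.iterate s hzy]
  exact hz

end Ord

end Groth.Agent.IsocLib
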