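import Groth.Statements.S10830

set_option autoImplicit false
universe u
open Topology TopologicalSpace
open TopDim

namespace Groth.Agent.S10830



/-- In an irreducible topological space X of finite Krull dimension, every proper closed subset Y has
strictly smaller Krull dimension than X. -/
theorem result (X : Type u) [TopologicalSpace X]
    [IrreducibleSpace X] (hfin : topologicalKrullDim X ≠ ⊤) (Y : Set X) (hY : IsClosed Y) (hYX : Y ≠ Set.univ) :
    topologicalKrullDim ↥Y < topologicalKrullDim X := by
  let top : TopologicalSpace.IrreducibleCloseds X :=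
    ⟨Set.univ, IrreducibleSpace.isIrreducible_univ X, isClosed_univ⟩
  have hne : topologicalKrullDim X ≠ ⊥ := by
    unfold topologicalKrullDim
    rw [Ne, Order.krullDim_eq_bot_iff, not_isEmpty_iff]
    exact ⟨top⟩
  obtain ⟨m, hm⟩ := WithBot.ne_bot_iff_exists.1 hne
  have hmtop : m ≠ ⊤ := by rintro rfl; exact hfin hm.symm
  obtain ⟨n, rfl⟩ := ENat.ne_top_iff_exists.1 hmtop
  rw [← hm]
  change Order.krullDim (TopologicalSpace.IrreducibleCloseds Y) < ((n : ℕ∞) : WithBot ℕ∞)
  have hn : Order.krullDim (TopologicalSpace.IrreducibleCloseds X) = ((n : ℕ∞) : WithBot ℕ∞) := hm.symm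
  rw [show ((n : ℕ∞) : WithBot ℕ∞) = ((n : ℕ) : WithBot ℕ∞) from rfl, Order.krullDim_lt_coe_iff]
  intro l
  let f := TopologicalSpace.IrreducibleCloseds.map (Subtype.val : Y → X) continuous_subtype_val
  have hf : StrictMono f :=
    TopologicalSpace.IrreducibleCloseds.map_strictMono_of_isInducing Topology.IsInducing.subtypeVal
  have hsub : ∀ Z : TopologicalSpace.IrreducibleCloseds Y, (f Z : Set X) ⊆ Y := by
    intro Z
    change closure (Subtype.val '' (Z : Set Y)) ⊆ Y
    exact closure_minimal (by rintro _ ⟨z, _, rfl⟩; exact z.2) hY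
  have hlast : (l.map f hf).last < top := by
    refine lt_of_le_of_ne (fun x _ => Set.mem_univ x) ?_
    intro h
    apply hYX
    have h2 := hsub l.last
    rw [Set.eq_univ_iff_forall]
    intro x
    apply h2
    have : ((l.map f hf).last : Set X) = Set.univ := congrArg SetLike.coe h
    change x ∈ ((l.map f hf).last : Set X)
    rw [this]; trivial
  have hlen := Order.LTSeries.length_le_krullDim ((l.map f hf).snoc top hlast)
  rw [hn] at hlen
  simp only [RelSeries.snoc_length] at hlen
  have h2 : ((l.map f hf).length + 1 : ℕ) ≤ n := by exact_mod_cast hlen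
  change l.length < n
  have : (l.map f hf).length = l.length := rfl
  omega

end Groth.Agent.S10830
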