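import Groth.Statements.S10831

set_option autoImplicit false
universe u
open Topology TopologicalSpace
open TopDim

namespace Groth.Agent.S10831



/-- The Krull dimension of a topological space is the supremum of the Krull dimensions of its
irreducible components. -/
theorem result (X : Type u) [TopologicalSpace X] :
    topologicalKrullDim X = ⨆ Y ∈ irreducibleComponents X, topologicalKrullDim ↥Y := by
  apply le_antisymm
  · unfold topologicalKrullDim Order.krullDim
    refine iSup_le fun l => ?_
    obtain ⟨C, hC, hsub⟩ :=
      exists_mem_irreducibleComponents_subset_of_isIrreducible _ l.last.isIrreducible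
    have hall : ∀ i, ((l i : TopologicalSpace.IrreducibleCloseds X) : Set X) ⊆ C := by
      intro i
      exact (show ((l i : TopologicalSpace.IrreducibleCloseds X) : Set X) ⊆ l.last from l.monotone (Fin.le_last i)).trans hsub
    have hirr : ∀ i, IsIrreducible (Subtype.val ⁻¹' ((l i : TopologicalSpace.IrreducibleCloseds X) : Set X) : Set C) := by
      intro i
      have e : (Subtype.val ⁻¹' ((l i : TopologicalSpace.IrreducibleCloseds X) : Set X) : Set C) =
          Set.range (Set.inclusion (hall i)) := (Set.range_inclusion (hall i)).symm
      rw [e, ← Set.image_univ]
      have := Subtype.irreducibleSpace (l i).isIrreducible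
      exact (IrreducibleSpace.isIrreducible_univ _).image _ (continuous_inclusion (hall i)).continuousOn
    let g : Fin (l.length + 1) → TopologicalSpace.IrreducibleCloseds C := fun i =>
      ⟨Subtype.val ⁻¹' ((l i : TopologicalSpace.IrreducibleCloseds X) : Set X), hirr i,
        (l i).isClosed.preimage continuous_subtype_val⟩
    have hstep : ∀ i : Fin l.length, g i.castSucc < g i.succ := by
      intro i
      have hlt : l i.castSucc < l i.succ := l.step i
      refine lt_of_le_of_ne (fun x hx => hlt.le hx) ?_
      intro heq
      apply hlt.ne
      apply TopologicalSpace.IrreducibleCloseds.ext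
      have h1 : ((g i.castSucc : TopologicalSpace.IrreducibleCloseds C) : Set C) =
          ((g i.succ : TopologicalSpace.IrreducibleCloseds C) : Set C) := congrArg SetLike.coe heq
      have k1 := Subtype.image_preimage_coe C ((l i.castSucc : TopologicalSpace.IrreducibleCloseds X) : Set X)
      have k2 := Subtype.image_preimage_coe C ((l i.succ : TopologicalSpace.IrreducibleCloseds X) : Set X)
      rw [Set.inter_eq_right.2 (hall _)] at k1 k2
      rw [← k1, ← k2]
      exact congrArg (Set.image Subtype.val) h1
    let l' : LTSeries (TopologicalSpace.IrreducibleCloseds C) :=
      { length := l.length, toFun := g, step := hstep }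
    have h1 : (l.length : WithBot ℕ∞) ≤ Order.krullDim (TopologicalSpace.IrreducibleCloseds C) :=
      Order.LTSeries.length_le_krullDim l'
    exact h1.trans (le_iSup₂_of_le C hC le_rfl)
  · exact iSup₂_le fun Y _ => topologicalKrullDim_subspace_le X Y

end Groth.Agent.S10831
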