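import Groth.Statements.S10837
import Mathlib.AlgebraicGeometry.Morphisms.UnderlyingMap

set_option autoImplicit false
universe u
open CategoryTheory AlgebraicGeometry Topology
open Mor

namespace Groth.Agent.S10837


theorem ringLemma {A B : Type u} [CommRing A] [CommRing B] (φ : A →+* B)
    (hφ : IsOpenMap (PrimeSpectrum.comap φ)) : GeneralizingMap (PrimeSpectrum.comap φ) := by
  intro p q' hq'
  let M : Submonoid B := p.asIdeal.primeCompl ⊔ (q'.asIdeal.primeCompl.map φ)
  let I : Ideal B := q'.asIdeal.map φ
  by_cases hdisj : Disjoint (I : Set B) (M : Set B)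
  · obtain ⟨P, hP, hIP, hMP⟩ := Ideal.exists_le_prime_disjoint I M hdisj
    refine ⟨⟨P, hP⟩, ?_, ?_⟩
    · show _ ⤳ _
      rw [← PrimeSpectrum.le_iff_specializes]
      intro b hb
      by_contra hbp
      have : b ∈ M := Submonoid.mem_sup_left hbp
      exact Set.disjoint_left.1 hMP hb this
    · ext a
      constructor
      · intro ha
        by_contra haq
        have : φ a ∈ M := Submonoid.mem_sup_right ⟨a, haq, rfl⟩
        exact Set.disjoint_left.1 hMP ha this
      · intro ha
        exact hIP (Ideal.mem_map_of_mem φ ha)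
  · rw [Set.not_disjoint_iff] at hdisj
    obtain ⟨m, hmI, hmM⟩ := hdisj
    obtain ⟨s, hs, t', ht', rfl⟩ := Submonoid.mem_sup.1 hmM
    obtain ⟨t, ht, rfl⟩ := ht'
    have hopen := hφ _ (PrimeSpectrum.isOpen_basicOpen (a := s))
    have hpmem : PrimeSpectrum.comap φ p ∈
        PrimeSpectrum.comap φ '' (PrimeSpectrum.basicOpen s : Set (PrimeSpectrum B)) := ⟨p, hs, rfl⟩
    obtain ⟨P, hPs, hPq⟩ := hq'.mem_open hopen hpmem
    have hIP : I ≤ P.asIdeal := by
      have : q'.asIdeal = (PrimeSpectrum.comap φ P).asIdeal := by rw [hPq]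
      rw [show I = q'.asIdeal.map φ from rfl, this]
      exact Ideal.map_comap_le
    have h1 := hIP hmI
    rcases P.isPrime.mem_or_mem h1 with h | h
    · exact absurd h hPs
    · have h2 : t ∈ (PrimeSpectrum.comap φ P).asIdeal := h
      rw [hPq] at h2
      exact absurd h2 ht


/-- For a morphism of schemes f : X → Y which is open as a map of topological spaces, generalizations
lift along f: every generalization of f(x) is the image of a generalization of x. -/
theorem result {X Y : Scheme.{u}} (f : X ⟶ Y) (hf : IsOpenMap f.base) :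
    GeneralizingMap f.base := by
  change topologically GeneralizingMap f
  have hf' : topologically IsOpenMap f := hf
  clear hf
  wlog hY : ∃ R, Y = Spec R generalizing X Y f
  · rw [IsZariskiLocalAtTarget.iff_of_openCover (P := topologically GeneralizingMap) Y.affineCover]
    intro i
    refine this _ ?_ ⟨_, rfl⟩
    exact IsZariskiLocalAtTarget.of_isPullback (P := topologically IsOpenMap)
      (iY := Y.affineCover.f i) (IsPullback.of_hasPullback ..) hf'
  obtain ⟨R, rfl⟩ := hY
  wlog hX : ∃ S, X = Spec S generalizing X f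
  · rw [IsZariskiLocalAtSource.iff_of_openCover (P := topologically GeneralizingMap) X.affineCover]
    intro i
    refine this _ ?_ ⟨_, rfl⟩
    exact IsZariskiLocalAtSource.comp (P := topologically IsOpenMap) hf' _
  obtain ⟨S, rfl⟩ := hX
  obtain ⟨φ, rfl⟩ := Spec.map_surjective f
  exact ringLemma φ.hom hf'

end Groth.Agent.S10837
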