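import Groth.Statements.S10838
import Groth.Agent.S10837
import Mathlib.AlgebraicGeometry.Properties

set_option autoImplicit false
universe u
open CategoryTheory AlgebraicGeometry Topology
open Mor

namespace Groth.Agent.S10838


theorem dim_le_of_generalizing {X T : Type*} [TopologicalSpace X] [TopologicalSpace T] [QuasiSober T]
    [T0Space X] (g : X → T) (hsurj : Function.Surjective g) (hgen : GeneralizingMap g) :
    topologicalKrullDim T ≤ topologicalKrullDim X := by
  let ZT : T → TopologicalSpace.IrreducibleCloseds T := fun t =>
    ⟨closure {t}, isIrreducible_singleton.closure, isClosed_closure⟩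
  let ZX : X → TopologicalSpace.IrreducibleCloseds X := fun x =>
    ⟨closure {x}, isIrreducible_singleton.closure, isClosed_closure⟩
  have hZT : ∀ Z : TopologicalSpace.IrreducibleCloseds T, ∃ x : X, ZT (g x) = Z := by
    intro Z
    obtain ⟨x, hx⟩ := hsurj Z.2.genericPoint
    refine ⟨x, ?_⟩
    apply TopologicalSpace.IrreducibleCloseds.ext
    change closure {g x} = (Z : Set T)
    rw [hx]
    have := Z.2.isGenericPoint_genericPoint_closure
    rw [this.def, Z.3.closure_eq]
    rfl
  have key : ∀ n : ℕ, ∀ x : X, (n : ℕ∞) ≤ Order.coheight (ZT (g x)) →
      (n : ℕ∞) ≤ Order.coheight (ZX x) := by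
    intro n
    induction n with
    | zero => intros; simp
    | succ n ih =>
      intro x hx
      obtain ⟨p, hhead, hlen⟩ := Order.exists_series_of_le_coheight _ hx
      have hpos : p.length ≠ 0 := by omega
      have e : (1 : Fin (p.length + 1)) = Fin.succ ⟨0, by omega⟩ := by
        ext
        simp only [Fin.val_succ]
        rw [Fin.val_one', Nat.mod_eq_of_lt (by omega)]
      have h01 : p.head < p 1 := by
        rw [e]
        exact p.step ⟨0, by omega⟩
      obtain ⟨x', hx'⟩ := hZT (p 1)
      have hlt : ZT (g x) < ZT (g x') := by rw [hx', ← hhead]; exact h01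
      have hspec : g x' ⤳ g x := by
        rw [specializes_iff_closure_subset]
        exact hlt.le
      obtain ⟨x'', hx''1, hx''2⟩ := hgen hspec
      have hcoh : (n : ℕ∞) ≤ Order.coheight (ZT (g x'')) := by
        rw [hx''2, hx']
        have := Order.length_le_coheight_head (p := p.tail hpos)
        rw [RelSeries.head_tail] at this
        refine le_trans ?_ this
        simp [hlen]
      have hih := ih x'' hcoh
      have hltX : ZX x < ZX x'' := by
        refine lt_of_le_of_ne ?_ ?_
        · exact (specializes_iff_closure_subset.1 hx''1)
        · intro heq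
          have h1 : closure ({x} : Set X) = closure {x''} := congrArg SetLike.coe heq
          have h2 : x = x'' := by
            refine (Specializes.antisymm ?_ hx''1).eq
            rw [specializes_iff_closure_subset, h1]
          rw [← h2] at hx''2
          rw [hx''2] at hlt
          exact lt_irrefl _ hlt
      have := Order.coheight_add_one_le hltX
      calc ((n + 1 : ℕ) : ℕ∞) = (n : ℕ∞) + 1 := by push_cast; rfl
        _ ≤ Order.coheight (ZX x'') + 1 := by gcongr
        _ ≤ Order.coheight (ZX x) := this
  unfold topologicalKrullDim
  rw [Order.krullDim_eq_iSup_coheight]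
  refine iSup_le fun Z => ?_
  obtain ⟨x, rfl⟩ := hZT Z
  have : Order.coheight (ZT (g x)) ≤ Order.coheight (ZX x) :=
    ENat.forall_natCast_le_iff_le.1 fun n hn => key n x hn
  exact le_trans (WithBot.coe_le_coe.2 this) (Order.coheight_le_krullDim _)


/-- For a morphism of schemes f : X → Y which is open as a map of topological spaces, the Krull
dimension of the image f(X) (with the subspace topology from Y) is at most the Krull dimension of X. -/
theorem result {X Y : Scheme.{u}} (f : X ⟶ Y) (hf : IsOpenMap f.base) :
    topologicalKrullDim ↥(Set.range f.base) ≤ topologicalKrullDim ↥X := by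
  have hgen : GeneralizingMap f.base := Groth.Agent.S10837.result f hf
  have : QuasiSober ↥(Set.range f.base) :=
    (hf.isOpen_range.isOpenEmbedding_subtypeVal).quasiSober
  refine dim_le_of_generalizing (Set.rangeFactorization f.base) Set.rangeFactorization_surjective ?_
  intro x t ht
  have ht' : t.1 ⤳ f.base x := by
    exact Topology.IsInducing.subtypeVal.specializes_iff.2 ht
  obtain ⟨x', hx'1, hx'2⟩ := hgen ht'
  refine ⟨x', hx'1, ?_⟩
  apply Subtype.ext
  exact hx'2

end Groth.Agent.S10838
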