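import Groth.Statements.S10842

set_option autoImplicit false
universe u
open CategoryTheory AlgebraicGeometry
open Variety

namespace Groth.Agent.S10842



/-- A quasi-compact scheme whose local rings at all closed points are integrally closed domains is
normal, i.e. all of its local rings are integrally closed domains. -/
theorem result (X : Scheme.{u}) [CompactSpace ↥X]
    (h : ∀ x : X, IsClosed ({x} : Set X) →
      IsDomain (X.presheaf.stalk x) ∧ IsIntegrallyClosed (X.presheaf.stalk x)) :
    Pi1.IsNormalScheme X := by
  intro x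
  obtain ⟨y, hyx, hyc⟩ := (isClosed_closure (s := ({x} : Set X))).exists_closed_singleton
    (Set.singleton_nonempty x).closure
  have hxy : x ⤳ y := specializes_iff_mem_closure.2 hyx
  obtain ⟨hdom, hint⟩ := h y hyc
  obtain ⟨_, ⟨U, hU, rfl⟩, hyU, -⟩ :=
    X.isBasis_affineOpens.exists_subset_of_mem_open (Set.mem_univ y) isOpen_univ
  have hxU : x ∈ U := hxy.mem_open U.isOpen hyU
  let y' : U := ⟨y, hyU⟩
  let x' : U := ⟨x, hxU⟩
  change IsDomain (X.presheaf.stalk (x' : X)) ∧ IsIntegrallyClosed (X.presheaf.stalk (x' : X))
  change IsDomain (X.presheaf.stalk (y' : X)) at hdom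
  change IsIntegrallyClosed (X.presheaf.stalk (y' : X)) at hint
  let := X.presheaf.algebra_section_stalk y'
  let := X.presheaf.algebra_section_stalk x'
  let py := hU.primeIdealOf y'
  let px := hU.primeIdealOf x'
  have hle : px.asIdeal ≤ py.asIdeal := by
    have h1 : x' ⤳ y' := Topology.IsInducing.subtypeVal.specializes_iff.1 hxy
    have h2 := h1.map hU.isoSpec.hom.continuous
    exact (PrimeSpectrum.le_iff_specializes _ _).2 h2
  have iy := hU.isLocalization_stalk y'
  have ix := hU.isLocalization_stalk x'
  have hdisj : Disjoint (py.asIdeal.primeCompl : Set Γ(X, U)) (px.asIdeal : Set Γ(X, U)) := by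
    rw [Set.disjoint_left]; intro a ha hb; exact ha (hle hb)
  let q : Ideal (X.presheaf.stalk (y' : X)) :=
    px.asIdeal.map (algebraMap Γ(X, U) (X.presheaf.stalk (y' : X)))
  have hq : q.IsPrime := IsLocalization.isPrime_of_isPrime_disjoint py.asIdeal.primeCompl
    (X.presheaf.stalk (y' : X)) px.asIdeal px.isPrime hdisj
  have hqc : q.under Γ(X, U) = px.asIdeal :=
    IsLocalization.under_map_of_isPrime_disjoint py.asIdeal.primeCompl
      (X.presheaf.stalk (y' : X)) px.isPrime hdisj
  have hT := IsLocalization.isLocalization_isLocalization_atPrime_isLocalization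
    py.asIdeal.primeCompl (Localization.AtPrime q) q
  have e1 : (q.under Γ(X, U)).primeCompl = px.asIdeal.primeCompl := by
    ext a
    change a ∉ q.under Γ(X, U) ↔ a ∉ px.asIdeal
    rw [hqc]
  have hT2 : IsLocalization (q.under Γ(X, U)).primeCompl (Localization.AtPrime q) := hT
  rw [e1] at hT2
  let e : X.presheaf.stalk (x' : X) ≃ₐ[Γ(X, U)] Localization.AtPrime q :=
    IsLocalization.algEquiv px.asIdeal.primeCompl _ _
  have hdomT : IsDomain (Localization.AtPrime q) :=
    IsLocalization.isDomain_localization q.primeCompl_le_nonZeroDivisors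
  have hintT : IsIntegrallyClosed (Localization.AtPrime q) :=
    isIntegrallyClosed_of_isLocalization _ q.primeCompl q.primeCompl_le_nonZeroDivisors
  exact ⟨MulEquiv.isDomain _ e.toRingEquiv.toMulEquiv, IsIntegrallyClosed.of_equiv e.toRingEquiv.symm⟩

end Groth.Agent.S10842
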