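import Groth.Statements.S10851
import Mathlib.RingTheory.HopkinsLevitzki

set_option autoImplicit false
universe u
open Mero

namespace Groth.Agent.S10851



open AlgebraicGeometry in
/-- Let X be a locally Noetherian scheme and D a divisor on X (a global section of K_X^×/O_X^×). Then
the support of D has codimension at least 1 in X: for every point z at which the germ of D is
non-trivial, the local ring O_{X,z} has Krull dimension at least 1. -/
theorem result {X : Scheme.{u}} [IsLocallyNoetherian X]
    (D : Mero.Divisor X) (z : X) (hz : z ∈ Mero.supp D) :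
    (1 : WithBot ℕ∞) ≤ ringKrullDim (X.presheaf.stalk z) := by
  by_contra hlt
  push Not at hlt
  have hle : ringKrullDim (X.presheaf.stalk z) ≤ ((0 : ℕ) : WithBot ℕ∞) := by
    rcases h : ringKrullDim (X.presheaf.stalk z) with _ | m
    · exact bot_le
    · rw [h] at hlt
      have : m < 1 := WithBot.coe_lt_coe.1 hlt
      have : m = 0 := Order.lt_one_iff.1 this
      subst this
      exact le_rfl
  have h0 : Ring.KrullDimLE 0 (X.presheaf.stalk z) := Ring.krullDimLE_iff.2 hle
  have hN : IsNoetherianRing (X.presheaf.stalk z) := inferInstance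
  have : IsArtinianRing (X.presheaf.stalk z) :=
    isArtinianRing_iff_isNoetherianRing_krullDimLE_zero.2 ⟨hN, h0⟩
  have hunits : Mero.regStalk X z ≤ IsUnit.submonoid (X.presheaf.stalk z) := by
    intro a ha
    have h1 : a ∈ nonZeroDivisors (X.presheaf.stalk z) := Mero.regStalk_le_nonZeroDivisors z ha
    exact IsArtinianRing.isUnit_of_mem_nonZeroDivisors h1
  let e := IsLocalization.atUnits (X.presheaf.stalk z) (Mero.regStalk X z) (S := Mero.KStalk X z) hunits
  apply hz
  obtain ⟨u, hu⟩ := QuotientGroup.mk_surjective (D.1 z)
  rw [← hu, QuotientGroup.eq_one_iff]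
  refine ⟨Units.map e.symm.toRingEquiv.toMonoidHom u, ?_⟩
  ext
  change algebraMap (X.presheaf.stalk z) (Mero.KStalk X z) (e.symm (u : Mero.KStalk X z)) = u
  have h1 := e.commutes (e.symm (u : Mero.KStalk X z))
  rw [Algebra.algebraMap_self, RingHom.id_apply, AlgEquiv.apply_symm_apply] at h1
  exact h1.symm

end Groth.Agent.S10851
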