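import Groth.Statements.S10868

set_option autoImplicit false
universe u
open Mor

namespace Groth.Agent.S10868


open CategoryTheory AlgebraicGeometry in
theorem affine_of_proper_quasiAffine {W V : Scheme.{u}} (g : W ⟶ V) [IsProper g] [IsAffine V]
    [W.IsQuasiAffine] : IsAffine W := by
  have hnat := Scheme.toSpecΓ_naturality g
  have e : g = W.toSpecΓ ≫ (Spec.map g.appTop ≫ inv V.toSpecΓ) := by
    rw [← Category.assoc, ← hnat, Category.assoc, IsIso.hom_inv_id, Category.comp_id]
  have : UniversallyClosed (W.toSpecΓ ≫ (Spec.map g.appTop ≫ inv V.toSpecΓ)) := by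
    rw [← e]; infer_instance
  have : UniversallyClosed W.toSpecΓ :=
    UniversallyClosed.of_comp_of_isSeparated W.toSpecΓ (Spec.map g.appTop ≫ inv V.toSpecΓ)
  have hclosed : IsClosed (Set.range W.toSpecΓ) := W.toSpecΓ.isClosedMap.isClosed_range
  have hker : W.toSpecΓ.ker = ⊥ := W.ker_toSpecΓ
  have hsupp := W.toSpecΓ.support_ker
  rw [hker] at hsupp
  rw [Scheme.IdealSheafData.support_bot, hclosed.closure_eq] at hsupp
  have hsurj : Surjective W.toSpecΓ := by
    constructor
    rw [← Set.range_eq_univ, ← hsupp]
    rfl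
  have : IsIso W.toSpecΓ := (isIso_iff_isOpenImmersion_and_surjective _).2 ⟨inferInstance, hsurj⟩
  exact ⟨this⟩


open CategoryTheory AlgebraicGeometry in
/-- f : X → Y is a finite morphism exactly when it is proper and quasi-affine (quasi-compact, with the
inverse image of every affine open subscheme of Y a quasi-affine scheme). -/
theorem result {X Y : Scheme.{u}} (f : X ⟶ Y) :
    IsFinite f ↔ IsProper f ∧ Mor2.IsQuasiAffine f := by
  constructor
  · intro hf
    refine ⟨inferInstance, inferInstance, fun V hV => ?_⟩
    have : IsAffine (f ⁻¹ᵁ V) := hV.preimage f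
    infer_instance
  · rintro ⟨hp, -, hq⟩
    have : IsAffineHom f := by
      constructor
      intro V hV
      have : (f ⁻¹ᵁ V).toScheme.IsQuasiAffine := hq V hV
      have : IsAffine V := hV
      have : IsProper (f ∣_ V) := IsZariskiLocalAtTarget.restrict hp V
      exact affine_of_proper_quasiAffine (f ∣_ V)
    exact IsFinite.iff_isProper_and_isAffineHom.2 ⟨hp, this⟩

end Groth.Agent.S10868
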