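import Groth.Statements.S10877

set_option autoImplicit false
universe u
open CategoryTheory AlgebraicGeometry
open FlatMor

namespace Groth.Agent.S10877


open CategoryTheory AlgebraicGeometry in
theorem injective_of_dense {X Y : Scheme.{u}} (f : X ⟶ Y) [IsSeparated f] {ι : Type u}
    (U : ι → X.Opens) (hU : ⨆ i, U i = ⊤) (hd : ∀ i, Dense (U i : Set X))
    (h : ∀ i, IsOpenImmersion ((U i).ι ≫ f)) : Function.Injective f := by
  intro x x' hxx'
  have hx : x ∈ ⨆ i, U i := hU ▸ trivial
  have hx' : x' ∈ ⨆ i, U i := hU ▸ trivial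
  rw [TopologicalSpace.Opens.mem_iSup] at hx hx'
  obtain ⟨i, hi⟩ := hx
  obtain ⟨j, hj⟩ := hx'
  let gi := (U i).ι ≫ f
  let gj := (U j).ι ≫ f
  have hgi : IsOpenImmersion gi := h i
  have hgj : IsOpenImmersion gj := h j
  let m := Limits.pullback.map gi gj f f (U i).ι (U j).ι (𝟙 Y) (by simp [gi]) (by simp [gj])
  obtain ⟨z, hz1, hz2⟩ := Scheme.Pullback.exists_preimage_pullback (f := f) (g := f) x x' hxx'
  have hrange : Set.range m = Limits.pullback.fst f f ⁻¹' Set.range (U i).ι ∩
      Limits.pullback.snd f f ⁻¹' Set.range (U j).ι := Scheme.Pullback.range_map ..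
  have hzm : z ∈ Set.range m := by
    rw [hrange]; simp only [Scheme.Opens.range_ι]
    exact ⟨by rw [Set.mem_preimage, hz1]; exact hi, by rw [Set.mem_preimage, hz2]; exact hj⟩
  obtain ⟨t, rfl⟩ := hzm
  have hΔ : IsClosed (Set.range (Limits.pullback.diagonal f)) :=
    (Limits.pullback.diagonal f).isClosedEmbedding.isClosed_range
  have hC : IsClosed (m ⁻¹' Set.range (Limits.pullback.diagonal f)) := hΔ.preimage m.continuous
  let P1 := Limits.pullback.fst gi gj
  let A : Set (U i) := (U i).ι ⁻¹' (U j : Set X)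
  have hA : Dense A := (hd j).preimage (U i).ι.isOpenEmbedding.isOpenMap
  have hS0 : Dense (P1 ⁻¹' A) := hA.preimage P1.isOpenEmbedding.isOpenMap
  have hsub : P1 ⁻¹' A ⊆ m ⁻¹' Set.range (Limits.pullback.diagonal f) := by
    intro s hs
    let V := (U i) ⊓ (U j)
    let l : V.toScheme ⟶ Limits.pullback gi gj :=
      Limits.pullback.lift (X.homOfLE inf_le_left) (X.homOfLE inf_le_right)
        (by simp only [gi, gj, ← Category.assoc, Scheme.homOfLE_ι])
    have hl1 : l ≫ P1 = X.homOfLE inf_le_left := Limits.pullback.lift_fst _ _ _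
    have hlm : l ≫ m = V.ι ≫ Limits.pullback.diagonal f := by
      apply Limits.pullback.hom_ext
      · rw [Category.assoc, Category.assoc, Limits.pullback.diagonal_fst, Category.comp_id]
        erw [Limits.pullback.lift_fst]
        rw [← Category.assoc, Limits.pullback.lift_fst, Scheme.homOfLE_ι]
      · rw [Category.assoc, Category.assoc, Limits.pullback.diagonal_snd, Category.comp_id]
        erw [Limits.pullback.lift_snd]
        rw [← Category.assoc, Limits.pullback.lift_snd, Scheme.homOfLE_ι]
    let v : (V : Scheme.{u}) := ⟨(U i).ι (P1 s), ⟨(P1 s).2, hs⟩⟩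
    have hv : l v = s := by
      apply P1.isOpenEmbedding.injective
      have e1 : P1 (l v) = (l ≫ P1) v := (Scheme.Hom.comp_apply l P1 v).symm
      rw [e1, hl1]
      exact Scheme.homOfLE_apply' _ _ _
    refine ⟨V.ι v, ?_⟩
    have e2 : (Limits.pullback.diagonal f) (V.ι v) = (V.ι ≫ Limits.pullback.diagonal f) v :=
      (Scheme.Hom.comp_apply _ _ v).symm
    have e3 : m (l v) = (l ≫ m) v := (Scheme.Hom.comp_apply _ _ v).symm
    show (Limits.pullback.diagonal f) (V.ι v) = m s
    rw [← hv, e2, e3, hlm]
  have huniv : m ⁻¹' Set.range (Limits.pullback.diagonal f) = Set.univ := by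
    apply Set.eq_univ_of_univ_subset
    rw [← hS0.closure_eq]
    exact closure_minimal hsub hC
  have ht : t ∈ m ⁻¹' Set.range (Limits.pullback.diagonal f) := huniv ▸ Set.mem_univ t
  obtain ⟨w, hw⟩ := ht
  rw [← hz1, ← hz2, ← hw, ← Scheme.Hom.comp_apply, ← Scheme.Hom.comp_apply,
    Limits.pullback.diagonal_fst, Limits.pullback.diagonal_snd]


/-- A separated morphism f : X → Y, with X having finitely many irreducible components, which restricts
to an open immersion on each member of a cover of X by dense open subsets, is an open immersion. -/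
theorem result {X Y : Scheme.{u}} (f : X ⟶ Y) [IsSeparated f]
    (hfin : (irreducibleComponents (X : Type u)).Finite) {ι : Type u} (U : ι → X.Opens)
    (hU : ⨆ i, U i = ⊤) (hd : ∀ i, Dense (U i : Set X)) (h : ∀ i, IsOpenImmersion ((U i).ι ≫ f)) :
    IsOpenImmersion f := by
  exact IsOpenImmersion.of_openCover_source f (X.openCoverOfIsOpenCover U hU)
    (injective_of_dense f U hU hd h) h

end Groth.Agent.S10877
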