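import Groth.Statements.S10886

set_option autoImplicit false
universe u
open CategoryTheory AlgebraicGeometry
open Curves

namespace Groth.Agent.S10886


open CategoryTheory AlgebraicGeometry Topology TopologicalSpace in
theorem key {X : Scheme.{u}} [IsNoetherian X] [IrreducibleSpace X] (hX : topologicalKrullDim X = 1)
    (Z : Set X) (hZ : IsClosed Z) (hZne : Z ≠ Set.univ) :
    Z.Finite ∧ ∀ x ∈ Z, IsClosed ({x} : Set X) := by
  have hpt : ∀ z ∈ Z, IsClosed ({z} : Set X) := by
    intro z hz
    by_contra hnc
    have : ∃ z' ∈ closure ({z} : Set X), z' ≠ z := by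
      by_contra h
      push Not at h
      apply hnc
      have : closure ({z} : Set X) = {z} :=
        Set.Subset.antisymm (fun w hw => h w hw) subset_closure
      rw [← this]; exact isClosed_closure
    obtain ⟨z', hz'c, hz'ne⟩ := this
    let A : IrreducibleCloseds X := ⟨closure {z'}, isIrreducible_singleton.closure, isClosed_closure⟩
    let B : IrreducibleCloseds X := ⟨closure {z}, isIrreducible_singleton.closure, isClosed_closure⟩
    let C : IrreducibleCloseds X := ⟨Set.univ, IrreducibleSpace.isIrreducible_univ X, isClosed_univ⟩
    have hAB : A < B := by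
      refine lt_of_le_of_ne ?_ ?_
      · exact closure_minimal (Set.singleton_subset_iff.2 hz'c) isClosed_closure
      · intro h
        have h' : closure ({z'} : Set X) = closure {z} := congrArg SetLike.coe h
        apply hz'ne
        have h1 : z' ⤳ z := by rw [specializes_iff_closure_subset, h']
        have h2 : z ⤳ z' := by rw [specializes_iff_closure_subset, h']
        exact (h1.antisymm h2).eq
    have hBC : B < C := by
      refine lt_of_le_of_ne (fun _ _ => Set.mem_univ _) ?_
      intro h
      have h' : closure ({z} : Set X) = Set.univ := congrArg SetLike.coe h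
      apply hZne
      exact Set.eq_univ_of_univ_subset (h' ▸ closure_minimal (Set.singleton_subset_iff.2 hz) hZ)
    let f : Fin 3 → IrreducibleCloseds X := ![A, B, C]
    have hf : StrictMono f := by
      refine Fin.strictMono_iff_lt_succ.2 fun i => ?_
      fin_cases i
      · exact hAB
      · exact hBC
    let l : LTSeries (IrreducibleCloseds X) := LTSeries.mk 2 f hf
    have hlen := Order.LTSeries.length_le_krullDim l
    have hl : l.length = 2 := rfl
    have : ((2 : ℕ) : WithBot ℕ∞) ≤ topologicalKrullDim X := by rw [← hl]; exact hlen
    rw [hX] at this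
    exact absurd this (by decide)
  refine ⟨?_, hpt⟩
  obtain ⟨S, hSf, hSc, hSi, hSU⟩ := NoetherianSpace.exists_finite_set_isClosed_irreducible hZ
  rw [hSU]
  refine hSf.sUnion fun t ht => ?_
  obtain ⟨g, hg⟩ := QuasiSober.sober (hSi t ht) (hSc t ht)
  have hgt : g ∈ t := hg.mem
  have hgZ : g ∈ Z := hSU ▸ Set.mem_sUnion_of_mem hgt ht
  have : t = {g} := by rw [← hg.def, (hpt g hgZ).closure_eq]
  rw [this]; exact Set.finite_singleton g


/-- In an irreducible Noetherian scheme of dimension one every constructible subset is either a finite
set of closed points or the complement of such a set; in particular it is open or closed. -/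
theorem result {X : Scheme.{u}} [IsNoetherian X]
    [IrreducibleSpace X] (hX : topologicalKrullDim X = 1) (s : Set X) (hs : Topology.IsConstructible s) :
    (s.Finite ∧ (∀ x ∈ s, IsClosed ({x} : Set X))) ∨ (sᶜ.Finite ∧ ∀ x ∈ sᶜ, IsClosed ({x} : Set X)) := by
  have hFsub : ∀ s t : Set X, s ⊆ t → (t.Finite ∧ ∀ x ∈ t, IsClosed ({x} : Set X)) →
      (s.Finite ∧ ∀ x ∈ s, IsClosed ({x} : Set X)) :=
    fun s t hst ht => ⟨ht.1.subset hst, fun x hx => ht.2 x (hst hx)⟩
  induction hs using Topology.IsConstructible.empty_union_induction with
  | open_retrocompact U hU _ =>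
    by_cases hUe : U = ∅
    · left; rw [hUe]; exact ⟨Set.finite_empty, by simp⟩
    · right
      refine key hX Uᶜ hU.isClosed_compl ?_
      intro h; apply hUe; simpa using h
  | union s hs t ht ihs iht =>
    rcases ihs with h1 | h1 <;> rcases iht with h2 | h2
    · left; exact ⟨h1.1.union h2.1, fun x hx => hx.elim (h1.2 x) (h2.2 x)⟩
    · right; exact hFsub _ _ (by rw [Set.compl_union]; exact Set.inter_subset_right) h2
    · right; exact hFsub _ _ (by rw [Set.compl_union]; exact Set.inter_subset_left) h1
    · right; exact hFsub _ _ (by rw [Set.compl_union]; exact Set.inter_subset_left) h1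
  | compl s hs ih =>
    rcases ih with h | h
    · right; rwa [compl_compl]
    · left; exact h

end Groth.Agent.S10886
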