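import Groth.Statements.S10891

set_option autoImplicit false
universe u
open CAlg

namespace Groth.Agent.S10891


open MvPolynomial

theorem aeval_monomial_eq (k : Type u) [Field k] (a : ℕ) (ζ : k) (s : Fin 2 →₀ ℕ) (c : k) :
    MvPolynomial.aeval (fun i : Fin 2 => if i = 0 then MvPolynomial.C ζ⁻¹ * MvPolynomial.X 0
        else MvPolynomial.C (ζ⁻¹ ^ a) * (MvPolynomial.X 1 : MvPolynomial (Fin 2) k)) (monomial s c) =
      monomial s (c * ζ⁻¹ ^ (s 0 + a * s 1)) := by
  rw [aeval_monomial, monomial_eq, Finsupp.prod_fintype _ _ (by simp),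
    Finsupp.prod_fintype _ _ (by simp), Fin.prod_univ_two, Fin.prod_univ_two]
  simp only [Fin.isValue, ↓reduceIte, one_ne_zero, algebraMap_eq, mul_pow, pow_add, pow_mul,
    map_mul, map_pow]
  ring

theorem coeff_aeval_eq (k : Type u) [Field k] (a : ℕ) (ζ : k) (p : MvPolynomial (Fin 2) k)
    (t : Fin 2 →₀ ℕ) :
    coeff t (MvPolynomial.aeval (fun i : Fin 2 => if i = 0 then MvPolynomial.C ζ⁻¹ * MvPolynomial.X 0
        else MvPolynomial.C (ζ⁻¹ ^ a) * (MvPolynomial.X 1 : MvPolynomial (Fin 2) k)) p) =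
      coeff t p * ζ⁻¹ ^ (t 0 + a * t 1) := by
  classical
  induction p using MvPolynomial.induction_on' with
  | monomial s c =>
    rw [aeval_monomial_eq, coeff_monomial, coeff_monomial]
    by_cases h : s = t
    · subst h; simp
    · simp [h]
  | add p q hp hq =>
    rw [map_add, coeff_add, coeff_add, hp, hq, add_mul]

theorem monomial_mem (k : Type u) [Field k] (r a : ℕ) (hr : 0 < r) (i j : ℕ)
    (hij : r ∣ i + a * j) :
    (X 0 ^ i * X 1 ^ j : MvPolynomial (Fin 2) k) ∈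
      Algebra.adjoin k {q : MvPolynomial (Fin 2) k | ∃ i j : ℕ, i ≤ r ∧ j ≤ r ∧ ¬ (i = r ∧ j = r) ∧
        r ∣ i + a * j ∧ q = MvPolynomial.X 0 ^ i * MvPolynomial.X 1 ^ j} := by
  have e : (X 0 ^ i * X 1 ^ j : MvPolynomial (Fin 2) k) =
      (X 0 ^ r * X 1 ^ 0) ^ (i / r) * (X 0 ^ 0 * X 1 ^ r) ^ (j / r) *
        (X 0 ^ (i % r) * X 1 ^ (j % r)) := by
    conv_lhs => rw [← Nat.div_add_mod i r, ← Nat.div_add_mod j r]
    rw [pow_add, pow_add, pow_mul, pow_mul]
    simp only [pow_zero, mul_one, one_mul]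
    ring
  rw [e]
  have hi := Nat.mod_lt i hr
  have hj := Nat.mod_lt j hr
  refine Subalgebra.mul_mem _ (Subalgebra.mul_mem _ (Subalgebra.pow_mem _ ?_ _)
    (Subalgebra.pow_mem _ ?_ _)) ?_
  · exact Algebra.subset_adjoin ⟨r, 0, le_rfl, Nat.zero_le _, by omega, by simp, rfl⟩
  · exact Algebra.subset_adjoin ⟨0, r, Nat.zero_le _, le_rfl, by omega,
      by simp, rfl⟩
  · refine Algebra.subset_adjoin ⟨i % r, j % r, hi.le, hj.le, by omega, ?_, rfl⟩
    have h1 : i + a * j = r * (i / r + a * (j / r)) + (i % r + a * (j % r)) := by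
      conv_lhs => rw [← Nat.div_add_mod i r, ← Nat.div_add_mod j r]
      ring
    rw [h1] at hij
    exact (Nat.dvd_add_right (dvd_mul_right r _)).1 hij


/-- Let k be a field containing a primitive r-th root of unity ζ and 0 < a < r. The cyclic group of r-th
roots of unity acts on k[X, Y] through the generator X ↦ ζ⁻¹ X, Y ↦ ζ^(−a) Y, and the ring of
invariants of this action is generated as a k-algebra by the monomials X^i Y^j with 0 ≤ i, j ≤ r,
(i, j) ≠ (r, r) and i + a·j ≡ 0 (mod r). (The printed statement writes n for the order of the group,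
which the surrounding section calls r.) -/
theorem result (k : Type u) [Field k] (r a : ℕ) (ha : 0 < a) (har : a < r)
    (ζ : k) (hζ : IsPrimitiveRoot ζ r) (p : MvPolynomial (Fin 2) k) :
    MvPolynomial.aeval (fun i : Fin 2 => if i = 0 then MvPolynomial.C ζ⁻¹ * MvPolynomial.X 0
        else MvPolynomial.C (ζ⁻¹ ^ a) * (MvPolynomial.X 1 : MvPolynomial (Fin 2) k)) p = p ↔
      p ∈ Algebra.adjoin k {q : MvPolynomial (Fin 2) k | ∃ i j : ℕ, i ≤ r ∧ j ≤ r ∧ ¬ (i = r ∧ j = r) ∧
        r ∣ i + a * j ∧ q = MvPolynomial.X 0 ^ i * MvPolynomial.X 1 ^ j} := by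
  have hr : 0 < r := lt_trans ha har
  constructor
  · intro hp
    have hdiv : ∀ s ∈ p.support, r ∣ s 0 + a * s 1 := by
      intro s hs
      have h1 := congrArg (coeff s) hp
      rw [coeff_aeval_eq] at h1
      have hc : coeff s p ≠ 0 := MvPolynomial.mem_support_iff.1 hs
      have h2 : ζ⁻¹ ^ (s 0 + a * s 1) = 1 := by
        have := h1.trans (mul_one (coeff s p)).symm
        exact mul_left_cancel₀ hc this
      exact (hζ.inv.pow_eq_one_iff_dvd _).1 h2
    rw [p.as_sum]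
    refine Subalgebra.sum_mem _ fun s hs => ?_
    rw [monomial_eq]
    refine Subalgebra.mul_mem _ (Subalgebra.algebraMap_mem _ _) ?_
    rw [Finsupp.prod_fintype _ _ (by simp), Fin.prod_univ_two]
    exact monomial_mem k r a hr (s 0) (s 1) (hdiv s hs)
  · intro hp
    have hle : Algebra.adjoin k {q : MvPolynomial (Fin 2) k | ∃ i j : ℕ, i ≤ r ∧ j ≤ r ∧
        ¬ (i = r ∧ j = r) ∧ r ∣ i + a * j ∧ q = MvPolynomial.X 0 ^ i * MvPolynomial.X 1 ^ j} ≤
        AlgHom.equalizer (MvPolynomial.aeval (fun i : Fin 2 => if i = 0 then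
          MvPolynomial.C ζ⁻¹ * MvPolynomial.X 0 else
          MvPolynomial.C (ζ⁻¹ ^ a) * (MvPolynomial.X 1 : MvPolynomial (Fin 2) k)))
          (AlgHom.id k _) := by
      refine Algebra.adjoin_le ?_
      rintro q ⟨i, j, -, -, -, hdvd, rfl⟩
      change MvPolynomial.aeval _ _ = _
      have h1 : ζ⁻¹ ^ (i + a * j) = 1 := (hζ.inv.pow_eq_one_iff_dvd _).2 hdvd
      simp only [map_mul, map_pow, MvPolynomial.aeval_X, Fin.isValue, ↓reduceIte, one_ne_zero,
        AlgHom.id_apply]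
      rw [pow_add, pow_mul] at h1
      calc ((C ζ⁻¹ : MvPolynomial (Fin 2) k) * X 0) ^ i * (C ζ⁻¹ ^ a * X 1) ^ j
          = C (ζ⁻¹ ^ i * (ζ⁻¹ ^ a) ^ j) * (X 0 ^ i * X 1 ^ j) := by
            simp only [mul_pow, map_mul, map_pow]; ring
        _ = X 0 ^ i * X 1 ^ j := by rw [h1, map_one, one_mul]
    exact hle hp

end Groth.Agent.S10891
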