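import Groth.Statements.S10898
import Mathlib.RingTheory.Ideal.KrullsHeightTheorem
import Mathlib.RingTheory.Flat.FaithfullyFlat.Basic

set_option autoImplicit false
universe u
open Polynomial
open WDiv

namespace Groth.Agent.S10898



/-- Let A be a Noetherian integral domain and P a prime ideal of height 1 of the polynomial ring A[X].
Then either P meets A in 0 only, or its contraction p = P ∩ A is a prime of height 1 of A and P is
the extension p·A[X]. (The published lemma also assumes A regular in codimension 1; that hypothesis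
is not used for this assertion.) -/
theorem result (A : Type u) [CommRing A] [IsDomain A]
    [IsNoetherianRing A] (P : Ideal A[X]) [P.IsPrime] (hP : P.height = 1) :
    P.comap (C : A →+* A[X]) = ⊥ ∨
      ((P.comap (C : A →+* A[X])).height = 1 ∧ P = (P.comap (C : A →+* A[X])).map C) := by
  by_cases hp : P.comap (C : A →+* A[X]) = ⊥
  · left; exact hp
  right
  set p := P.comap (C : A →+* A[X]) with hpdef
  have hpprime : p.IsPrime := Ideal.comap_isPrime C P
  have hlies : P.LiesOver p := ⟨rfl⟩
  have hge : p.height ≤ P.height := by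
    rw [Ideal.height_eq_height_add_of_liesOver_of_hasGoingDown p P]
    exact le_self_add
  have hp1 : 1 ≤ p.height := by
    rw [Order.one_le_iff_ne_zero]
    intro h0
    exact hp (Ideal.height_eq_zero_iff_eq_bot.1 h0)
  refine ⟨le_antisymm (hP ▸ hge) hp1, ?_⟩
  have hq : (p.map (C : A →+* A[X])).IsPrime := Ideal.isPrime_map_C_of_isPrime
  have hle : p.map (C : A →+* A[X]) ≤ P := Ideal.map_comap_le
  by_contra hne
  have hlt : p.map (C : A →+* A[X]) < P := lt_of_le_of_ne hle (Ne.symm hne)
  have h1 := Ideal.height_add_one_le_of_lt_of_isPrime hlt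
  rw [hP] at h1
  have h0 : (p.map (C : A →+* A[X])).height = 0 := by
    rcases eq_or_ne (p.map (C : A →+* A[X])).height 0 with h | h
    · exact h
    exfalso
    have h2 : 1 ≤ (p.map (C : A →+* A[X])).height := Order.one_le_iff_ne_zero.2 h
    have h3 : (1 : ℕ∞) + 1 ≤ 1 := le_trans (add_le_add_left h2 1) h1
    exact absurd h3 (by decide)
  rw [Ideal.height_eq_zero_iff_eq_bot] at h0
  apply hp
  rw [eq_bot_iff]
  intro a ha
  have : C a ∈ p.map (C : A →+* A[X]) := Ideal.mem_map_of_mem C ha
  rw [h0, Ideal.mem_bot, C_eq_zero] at this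
  rw [this]; exact Submodule.zero_mem _

end Groth.Agent.S10898
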