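import Groth.Statements.S10944
import Mathlib.AlgebraicGeometry.Morphisms.UniversallyOpen

set_option autoImplicit false
universe u
open CategoryTheory AlgebraicGeometry
open FlatMor

namespace Groth.Agent.S10944



/-- Let f : X → Y be a flat morphism of Noetherian schemes and Y' an irreducible component of Y. Then
f⁻¹(Y') is the union of the irreducible components Z of X with f(Z) ⊆ Y'. -/
theorem result {X Y : Scheme.{u}}
    [IsNoetherian X] [IsNoetherian Y] (f : X ⟶ Y) [Flat f]
    (Y' : Set ↥Y) (hY' : Y' ∈ irreducibleComponents ↥Y) :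
    f.base ⁻¹' Y' = ⋃₀ {Z : Set ↥X | Z ∈ irreducibleComponents ↥X ∧ f.base '' Z ⊆ Y'} := by
  apply Set.Subset.antisymm
  · intro x hx
    have hY'irr : IsIrreducible Y' := hY'.1
    have hY'cl : IsClosed Y' := isClosed_of_mem_irreducibleComponents _ hY'
    have hη : IsGenericPoint hY'irr.genericPoint Y' := by
      have := hY'irr.isGenericPoint_genericPoint_closure; rwa [hY'cl.closure_eq] at this
    have hspec : hY'irr.genericPoint ⤳ f.base x := hη.specializes hx
    obtain ⟨x', hx'x, hfx'⟩ := (Flat.generalizingMap f) hspec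
    obtain ⟨Z, hZ, hsub⟩ := exists_mem_irreducibleComponents_subset_of_isIrreducible
      (closure {x'}) isIrreducible_singleton.closure
    refine ⟨Z, ⟨hZ, ?_⟩, hsub (specializes_iff_mem_closure.1 hx'x)⟩
    have hZcl := isClosed_of_mem_irreducibleComponents _ hZ
    have hζ : IsGenericPoint hZ.1.genericPoint Z := by
      have := hZ.1.isGenericPoint_genericPoint_closure; rwa [hZcl.closure_eq] at this
    have hζx' : hZ.1.genericPoint ⤳ x' := hζ.specializes (hsub (subset_closure rfl))
    have hfζ : f.base hZ.1.genericPoint ⤳ hY'irr.genericPoint := by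
      rw [← hfx']; exact hζx'.map f.continuous
    have hcl : Y' ⊆ closure {f.base hZ.1.genericPoint} := by
      rw [← hη.def]
      exact closure_minimal (Set.singleton_subset_iff.2 (specializes_iff_mem_closure.1 hfζ))
        isClosed_closure
    have heq : closure {f.base hZ.1.genericPoint} = Y' :=
      (hY'.2 isIrreducible_singleton.closure hcl).antisymm hcl
    rintro _ ⟨z, hz, rfl⟩
    rw [← heq]
    have hz' : hZ.1.genericPoint ⤳ z := by rw [specializes_iff_mem_closure, hζ.def]; exact hz
    exact specializes_iff_mem_closure.1 (hz'.map f.continuous)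
  · rintro x ⟨Z, ⟨hZ, hfZ⟩, hxZ⟩
    exact hfZ ⟨x, hxZ, rfl⟩

end Groth.Agent.S10944
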