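import Groth.Statements.S10945

set_option autoImplicit false
universe u
open CategoryTheory AlgebraicGeometry Opposite
open Coherent

namespace Groth.Agent.S10945


open CategoryTheory AlgebraicGeometry Opposite

/-- The unit module and the inclusions into a free module, typed in `X.Modules`. -/
noncomputable abbrev unitM (X : Scheme.{u}) : X.Modules := SheafOfModules.unit X.ringCatSheaf

noncomputable abbrev freeM (X : Scheme.{u}) (ι : Type u) : X.Modules := SheafOfModules.free ι

noncomputable def ιM (X : Scheme.{u}) {ι : Type u} (i : ι) : unitM X ⟶ freeM X ι :=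
  SheafOfModules.ιFree i

theorem freeM_hom_ext {X : Scheme.{u}} {ι : Type u} {T : X.Modules} (a b : freeM X ι ⟶ T)
    (h : ∀ i, ιM X i ≫ a = ιM X i ≫ b) : a = b :=
  Limits.Cofan.IsColimit.hom_ext (SheafOfModules.isColimitFreeCofan ι) a b h

noncomputable def freeM_desc {X : Scheme.{u}} {ι : Type u} {T : X.Modules}
    (s : ι → (unitM X ⟶ T)) : freeM X ι ⟶ T :=
  Limits.Cofan.IsColimit.desc (SheafOfModules.isColimitFreeCofan ι) s

theorem freeM_fac {X : Scheme.{u}} {ι : Type u} {T : X.Modules}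
    (s : ι → (unitM X ⟶ T)) (i : ι) : ιM X i ≫ freeM_desc s = s i :=
  Limits.Cofan.IsColimit.fac (SheafOfModules.isColimitFreeCofan ι) s i


/-- Let X be a scheme and 0 → F' → F → F'' → 0 a short exact sequence of O_X-modules whose map on global
sections Γ(X, F) → Γ(X, F'') is surjective. If F' and F'' are generated by global sections (each is
a quotient of a free O_X-module), then F is generated by global sections. -/
theorem result (X : Scheme.{u})
    (S : ShortComplex X.Modules) (hS : S.ShortExact)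
    (hsurj : Function.Surjective (S.g.val.app (op ⊤)).hom)
    (h1 : Curv2.IsGloballyGenerated S.X₁) (h3 : Curv2.IsGloballyGenerated S.X₃) :
    Curv2.IsGloballyGenerated S.X₂ := by
  obtain ⟨ι₁, p₁, hp₁⟩ := h1
  obtain ⟨ι₃, p₃, hp₃⟩ := h3
  let p₁' : freeM X ι₁ ⟶ S.X₁ := p₁
  let p₃' : freeM X ι₃ ⟶ S.X₃ := p₃
  have hp₁' : Epi p₁' := hp₁
  have hp₃' : Epi p₃' := hp₃
  clear_value p₁' p₃'
  have hlift : ∀ j : ι₃, ∃ t : unitM X ⟶ S.X₂, t ≫ S.g = ιM X j ≫ p₃' := by
    intro j
    let σ := S.X₃.unitHomEquiv (ιM X j ≫ p₃')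
    obtain ⟨a, ha⟩ := hsurj (σ.1 (op ⊤))
    let τ : S.X₂.sections := PresheafOfModules.sectionsMk
      (fun U => S.X₂.val.map (homOfLE le_top : U.unop ⟶ ⊤).op a) (by
        intro U V f
        rw [← PresheafOfModules.map_comp_apply]
        rfl)
    refine ⟨S.X₂.unitHomEquiv.symm τ, ?_⟩
    refine (SheafOfModules.unitHomEquiv_symm_comp τ S.g).trans ?_
    apply S.X₃.unitHomEquiv.injective
    refine (Equiv.apply_symm_apply _ _).trans ?_
    ext U
    change (S.g.val.app U) (S.X₂.val.map (homOfLE le_top : U.unop ⟶ ⊤).op a) = σ.1 U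
    rw [PresheafOfModules.naturality_apply]
    change S.X₃.val.map _ ((S.g.val.app (op ⊤)).hom a) = _
    rw [ha]
    exact σ.2 _
  choose t ht using hlift
  let q : freeM X (ι₁ ⊕ ι₃) ⟶ S.X₂ :=
    freeM_desc (fun k => Sum.elim (fun i => ιM X i ≫ p₁' ≫ S.f) t k)
  have hq : ∀ k, ιM X k ≫ q = Sum.elim (fun i => ιM X i ≫ p₁' ≫ S.f) t k :=
    fun k => freeM_fac _ k
  refine ⟨ι₁ ⊕ ι₃, q, ?_⟩
  apply Abelian.epi_of_cokernel_π_eq_zero
  let c : S.X₂ ⟶ Limits.cokernel q := Limits.cokernel.π q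
  have hqc : q ≫ c = 0 := Limits.cokernel.condition q
  have hfc : S.f ≫ c = 0 := by
    rw [← cancel_epi p₁']
    refine freeM_hom_ext _ _ fun i => ?_
    have := hq (Sum.inl i)
    simp only [Sum.elim_inl] at this
    rw [Limits.comp_zero, Limits.comp_zero]
    calc (ιM X i ≫ p₁') ≫ S.f ≫ c = (ιM X i ≫ p₁' ≫ S.f) ≫ c := by simp only [Category.assoc]
      _ = (ιM X (Sum.inl i) ≫ q) ≫ c := by rw [this]
      _ = 0 := by rw [Category.assoc, hqc, Limits.comp_zero]
  let c' := hS.gIsCokernel.desc (Limits.CokernelCofork.ofπ c hfc)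
  have hc' : S.g ≫ c' = c := hS.gIsCokernel.fac (Limits.CokernelCofork.ofπ c hfc)
    Limits.WalkingParallelPair.one
  have hc'0 : c' = 0 := by
    rw [← cancel_epi p₃']
    refine freeM_hom_ext _ _ fun j => ?_
    have := hq (Sum.inr j)
    simp only [Sum.elim_inr] at this
    rw [Limits.comp_zero, Limits.comp_zero]
    calc (ιM X j ≫ p₃') ≫ c' = (t j ≫ S.g) ≫ c' := by rw [ht j]
      _ = t j ≫ c := by rw [Category.assoc, hc']
      _ = (ιM X (Sum.inr j) ≫ q) ≫ c := by rw [this]
      _ = 0 := by rw [Category.assoc, hqc, Limits.comp_zero]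
  change c = 0
  rw [← hc', hc'0, Limits.comp_zero]

end Groth.Agent.S10945
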