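import Groth.Statements.S10953
import Mathlib.AlgebraicGeometry.Morphisms.Immersion

set_option autoImplicit false
universe u
open RedSep

namespace Groth.Agent.S10953



open AlgebraicGeometry CategoryTheory in
/-- For a morphism of schemes f : X → S to an affine scheme S such that any two points of X with the
same image in S lie in one common affine open subset of X, the morphism f is separated. -/
theorem result {X S : Scheme.{u}} [IsAffine S] (f : X ⟶ S)
    (h : ∀ x y : X, f x = f y → ∃ U : X.Opens, IsAffineOpen U ∧ x ∈ U ∧ y ∈ U) :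
    IsSeparated f := by
  constructor
  apply IsClosedImmersion.of_isPreimmersion
  rw [← closure_subset_iff_isClosed]
  intro z hz
  have hxy : f (Limits.pullback.fst f f z) = f (Limits.pullback.snd f f z) := by
    rw [← Scheme.Hom.comp_apply, ← Scheme.Hom.comp_apply, Limits.pullback.condition]
  obtain ⟨W, hW, hxW, hyW⟩ := h _ _ hxy
  have : IsAffine W := hW
  let fW := W.ι ≫ f
  let m := Limits.pullback.map fW fW f f W.ι W.ι (𝟙 S) (by simp [fW]) (by simp [fW])
  have hrange : Set.range m = Limits.pullback.fst f f ⁻¹' Set.range W.ι ∩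
      Limits.pullback.snd f f ⁻¹' Set.range W.ι :=
    Scheme.Pullback.range_map ..
  have hzm : z ∈ Set.range m := by
    rw [hrange]; simp only [Scheme.Opens.range_ι]; exact ⟨hxW, hyW⟩
  obtain ⟨w, rfl⟩ := hzm
  have hnat : Limits.pullback.diagonal fW ≫ m = W.ι ≫ Limits.pullback.diagonal f := by
    apply Limits.pullback.hom_ext
    · rw [Category.assoc, Category.assoc]
      erw [Limits.pullback.lift_fst]
      rw [← Category.assoc, Limits.pullback.diagonal_fst, Category.id_comp, Limits.pullback.diagonal_fst,
        Category.comp_id]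
    · rw [Category.assoc, Category.assoc]
      erw [Limits.pullback.lift_snd]
      rw [← Category.assoc, Limits.pullback.diagonal_snd, Category.id_comp, Limits.pullback.diagonal_snd,
        Category.comp_id]
  have hcl : IsClosed (Set.range (Limits.pullback.diagonal fW)) :=
    (Limits.pullback.diagonal fW).isClosedEmbedding.isClosed_range
  have hw : w ∈ closure (Set.range (Limits.pullback.diagonal fW)) := by
    rw [mem_closure_iff]
    intro N hN hwN
    have hmN : IsOpen (m '' N) := m.isOpenEmbedding.isOpenMap N hN
    obtain ⟨_, ⟨n, hnN, hn⟩, ⟨x', hx'⟩⟩ := mem_closure_iff.1 hz (m '' N) hmN ⟨w, hwN, rfl⟩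
    have hx'W : x' ∈ Set.range W.ι := by
      have h1 : Limits.pullback.fst f f (m n) ∈ Set.range W.ι := by
        have hmem : m n ∈ Set.range m := ⟨n, rfl⟩
        rw [hrange] at hmem
        exact hmem.1
      rw [hn, ← hx', ← Scheme.Hom.comp_apply, Limits.pullback.diagonal_fst] at h1
      simpa using h1
    obtain ⟨x'', rfl⟩ := hx'W
    refine ⟨n, hnN, x'', ?_⟩
    apply m.isOpenEmbedding.injective
    rw [hn, ← hx', ← Scheme.Hom.comp_apply, hnat, Scheme.Hom.comp_apply]
  rw [hcl.closure_eq] at hw
  obtain ⟨x'', rfl⟩ := hw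
  exact ⟨W.ι x'', by rw [← Scheme.Hom.comp_apply, ← Scheme.Hom.comp_apply, ← hnat]⟩

end Groth.Agent.S10953
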