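import Groth.Statements.S10957
import Mathlib.RingTheory.DiscreteValuationRing.TFAE
import Mathlib.RingTheory.Ideal.AssociatedPrime.Finiteness

set_option autoImplicit false
universe u
open CAlg

namespace Groth.Agent.S10957



/-- Let A be a Noetherian local integral domain that is normal (integrally closed in its field of
fractions). If there is a nonzero element a of A such that the maximal ideal of A is an associated
prime of the A-module A/(a), then A is a discrete valuation ring. (The other conditions listed in
the published result — normal of dimension one, maximal ideal nonzero principal, regular of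
dimension one — are the library's standard characterisations; this row records the criterion through
an associated prime.) -/
theorem result
    (A : Type u) [CommRing A] [IsDomain A] [IsNoetherianRing A] [IsLocalRing A] [IsIntegrallyClosed A]
    (a : A) (ha : a ≠ 0)
    (hass : IsLocalRing.maximalIdeal A ∈ associatedPrimes A (A ⧸ Ideal.span ({a} : Set A))) :
    IsDiscreteValuationRing A := by
  have h1 := (Submodule.isAssociatedPrime_iff
    (N := (⊥ : Submodule A (A ⧸ Ideal.span ({a} : Set A))))).1 hass
  obtain ⟨-, x, hx⟩ := h1
  obtain ⟨b, rfl⟩ := Ideal.Quotient.mk_surjective x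
  have hmem : ∀ r, r ∈ IsLocalRing.maximalIdeal A ↔ r * b ∈ Ideal.span ({a} : Set A) := by
    intro r
    rw [hx, Submodule.mem_colon_singleton, Submodule.mem_bot, Algebra.smul_def,
      Ideal.Quotient.algebraMap_eq, ← map_mul, Ideal.Quotient.eq_zero_iff_mem]
  have hbnot : b ∉ Ideal.span ({a} : Set A) := by
    intro hb
    have := (hmem 1).2 (by simpa using hb)
    exact (IsLocalRing.maximalIdeal.isMaximal A).ne_top ((Ideal.eq_top_iff_one _).2 this)
  have hb0 : b ≠ 0 := by
    rintro rfl; exact hbnot (Submodule.zero_mem _)
  have ham : a ∈ IsLocalRing.maximalIdeal A :=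
    (hmem a).2 (Ideal.mul_mem_right b _ (Ideal.subset_span rfl))
  have hne : IsLocalRing.maximalIdeal A ≠ ⊥ := by
    intro h; rw [h] at ham; exact ha ((Submodule.mem_bot A).1 ham)
  have hnf : ¬ IsField A := fun hf => hne ((IsLocalRing.isField_iff_maximalIdeal_eq).1 hf)
  refine ((IsDiscreteValuationRing.TFAE A hnf).out 0 4).2 ?_
  by_cases hcase : ∃ r ∈ IsLocalRing.maximalIdeal A, ∃ c : A, IsUnit c ∧ c * a = r * b
  · obtain ⟨r, hr, c, hc, hrc⟩ := hcase
    refine ⟨⟨r, ?_⟩⟩
    apply le_antisymm
    · intro s hs
      obtain ⟨d, hd⟩ := Ideal.mem_span_singleton'.1 ((hmem s).1 hs)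
      obtain ⟨u, rfl⟩ := hc
      rw [Submodule.mem_span_singleton]
      refine ⟨d * ↑u⁻¹, ?_⟩
      apply mul_right_cancel₀ hb0
      have hinv : (↑u⁻¹ : A) * ↑u = 1 := Units.inv_mul u
      change d * ↑u⁻¹ * r * b = s * b
      linear_combination hd - d * ↑u⁻¹ * hrc + d * a * hinv
    · rw [Submodule.span_le, Set.singleton_subset_iff]
      exact hr
  · exfalso
    push Not at hcase
    let K := FractionRing A
    let t : K := algebraMap A K b / algebraMap A K a
    have ha' : algebraMap A K a ≠ 0 :=
      (map_ne_zero_iff _ (IsFractionRing.injective A K)).2 ha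
    let N : Submodule A K := Submodule.map (Algebra.linearMap A K) (IsLocalRing.maximalIdeal A)
    have hN : N ≠ ⊥ := by
      intro h
      apply ha
      have : algebraMap A K a ∈ N := Submodule.mem_map_of_mem ham
      rw [h, Submodule.mem_bot] at this
      exact (map_eq_zero_iff _ (IsFractionRing.injective A K)).1 this
    have hN' : N.FG := (IsNoetherian.noetherian _).map _
    have hint : IsIntegral A t := by
      refine isIntegral_of_smul_mem_submodule N hN hN' t ?_
      intro n hn
      obtain ⟨r, hr, rfl⟩ := Submodule.mem_map.1 hn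
      obtain ⟨c, hc⟩ := Ideal.mem_span_singleton'.1 ((hmem r).1 hr)
      have hcm : c ∈ IsLocalRing.maximalIdeal A := by
        rw [IsLocalRing.mem_maximalIdeal, mem_nonunits_iff]
        exact fun hu => hcase r hr c hu hc
      refine Submodule.mem_map.2 ⟨c, hcm, ?_⟩
      change algebraMap A K c = t • algebraMap A K r
      rw [smul_eq_mul]
      change algebraMap A K c = algebraMap A K b / algebraMap A K a * algebraMap A K r
      rw [div_mul_eq_mul_div, eq_div_iff ha', ← map_mul, ← map_mul, hc, mul_comm]
    obtain ⟨y, hy⟩ := IsIntegrallyClosed.isIntegral_iff.1 hint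
    apply hbnot
    rw [Ideal.mem_span_singleton']
    refine ⟨y, ?_⟩
    apply IsFractionRing.injective A K
    rw [map_mul, hy]
    change algebraMap A K b / algebraMap A K a * algebraMap A K a = algebraMap A K b
    rw [div_mul_cancel₀ _ ha']

end Groth.Agent.S10957
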