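import Groth.Statements.S10967

set_option autoImplicit false
universe u
open CategoryTheory AlgebraicGeometry TopologicalSpace
open MoreMor

namespace Groth.Agent.S10967

lemma aux_basicOpen {X : Scheme.{u}} [CompactSpace X] [QuasiSeparatedSpace X] (h : Γ(X, ⊤))
    (O : X.Opens) (hO : X.basicOpen h ≤ O) (t : Γ(X, O)) (ht : X.basicOpen t ≤ X.basicOpen h) :
    ∃ s : Γ(X, ⊤), X.basicOpen s = X.basicOpen t := by
  have := isLocalization_basicOpen_of_qcqs isCompact_univ isQuasiSeparated_univ h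
  obtain ⟨⟨s, _, n, rfl⟩, hs⟩ := IsLocalization.surj (Submonoid.powers h)
    (X.presheaf.map (homOfLE hO).op t)
  refine ⟨h * s, ?_⟩
  have hu : IsUnit (algebraMap Γ(X, ⊤) Γ(X, X.basicOpen h) (h ^ n)) :=
    IsLocalization.map_units _ (⟨h ^ n, n, rfl⟩ : Submonoid.powers h)
  have e1 : X.basicOpen (algebraMap Γ(X, ⊤) Γ(X, X.basicOpen h) s) =
      X.basicOpen h ⊓ X.basicOpen s :=
    X.basicOpen_res s _
  have e2 := congrArg X.basicOpen hs
  simp only at e2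
  rw [Scheme.basicOpen_mul, Scheme.basicOpen_of_isUnit _ hu, e1, Scheme.basicOpen_res] at e2
  rw [Scheme.basicOpen_mul, ← e2]
  rw [inf_eq_right.mpr ht, inf_eq_left.mpr ht]


/-- Quasi-affine over an affine base: call a morphism f : X → Y quasi-affine when Y has a cover by
affine opens V_i whose preimages f⁻¹(V_i) are quasi-affine schemes (quasi-compact open subschemes of
affine schemes; equivalently quasi-compact with X → Spec Γ(X, O_X) an immersion). If Y is affine and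
f is quasi-affine in this sense, then X is a quasi-affine scheme. -/
theorem result {X Y : Scheme.{u}} [IsAffine Y]
    (f : X ⟶ Y) {ι : Type u} (V : ι → Y.Opens) (hV : iSup V = ⊤) (hVa : ∀ i, IsAffineOpen (V i))
    (hq : ∀ i, Scheme.IsQuasiAffine (↑(f ⁻¹ᵁ V i) : Scheme.{u})) :
    X.IsQuasiAffine := by
  set_option backward.isDefEq.respectTransparency false in
  have hqc : QuasiCompact f := by
    refine HasAffineProperty.of_iSup_eq_top (P := @QuasiCompact)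
      (fun i => (⟨V i, hVa i⟩ : Y.affineOpens)) hV fun i => ?_
    have := hq i
    change CompactSpace (f ⁻¹ᵁ V i)
    infer_instance
  have hqs : QuasiSeparated f := by
    refine HasAffineProperty.of_iSup_eq_top (P := @QuasiSeparated)
      (fun i => (⟨V i, hVa i⟩ : Y.affineOpens)) hV fun i => ?_
    have := hq i
    change QuasiSeparatedSpace (f ⁻¹ᵁ V i)
    infer_instance
  have : CompactSpace X := QuasiCompact.compactSpace_of_compactSpace f
  have : QuasiSeparatedSpace X := quasiSeparatedSpace_of_quasiSeparated f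
  refine Scheme.IsQuasiAffine.of_forall_exists_mem_basicOpen X fun x => ?_
  obtain ⟨i, hi⟩ := TopologicalSpace.Opens.mem_iSup.mp (show f x ∈ iSup V from hV ▸ trivial)
  obtain ⟨_, ⟨_, ⟨g, rfl⟩, rfl⟩, hxg, hgV⟩ :=
    (isBasis_basicOpen Y).exists_subset_of_mem_open hi (V i).2
  have := hq i
  have hhW : X.basicOpen (f.appTop g) ≤ f ⁻¹ᵁ V i := by
    rw [← Scheme.preimage_basicOpen_top]; exact fun y hy => hgV hy
  have hxW : x ∈ f ⁻¹ᵁ V i := hi
  have hxh : x ∈ X.basicOpen (f.appTop g) := by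
    rw [← Scheme.preimage_basicOpen_top]; exact hxg
  obtain ⟨_, ⟨_, ⟨r, hr, rfl⟩, rfl⟩, hxr, hrU⟩ :=
    (Scheme.IsQuasiAffine.isBasis_basicOpen (f ⁻¹ᵁ V i)).exists_subset_of_mem_open
    (show (⟨x, hxW⟩ : (f ⁻¹ᵁ V i : Scheme)) ∈ (f ⁻¹ᵁ V i).ι ⁻¹ᵁ X.basicOpen (f.appTop g) from hxh)
    ((f ⁻¹ᵁ V i).ι ⁻¹ᵁ X.basicOpen (f.appTop g)).2
  have ht : X.basicOpen (((f ⁻¹ᵁ V i).ι.appIso ⊤).inv r) =
      (f ⁻¹ᵁ V i).ι ''ᵁ (f ⁻¹ᵁ V i : Scheme).basicOpen r :=
    (Scheme.image_basicOpen (f ⁻¹ᵁ V i).ι r).symm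
  have hO : X.basicOpen (f.appTop g) ≤ (f ⁻¹ᵁ V i).ι ''ᵁ ⊤ := by
    rw [Scheme.Opens.ι_image_top]; exact hhW
  have hle : X.basicOpen (((f ⁻¹ᵁ V i).ι.appIso ⊤).inv r) ≤ X.basicOpen (f.appTop g) := by
    rw [ht]
    rintro _ ⟨y, hy, rfl⟩
    exact hrU hy
  obtain ⟨s, hs⟩ := aux_basicOpen (f.appTop g) ((f ⁻¹ᵁ V i).ι ''ᵁ ⊤) hO
    (((f ⁻¹ᵁ V i).ι.appIso ⊤).inv r) hle
  refine ⟨s, ?_, ?_⟩
  · rw [hs, ht]; exact hr.image_of_isOpenImmersion (f ⁻¹ᵁ V i).ι
  · rw [hs, ht]; exact ⟨⟨x, hxW⟩, hxr, rfl⟩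

end Groth.Agent.S10967
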