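import Groth.Statements.S10975

set_option autoImplicit false
open FunFld

namespace Groth.Agent.S10975

theorem AD_mono {k K : Type*} [Field k] [Field K] [Algebra k K] {D D' : FunFld.Divisor k K} (h : D ≤ D') :
    FunFld.AD D ≤ FunFld.AD D' := by
  intro a ha P
  exact (ha P).trans (WithZero.exp_le_exp.2 (h P))


/-- `A(D₁ ⊔ D₂) = A(D₁) + A(D₂)` for divisors of a function field of one variable. -/
theorem result (k K : Type*) [Field k] [Field K] [Algebra k K] (D₁ D₂ : FunFld.Divisor k K) :
    FunFld.AD (D₁ ⊔ D₂) = FunFld.AD D₁ ⊔ FunFld.AD D₂ := by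
  classical
  apply le_antisymm
  · intro a ha
    have ha' : ∀ P : FunFld.Place k K, P.1 (a P) ≤ WithZero.exp (D₁ P ⊔ D₂ P) := fun P => by
      simpa [Finsupp.sup_apply] using ha P
    let b : FunFld.Place k K → K := fun P => if D₂ P ≤ D₁ P then a P else 0
    have hb : b ∈ FunFld.AD D₁ := by
      intro P
      by_cases h : D₂ P ≤ D₁ P
      · simp only [b, if_pos h]
        exact (ha' P).trans (WithZero.exp_le_exp.2 (sup_le le_rfl h))
      · simp only [b, if_neg h, map_zero]
        exact zero_le
    have hc : a - b ∈ FunFld.AD D₂ := by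
      intro P
      by_cases h : D₂ P ≤ D₁ P
      · simp only [Pi.sub_apply, b, if_pos h, sub_self, map_zero]
        exact zero_le
      · simp only [Pi.sub_apply, b, if_neg h, sub_zero]
        exact (ha' P).trans (WithZero.exp_le_exp.2 (sup_le (le_of_lt (not_le.1 h)) le_rfl))
    rw [Submodule.mem_sup]
    exact ⟨b, hb, a - b, hc, by abel⟩
  · exact sup_le (AD_mono le_sup_left) (AD_mono le_sup_right)

end Groth.Agent.S10975
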