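import Groth.Statements.S10985
import Groth.Agent.Lib.Helper16.FunFld2

set_option autoImplicit false
open FunFld

namespace Groth.Agent.S10985



/-- A nonzero Weil differential of a function field of one variable has a unique divisor `C`,
characterised by: the differential vanishes on `A(E) + K` iff `E ≤ C`. -/
theorem result (k K : Type*) [Field k] [Field K] [Algebra k K]
    (hK : FunFld.IsFunctionField k K) (ω : Module.Dual k (FunFld.adele k K)) (hω : FunFld.IsWeil ω) (h0 : ω ≠ 0) :
    ∃ C : FunFld.Divisor k K, FunFld.IsDivOf ω C := by
  exact Groth.Agent.Lib.Helper16.FunFldLib.exists_isDivOf hK ω hω h0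

end Groth.Agent.S10985
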