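import Groth.Statements.S11017

set_option autoImplicit false
open FunFld

namespace Groth.Agent.S11017



/-- For a Weil differential `ω` with divisor `C`, `ord_P [ω] ≥ e` iff `ω` kills every repartition
concentrated at `P` with `P`-component of order at least `-e`. -/
theorem result (k K : Type*) [Field k] [Field K] [Algebra k K] (ω : Module.Dual k (FunFld.adele k K)) (C : FunFld.Divisor k K) (hω : FunFld.IsDivOf ω C)
    (P : FunFld.Place k K) (e : ℤ) :
    e ≤ C P ↔ ∀ (a : FunFld.Place k K → K) (ha : a ∈ FunFld.adele k K),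
      (∀ Q, Q ≠ P → a Q = 0) → P.1 (a P) ≤ WithZero.exp e → ω ⟨a, ha⟩ = 0 := by
  classical
  have hC : ω ∈ FunFld.WD C := (hω C).2 le_rfl
  constructor
  · intro he a ha hsupp hP
    rw [FunFld.WD, Submodule.mem_dualAnnihilator] at hC
    apply hC
    change a ∈ FunFld.AD C ⊔ LinearMap.range (FunFld.diag k K)
    refine Submodule.mem_sup_left ?_
    intro Q
    by_cases hQ : Q = P
    · subst hQ; exact hP.trans (WithZero.exp_le_exp.2 he)
    · rw [hsupp Q hQ, map_zero]; exact zero_le
  · intro H
    by_contra hne
    have hlt : C P < e := lt_of_not_ge hne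
    let E : FunFld.Divisor k K := Finsupp.update C P e
    have hEP : E P = e := by simp [E]
    have hEQ : ∀ Q, Q ≠ P → E Q = C Q := fun Q hQ => by simp [E, Finsupp.update_apply, hQ]
    have hWE : ω ∈ FunFld.WD E := by
      rw [FunFld.WD, Submodule.mem_dualAnnihilator]
      rintro ⟨a, ha⟩ haE
      change a ∈ FunFld.AD E ⊔ LinearMap.range (FunFld.diag k K) at haE
      obtain ⟨y, hy, z, hz, rfl⟩ := Submodule.mem_sup.1 haE
      let y'' : FunFld.Place k K → K := Pi.single P (y P)
      have hy''0 : ∀ Q, Q ≠ P → y'' Q = 0 := fun Q hQ => by simp [y'', Pi.single_apply, hQ]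
      have hy''P : y'' P = y P := by simp [y'']
      have h2 : y'' ∈ FunFld.adele k K := by
        change ∀ᶠ Q : FunFld.Place k K in Filter.cofinite, Q.1 (y'' Q) ≤ 1
        filter_upwards [Filter.eventually_cofinite_ne P] with Q hQ
        rw [hy''0 Q hQ, map_zero]; exact zero_le
      have h1 : y + z - y'' ∈ FunFld.adele k K := (FunFld.adele k K).sub_mem ha h2
      have hsplit : (⟨y + z, ha⟩ : FunFld.adele k K) = ⟨y + z - y'', h1⟩ + ⟨y'', h2⟩ := by
        ext1; simp
      rw [hsplit, map_add]
      have e1 : ω ⟨y + z - y'', h1⟩ = 0 := by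
        rw [FunFld.WD, Submodule.mem_dualAnnihilator] at hC
        apply hC
        change y + z - y'' ∈ FunFld.AD C ⊔ LinearMap.range (FunFld.diag k K)
        have : y + z - y'' = (y - y'') + z := by abel
        rw [this]
        refine Submodule.add_mem_sup ?_ hz
        intro Q
        by_cases hQ : Q = P
        · subst hQ; simp only [Pi.sub_apply, hy''P, sub_self, map_zero]; exact zero_le
        · simp only [Pi.sub_apply, hy''0 Q hQ, sub_zero]
          exact (hy Q).trans (le_of_eq (by rw [hEQ Q hQ]))
      have e2 : ω ⟨y'', h2⟩ = 0 := by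
        refine H y'' h2 hy''0 ?_
        rw [hy''P]
        exact (hy P).trans (le_of_eq (by rw [hEP]))
      rw [e1, e2, add_zero]
    have hle := (hω E).1 hWE P
    rw [hEP] at hle
    exact hne hle

end Groth.Agent.S11017
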