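import Groth.Statements.S11043
import Mathlib.RingTheory.Polynomial.Cyclotomic.Basic

set_option autoImplicit false
open FunFld

namespace Groth.Agent.S11043

theorem prod_nthRoots_eq_prod_range {R M : Type*} [CommRing R] [IsDomain R] [CommMonoid M]
    {ζ : R} {k : ℕ} (hk : 0 < k) (h : IsPrimitiveRoot ζ k) (F : R → M) :
    ∏ θ ∈ Polynomial.nthRootsFinset k (1 : R), F θ = ∏ i ∈ Finset.range k, F (ζ ^ i) := by
  classical
  have himg : Polynomial.nthRootsFinset k (1 : R) = (Finset.range k).image (fun i => ζ ^ i) := by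
    ext x
    rw [Polynomial.mem_nthRootsFinset hk, Finset.mem_image]
    constructor
    · intro hx
      have : NeZero k := ⟨hk.ne'⟩
      obtain ⟨i, hi, rfl⟩ := h.eq_pow_of_pow_eq_one hx
      exact ⟨i, Finset.mem_range.2 hi, rfl⟩
    · rintro ⟨i, _, rfl⟩
      rw [← pow_mul, mul_comm, pow_mul, h.pow_eq_one, one_pow]
  rw [himg, Finset.prod_image]
  intro i hi j hj hij
  exact h.pow_inj (Finset.mem_range.1 hi) (Finset.mem_range.1 hj) hij

theorem prod_range_periodic {M : Type*} [CommMonoid M] (G : ℕ → M) (m : ℕ)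
    (hG : ∀ i, G (i + m) = G i) (g : ℕ) :
    ∏ i ∈ Finset.range (m * g), G i = (∏ i ∈ Finset.range m, G i) ^ g := by
  induction g with
  | zero => simp
  | succ g ih =>
    rw [Nat.mul_succ, Finset.prod_range_add, ih, pow_succ]
    congr 1
    refine Finset.prod_congr rfl fun j _ => ?_
    have : ∀ t, G (m * t + j) = G j := by
      intro t
      induction t with
      | zero => simp
      | succ t iht => rw [Nat.mul_succ, show m * t + m + j = (m * t + j) + m by omega, hG, iht]
    exact this g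


/-- For positive integers `n`, `d` with `e = gcd(n, d)`, in `ℂ[t]` one has `(1 - t^{nd/e})^e = ∏_{θⁿ =
1} (1 - (θ t)^d)`, the product over the complex `n`-th roots of unity. -/
theorem result (n d : ℕ) (hn : 0 < n) (hd : 0 < d) :
    ((1 : Polynomial ℂ) - Polynomial.X ^ (n * d / Nat.gcd n d)) ^ Nat.gcd n d =
      ∏ θ ∈ Polynomial.nthRootsFinset n (1 : ℂ),
        (1 - Polynomial.C (θ ^ d) * Polynomial.X ^ d) := by
  set g := Nat.gcd n d with hg
  have hg0 : 0 < g := Nat.gcd_pos_of_pos_left d hn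
  set m := n / g with hm
  have hnm : n = m * g := (Nat.div_mul_cancel (Nat.gcd_dvd_left n d)).symm
  have hm0 : 0 < m := Nat.div_pos (Nat.le_of_dvd hn (Nat.gcd_dvd_left n d)) hg0
  have hdm : n * d / g = d * m := by
    rw [hnm, Nat.mul_assoc, Nat.mul_comm g d, ← Nat.mul_assoc, Nat.mul_div_cancel _ hg0, Nat.mul_comm]
  have hζ := Complex.isPrimitiveRoot_exp n hn.ne'
  set ζ := Complex.exp (2 * Real.pi * Complex.I / n)
  -- ζ ^ d is a primitive m-th root of unity
  have hη : IsPrimitiveRoot (ζ ^ d) m := by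
    have h1 : IsPrimitiveRoot (ζ ^ g) m := hζ.pow_of_dvd hg0.ne' (Nat.gcd_dvd_left n d)
    have hd' : d = g * (d / g) := (Nat.mul_div_cancel' (Nat.gcd_dvd_right n d)).symm
    have hcop : (d / g).Coprime m := (Nat.coprime_div_gcd_div_gcd hg0).symm
    rw [hd', pow_mul]
    exact h1.pow_of_coprime _ hcop
  have hηC : IsPrimitiveRoot (Polynomial.C (ζ ^ d)) m :=
    hη.map_of_injective Polynomial.C_injective
  rw [prod_nthRoots_eq_prod_range hn hζ]
  have e1 : ∀ i, (1 - Polynomial.C ((ζ ^ i) ^ d) * Polynomial.X ^ d : Polynomial ℂ) =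
      1 - Polynomial.C (ζ ^ d) ^ i * Polynomial.X ^ d := by
    intro i; rw [← pow_mul, mul_comm i d, pow_mul, Polynomial.C_pow]
  simp_rw [e1]
  rw [hnm, prod_range_periodic (fun i => (1 - Polynomial.C (ζ ^ d) ^ i * Polynomial.X ^ d : Polynomial ℂ)) m
    (fun i => by simp only [pow_add, hηC.pow_eq_one, mul_one]) g]
  rw [← hnm, hdm]
  congr 1
  rw [← prod_nthRoots_eq_prod_range hm0 hηC (fun μ => (1 - μ * Polynomial.X ^ d : Polynomial ℂ)),
    ← hηC.pow_sub_pow_eq_prod_sub_mul (1 : Polynomial ℂ) (Polynomial.X ^ d) hm0, one_pow, pow_mul]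

end Groth.Agent.S11043
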