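import Groth.Statements.S11066
import Groth.Agent.Lib.Helper16.FunFld
-- import your own Groth.Agent.* helpers here

set_option autoImplicit false
open FunFld

namespace Groth.Agent.S11066

open Groth.Agent.Lib.Helper16.FunFldLib

lemma exists_const {k K : Type*} [Field k] [IsAlgClosed k] [Field K] [Algebra k K]
    (hK : FunFld.IsFunctionField k K) (P : FunFld.Place k K) (z : K) (hz : P.1 z ≤ 1) :
    ∃ c : k, P.1 (z - algebraMap k K c) < 1 := by
  have h := finiteDimensional_residueField hK P
  let A : Algebra k (IsLocalRing.ResidueField P.O) := inferInstance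
  have h2 : @Module.Finite k (IsLocalRing.ResidueField P.O) _ _ A.toModule := h
  have : Algebra.IsIntegral k (IsLocalRing.ResidueField P.O) := Algebra.IsIntegral.of_finite k _
  have hzO : z ∈ P.O := (Valuation.mem_valuationSubring_iff _ _).mpr hz
  obtain ⟨c, hc⟩ := (IsAlgClosed.algebraMap_bijective_of_isIntegral (k := k)
    (K := IsLocalRing.ResidueField P.O)).2 (IsLocalRing.residue P.O ⟨z, hzO⟩)
  refine ⟨c, ?_⟩
  have h1 : IsLocalRing.residue P.O (⟨z, hzO⟩ - algebraMap k P.O c) = 0 := by
    rw [map_sub, ← hc]
    exact sub_self _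
  rw [IsLocalRing.residue_eq_zero_iff] at h1
  exact place_val_lt_one_of_mem_maximalIdeal P _ h1

/-- Over an algebraically closed constant field, for an effective projective map `φ` normalized at the
place `P` (`1` in the span of the entries, all entries integral at `P`), the local ring of `φ` at
`P` has an element of order one at `P` (a local parameter) exactly when the span of the entries has
one. The local ring consists of the quotients of polynomials over `k` in the ratios `φᵢ/φⱼ`, `φⱼ` of
least order at `P`, with denominator a unit at `P`. -/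
theorem result
    (k K : Type*) [Field k] [IsAlgClosed k] [Field K] [Algebra k K]
    (hK : FunFld.IsFunctionField k K) {n : ℕ} (φ : Fin (n + 1) → K)
    (P : FunFld.Place k K) (heff : (1 : K) ∈ Submodule.span k (Set.range φ))
    (hnorm : ∀ i, P.1 (φ i) ≤ 1) :
    (∃ t : K, FunFld.InLocRing φ P t ∧ P.1 t = WithZero.exp (-1)) ↔
      ∃ t ∈ Submodule.span k (Set.range φ), P.1 t = WithZero.exp (-1) := by
  have hspan_le : ∀ j, (∀ i, P.1 (φ i) ≤ P.1 (φ j)) →
      ∀ x ∈ Submodule.span k (Set.range φ), P.1 x ≤ P.1 (φ j) := by
    intro j hj x hx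
    induction hx using Submodule.span_induction with
    | mem x hx => obtain ⟨i, rfl⟩ := hx; exact hj i
    | zero => simp
    | add x y _ _ hx hy => exact (P.1.map_add x y).trans (max_le hx hy)
    | smul c x _ hx =>
      rw [Algebra.smul_def, map_mul]; exact (mul_le_mul' (P.2.1 c) hx).trans_eq (one_mul _)
  have hj_one : ∀ j, (∀ i, P.1 (φ i) ≤ P.1 (φ j)) → P.1 (φ j) = 1 := by
    intro j hj
    refine le_antisymm (hnorm j) ?_
    have := hspan_le j hj 1 heff
    rwa [map_one] at this
  have hdiv_mem : ∀ j, ∀ x ∈ Submodule.span k (Set.range φ),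
      x / φ j ∈ Algebra.adjoin k (Set.range fun i => φ i / φ j) := by
    intro j x hx
    induction hx using Submodule.span_induction with
    | mem x hx => obtain ⟨i, rfl⟩ := hx; exact Algebra.subset_adjoin ⟨i, rfl⟩
    | zero => simp
    | add x y _ _ hx hy => rw [add_div]; exact add_mem hx hy
    | smul c x _ hx => rw [smul_div_assoc]; exact Subalgebra.smul_mem _ hx c
  have he2 : WithZero.exp (-2 : ℤ) < 1 := by
    rw [← WithZero.exp_zero, WithZero.exp_lt_exp]; norm_num
  constructor
  · rintro ⟨t, ⟨j, hj0, hjmax, u, hu, w, hw, hPw, htw⟩, ht⟩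
    have hPj := hj_one j hjmax
    let S : Subalgebra k K :=
      { carrier := {z | ∃ c : k, P.1 (z - algebraMap k K c) ≤ WithZero.exp (-2)}
        mul_mem' := by
          rintro a b ⟨ca, ha⟩ ⟨cb, hb⟩
          refine ⟨ca * cb, ?_⟩
          have hb1 : P.1 b ≤ 1 := by
            have : b = (b - algebraMap k K cb) + algebraMap k K cb := by ring
            rw [this]
            exact (P.1.map_add _ _).trans (max_le (hb.trans he2.le) (P.2.1 cb))
          have : a * b - algebraMap k K (ca * cb) =
              (a - algebraMap k K ca) * b + algebraMap k K ca * (b - algebraMap k K cb) := by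
            rw [map_mul]; ring
          rw [this]
          refine (P.1.map_add _ _).trans (max_le ?_ ?_)
          · rw [map_mul]
            exact (mul_le_mul' ha hb1).trans_eq (mul_one _)
          · rw [map_mul]
            exact (mul_le_mul' (P.2.1 ca) hb).trans_eq (one_mul _)
        one_mem' := ⟨1, by simp⟩
        add_mem' := by
          rintro a b ⟨ca, ha⟩ ⟨cb, hb⟩
          refine ⟨ca + cb, ?_⟩
          have : a + b - algebraMap k K (ca + cb) =
              (a - algebraMap k K ca) + (b - algebraMap k K cb) := by
            rw [map_add]; ring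
          rw [this]
          exact (P.1.map_add _ _).trans (max_le ha hb)
        zero_mem' := ⟨0, by simp⟩
        algebraMap_mem' := fun c => ⟨c, by simp⟩ }
    by_contra hne
    push Not at hne
    have hall : ∀ i, φ i / φ j ∈ S := by
      intro i
      have hri : P.1 (φ i / φ j) ≤ 1 := by
        rw [map_div₀, hPj, div_one]; exact hnorm i
      obtain ⟨c, hc⟩ := exists_const hK P _ hri
      refine ⟨c, ?_⟩
      by_contra hgt
      push Not at hgt
      have heq : P.1 (φ i / φ j - algebraMap k K c) = WithZero.exp (-1) := by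
        have h1 : P.1 (φ i / φ j - algebraMap k K c) ≤ WithZero.exp (-1) := by
          rw [← lt_exp_add_one_iff]; simpa using hc
        have h2 : WithZero.exp (-1) ≤ P.1 (φ i / φ j - algebraMap k K c) := by
          by_contra h2
          push Not at h2
          have : P.1 (φ i / φ j - algebraMap k K c) ≤ WithZero.exp (-2) := by
            rw [← lt_exp_add_one_iff]; norm_num; exact h2
          exact absurd this (not_le.mpr hgt)
        exact le_antisymm h1 h2
      apply hne (φ i - c • φ j) (sub_mem (Submodule.subset_span ⟨i, rfl⟩)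
        (Submodule.smul_mem _ c (Submodule.subset_span ⟨j, rfl⟩)))
      have : φ i - c • φ j = φ j * (φ i / φ j - algebraMap k K c) := by
        rw [Algebra.smul_def]; field_simp
      rw [this, map_mul, hPj, one_mul, heq]
    have hAS : Algebra.adjoin k (Set.range fun i => φ i / φ j) ≤ S := by
      rw [Algebra.adjoin_le_iff]; rintro _ ⟨i, rfl⟩; exact hall i
    obtain ⟨cu, hcu⟩ := hAS hu
    obtain ⟨cw, hcw⟩ := hAS hw
    have ht1 : P.1 t ≤ 1 := by
      rw [ht]; exact (WithZero.exp_le_exp.mpr (by norm_num)).trans_eq WithZero.exp_zero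
    have hcw0 : cw ≠ 0 := by
      rintro rfl
      rw [map_zero, sub_zero, hPw] at hcw
      exact absurd hcw (not_le.mpr he2)
    have hd : P.1 (t * algebraMap k K cw - algebraMap k K cu) ≤ WithZero.exp (-2) := by
      have : t * algebraMap k K cw - algebraMap k K cu =
          (u - algebraMap k K cu) - t * (w - algebraMap k K cw) := by
        rw [← htw]; ring
      rw [this]
      refine Valuation.map_sub_le _ hcu ?_
      rw [map_mul]
      exact (mul_le_mul' ht1 hcw).trans_eq (one_mul _)
    have htcw : P.1 (t * algebraMap k K cw) = WithZero.exp (-1) := by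
      rw [map_mul, val_algebraMap_eq_one P.1 P.2.1 hcw0, mul_one, ht]
    by_cases hcu0 : cu = 0
    · rw [hcu0, map_zero, sub_zero, htcw, WithZero.exp_le_exp] at hd
      norm_num at hd
    · have hcu1 := val_algebraMap_eq_one P.1 P.2.1 hcu0
      have hlt : P.1 (t * algebraMap k K cw) < P.1 (algebraMap k K cu) := by
        rw [htcw, hcu1, ← WithZero.exp_zero, WithZero.exp_lt_exp]; norm_num
      rw [Valuation.map_sub_eq_of_lt_right _ hlt, hcu1] at hd
      exact absurd hd (not_le.mpr he2)
  · rintro ⟨t, ht, hPt⟩
    obtain ⟨j, -, hj⟩ := Finset.exists_max_image Finset.univ (fun i => P.1 (φ i))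
      Finset.univ_nonempty
    have hjmax : ∀ i, P.1 (φ i) ≤ P.1 (φ j) := fun i => hj i (Finset.mem_univ i)
    have hPj := hj_one j hjmax
    have hj0 : φ j ≠ 0 := by
      intro h0; rw [h0, map_zero] at hPj; exact zero_ne_one hPj
    refine ⟨t, ⟨j, hj0, hjmax, t / φ j, hdiv_mem j t ht, 1 / φ j, hdiv_mem j 1 heff, ?_, ?_⟩, hPt⟩
    · rw [map_div₀, map_one, hPj, div_one]
    · rw [mul_one_div]

end Groth.Agent.S11066
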