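import Groth.Statements.S11075
import Groth.Agent.Lib.Helper17.FF
-- import your own Groth.Agent.* helpers here

set_option autoImplicit false
open FunFld

namespace Groth.Agent.S11075

open Groth.Agent.Lib.Helper16.FunFldLib Groth.Agent.Lib.Helper17.FF

lemma aeval_mul_left_of_isHomogeneous {k K σ : Type*} [Field k] [Field K] [Algebra k K]
    (g : MvPolynomial σ k) {d : ℕ} (hg : g.IsHomogeneous d) (c : K) (x : σ → K) :
    MvPolynomial.aeval (fun i => c * x i) g = c ^ d * MvPolynomial.aeval x g := by
  classical
  conv_lhs => rw [← g.support_sum_monomial_coeff]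
  conv_rhs => rw [← g.support_sum_monomial_coeff]
  rw [map_sum, map_sum, Finset.mul_sum]
  refine Finset.sum_congr rfl fun s hs => ?_
  rw [MvPolynomial.aeval_monomial, MvPolynomial.aeval_monomial, Finsupp.prod, Finsupp.prod]
  simp_rw [mul_pow]
  rw [Finset.prod_mul_distrib, Finset.prod_pow_eq_pow_sum, ← hg.degree_eq_sum_deg_support hs]
  ring

lemma val_eq_one_of_ord_eq_zero {k K : Type*} [Field k] [Field K] [Algebra k K]
    (P : FunFld.Place k K) {x : K} (hx : x ≠ 0) (h : P.ord x = 0) : P.1 x = 1 := by
  have hx' : P.1 x ≠ 0 := (Valuation.ne_zero_iff P.1).mpr hx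
  rw [ord_def, neg_eq_zero] at h
  rw [← WithZero.exp_log hx', h, WithZero.exp_zero]

/-- Over an algebraically closed constant field, let `φ = (φ₀, …, φₙ)`, `n ≥ 1`, be a projective map
onto the curve `V`. (a) A homogeneous `g` not vanishing identically on `V` vanishes at the image
point of only finitely many places (so a closed set not containing `V` meets `V` in a finite set);
(b) each fibre of `φ` is finite. Here `g` vanishes at `φ(P)` when `g(φ₀/φⱼ, …, φₙ/φⱼ)` lies in the
maximal ideal of `P` for an entry `φⱼ` of least order at `P`. Two places have the same image point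
when some entry `φⱼ` has least order at both and each `φᵢ/φⱼ` is congruent to one constant modulo
both maximal ideals. -/
theorem result (k K : Type*) [Field k] [IsAlgClosed k] [Field K] [Algebra k K]
    (hK : FunFld.IsFunctionField k K) {n : ℕ} (hn : 1 ≤ n)
    (φ : Fin (n + 1) → K) (hφ : LinearIndependent k φ) :
    (∀ g : MvPolynomial (Fin (n + 1)) k, g.IsHomogeneous g.totalDegree →
      MvPolynomial.aeval φ g ≠ 0 →
        {P : FunFld.Place k K | ∃ j, φ j ≠ 0 ∧ (∀ i, P.1 (φ i) ≤ P.1 (φ j)) ∧
          P.1 (MvPolynomial.aeval (fun i => φ i / φ j) g) < 1}.Finite) ∧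
    ∀ P : FunFld.Place k K, {Q : FunFld.Place k K | FunFld.SameImage φ P Q}.Finite := by
  refine ⟨fun g hg hgφ => ?_, fun P => ?_⟩
  · let S : Set (FunFld.Place k K) :=
      (Function.support fun P : FunFld.Place k K => P.ord (MvPolynomial.aeval φ g)) ∪
        ⋃ i, Function.support fun P : FunFld.Place k K => P.ord (φ i)
    have hS : S.Finite :=
      (finite_support_ord hK _).union (Set.finite_iUnion fun i => finite_support_ord hK _)
    refine hS.subset ?_
    rintro P ⟨j, hj0, -, hlt⟩
    by_contra hPS
    simp only [S, Set.mem_union, Set.mem_iUnion, Function.mem_support, not_or, not_exists,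
      not_not] at hPS
    obtain ⟨h1, h2⟩ := hPS
    have hφ1 : ∀ i, P.1 (φ i) = 1 := fun i => val_eq_one_of_ord_eq_zero P (hφ.ne_zero i) (h2 i)
    have hg1 : P.1 (MvPolynomial.aeval φ g) = 1 := val_eq_one_of_ord_eq_zero P hgφ h1
    have hscale : MvPolynomial.aeval (fun i => φ i / φ j) g =
        (φ j)⁻¹ ^ g.totalDegree * MvPolynomial.aeval φ g := by
      rw [← aeval_mul_left_of_isHomogeneous g hg]
      have : (fun i => φ i / φ j) = fun i => (φ j)⁻¹ * φ i := by
        funext i; rw [div_eq_inv_mul]
      rw [this]
    rw [hscale, map_mul, map_pow, map_inv₀, hφ1 j, hg1] at hlt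
    simp at hlt
  · have hn0 : (1 : Fin (n + 1)) ≠ 0 := by
      intro h
      have := congrArg Fin.val h
      simp [Fin.val_one', Nat.one_mod_eq_one.mpr (by omega : n + 1 ≠ 1)] at this
    let idx : Fin (n + 1) → Fin (n + 1) := fun j => if j = 0 then 1 else 0
    have hidx : ∀ j, idx j ≠ j := by
      intro j
      by_cases hj : j = 0
      · simp only [idx, hj, if_true]; exact hn0
      · simp only [idx, hj, if_false]; exact Ne.symm hj
    have htr : ∀ j (c : k), Transcendental k (φ (idx j) / φ j - algebraMap k K c) := by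
      intro j c halg
      have halg' : IsAlgebraic k (φ (idx j) / φ j) := by
        have := halg.add (isAlgebraic_algebraMap (R := k) (A := K) c)
        simpa using this
      obtain ⟨c', hc'⟩ := hK.2 _ halg'
      have hj0 : φ j ≠ 0 := hφ.ne_zero j
      have hmem : φ (idx j) ∈ Submodule.span k (φ '' {j}) := by
        rw [Set.image_singleton, Submodule.mem_span_singleton]
        refine ⟨c', ?_⟩
        rw [Algebra.smul_def, hc']
        field_simp
      exact hφ.notMem_span_image (s := {j}) (x := idx j) (by simpa using hidx j) hmem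
    let F : Fin (n + 1) → Set (FunFld.Place k K) := fun j =>
      ⋃ c ∈ {c : k | P.1 (φ (idx j) / φ j - algebraMap k K c) < 1},
        {Q : FunFld.Place k K | Q.1 (φ (idx j) / φ j - algebraMap k K c) < 1}
    have hC : ∀ j, {c : k | P.1 (φ (idx j) / φ j - algebraMap k K c) < 1}.Finite := by
      intro j
      refine Set.Subsingleton.finite ?_
      intro c hc c' hc'
      by_contra hne
      have hsub : P.1 (algebraMap k K (c' - c)) < 1 := by
        have : algebraMap k K (c' - c) = (φ (idx j) / φ j - algebraMap k K c) -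
            (φ (idx j) / φ j - algebraMap k K c') := by
          rw [map_sub]; ring
        rw [this]
        exact lt_of_le_of_lt (Valuation.map_sub _ _ _) (max_lt hc hc')
      rw [val_algebraMap_eq_one P.1 P.2.1 (sub_ne_zero.mpr (Ne.symm hne))] at hsub
      exact lt_irrefl _ hsub
    have hF : ∀ j, (F j).Finite := fun j =>
      (hC j).biUnion fun c _ => finite_zeros hK (htr j c)
    refine (Set.finite_iUnion hF).subset ?_
    rintro Q ⟨j, -, -, -, hc⟩
    obtain ⟨c, hcP, hcQ⟩ := hc (idx j)
    refine Set.mem_iUnion.mpr ⟨j, ?_⟩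
    simp only [F, Set.mem_iUnion]
    exact ⟨c, hcP, hcQ⟩

end Groth.Agent.S11075
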