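import Groth.Statements.S11078
import Groth.Agent.Lib.Helper17.FF
-- import your own Groth.Agent.* helpers here

set_option autoImplicit false
open FunFld

namespace Groth.Agent.S11078

open Groth.Agent.Lib.Helper17.FF

/-- Over an algebraically closed constant field, for a projective map `φ = (φ₀, …, φₙ)`, `n ≥ 1`, and a
point `a = φ(P)` with local ring `O_a`, the fibre `φ⁻¹(a)` consists of the places `Q` with `O_a ⊆
O_Q` and `m_Q ∩ O_a` equal to the maximal ideal of `O_a` (which is `m_P ∩ O_a`). Here `O_a` consists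
of the quotients of polynomials over `k` in the ratios `φᵢ/φⱼ`, `φⱼ` of least order at `P`, with
denominator a unit at `P`; and `Q` has the same image point as `P` when some entry has least order
at both places and the ratios are congruent to common constants modulo both maximal ideals. -/
theorem result
    (k K : Type*) [Field k] [IsAlgClosed k] [Field K] [Algebra k K]
    (hK : FunFld.IsFunctionField k K) {n : ℕ} (hn : 1 ≤ n) (φ : Fin (n + 1) → K)
    (hφ : LinearIndependent k φ) (P Q : FunFld.Place k K) :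
    FunFld.SameImage φ P Q ↔
      ∀ z : K, FunFld.InLocRing φ P z → (Q.1 z ≤ 1 ∧ (Q.1 z < 1 ↔ P.1 z < 1)) := by
  constructor
  · rintro ⟨j, hj0, hjP, hjQ, hc⟩ z ⟨j', hj'0, hj'P, u, hu, w, hw, hPw, hzw⟩
    have hr : ∀ i, φ i / φ j ∈ jointEval P Q := fun i => hc i
    have hPj0 : P.1 (φ j) ≠ 0 := (Valuation.ne_zero_iff P.1).mpr hj0
    have hPjj : P.1 (φ j' / φ j) = 1 := by
      rw [map_div₀, div_eq_one_iff_eq hPj0]
      exact le_antisymm (hjP j') (hj'P j)
    have hinv := inv_mem_jointEval (hr j') hPjj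
    have hs : ∀ i, φ i / φ j' ∈ jointEval P Q := by
      intro i
      have : φ i / φ j' = (φ i / φ j) * (φ j' / φ j)⁻¹ := by
        field_simp
      rw [this]; exact mul_mem (hr i) hinv
    have hA : Algebra.adjoin k (Set.range fun i => φ i / φ j') ≤ jointEval P Q := by
      rw [Algebra.adjoin_le_iff]; rintro _ ⟨i, rfl⟩; exact hs i
    have huT := hA hu
    have hwT := hA hw
    have hQw := jointEval_val_eq_one hwT hPw
    have hw0 : w ≠ 0 := by
      rintro rfl; rw [map_zero] at hPw; exact zero_ne_one hPw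
    have hz : z = u / w := by rw [eq_div_iff hw0]; exact hzw
    have hu1 : Q.1 u ≤ 1 := by
      obtain ⟨c, -, hQ⟩ := huT; exact val_le_one_of_sub_lt Q hQ
    refine ⟨?_, ?_⟩
    · rw [hz, map_div₀, hQw, div_one]; exact hu1
    · rw [hz, map_div₀, map_div₀, hQw, hPw, div_one, div_one]
      exact jointEval_lt_one_iff huT
  · intro H
    obtain ⟨j, -, hj⟩ := Finset.exists_max_image Finset.univ (fun i => P.1 (φ i))
      Finset.univ_nonempty
    have hjP : ∀ i, P.1 (φ i) ≤ P.1 (φ j) := fun i => hj i (Finset.mem_univ i)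
    have hj0 : φ j ≠ 0 := by
      intro h0
      have h00 := hjP 0
      rw [h0, map_zero, le_zero_iff, Valuation.zero_iff] at h00
      exact hφ.ne_zero 0 h00
    have hloc : ∀ a ∈ Algebra.adjoin k (Set.range fun i => φ i / φ j),
        FunFld.InLocRing φ P a := by
      intro a ha
      exact ⟨j, hj0, hjP, a, ha, 1, Subalgebra.one_mem _, by simp, by simp⟩
    have hrP : ∀ i, P.1 (φ i / φ j) ≤ 1 := by
      intro i
      have hPj0 : P.1 (φ j) ≠ 0 := (Valuation.ne_zero_iff P.1).mpr hj0
      rw [map_div₀, div_le_one₀ (zero_lt_iff.mpr hPj0)]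
      exact hjP i
    refine ⟨j, hj0, hjP, ?_, ?_⟩
    · intro i
      have h1 := (H _ (hloc _ (Algebra.subset_adjoin ⟨i, rfl⟩))).1
      have hQj : Q.1 (φ j) ≠ 0 := (Valuation.ne_zero_iff Q.1).mpr hj0
      rw [map_div₀, div_le_one₀ (zero_lt_iff.mpr hQj)] at h1
      exact h1
    · intro i
      obtain ⟨c, hcP⟩ := exists_const hK P _ (hrP i)
      refine ⟨c, hcP, ?_⟩
      have hmem : φ i / φ j - algebraMap k K c ∈
          Algebra.adjoin k (Set.range fun i => φ i / φ j) :=
        sub_mem (Algebra.subset_adjoin ⟨i, rfl⟩) (Subalgebra.algebraMap_mem _ c)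
      exact ((H _ (hloc _ hmem)).2).mpr hcP

end Groth.Agent.S11078
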