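import Groth.Statements.S11096
-- import your own Groth.Agent.* helpers here

set_option autoImplicit false
universe u
open Neron

namespace Groth.Agent.S11096

/-- Let a Weierstrass equation have coefficients in a commutative ring R and let I be an ideal with a₃,
a₄, a₆ ∈ I. If the discriminant Δ does not lie in I ^ 2, then a₆ does not lie in I ^ 2 and b₂ does
not lie in I. (For a discrete valuation ring with maximal ideal (π): if π divides a₃, a₄, a₆ and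
v(Δ) = 1, then v(a₆) = 1 and π does not divide b₂.) -/
theorem result {R : Type u} [CommRing R] (W : WeierstrassCurve R)
    (I : Ideal R) (h3 : W.a₃ ∈ I) (h4 : W.a₄ ∈ I) (h6 : W.a₆ ∈ I) (hΔ : W.Δ ∉ I ^ 2) :
    W.a₆ ∉ I ^ 2 ∧ W.b₂ ∉ I := by
  have sq : ∀ x y : R, x ∈ I → y ∈ I → x * y ∈ I ^ 2 := fun x y hx hy => by
    rw [pow_two]; exact Ideal.mul_mem_mul hx hy
  have hb4 : W.b₄ ∈ I := by
    rw [WeierstrassCurve.b₄]
    exact I.add_mem (I.mul_mem_left _ h4) (I.mul_mem_left _ h3)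
  have hb6 : W.b₆ ∈ I := by
    rw [WeierstrassCurve.b₆]
    exact I.add_mem (by rw [pow_two]; exact I.mul_mem_left _ h3) (I.mul_mem_left _ h6)
  have e : W.Δ + W.b₂ ^ 3 * W.a₆ =
      -W.b₂ ^ 2 * (-(W.a₁ * (W.a₃ * W.a₄)) + W.a₂ * (W.a₃ * W.a₃) - W.a₄ * W.a₄)
        - 8 * (W.b₄ * W.b₄) * W.b₄ - 27 * (W.b₆ * W.b₆) + 9 * W.b₂ * (W.b₄ * W.b₆) := by
    simp only [WeierstrassCurve.Δ, WeierstrassCurve.b₂, WeierstrassCurve.b₄, WeierstrassCurve.b₆,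
      WeierstrassCurve.b₈]
    ring
  have key : W.Δ + W.b₂ ^ 3 * W.a₆ ∈ I ^ 2 := by
    rw [e]
    refine (I ^ 2).add_mem ((I ^ 2).sub_mem ((I ^ 2).sub_mem ((I ^ 2).mul_mem_left _ ?_) ?_) ?_) ?_
    · exact (I ^ 2).sub_mem ((I ^ 2).add_mem ((I ^ 2).neg_mem ((I ^ 2).mul_mem_left _ (sq _ _ h3 h4)))
        ((I ^ 2).mul_mem_left _ (sq _ _ h3 h3))) (sq _ _ h4 h4)
    · exact (I ^ 2).mul_mem_right _ ((I ^ 2).mul_mem_left _ (sq _ _ hb4 hb4))
    · exact (I ^ 2).mul_mem_left _ (sq _ _ hb6 hb6)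
    · exact (I ^ 2).mul_mem_left _ (sq _ _ hb4 hb6)
  have eΔ : W.Δ = (W.Δ + W.b₂ ^ 3 * W.a₆) - W.b₂ ^ 3 * W.a₆ := by ring
  constructor
  · intro h
    apply hΔ
    rw [eΔ]
    exact (I ^ 2).sub_mem key ((I ^ 2).mul_mem_left _ h)
  · intro h
    apply hΔ
    rw [eΔ]
    have e2 : W.b₂ ^ 3 * W.a₆ = W.b₂ ^ 2 * (W.b₂ * W.a₆) := by ring
    nth_rewrite 2 [e2]
    exact (I ^ 2).sub_mem key ((I ^ 2).mul_mem_left _ (sq _ _ h h6))

end Groth.Agent.S11096
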