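import Groth.Statements.S11143
import Mathlib.CategoryTheory.Triangulated.TStructure.TruncLTGE
import Mathlib.CategoryTheory.Limits.Preserves.Shapes.Zero
-- import your own Groth.Agent.* helpers here

set_option autoImplicit false
universe v v' u u'
open CategoryTheory CategoryTheory.Triangulated Pretriangulated
open CohDer

namespace Groth.Agent.S11143

/-- Let S and T be pretriangulated categories carrying t-structures, F : S ⥤ T a triangulated functor
and G a right adjoint of F. Suppose F is way-out left: for some integer d, F carries objects of S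
lying in degrees ≤ 0 to objects of T lying in degrees ≤ d. Then G is way-out right: G carries
objects of T lying in degrees ≥ 0 to objects of S lying in degrees ≥ -d. -/
theorem result
    {S : Type u} [Category.{v} S] [Limits.HasZeroObject S] [Preadditive S] [HasShift S ℤ]
    [∀ n : ℤ, (shiftFunctor S n).Additive] [Pretriangulated S]
    {T : Type u'} [Category.{v'} T] [Limits.HasZeroObject T] [Preadditive T] [HasShift T ℤ]
    [∀ n : ℤ, (shiftFunctor T n).Additive] [Pretriangulated T]
    (tS : TStructure S) (tT : TStructure T) (F : S ⥤ T) [F.CommShift ℤ] [F.IsTriangulated]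
    (G : T ⥤ S) (adj : F ⊣ G) (d : ℤ)
    (hF : ∀ X : S, tS.IsLE X 0 → tT.IsLE (F.obj X) d) (Y : T) (hY : tT.IsGE Y 0) :
    tS.IsGE (G.obj Y) (-d) := by
  rw [tS.isGE_iff_orthogonal (-d-1) (-d) (by omega) (G.obj Y)]
  intro Z f hZ
  have hZ0 : tS.IsLE (Z⟦(-d-1 : ℤ)⟧) 0 := tS.isLE_shift Z (-d-1) (-d-1) 0 (by omega)
  have h1 : tT.IsLE (F.obj (Z⟦(-d-1 : ℤ)⟧)) d := hF _ hZ0
  have h2 : tT.IsLE ((F.obj Z)⟦(-d-1 : ℤ)⟧) d := by
    have := h1
    exact tT.isLE_of_iso (X := F.obj (Z⟦(-d-1 : ℤ)⟧)) ((F.commShiftIso (-d-1)).app Z) d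
  have h3 : tT.IsLE (F.obj Z) (-1) := tT.isLE_of_shift (F.obj Z) (-1) (-d-1) d (by omega)
  have h4 : (adj.homEquiv Z Y).symm f = 0 := tT.zero _ (-1) 0 (by omega)
  have hG : G.IsRightAdjoint := adj.isRightAdjoint
  have e : f = adj.homEquiv Z Y ((adj.homEquiv Z Y).symm f) := by simp
  rw [e, h4, Adjunction.homEquiv_apply, Functor.map_zero, Limits.comp_zero]

end Groth.Agent.S11143
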