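import Groth.Statements.S11233
import Mathlib
-- import your own Groth.Agent.* helpers here

set_option autoImplicit false
universe u
open CAlg

namespace Groth.Agent.S11233

/-- Let k be an algebraically closed field, A an integral domain which is a k-algebra, T an m by m
matrix over A with invertible determinant, and let the additive group k^m act on the polynomial ring
A[y_1, ..., y_m] by the A-algebra maps y_s ↦ y_s + Σ_r h_r T_rs. Then the only invariant polynomials
are the constants: a polynomial fixed by all these substitutions lies in A. -/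
theorem result (k : Type u) [Field k] [IsAlgClosed k]
    (A : Type u) [CommRing A] [IsDomain A] [Algebra k A] (m : ℕ) (T : Matrix (Fin m) (Fin m) A)
    (hT : IsUnit T.det) (f : MvPolynomial (Fin m) A)
    (hf : ∀ h : Fin m → k, MvPolynomial.aeval
      (fun s : Fin m => MvPolynomial.X s + MvPolynomial.C (∑ r : Fin m, algebraMap k A (h r) * T r s)) f = f) :
    ∃ a : A, f = MvPolynomial.C a := by
  classical
  let B := MvPolynomial (Fin m) A
  let φ : Fin m → MvPolynomial (Fin m) B := fun s =>
    MvPolynomial.C (MvPolynomial.X s) + ∑ r : Fin m, MvPolynomial.X r * MvPolynomial.C (MvPolynomial.C (T r s))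
  let G : MvPolynomial (Fin m) B := MvPolynomial.aeval φ f
  have key : ∀ w : Fin m → B, MvPolynomial.eval w G =
      MvPolynomial.aeval (fun s => MvPolynomial.X s + ∑ r, w r * MvPolynomial.C (T r s)) f := by
    intro w
    have h1 := MvPolynomial.comp_aeval (R := A) φ
      ((MvPolynomial.aeval w : MvPolynomial (Fin m) B →ₐ[B] B).restrictScalars A)
    have h2 := congrArg (fun F => F f) h1
    simp only [AlgHom.comp_apply, AlgHom.restrictScalars_apply] at h2
    rw [← MvPolynomial.coe_aeval_eq_eval]
    refine h2.trans ?_
    congr 2
    funext s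
    simp [φ, map_sum]
  have hGk : ∀ h : Fin m → k, MvPolynomial.eval (fun r => algebraMap k B (h r)) G = f := by
    intro h
    rw [key]
    convert hf h using 3
    funext s
    simp only [map_sum, map_mul, add_right_inj]
    exact Finset.sum_congr rfl fun r _ => by
      congr 1
  have hG : G = MvPolynomial.C f := by
    have hinj : Function.Injective (algebraMap k B) := (algebraMap k B).injective
    have hS : ∀ i : Fin m, ∃ S : Finset k, S.card = (G - MvPolynomial.C f).degreeOf i + 1 :=
      fun i => Infinite.exists_subset_card_eq k _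
    choose S hS using hS
    rw [← sub_eq_zero]
    apply MvPolynomial.eq_zero_of_eval_zero_at_prod_finset _ (fun i => (S i).map ⟨algebraMap k B, hinj⟩)
    · intro i
      simp [hS]
    · intro x hx
      have : ∀ i, ∃ c : k, algebraMap k B c = x i := by
        intro i
        obtain ⟨c, -, hc⟩ := Finset.mem_map.1 (hx i)
        exact ⟨c, hc⟩
      choose h hh using this
      have hxe : x = fun r => algebraMap k B (h r) := funext fun r => (hh r).symm
      rw [hxe, map_sub, hGk, MvPolynomial.eval_C, sub_self]
  have hUT : T⁻¹ * T = 1 := Matrix.nonsing_inv_mul T hT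
  let w : Fin m → B := fun r => -∑ q, MvPolynomial.X q * MvPolynomial.C (T⁻¹ q r)
  have h3 : ∀ s, ∑ r, (-∑ q, (MvPolynomial.X q : B) * MvPolynomial.C (T⁻¹ q r)) * MvPolynomial.C (T r s)
      = -MvPolynomial.X s := by
    intro s
    calc ∑ r, (-∑ q, (MvPolynomial.X q : B) * MvPolynomial.C (T⁻¹ q r)) * MvPolynomial.C (T r s)
        = -∑ q, (MvPolynomial.X q : B) * MvPolynomial.C ((T⁻¹ * T) q s) := by
          simp only [neg_mul, Finset.sum_neg_distrib, Finset.sum_mul, Matrix.mul_apply, map_sum,
            Finset.mul_sum, map_mul, mul_assoc]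
          rw [Finset.sum_comm]
      _ = -MvPolynomial.X s := by rw [hUT]; simp [Matrix.one_apply]
  have hw : (fun s => (MvPolynomial.X s : B) + ∑ r, w r * MvPolynomial.C (T r s)) = 0 := by
    funext s
    rw [Pi.zero_apply, h3 s, add_neg_cancel]
  have h5 := congrArg (MvPolynomial.eval w) hG
  rw [key, hw, MvPolynomial.aeval_zero, MvPolynomial.eval_C] at h5
  exact ⟨_, h5.symm⟩

end Groth.Agent.S11233
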