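import Groth.Statements.S11235
-- import your own Groth.Agent.* helpers here

set_option autoImplicit false
universe u
open CAlg

namespace Groth.Agent.S11235

/-- Let k be an algebraically closed field, A a commutative k-algebra, α ∈ k, and M a maximal ideal of
the polynomial ring A[x] containing x - α. Let I ⊆ M be an ideal whose zero set in Spec A[x] is
invariant under the automorphisms x ↦ c·x, c ∈ k nonzero (equivalently: the image of I under each
such A-algebra automorphism has the same radical as I). Then there is a maximal ideal of A[x]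
containing I and x. -/
theorem result (k : Type u) [Field k] [IsAlgClosed k]
    (A : Type u) [CommRing A] [Algebra k A] (α : k)
    (M : Ideal (Polynomial A)) (hM : M.IsMaximal)
    (hα : Polynomial.X - Polynomial.C (algebraMap k A α) ∈ M)
    (I : Ideal (Polynomial A)) (hIM : I ≤ M)
    (hI : ∀ c : kˣ, (I.map (Polynomial.aeval (R := A)
      (algebraMap k A (c : k) • (Polynomial.X : Polynomial A)))).radical = I.radical) :
    ∃ N : Ideal (Polynomial A), N.IsMaximal ∧ I ≤ N ∧ Polynomial.X ∈ N := by
  classical
  set α' : A := algebraMap k A α with hα'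
  -- the contraction `p` of `M` is maximal
  let π₀ : A →+* Polynomial A ⧸ M := (Ideal.Quotient.mk M).comp Polynomial.C
  have hπ₀ : Function.Surjective π₀ := by
    intro z
    obtain ⟨a, rfl⟩ := Ideal.Quotient.mk_surjective z
    refine ⟨a.eval α', ?_⟩
    show Ideal.Quotient.mk M (Polynomial.C (a.eval α')) = Ideal.Quotient.mk M a
    rw [Ideal.Quotient.eq]
    have h1 : Polynomial.X - Polynomial.C α' ∣ a - Polynomial.C (a.eval α') :=
      Polynomial.X_sub_C_dvd_sub_C_eval
    have h2 : a - Polynomial.C (a.eval α') ∈ M := Ideal.mem_of_dvd _ h1 hα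
    have : Polynomial.C (a.eval α') - a = -(a - Polynomial.C (a.eval α')) := by ring
    rw [this]; exact M.neg_mem h2
  haveI : M.IsMaximal := hM
  letI : Field (Polynomial A ⧸ M) := Ideal.Quotient.field M
  set p : Ideal A := RingHom.ker π₀ with hp
  have hpmax : p.IsMaximal := RingHom.ker_isMaximal_of_surjective π₀ hπ₀
  have hmemp : ∀ b : A, Polynomial.C b ∈ M → b ∈ p := by
    intro b hb
    show π₀ b = 0
    exact Ideal.Quotient.eq_zero_iff_mem.mpr hb
  -- evaluation at `α` modulo `M`
  have hevalM : ∀ h : Polynomial A, h ∈ M → h.eval α' ∈ p := by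
    intro h hh
    apply hmemp
    have h1 : Polynomial.X - Polynomial.C α' ∣ h - Polynomial.C (h.eval α') :=
      Polynomial.X_sub_C_dvd_sub_C_eval
    have h2 := Ideal.mem_of_dvd _ h1 hα
    have : Polynomial.C (h.eval α') = h - (h - Polynomial.C (h.eval α')) := by ring
    rw [this]; exact M.sub_mem hh h2
  -- scaled elements of `I` lie in `M`
  have hscale : ∀ g ∈ I, ∀ c : k, c ≠ 0 → g.eval (algebraMap k A c * α') ∈ p := by
    intro g hg c hc
    have hmem : Polynomial.aeval (algebraMap k A (Units.mk0 c hc : k) • (Polynomial.X : Polynomial A)) g ∈ M := by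
      have h1 := Ideal.mem_map_of_mem (Polynomial.aeval (R := A)
        (algebraMap k A (Units.mk0 c hc : k) • (Polynomial.X : Polynomial A))) hg
      have h2 := Ideal.le_radical h1
      rw [hI (Units.mk0 c hc)] at h2
      have h3 : I.radical ≤ M := by
        rw [← hM.isPrime.radical]; exact Ideal.radical_mono hIM
      exact h3 h2
    have := hevalM _ hmem
    rw [← Polynomial.comp_eq_aeval, Polynomial.eval_comp, Polynomial.eval_smul,
      Polynomial.eval_X, smul_eq_mul, Units.val_mk0] at this
    exact this
  -- the maximal ideal `N`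
  let φN : Polynomial A →+* A ⧸ p := (Ideal.Quotient.mk p).comp (Polynomial.evalRingHom 0)
  have hφN : Function.Surjective φN := by
    intro z
    obtain ⟨b, rfl⟩ := Ideal.Quotient.mk_surjective z
    refine ⟨Polynomial.C b, ?_⟩
    show Ideal.Quotient.mk p (Polynomial.eval 0 (Polynomial.C b)) = Ideal.Quotient.mk p b
    rw [Polynomial.eval_C]
  letI : Field (A ⧸ p) := Ideal.Quotient.field p
  refine ⟨RingHom.ker φN, RingHom.ker_isMaximal_of_surjective φN hφN, ?_, ?_⟩
  · intro g hg
    -- constant coefficient of `g` lies in `p`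
    let π := Ideal.Quotient.mk p
    let Q : Polynomial (A ⧸ p) := (g.map π).comp (Polynomial.C (π α') * Polynomial.X)
    have hroot : ∀ c : k, c ≠ 0 → Q.IsRoot (algebraMap k (A ⧸ p) c) := by
      intro c hc
      have h1 := hscale g hg c hc
      have h2 : π (g.eval (algebraMap k A c * α')) = 0 := Ideal.Quotient.eq_zero_iff_mem.mpr h1
      have e : π (algebraMap k A c * α') = π α' * algebraMap k (A ⧸ p) c := by
        rw [map_mul, mul_comm, IsScalarTower.algebraMap_apply k A (A ⧸ p),
          Ideal.Quotient.algebraMap_eq]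
      rw [Polynomial.IsRoot.def, Polynomial.eval_comp, Polynomial.eval_mul, Polynomial.eval_C,
        Polynomial.eval_X, ← e, Polynomial.eval_map_apply]
      exact h2
    have hinf : Set.Infinite {x | Q.IsRoot x} := by
      have hk : Set.Infinite ({0}ᶜ : Set k) := (Set.finite_singleton 0).infinite_compl
      have hinj : Set.InjOn (algebraMap k (A ⧸ p)) ({0}ᶜ : Set k) :=
        (algebraMap k (A ⧸ p)).injective.injOn
      refine Set.Infinite.mono ?_ (hk.image hinj)
      rintro _ ⟨c, hc, rfl⟩
      exact hroot c hc
    have hQ0 : Q = 0 := Polynomial.eq_zero_of_infinite_isRoot Q hinf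
    have hc0 : Q.eval 0 = 0 := by rw [hQ0, Polynomial.eval_zero]
    simp only [Q, Polynomial.eval_comp, Polynomial.eval_mul, Polynomial.eval_C,
      Polynomial.eval_X, mul_zero] at hc0
    rw [Polynomial.eval_zero_map] at hc0
    show π (Polynomial.eval 0 g) = 0
    exact hc0
  · show Ideal.Quotient.mk p (Polynomial.eval 0 Polynomial.X) = 0
    simp

end Groth.Agent.S11235
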