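import Groth.Statements.S11239
import Mathlib.LinearAlgebra.Matrix.Block
-- import your own Groth.Agent.* helpers here

set_option autoImplicit false
universe u
open AGF

namespace Groth.Agent.S11239

/-- Let X be an m × n matrix over a commutative ring, u an upper triangular n × n matrix with ones on
the diagonal, t a diagonal n × n matrix and p ≤ n. For any choice of p rows, the minor of X·t·u
formed with these rows and the first p columns equals (t_11 ⋯ t_pp) times the corresponding minor of
X: the minors on the first p columns are semi-invariant of weight ω_p under right multiplication by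
the upper triangular group. (The published statement is for the generic matrix over an algebraically
closed field; this row states the identity over any commutative ring.) -/
theorem result (R : Type u) [CommRing R] (m n p : ℕ) (hp : p ≤ n)
    (X : Matrix (Fin m) (Fin n) R) (d : Fin n → R) (u : Matrix (Fin n) (Fin n) R)
    (hu1 : ∀ i, u i i = 1) (hu0 : ∀ i j, j < i → u i j = 0) (I : Fin p → Fin m) :
    ((X * Matrix.diagonal d * u).submatrix I (Fin.castLE hp)).det =
      (∏ i : Fin p, d (Fin.castLE hp i)) * (X.submatrix I (Fin.castLE hp)).det := by
  have hfac : (X * Matrix.diagonal d * u).submatrix I (Fin.castLE hp) =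
      X.submatrix I (Fin.castLE hp) * Matrix.diagonal (fun i => d (Fin.castLE hp i)) *
        u.submatrix (Fin.castLE hp) (Fin.castLE hp) := by
    ext a b
    rw [Matrix.submatrix_apply, Matrix.mul_apply, Matrix.mul_apply]
    simp only [Matrix.mul_diagonal, Matrix.submatrix_apply]
    symm
    refine Eq.trans (Finset.sum_map Finset.univ (Fin.castLEEmb hp)
      (fun k => X (I a) k * d k * u k (Fin.castLE hp b))).symm ?_
    apply Finset.sum_subset (Finset.subset_univ _)
    intro k _ hk
    have hkp : p ≤ k.val := by
      by_contra hlt
      apply hk
      rw [Finset.mem_map]
      exact ⟨⟨k.val, by omega⟩, Finset.mem_univ _, by ext; simp⟩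
    have : u k (Fin.castLE hp b) = 0 := by
      apply hu0
      rw [Fin.lt_def]
      simp only [Fin.val_castLE]
      have := b.isLt
      omega
    rw [this, mul_zero]
  rw [hfac, Matrix.det_mul, Matrix.det_mul, Matrix.det_diagonal]
  have hut : (u.submatrix (Fin.castLE hp) (Fin.castLE hp)).det = 1 := by
    rw [Matrix.det_of_isUpperTriangular]
    · simp [hu1]
    · intro i j hij
      simp only [Matrix.submatrix_apply]
      apply hu0
      rw [Fin.lt_def] at hij ⊢
      simpa using hij
  rw [hut, mul_one, mul_comm]

end Groth.Agent.S11239
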