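import Groth.Statements.S11249
import Groth.Agent.Lib.Helper17.Minors
-- import your own Groth.Agent.* helpers here

set_option autoImplicit false
universe u
open W4bk4grassmannian

namespace Groth.Agent.S11249

open Groth.Agent.Lib.Helper17.Minors

open W4bk4grassmannian in
/-- Injectivity of the Plücker map, in matrix form: let K be a field, A and A' two n × d matrices over K
with linearly independent columns, and suppose there is a nonzero scalar c with det A_θ = c · det
A'_θ for every strictly increasing d-tuple θ of row indices (A_θ the d × d submatrix on the rows θ).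
Then the columns of A and of A' span the same subspace of K^n. (The published statement is over an
algebraically closed field; this row allows any field K.) -/
theorem result (K : Type u) [Field K] (d n : ℕ)
    (A A' : Matrix (Fin n) (Fin d) K) (hA : LinearIndependent K A.transpose)
    (hA' : LinearIndependent K A'.transpose) (c : K) (hc : c ≠ 0)
    (h : ∀ θ : Idx d n, (A.submatrix θ.1 id).det = c * (A'.submatrix θ.1 id).det) :
    Submodule.span K (Set.range A.transpose) = Submodule.span K (Set.range A'.transpose) := by
  have hall : ∀ a : Fin d → Fin n, (A.submatrix a id).det = c * (A'.submatrix a id).det :=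
    det_eq_of_strictMono A A' c (fun θ hθ => h ⟨θ, hθ⟩)
  obtain ⟨θ, hθ⟩ := exists_det_submatrix_ne_zero A hA
  have hθ' : (A'.submatrix θ id).det ≠ 0 := by
    intro h0; apply hθ; rw [hall θ, h0, mul_zero]
  set N := A.submatrix θ id with hN
  set N' := A'.submatrix θ id with hN'
  have hNu : IsUnit N.det := isUnit_iff_ne_zero.mpr hθ
  have hNu' : IsUnit N'.det := isUnit_iff_ne_zero.mpr hθ'
  have hupd : ∀ (X : Matrix (Fin n) (Fin d) K), X.submatrix θ id = 1 → ∀ r t,
      (X.submatrix (Function.update θ t r) id).det = X r t := by
    intro X hX r t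
    have : X.submatrix (Function.update θ t r) id =
        (1 : Matrix (Fin d) (Fin d) K).updateRow t (X r) := by
      ext i j
      by_cases hi : i = t
      · subst hi; simp
      · rw [Matrix.updateRow_ne hi, ← hX]
        simp [Function.update_of_ne hi]
    rw [this, det_one_updateRow]
  have hMθ : (A * N⁻¹).submatrix θ id = 1 := by
    have : (A * N⁻¹).submatrix θ id = N * N⁻¹ := rfl
    rw [this]; exact Matrix.mul_nonsing_inv N hNu
  have hMθ' : (A' * N'⁻¹).submatrix θ id = 1 := by
    have : (A' * N'⁻¹).submatrix θ id = N' * N'⁻¹ := rfl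
    rw [this]; exact Matrix.mul_nonsing_inv N' hNu'
  have hdetM : ∀ a, ((A * N⁻¹).submatrix a id).det = ((A' * N'⁻¹).submatrix a id).det := by
    intro a
    have e1 : (A * N⁻¹).submatrix a id = A.submatrix a id * N⁻¹ := rfl
    have e2 : (A' * N'⁻¹).submatrix a id = A'.submatrix a id * N'⁻¹ := rfl
    rw [e1, e2, Matrix.det_mul, Matrix.det_mul, Matrix.det_nonsing_inv, Matrix.det_nonsing_inv,
      hall a, hN, hN', hall θ, Ring.inverse_eq_inv']
    field_simp
  have hMM : A * N⁻¹ = A' * N'⁻¹ := by
    ext r t
    rw [← hupd _ hMθ r t, ← hupd _ hMθ' r t, hdetM]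
  have hinvu : IsUnit (N⁻¹).det := by
    rw [Matrix.det_nonsing_inv]; exact hNu.ringInverse
  have hinvu' : IsUnit (N'⁻¹).det := by
    rw [Matrix.det_nonsing_inv]; exact hNu'.ringInverse
  calc Submodule.span K (Set.range A.transpose)
      = Submodule.span K (Set.range (A * N⁻¹).transpose) :=
        (span_cols_mul_of_isUnit A N⁻¹ hinvu).symm
    _ = Submodule.span K (Set.range (A' * N'⁻¹).transpose) := by rw [hMM]
    _ = Submodule.span K (Set.range A'.transpose) := span_cols_mul_of_isUnit A' N'⁻¹ hinvu'

end Groth.Agent.S11249
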