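import Groth.Statements.S11268
-- import your own Groth.Agent.* helpers here

set_option autoImplicit false
open W4bk4grassmannian

namespace Groth.Agent.S11268

open W4bk4grassmannian in
/-- Let τ < w in I(d,n), the strictly increasing maps Fin d → Fin n ordered entrywise. Then there is a
Schubert divisor φ of w, i.e. φ < w with Σ_t (φ_t - t) + 1 = Σ_t (w_t - t), such that τ ≤ φ: every
proper Schubert subvariety of X(w) lies in a Schubert divisor of X(w). -/
theorem val_le_of_strictMono {d n : ℕ} (f : Fin d → Fin n) (hf : StrictMono f) (i : Fin d) :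
    i.val ≤ (f i).val := by
  have key : ∀ k (hk : k < d), k ≤ (f ⟨k, hk⟩).val := by
    intro k
    induction k with
    | zero => intro _; exact Nat.zero_le _
    | succ k ih =>
      intro hk
      have h1 := ih (by omega)
      have h2 : f ⟨k, by omega⟩ < f ⟨k + 1, hk⟩ := hf (by rw [Fin.lt_def]; simp)
      rw [Fin.lt_def] at h2
      omega
  exact key i.val i.isLt

theorem result (d n : ℕ) (τ w : Idx d n) (h : τ < w) :
    ∃ φ ∈ divisors w, τ ≤ φ := by
  have hle : ∀ t, τ.1 t ≤ w.1 t := fun t => (Subtype.coe_le_coe.mpr h.le) t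
  have hne : τ ≠ w := h.ne
  have hex : ∃ s, τ.1 s < w.1 s := by
    by_contra hcon
    apply hne
    apply Subtype.ext
    funext t
    exact le_antisymm (hle t) (not_lt.mp (fun h' => hcon ⟨t, h'⟩))
  obtain ⟨s, hs, hmin⟩ := WellFounded.has_min wellFounded_lt {s | τ.1 s < w.1 s} hex
  have hs' : τ.1 s < w.1 s := hs
  have hbefore : ∀ a, a < s → τ.1 a = w.1 a := by
    intro a ha
    by_contra hc
    exact hmin a (lt_of_le_of_ne (hle a) hc) ha
  have hτs := val_le_of_strictMono τ.1 τ.2 s
  rw [Fin.lt_def] at hs'
  let v : Fin n := ⟨(w.1 s).val - 1, by have := (w.1 s).isLt; omega⟩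
  let φf : Fin d → Fin n := Function.update w.1 s v
  have hφs : φf s = v := Function.update_self s v w.1
  have hφo : ∀ t, t ≠ s → φf t = w.1 t := fun t ht => Function.update_of_ne ht v w.1
  have hmono : StrictMono φf := by
    intro a b hab
    by_cases ha : a = s
    · subst ha
      have hb : b ≠ a := (ne_of_lt hab).symm
      rw [hφs, hφo b hb, Fin.lt_def]
      have := w.2 hab
      rw [Fin.lt_def] at this
      simp only [v]
      omega
    · by_cases hb : b = s
      · subst hb
        rw [hφs, hφo a ha, Fin.lt_def]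
        have e := hbefore a hab
        have := τ.2 hab
        rw [Fin.lt_def] at this
        rw [← e]
        simp only [v]
        omega
      · rw [hφo a ha, hφo b hb]
        exact w.2 hab
  let φ : Idx d n := ⟨φf, hmono⟩
  have hφle : φ ≤ w := by
    intro t
    show φf t ≤ w.1 t
    by_cases ht : t = s
    · subst ht; rw [hφs, Fin.le_def]; simp only [v]; omega
    · rw [hφo t ht]
  have hτφ : τ ≤ φ := by
    intro t
    show τ.1 t ≤ φf t
    by_cases ht : t = s
    · subst ht; rw [hφs, Fin.le_def]; simp only [v]; omega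
    · rw [hφo t ht]; exact hle t
  have hφne : φ ≠ w := by
    intro e
    have : φf s = w.1 s := congrFun (congrArg Subtype.val e) s
    rw [hφs, Fin.ext_iff] at this
    simp only [v] at this
    omega
  refine ⟨φ, ⟨lt_of_le_of_ne hφle hφne, ?_⟩, hτφ⟩
  unfold codeg
  rw [← Finset.add_sum_erase _ _ (Finset.mem_univ s), ← Finset.add_sum_erase _ _ (Finset.mem_univ s)]
  have hrest : ∑ x ∈ Finset.univ.erase s, ((φ.1 x).val - x.val) =
      ∑ x ∈ Finset.univ.erase s, ((w.1 x).val - x.val) := by
    apply Finset.sum_congr rfl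
    intro x hx
    rw [Finset.mem_erase] at hx
    show (φf x).val - x.val = _
    rw [hφo x hx.1]
  rw [hrest]
  show (φf s).val - s.val + _ + 1 = _
  rw [hφs]
  simp only [v]
  omega

end Groth.Agent.S11268
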