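import Groth.Statements.S11271
import Groth.Agent.Lib.Helper17.Minors
-- import your own Groth.Agent.* helpers here

set_option autoImplicit false
universe u
open W4bk4grassmannian

namespace Groth.Agent.S11271

open Groth.Agent.Lib.Helper17.Minors

lemma eval_minor {K : Type*} [Field K] {d n : ℕ} (a : Fin d → Fin n)
    (B : Matrix (Fin n) (Fin d) K) :
    MvPolynomial.eval (fun p : Fin n × Fin d => B p.1 p.2) (W4bk4grassmannian.minor K d n a) =
      (B.submatrix a id).det := by
  unfold W4bk4grassmannian.minor
  rw [RingHom.map_det]
  congr 1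
  ext s t
  simp

lemma det_one_updateCol {K : Type*} [Field K] {d : ℕ} (t : Fin d) (v : Fin d → K) :
    ((1 : Matrix (Fin d) (Fin d) K).updateCol t v).det = v t := by
  rw [← Matrix.det_transpose, ← Matrix.updateRow_transpose, Matrix.transpose_one,
    det_one_updateRow]

/-- If `f` vanishes at `s • B` for all nonzero `s` (infinite field), it vanishes at `0`. -/
lemma eval_zero_of_forall_smul {K : Type*} [Field K] [Infinite K] {ι : Type*}
    (f : MvPolynomial ι K) (B : ι → K) (h : ∀ s : K, s ≠ 0 → MvPolynomial.eval (fun p => s * B p) f = 0) :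
    MvPolynomial.eval (fun _ => (0 : K)) f = 0 := by
  let q : Polynomial K := MvPolynomial.eval₂ Polynomial.C (fun p => Polynomial.C (B p) * Polynomial.X) f
  have hq : ∀ s : K, Polynomial.eval s q = MvPolynomial.eval (fun p => s * B p) f := by
    intro s
    have h1 := MvPolynomial.eval₂_comp_left (Polynomial.evalRingHom s) Polynomial.C
      (fun p => Polynomial.C (B p) * Polynomial.X) f
    have h2 : (Polynomial.evalRingHom s).comp Polynomial.C = RingHom.id K := by
      ext a; simp
    rw [h2] at h1
    show (Polynomial.evalRingHom s)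
      (MvPolynomial.eval₂ Polynomial.C (fun p => Polynomial.C (B p) * Polynomial.X) f) = _
    rw [h1]
    simp only [Function.comp_def, Polynomial.coe_evalRingHom, Polynomial.eval_mul,
      Polynomial.eval_C, Polynomial.eval_X]
    simp only [mul_comm]
    rfl
  have hq0 : q = 0 := by
    apply Polynomial.eq_zero_of_infinite_isRoot
    have : ({0}ᶜ : Set K) ⊆ {x | q.IsRoot x} := by
      intro s hs
      simp only [Set.mem_compl_iff, Set.mem_singleton_iff] at hs
      simp only [Set.mem_ofPred_eq, Polynomial.IsRoot.def, hq s]
      exact h s hs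
    exact Set.Infinite.mono this (Set.finite_singleton 0).infinite_compl
  have := hq 0
  rw [hq0, Polynomial.eval_zero] at this
  simpa using this.symm

open W4bk4grassmannian in
/-- Semistable matrices are the matrices of full rank: let K be an algebraically closed field, 0 < d <
n, and let SL_d(K) act on n × d matrices by right multiplication; a matrix A is semistable when the
zero matrix is not in the Zariski closure of its orbit, i.e. when some polynomial in the entries
vanishes at A g for every g ∈ SL_d(K) but not at 0. Then A is semistable if and only if its columns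
are linearly independent. -/
theorem result (K : Type u) [Field K]
    [IsAlgClosed K] (d n : ℕ) (hd : 0 < d) (hdn : d < n) (A : Matrix (Fin n) (Fin d) K) :
    LinearIndependent K A.transpose ↔
      ∃ f : MatRing K d n, (∀ g : Matrix.SpecialLinearGroup (Fin d) K,
        MvPolynomial.eval (fun p : Fin n × Fin d => (A * (g : Matrix (Fin d) (Fin d) K)) p.1 p.2) f = 0) ∧
        MvPolynomial.eval (fun _ : Fin n × Fin d => (0 : K)) f ≠ 0 := by
  constructor
  · intro hA
    obtain ⟨θ, hθ⟩ := exists_det_submatrix_ne_zero A hA
    refine ⟨W4bk4grassmannian.minor K d n θ - MvPolynomial.C (A.submatrix θ id).det, ?_, ?_⟩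
    · intro g
      rw [map_sub, eval_minor, MvPolynomial.eval_C]
      have : (A * (g : Matrix (Fin d) (Fin d) K)).submatrix θ id =
          A.submatrix θ id * (g : Matrix (Fin d) (Fin d) K) := rfl
      rw [this, Matrix.det_mul, Matrix.SpecialLinearGroup.det_coe, mul_one, sub_self]
    · rw [map_sub, MvPolynomial.eval_C]
      have h0 := eval_minor θ (0 : Matrix (Fin n) (Fin d) K)
      simp only [Matrix.zero_apply] at h0
      rw [h0]
      have hz : (0 : Matrix (Fin n) (Fin d) K).submatrix θ id = 0 := rfl
      haveI : Nonempty (Fin d) := ⟨⟨0, hd⟩⟩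
      rw [hz, Matrix.det_zero, zero_sub, neg_ne_zero]
      exact hθ
  · rintro ⟨f, hf, hf0⟩
    by_contra hA
    apply hf0
    have hninj : ¬ Function.Injective A.mulVec := by
      rwa [Matrix.mulVec_injective_iff]
    obtain ⟨v, hv, hv0⟩ : ∃ v : Fin d → K, A.mulVec v = 0 ∧ v ≠ 0 := by
      by_contra hcon
      push Not at hcon
      apply hninj
      intro x y hxy
      have := hcon (x - y) (by rw [Matrix.mulVec_sub, hxy, sub_self])
      exact sub_eq_zero.mp (by simpa using this)
    obtain ⟨i₀, hi₀⟩ : ∃ i, v i ≠ 0 := by
      by_contra hcon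
      push Not at hcon
      exact hv0 (funext hcon)
    set g₀ : Matrix (Fin d) (Fin d) K := (1 : Matrix (Fin d) (Fin d) K).updateCol i₀ v with hg₀
    set B : Matrix (Fin n) (Fin d) K := A * g₀ with hB
    have hBcol : ∀ r, B r i₀ = 0 := by
      intro r
      have : B r i₀ = (A.mulVec v) r := by
        simp only [hB, hg₀, Matrix.mul_apply, Matrix.updateCol_self, Matrix.mulVec, dotProduct]
      rw [this, hv]; rfl
    refine eval_zero_of_forall_smul f (fun p => B p.1 p.2) ?_
    intro s hs
    let D : Matrix (Fin d) (Fin d) K :=
      Matrix.diagonal fun j => if j = i₀ then (v i₀ * s ^ (d - 1))⁻¹ else s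
    have hdetD : D.det = (v i₀ * s ^ (d - 1))⁻¹ * s ^ (d - 1) := by
      simp only [D, Matrix.det_diagonal]
      rw [Finset.prod_eq_mul_prod_sdiff_singleton_of_mem (Finset.mem_univ i₀), if_pos rfl]
      congr 1
      rw [Finset.prod_congr rfl (g := fun _ => s), Finset.prod_const]
      · congr 1
        rw [Finset.sdiff_singleton_eq_erase, Finset.card_erase_of_mem (Finset.mem_univ _),
          Finset.card_univ, Fintype.card_fin]
      · intro j hj
        simp only [Finset.mem_sdiff, Finset.mem_singleton] at hj
        rw [if_neg hj.2]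
    have hdet : (g₀ * D).det = 1 := by
      rw [Matrix.det_mul, hdetD, hg₀, det_one_updateCol]
      field_simp
    have hfg := hf ⟨g₀ * D, hdet⟩
    have hAg : A * ((⟨g₀ * D, hdet⟩ : Matrix.SpecialLinearGroup (Fin d) K) :
        Matrix (Fin d) (Fin d) K) = s • B := by
      show A * (g₀ * D) = s • B
      rw [← Matrix.mul_assoc, ← hB]
      ext r j
      simp only [D, Matrix.mul_diagonal, Matrix.smul_apply, smul_eq_mul]
      by_cases hj : j = i₀
      · subst hj; rw [hBcol r]; simp
      · rw [if_neg hj, mul_comm]
    rw [hAg] at hfg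
    simpa using hfg

end Groth.Agent.S11271
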