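import Groth.Statements.S11298
import Mathlib
-- import your own Groth.Agent.* helpers here

set_option autoImplicit false
universe u v
open LocCoh

open scoped Pointwise

namespace Groth.Agent.S11298

/-- Let X = Spec B be an affine Noetherian scheme, Z = V(I) a closed subscheme and G a coherent sheaf,
i.e. a finitely generated B-module M, with dual G^v = Hom_B(M, B). If depth_Z(O_X) ≥ 2 then
depth_Z(G^v) ≥ 2. Here the depth along I of a module N is the supremum of the lengths of N-regular
sequences contained in I (and is infinite when I N = N). (The published statement adds that sections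
of the dual over X and over X minus Z agree; this row omits that clause.) -/
theorem result (B : Type u) [CommRing B] [IsNoetherianRing B]
    (I : Ideal B) (M : Type v) [AddCommGroup M] [Module B M] [Module.Finite B M]
    (h : 2 ≤ LocCoh.idealDepth I B) : 2 ≤ LocCoh.idealDepth I (M →ₗ[B] B) := by
  classical
  unfold LocCoh.idealDepth at h ⊢
  by_cases hH : I • (⊤ : Submodule B (M →ₗ[B] B)) = ⊤
  · rw [if_pos hH]; exact le_top
  rw [if_neg hH]
  by_cases hB : I • (⊤ : Submodule B B) = ⊤
  · exfalso; apply hH
    have hI : I = ⊤ := by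
      have : I • (⊤ : Submodule B B) = I := by rw [smul_eq_mul, Ideal.mul_top]
      rw [← this]; exact hB
    rw [hI, Submodule.top_smul]
  rw [if_neg hB] at h
  obtain ⟨rs, ⟨hreg, hI⟩, hlen⟩ : ∃ rs : List B,
      (RingTheory.Sequence.IsWeaklyRegular B rs ∧ ∀ r ∈ rs, r ∈ I) ∧ 2 ≤ rs.length := by
    by_contra hne
    push Not at hne
    have hle : (⨆ (rs : List B) (_ : RingTheory.Sequence.IsWeaklyRegular B rs ∧ ∀ r ∈ rs, r ∈ I),
        (rs.length : ℕ∞)) ≤ 1 := by
      refine iSup₂_le fun rs hrs => ?_
      have := hne rs hrs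
      exact_mod_cast Nat.lt_succ_iff.mp this
    exact absurd (h.trans hle) (by decide)
  obtain _ | ⟨r₁, _ | ⟨r₂, rest⟩⟩ := rs
  · simp at hlen
  · simp at hlen
  rw [RingTheory.Sequence.isWeaklyRegular_cons_iff, RingTheory.Sequence.isWeaklyRegular_cons_iff] at hreg
  obtain ⟨h1, h2, -⟩ := hreg
  rw [isSMulRegular_quotient_iff_mem_of_smul_mem] at h2
  have hH1 : IsSMulRegular (M →ₗ[B] B) r₁ := by
    intro f g hfg
    ext x
    have := congrArg (fun φ => φ x) hfg
    simp only [LinearMap.smul_apply] at this
    exact h1 this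
  have hH2 : IsSMulRegular (QuotSMulTop r₁ (M →ₗ[B] B)) r₂ := by
    rw [isSMulRegular_quotient_iff_mem_of_smul_mem]
    intro f hf
    rw [Submodule.mem_smul_pointwise_iff_exists] at hf ⊢
    obtain ⟨g, -, hg⟩ := hf
    have hx : ∀ x, ∃ b : B, r₁ • b = f x := by
      intro x
      have : r₂ • f x ∈ r₁ • (⊤ : Submodule B B) := by
        rw [Submodule.mem_smul_pointwise_iff_exists]
        exact ⟨g x, trivial, by rw [← LinearMap.smul_apply, hg, LinearMap.smul_apply]⟩
      obtain ⟨b, -, hb⟩ := (Submodule.mem_smul_pointwise_iff_exists _ _ _).1 (h2 _ this)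
      exact ⟨b, hb⟩
    choose b hb using hx
    refine ⟨{ toFun := b, map_add' := ?_, map_smul' := ?_ }, trivial, ?_⟩
    · intro x y; apply h1
      change r₁ • b (x + y) = r₁ • (b x + b y)
      rw [smul_add, hb, hb, hb, map_add]
    · intro c x; apply h1
      change r₁ • b (c • x) = r₁ • (c • b x)
      rw [hb, smul_comm, hb, map_smul]
    · ext x
      simp only [LinearMap.smul_apply, LinearMap.coe_mk, AddHom.coe_mk, hb]
  refine le_iSup₂_of_le [r₁, r₂] ⟨?_, ?_⟩ ?_
  · rw [RingTheory.Sequence.isWeaklyRegular_cons_iff, RingTheory.Sequence.isWeaklyRegular_singleton_iff]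
    exact ⟨hH1, hH2⟩
  · intro r hr
    simp only [List.mem_cons, List.not_mem_nil, or_false] at hr
    rcases hr with rfl | rfl
    · exact hI _ (by simp)
    · exact hI _ (by simp)
  · simp

end Groth.Agent.S11298
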