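import Groth.Statements.S11306
import Mathlib.RingTheory.LocalRing.Module
import Mathlib.LinearAlgebra.Dimension.OrzechProperty
-- import your own Groth.Agent.* helpers here

set_option autoImplicit false
universe u
open TensorProduct
open CAlg

namespace Groth.Agent.S11306

/-- Take a Noetherian local domain A, with residue field k and fraction field K, and let M be a finitely
generated A-module. If k ⊗_A M and K ⊗_A M have the same dimension r (over k and over K
respectively), then M is a free A-module of rank r. -/
theorem result (A : Type u) [CommRing A] [IsDomain A]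
    [IsNoetherianRing A] [IsLocalRing A] (M : Type u) [AddCommGroup M] [Module A M] [Module.Finite A M] (r : ℕ)
    (hk : Module.finrank (IsLocalRing.ResidueField A) (IsLocalRing.ResidueField A ⊗[A] M) = r)
    (hK : Module.finrank (FractionRing A) (FractionRing A ⊗[A] M) = r) :
    Module.Free A M ∧ Module.finrank A M = r := by
  let k := IsLocalRing.ResidueField A
  let K := FractionRing A
  let w : Module.Basis (Fin r) k (k ⊗[A] M) := Module.finBasisOfFinrankEq k (k ⊗[A] M) hk
  have hsurj := TensorProduct.mk_surjective A M k Ideal.Quotient.mk_surjective
  choose v hv using fun i => hsurj (w i)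
  have hspan : Submodule.span A (Set.range v) = ⊤ :=
    IsLocalRing.span_eq_top_of_tmul_eq_basis v w (fun i => hv i)
  let v' : Fin r → K ⊗[A] M := fun i => (1 : K) ⊗ₜ v i
  have h1 : ∀ m : M, (1 : K) ⊗ₜ[A] m ∈ Submodule.span K (Set.range v') := by
    intro m
    have hm : m ∈ Submodule.span A (Set.range v) := by rw [hspan]; trivial
    induction hm using Submodule.span_induction with
    | mem x hx =>
      obtain ⟨i, rfl⟩ := hx
      exact Submodule.subset_span ⟨i, rfl⟩
    | zero => rw [TensorProduct.tmul_zero]; exact Submodule.zero_mem _
    | add x y _ _ hx hy => rw [TensorProduct.tmul_add]; exact Submodule.add_mem _ hx hy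
    | smul a x _ hx =>
      rw [TensorProduct.tmul_smul, ← algebraMap_smul K a]
      exact Submodule.smul_mem _ _ hx
  have hspanK : ⊤ ≤ Submodule.span K (Set.range v') := by
    intro z _
    clear ‹z ∈ ⊤›
    induction z using TensorProduct.induction_on with
    | zero => exact Submodule.zero_mem _
    | tmul x m =>
      have : x ⊗ₜ[A] m = x • ((1 : K) ⊗ₜ[A] m) := by
        rw [TensorProduct.smul_tmul', smul_eq_mul, mul_one]
      rw [this]
      exact Submodule.smul_mem _ _ (h1 m)
    | add x y hx hy => exact Submodule.add_mem _ hx hy
  have hliK : LinearIndependent K v' :=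
    linearIndependent_of_top_le_span_of_card_eq_finrank hspanK (by rw [Fintype.card_fin, hK])
  have hli : LinearIndependent A v := by
    rw [linearIndependent_iff']
    intro s g hg i hi
    have e := congrArg (TensorProduct.mk A K M 1) hg
    rw [map_sum, map_zero] at e
    have e' : ∑ j ∈ s, (algebraMap A K (g j)) • v' j = 0 := by
      rw [← e]
      apply Finset.sum_congr rfl
      intro j _
      rw [algebraMap_smul, map_smul]
      rfl
    rw [linearIndependent_iff'] at hliK
    have := hliK s (fun j => algebraMap A K (g j)) e' i hi
    exact (IsFractionRing.injective A K) (by rw [this, map_zero])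
  let b : Module.Basis (Fin r) A M := Module.Basis.mk hli (by rw [hspan])
  exact ⟨Module.Free.of_basis b, by rw [Module.finrank_eq_card_basis b, Fintype.card_fin]⟩

end Groth.Agent.S11306
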