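import Groth.Statements.S11499
import Mathlib.RingTheory.Localization.BaseChange
import Mathlib.RingTheory.Localization.Integer
import Mathlib.LinearAlgebra.Dimension.Free
import Mathlib.LinearAlgebra.Basis.VectorSpace
import Mathlib.RingTheory.TensorProduct.Finite
-- import your own Groth.Agent.* helpers here

set_option autoImplicit false
universe u
open TensorProduct
open VBPn

namespace Groth.Agent.S11499

/-- Let A be an integral domain with fraction field K and M a finitely generated torsion-free A-module
of rank r (K ⊗_A M is r-dimensional over K). Then there is an injective A-linear map M → A^r. The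
published statement is for torsion-free coherent sheaves on a complex manifold, locally near a
point; this row is its statement for one stalk, over any domain. -/
theorem result (A : Type u) [CommRing A] [IsDomain A]
    (M : Type u) [AddCommGroup M] [Module A M] [Module.Finite A M] [NoZeroSMulDivisors A M] (r : ℕ)
    (hr : Module.finrank (FractionRing A) (FractionRing A ⊗[A] M) = r) :
    ∃ f : M →ₗ[A] (Fin r → A), Function.Injective f := by
  let K := FractionRing A
  -- the localization map M → K ⊗ M is injective
  have hloc : IsLocalizedModule (nonZeroDivisors A) (TensorProduct.mk A K M 1) :=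
    (isLocalizedModule_iff_isBaseChange (nonZeroDivisors A) K (TensorProduct.mk A K M 1)).mpr
      (TensorProduct.isBaseChange A M K)
  have hιinj : Function.Injective (TensorProduct.mk A K M 1) := by
    rw [← LinearMap.ker_eq_bot, LinearMap.ker_eq_bot']
    intro m hm
    obtain ⟨⟨s, hs⟩, hsm⟩ := (IsLocalizedModule.eq_zero_iff (nonZeroDivisors A)
      (f := TensorProduct.mk A K M 1)).mp hm
    have hs0 : s ≠ 0 := nonZeroDivisors.ne_zero hs
    exact (smul_eq_zero.mp hsm).resolve_left hs0
  let e : Module.Basis (Fin r) K (K ⊗[A] M) := Module.finBasisOfFinrankEq K (K ⊗[A] M) hr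
  let g : M →ₗ[A] (Fin r → K) :=
    (e.equivFun.toLinearMap.restrictScalars A).comp (TensorProduct.mk A K M 1)
  have hginj : Function.Injective g := e.equivFun.injective.comp hιinj
  obtain ⟨n, v, hv⟩ := Module.Finite.exists_fin (R := A) (M := M)
  obtain ⟨⟨d, hd⟩, hdint⟩ := IsLocalization.exist_integer_multiples (nonZeroDivisors A)
    (Finset.univ : Finset (Fin n × Fin r)) (fun p => g (v p.1) p.2)
  have hd0 : d ≠ 0 := nonZeroDivisors.ne_zero hd
  let j : (Fin r → A) →ₗ[A] (Fin r → K) := LinearMap.pi (fun i =>
    (Algebra.linearMap A K).comp (LinearMap.proj i))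
  have hjinj : Function.Injective j := by
    intro x y hxy
    funext i
    have := congrFun hxy i
    exact IsFractionRing.injective A K this
  let g' : M →ₗ[A] (Fin r → K) := d • g
  have hg'inj : Function.Injective g' := by
    intro x y hxy
    apply hginj
    have h1 : d • g x = d • g y := hxy
    have h2 : (algebraMap A K d) • g x = (algebraMap A K d) • g y := by
      rw [algebraMap_smul, algebraMap_smul]; exact h1
    have hdK : algebraMap A K d ≠ 0 := by
      intro h; exact hd0 (IsFractionRing.injective A K (by rw [h, map_zero]))
    exact smul_right_injective _ hdK h2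
  have hrange : ∀ m, g' m ∈ LinearMap.range j := by
    have hle : (⊤ : Submodule A M) ≤ Submodule.comap g' (LinearMap.range j) := by
      rw [← hv, Submodule.span_le]
      rintro _ ⟨p, rfl⟩
      show g' (v p) ∈ LinearMap.range j
      have : ∀ i, ∃ a : A, algebraMap A K a = d • g (v p) i := fun i =>
        hdint (p, i) (Finset.mem_univ _)
      choose a ha using this
      refine ⟨a, ?_⟩
      funext i
      show algebraMap A K (a i) = _
      rw [ha i]
      rfl
    intro m
    exact hle Submodule.mem_top
  let f : M →ₗ[A] (Fin r → A) :=
    (LinearEquiv.ofInjective j hjinj).symm.toLinearMap.comp (LinearMap.codRestrict _ g' hrange)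
  refine ⟨f, ?_⟩
  intro x y hxy
  apply hg'inj
  have := congrArg (LinearEquiv.ofInjective j hjinj) hxy
  simp only [f, LinearMap.coe_comp, LinearEquiv.coe_coe, Function.comp_apply,
    LinearEquiv.apply_symm_apply] at this
  exact congrArg Subtype.val this

end Groth.Agent.S11499
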