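import Groth.Statements.S11546
import Mathlib.RingTheory.AdicCompletion.AsTensorProduct
import Mathlib.RingTheory.Flat.TorsionFree
import Mathlib.RingTheory.Polynomial.Basic
import Mathlib.RingTheory.Valuation.ValuationRing

set_option autoImplicit false
universe u
open AdicRing

namespace Groth.Agent.S11546

theorem flat_noeth (R : Type u) [CommRing R] [IsNoetherianRing R] (I : Ideal R) (n : ℕ) :
    Module.Flat R (AdicRing.RPow R I n) := by
  have : Module.Flat (MvPolynomial (Fin n) R) (AdicRing.RPow R I n) :=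
    AdicCompletion.flat_of_isNoetherian _
  exact Module.Flat.trans R (MvPolynomial (Fin n) R) (AdicRing.RPow R I n)

theorem mem_pow_smul_top_iff {S : Type u} [CommRing S] (J : Ideal S) (a : S)
    (hJ : J = Ideal.span {a}) (j : ℕ) (z : S) :
    z ∈ (J ^ j • ⊤ : Submodule S S) ↔ a ^ j ∣ z := by
  rw [hJ, Ideal.span_singleton_pow, smul_eq_mul, Ideal.mul_top, Ideal.mem_span_singleton]

theorem pow_dvd_of_ne_zero {R : Type u} [CommRing R] [PreValuationRing R] (t r : R)
    (hH : IsHausdorff (Ideal.span {t}) R) (hr : r ≠ 0) : ∃ m : ℕ, r ∣ t ^ m := by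
  by_contra h
  apply hr
  apply hH.haus r
  intro n
  rw [SModEq.zero, mem_pow_smul_top_iff (Ideal.span {t}) t rfl]
  obtain ⟨c, hc⟩ := PreValuationRing.cond (t ^ n) r
  rcases hc with hc | hc
  · exact ⟨c, hc.symm⟩
  · exact absurd ⟨n, ⟨c, hc.symm⟩⟩ h

theorem torsion_free_completion {S : Type u} [CommRing S] [IsDomain S] (J : Ideal S) (a : S)
    (ha : a ≠ 0) (hJ : J = Ideal.span {a}) (x : AdicCompletion J S) (m : ℕ)
    (hx : a ^ m • x = 0) : x = 0 := by
  ext k
  have hk : a ^ m • x.val (k + m) = 0 := by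
    have := congrArg (fun z : AdicCompletion J S => z.val (k + m)) hx
    simpa [AdicCompletion.val_smul_apply] using this
  obtain ⟨y, hy⟩ := Submodule.Quotient.mk_surjective _ (x.val (k + m))
  rw [← hy, ← Submodule.Quotient.mk_smul, Submodule.Quotient.mk_eq_zero,
    mem_pow_smul_top_iff J a hJ] at hk
  obtain ⟨q, hq⟩ := hk
  have hy' : y = a ^ k * q := by
    have e : a ^ m * y = a ^ m * (a ^ k * q) := by
      rw [smul_eq_mul] at hq; rw [hq]; ring
    exact mul_left_cancel₀ (pow_ne_zero m ha) e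
  rw [← x.prop (Nat.le_add_right k m), ← hy, hy']
  show (Submodule.Quotient.mk (a ^ k * q) : S ⧸ (J ^ k • ⊤ : Submodule S S)) = 0
  rw [Submodule.Quotient.mk_eq_zero, mem_pow_smul_top_iff J a hJ]
  exact dvd_mul_right _ _

theorem result
    (R : Type u) [CommRing R] (I : Ideal R) (hR : AdicRing.IsBase R I) (n : ℕ) :
    Module.Flat R (AdicRing.RPow R I n) := by
  obtain ⟨hcomp, hcase⟩ := hR
  rcases hcase with ⟨hN, -⟩ | ⟨hD, hV, -, t, ht, rfl⟩
  · exact flat_noeth R I n
  · have hVR : ValuationRing R := { toPreValuationRing := hV }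
    rw [Module.Flat.flat_iff_torsion_eq_bot_of_isBezout, eq_bot_iff]
    intro x hx
    rw [Submodule.mem_torsion_iff] at hx
    obtain ⟨⟨r, hr⟩, hrx⟩ := hx
    have hr0 : r ≠ 0 := nonZeroDivisors.ne_zero hr
    obtain ⟨m, s, hs⟩ := pow_dvd_of_ne_zero t r hcomp.toIsHausdorff hr0
    have htx : t ^ m • x = 0 := by
      rw [hs, mul_comm, mul_smul]
      have : r • x = 0 := hrx
      rw [this, smul_zero]
    have hJ : (Ideal.span {t}).map (MvPolynomial.C : R →+* MvPolynomial (Fin n) R) =
        Ideal.span {MvPolynomial.C t} := by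
      rw [Ideal.map_span, Set.image_singleton]
    have hCt : (MvPolynomial.C t : MvPolynomial (Fin n) R) ≠ 0 := by
      rwa [Ne, MvPolynomial.C_eq_zero]
    have hx' : (MvPolynomial.C t : MvPolynomial (Fin n) R) ^ m • x = 0 := by
      have e := algebraMap_smul (MvPolynomial (Fin n) R) (t ^ m) x
      rw [MvPolynomial.algebraMap_eq] at e
      rw [← map_pow]
      exact e.trans htx
    exact (Submodule.mem_bot R).mpr (torsion_free_completion _ _ hCt hJ x m hx')

end Groth.Agent.S11546
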