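import Groth.Statements.S12071
-- import your own Groth.Agent.* helpers here

set_option autoImplicit false
open RootD

namespace Groth.Agent.S12071

/-- Let G be the group generated by two elements x, y subject to x² = y² = 1 (the infinite dihedral
group; here Mathlib's DihedralGroup 0 with x = sr 0 and y = sr 1, so that x y = r 1). Then every
normal subgroup of G containing neither x nor y is generated by an element (x y)^n with n > 0; such
a subgroup is cyclic, generated by r n. (The published statement does not exclude the trivial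
subgroup, for which no n > 0 works; this row assumes the subgroup nontrivial.) -/
theorem result (N : Subgroup (DihedralGroup 0)) [N.Normal]
    (hN : N ≠ ⊥) (hx : DihedralGroup.sr (0 : ZMod 0) ∉ N) (hy : DihedralGroup.sr (1 : ZMod 0) ∉ N) :
    ∃ n : ℕ, 0 < n ∧ N = Subgroup.zpowers (DihedralGroup.r (n : ZMod 0)) := by
  classical
  have hconj : ∀ (i j : ZMod 0), DihedralGroup.sr i ∈ N → DihedralGroup.sr (i - j + -j) ∈ N := by
    intro i j h
    have := ‹N.Normal›.conj_mem _ h (DihedralGroup.r j)
    rwa [DihedralGroup.inv_r, DihedralGroup.r_mul_sr, DihedralGroup.sr_mul_r] at this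
  have hnosr : ∀ i : ZMod 0, DihedralGroup.sr i ∉ N := by
    intro i hi
    obtain ⟨j, hj | hj⟩ : ∃ j : ZMod 0, i = 2 * j ∨ i = 2 * j + 1 := Int.even_or_odd' i
    · apply hx
      have := hconj i j hi
      have e : (i - j + -j : ZMod 0) = 0 := by rw [hj]; ring
      rwa [e] at this
    · apply hy
      have := hconj i j hi
      have e : (i - j + -j : ZMod 0) = 1 := by rw [hj]; ring
      rwa [e] at this
  -- integer parametrisation of rotations
  let R : ℤ → DihedralGroup 0 := fun x => DihedralGroup.r (Int.cast x : ZMod 0)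
  have hRmul : ∀ a b : ℤ, R a * R b = R (a + b) := by
    intro a b; simp only [R, DihedralGroup.r_mul_r, Int.cast_add]
  have hRinv : ∀ a : ℤ, (R a)⁻¹ = R (-a) := by
    intro a; simp only [R, DihedralGroup.inv_r, Int.cast_neg]
  have hRpow : ∀ a q : ℤ, (R a) ^ q = R (a * q) := by
    intro a q; simp only [R, DihedralGroup.r_zpow, Int.cast_mul]
  have hRsurj : ∀ k : ZMod 0, ∃ m : ℤ, DihedralGroup.r k = R m := fun k => ⟨ZMod.cast k, by simp [R, ZMod.intCast_cast]⟩
  have hRnat : ∀ m : ℕ, DihedralGroup.r (m : ZMod 0) = R (m : ℤ) := by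
    intro m; simp only [R, Int.cast_natCast]
  have hR1 : ∀ a : ℤ, R a = 1 → a = 0 := by
    intro a h
    have h' : DihedralGroup.r (Int.cast a : ZMod 0) = DihedralGroup.r 0 := h
    have := DihedralGroup.r.inj h'
    exact_mod_cast this
  -- positive rotations in N
  have hex : ∃ k : ℕ, 0 < k ∧ DihedralGroup.r (k : ZMod 0) ∈ N := by
    obtain ⟨⟨g, hg⟩, hg1⟩ := (Subgroup.ne_bot_iff_exists_ne_one).mp hN
    cases g with
    | sr i => exact absurd hg (hnosr i)
    | r k =>
      obtain ⟨m, hm⟩ := hRsurj k
      have hg1' : R m ≠ 1 := fun h => hg1 (Subtype.ext (hm.trans h))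
      rw [hm] at hg
      have hk : m ≠ 0 := by
        intro h0; apply hg1'; rw [h0]; simp [R]
      refine ⟨m.natAbs, Int.natAbs_pos.mpr hk, ?_⟩
      rw [hRnat]
      rcases Int.natAbs_eq m with h | h
      · rw [← h]; exact hg
      · have h2 := N.inv_mem hg
        rw [hRinv] at h2
        convert h2 using 2
        omega
  let n := Nat.find hex
  have hn : 0 < n ∧ DihedralGroup.r (n : ZMod 0) ∈ N := Nat.find_spec hex
  have hmin : ∀ m : ℕ, m < n → ¬ (0 < m ∧ DihedralGroup.r (m : ZMod 0) ∈ N) :=
    fun m hm => Nat.find_min hex hm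
  have hnR : R (n : ℤ) ∈ N := by rw [← hRnat]; exact hn.2
  refine ⟨n, hn.1, le_antisymm ?_ ?_⟩
  · intro g hg
    cases g with
    | sr i => exact absurd hg (hnosr i)
    | r k =>
      obtain ⟨m, hm⟩ := hRsurj k
      rw [hm] at hg ⊢
      rw [hRnat]
      have hk : m % (n : ℤ) + (n : ℤ) * (m / (n : ℤ)) = m := Int.emod_add_mul_ediv _ _
      have hnpos : (0 : ℤ) < (n : ℤ) := by exact_mod_cast hn.1
      have hrem0 : 0 ≤ m % (n : ℤ) := Int.emod_nonneg _ (ne_of_gt hnpos)
      have hremlt : m % (n : ℤ) < (n : ℤ) := Int.emod_lt_of_pos _ hnpos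
      have hremmem : R (m % (n : ℤ)) ∈ N := by
        have h1 : R m * ((R (n : ℤ)) ^ (m / (n : ℤ)))⁻¹ ∈ N :=
          N.mul_mem hg (N.inv_mem (N.zpow_mem hnR _))
        rw [hRpow, hRinv, hRmul] at h1
        convert h1 using 2
        omega
      have hrem : m % (n : ℤ) = 0 := by
        by_contra hne
        have hpos : 0 < (m % (n : ℤ)).toNat := by omega
        apply hmin _ (by omega) ⟨hpos, ?_⟩
        rw [hRnat]
        convert hremmem using 2
        omega
      refine ⟨m / (n : ℤ), ?_⟩
      change (R (n : ℤ)) ^ (m / (n : ℤ)) = R m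
      rw [hRpow]
      congr 1
      omega
  · exact (Subgroup.zpowers_le).mpr hn.2

end Groth.Agent.S12071
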