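import Groth.Statements.S12076
-- import your own Groth.Agent.* helpers here

set_option autoImplicit false
open RootD

namespace Groth.Agent.S12076

/-- Let Δ be a system of simple roots (a base b of a root pairing P over ℤ) and Γ₀ the subgroup
generated by the roots. Then Γ₀ has a structure of totally ordered group for which the roots > 0 are
exactly the positive roots defined by Δ and for which the height (the additive function with value 1
on each simple root) is monotone. The order is given here by its positive cone C ⊆ Γ₀: 0 ∉ C, C + C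
⊆ C, and for every x ≠ 0 exactly one of x, −x lies in C (x < y meaning y − x ∈ C). -/
theorem result {ι M N : Type*} [AddCommGroup M] [AddCommGroup N]
    (P : RootPairing ι ℤ M N) [Finite ι] (b : P.Base) :
    ∃ C : Set ↥(Submodule.span ℤ (Set.range P.root)),
      0 ∉ C ∧ (∀ x ∈ C, ∀ y ∈ C, x + y ∈ C) ∧ (∀ x, x ≠ 0 → (x ∈ C ∨ -x ∈ C)) ∧ (∀ x ∈ C, -x ∉ C) ∧
      (∀ i : ι, (⟨P.root i, Submodule.subset_span (Set.mem_range_self i)⟩ : ↥(Submodule.span ℤ (Set.range P.root))) ∈ C ↔
        b.IsPos i) ∧
      ∀ φ : ↥(Submodule.span ℤ (Set.range P.root)) →+ ℤ,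
        (∀ j ∈ b.support, φ ⟨P.root j, Submodule.subset_span (Set.mem_range_self j)⟩ = 1) →
        ∀ x y : ↥(Submodule.span ℤ (Set.range P.root)), y - x ∈ C → φ x ≤ φ y := by
  classical
  obtain ⟨n, ⟨e⟩⟩ := Finite.exists_equiv_fin ι
  letI : LinearOrder ι := LinearOrder.lift' e e.injective
  set Γ := Submodule.span ℤ (Set.range P.root) with hΓ
  let β : Module.Basis b.support ℤ Γ := b.toWeightBasisInt
  have hβ : ∀ j : b.support, (β j : M) = P.root j := fun j => b.coe_toWeightBasisInt_apply j
  let ht : Γ →ₗ[ℤ] ℤ := β.constr ℤ (fun _ => 1)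
  have htβ : ∀ j : b.support, ht (β j) = 1 := fun j => by
    simp only [ht, Module.Basis.constr_basis]
  let lexv : Γ → Lex (b.support →₀ ℤ) := fun x => toLex (β.repr x)
  have lexv_add : ∀ x y, lexv (x + y) = lexv x + lexv y := fun x y => by
    simp only [lexv, map_add, toLex_add]
  have lexv_neg : ∀ x, lexv (-x) = - lexv x := fun x => by
    simp only [lexv, map_neg, toLex_neg]
  have lexv_zero : lexv 0 = 0 := by simp only [lexv, map_zero, toLex_zero]
  have lexv_eq_zero : ∀ x, lexv x = 0 → x = 0 := fun x hx => by
    have : β.repr x = 0 := by simpa [lexv] using hx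
    simpa using this
  -- the height of a root
  have hroot : ∀ i : ι, ht ⟨P.root i, Submodule.subset_span (Set.mem_range_self i)⟩ = b.height i := by
    intro i
    obtain ⟨f, -, -, hf⟩ := b.exists_root_eq_sum_int i
    rw [RootPairing.Base.height_eq_sum hf]
    have e1 : (⟨P.root i, Submodule.subset_span (Set.mem_range_self i)⟩ : Γ) =
        ∑ j : b.support, f j • β j := by
      apply Subtype.ext
      simp only [Submodule.coe_sum, Submodule.coe_smul, hβ]
      rw [hf, ← Finset.sum_coe_sort b.support]
    rw [e1, map_sum]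
    simp only [map_zsmul, htβ, smul_eq_mul, mul_one]
    exact Finset.sum_coe_sort b.support f
  refine ⟨{x | 0 < ht x ∨ (ht x = 0 ∧ 0 < lexv x)}, ?_, ?_, ?_, ?_, ?_, ?_⟩
  · simp [lexv_zero]
  · rintro x (hx | ⟨hx0, hx⟩) y (hy | ⟨hy0, hy⟩)
    · left; rw [map_add]; omega
    · left; rw [map_add]; omega
    · left; rw [map_add]; omega
    · right; rw [map_add, hx0, hy0, lexv_add]; exact ⟨rfl, add_pos hx hy⟩
  · intro x hx
    rcases lt_trichotomy (ht x) 0 with h | h | h
    · right; left; rw [map_neg]; omega
    · rcases lt_trichotomy (lexv x) 0 with h' | h' | h'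
      · right; right; rw [map_neg, h, neg_zero, lexv_neg]; exact ⟨rfl, neg_pos.2 h'⟩
      · exact absurd (lexv_eq_zero x h') hx
      · left; right; exact ⟨h, h'⟩
    · left; left; exact h
  · rintro x (hx | ⟨hx0, hx⟩) (hnx | ⟨hnx0, hnx⟩)
    · rw [map_neg] at hnx; omega
    · rw [map_neg] at hnx0; omega
    · rw [map_neg] at hnx; omega
    · rw [lexv_neg] at hnx
      have := add_pos hx hnx
      rw [add_neg_cancel] at this
      exact lt_irrefl _ this
  · intro i
    rw [b.isPos_iff]
    simp only [Set.mem_setOf_eq, hroot]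
    constructor
    · rintro (h | ⟨h, -⟩)
      · exact h
      · exact absurd h (b.height_ne_zero i)
    · intro h; left; exact h
  · intro φ hφ x y hxy
    have hφht : φ.toIntLinearMap = ht := by
      refine β.ext fun j => ?_
      rw [htβ]
      have : β j = ⟨P.root j, Submodule.subset_span (Set.mem_range_self (j : ι))⟩ :=
        Subtype.ext (hβ j)
      rw [this]
      exact hφ j j.2
    have hle : 0 ≤ ht (y - x) := by
      rcases hxy with h | ⟨h, -⟩
      · exact h.le
      · exact h.ge
    have e2 : φ (y - x) = ht (y - x) := by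
      rw [← hφht]; rfl
    rw [map_sub] at e2
    omega

end Groth.Agent.S12076
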