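import Groth.Statements.S12249
import Groth.Agent.Lib.H18.ArtFunDeriv
import Groth.Prelude.Def_ArtFun5
import Mathlib.LinearAlgebra.Basis.VectorSpace
import Mathlib.RingTheory.Nakayama
-- import your own Groth.Agent.* helpers here

set_option autoImplicit false
universe u v
open CategoryTheory
open Deform

namespace Groth.Agent.S12249

/-- Let k be an algebraically closed field and F a set-valued functor on local Artinian k-algebras with
residue field k such that F(k) is a single point. If F has a semiuniversal formal element and its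
tangent space F(k[ε]) is reduced to one element, then F(A) consists of exactly one element for every
A: F is the constant one-point functor h_k. -/
theorem result
    {k : Type u} [Field k] [IsAlgClosed k]
    (F : ArtFun.Art k k ⥤ Type v) (h0 : ArtFun.H0 F) (hF : ArtFun.HasHull F)
    (ht : Subsingleton (ArtFun.TangentSpace F)) (A : ArtFun.Art k k) :
    Nonempty (F.obj A) ∧ Subsingleton (F.obj A) := by
  obtain ⟨⟨R, ξ, hξ⟩⟩ := hF
  have hker : RingHom.ker R.res = IsLocalRing.maximalIdeal R.carrier := by
    ext r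
    rw [RingHom.mem_ker, ArtFun.CRing.mem_maximalIdeal_iff]
  -- the maximal ideal of the hull vanishes
  have hm : IsLocalRing.maximalIdeal R.carrier = ⊥ := by
    by_contra hne
    have hnle : ¬ (IsLocalRing.maximalIdeal R.carrier ≤ (IsLocalRing.maximalIdeal R.carrier) ^ 2) := by
      intro hle
      apply hne
      apply Submodule.eq_bot_of_le_smul_of_le_jacobson_bot (IsLocalRing.maximalIdeal R.carrier)
      · exact IsNoetherian.noetherian _
      · rw [pow_two] at hle; exact hle
      · rw [IsLocalRing.jacobson_eq_maximalIdeal ⊥ bot_ne_top]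
    obtain ⟨x, hxm, hx2⟩ := Set.not_subset.mp hnle
    let W : Submodule k R.carrier := Submodule.span k {1} ⊔
      ((IsLocalRing.maximalIdeal R.carrier) ^ 2).restrictScalars k
    have hxW : x ∉ W := by
      intro hxW
      obtain ⟨y, hy, z, hz, hyz⟩ := Submodule.mem_sup.mp hxW
      obtain ⟨c, rfl⟩ := Submodule.mem_span_singleton.mp hy
      have hrx : R.res x = 0 := (ArtFun.CRing.mem_maximalIdeal_iff R x).1 hxm
      have hz' : z ∈ (IsLocalRing.maximalIdeal R.carrier) ^ 2 := hz
      have hrz : R.res z = 0 :=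
        (ArtFun.CRing.mem_maximalIdeal_iff R z).1 (Ideal.pow_le_self two_ne_zero hz')
      have hc : c = 0 := by
        have := congrArg R.res hyz
        rw [map_add, map_smul, map_one, hrz, hrx, smul_eq_mul, mul_one, add_zero] at this
        exact this
      rw [hc, zero_smul, zero_add] at hyz
      exact hx2 (hyz ▸ hz')
    obtain ⟨L, hLx, hWL⟩ := Submodule.exists_le_ker_of_notMem hxW
    have hL1 : L 1 = 0 := hWL (Submodule.mem_sup_left (Submodule.mem_span_singleton_self 1))
    have hL2 : ∀ f ∈ (RingHom.ker R.res) ^ 2, L f = 0 := by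
      intro f hf
      rw [hker] at hf
      exact hWL (Submodule.mem_sup_right (show f ∈ ((IsLocalRing.maximalIdeal R.carrier) ^ 2).restrictScalars k from hf))
    have h01 : (0 : R.carrier →ₗ[k] k) 1 = 0 := rfl
    have h02 : ∀ f ∈ (RingHom.ker R.res) ^ 2, (0 : R.carrier →ₗ[k] k) f = 0 := fun _ _ => rfl
    let u₁ : ArtFun.HomSet R.carrier R.res (ArtFun.Art.dual k k) :=
      ⟨Groth.Agent.H18.toArtDual R.res L hL1 hL2, Groth.Agent.H18.toArtDual_res R.res L hL1 hL2⟩
    let u₀ : ArtFun.HomSet R.carrier R.res (ArtFun.Art.dual k k) :=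
      ⟨Groth.Agent.H18.toArtDual R.res 0 h01 h02, Groth.Agent.H18.toArtDual_res R.res 0 h01 h02⟩
    have hne' : u₁ ≠ u₀ := by
      intro h
      apply hLx
      have e := congrArg (fun u : ArtFun.HomSet R.carrier R.res (ArtFun.Art.dual k k) =>
        (show DualNumber k from u.1 x).snd) h
      have e1 : (show DualNumber k from u₁.1 x).snd = L x :=
        Groth.Agent.H18.toDualOfLinear_snd R.res L hL1 hL2 x
      have e0 : (show DualNumber k from u₀.1 x).snd = 0 :=
        Groth.Agent.H18.toDualOfLinear_snd R.res 0 h01 h02 x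
      exact e1.symm.trans (e.trans e0)
    exact hne' (hξ.2.1 (@Subsingleton.elim _ ht _ _))
  -- hence `h_R(A)` is a point for every `A`
  have hR_eq : ∀ r : R.carrier, r = algebraMap k R.carrier (R.res r) := by
    intro r
    have : r - algebraMap k R.carrier (R.res r) ∈ IsLocalRing.maximalIdeal R.carrier := by
      rw [ArtFun.CRing.mem_maximalIdeal_iff, map_sub, AlgHom.commutes]
      simp
    rw [hm, Ideal.mem_bot, sub_eq_zero] at this
    exact this
  have hsub : ∀ B : ArtFun.Art k k, Subsingleton (ArtFun.HomSet R.carrier R.res B) := by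
    intro B
    constructor
    intro φ ψ
    apply Subtype.ext
    apply AlgHom.ext
    intro r
    rw [hR_eq r, AlgHom.commutes, AlgHom.commutes]
  have hne : ∀ B : ArtFun.Art k k, Nonempty (ArtFun.HomSet R.carrier R.res B) := by
    intro B
    refine ⟨⟨(Algebra.ofId k B).comp R.res, ?_⟩⟩
    ext r
    simp
  -- and `ξ` is objectwise surjective
  have hsurj : Function.Surjective (ξ.app A) := by
    intro y
    obtain ⟨φ⟩ := hne (ArtFun.Art.base k k)
    obtain ⟨ψ, -, hψ⟩ := hξ.1 (ArtFun.Art.toBase A) (fun a => A.res_surjective a) φ y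
      (@Subsingleton.elim _ h0.2 _ _)
    exact ⟨ψ, hψ⟩
  obtain ⟨φ⟩ := hne A
  refine ⟨⟨ξ.app A φ⟩, ⟨fun a b => ?_⟩⟩
  obtain ⟨ψa, rfl⟩ := hsurj a
  obtain ⟨ψb, rfl⟩ := hsurj b
  rw [@Subsingleton.elim _ (hsub A) ψa ψb]

end Groth.Agent.S12249
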