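import Groth.Statements.S12250
import Groth.Agent.Lib.H18.ArtFunTrunc
-- import your own Groth.Agent.* helpers here

set_option autoImplicit false
universe u v
open CategoryTheory
open Deform

namespace Groth.Agent.S12250

open Groth.Agent.H18

/-- Let k be an algebraically closed field, Λ a complete local Noetherian k-algebra with residue field
k, R a complete local Noetherian Λ-algebra with residue field k and F a set-valued functor on local
Artinian Λ-algebras with residue field k. Then the map sending a morphism of functors h_R → F to its
formal element (the compatible sequence of its values on the quotient maps R → R/m^(n+1), n ≥ 0) is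
a bijection between morphisms h_R → F and formal elements of F over R. -/
theorem result
    {k Λ : Type u} [Field k] [IsAlgClosed k] [CommRing Λ] [IsLocalRing Λ] [IsNoetherianRing Λ]
    [IsAdicComplete (IsLocalRing.maximalIdeal Λ) Λ] [Algebra k Λ] [Algebra Λ k] [IsScalarTower k Λ k]
    (R : ArtFun.CRing Λ k) (F : ArtFun.Art Λ k ⥤ Type v) :
    Function.Bijective (fun ξ : ArtFun.Family R.carrier R.res F => ξ.toFormalElt) := by
  constructor
  · intro ξ₁ ξ₂ h
    have key : ∀ (A : ArtFun.Art Λ k) (φ : ArtFun.HomSet R.carrier R.res A), ξ₁.app A φ = ξ₂.app A φ := by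
      intro A φ
      obtain ⟨n, hn⟩ := exists_kill R φ
      have e := truncLift_truncHom R φ n hn
      calc ξ₁.app A φ = ξ₁.app A (ArtFun.HomSet.map (truncLift R φ n hn) (R.truncHom n)) := by rw [e]
        _ = F.map (truncLift R φ n hn) (ξ₁.app _ (R.truncHom n)) := ξ₁.natural _ _
        _ = F.map (truncLift R φ n hn) (ξ₂.app _ (R.truncHom n)) := by
          congr 1
          exact congrArg (fun u => u.elt n) h
        _ = ξ₂.app A (ArtFun.HomSet.map (truncLift R φ n hn) (R.truncHom n)) := (ξ₂.natural _ _).symm
        _ = ξ₂.app A φ := by rw [e]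
    cases ξ₁ with
    | mk app₁ nat₁ =>
      cases ξ₂ with
      | mk app₂ nat₂ =>
        have : app₁ = app₂ := funext fun A => funext fun φ => key A φ
        subst this
        rfl
  · intro u
    let V : ∀ (A : ArtFun.Art Λ k) (φ : ArtFun.HomSet R.carrier R.res A) (n : ℕ),
        (∀ a ∈ R.mpow n, φ.1 a = 0) → F.obj A :=
      fun A φ n h => F.map (truncLift R φ n h) (u.elt n)
    have hVsucc : ∀ A φ n h, V A φ (n + 1) (kill_succ R φ h) = V A φ n h := by
      intro A φ n h
      change F.map (truncLift R φ (n + 1) (kill_succ R φ h)) (u.elt (n + 1)) =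
        F.map (truncLift R φ n h) (u.elt n)
      rw [← truncMap_comp_truncLift, F.map_comp_apply, u.compat]
    have hVmono : ∀ A φ n h (d : ℕ), V A φ (n + d) (kill_mono R φ (Nat.le_add_right n d) h) = V A φ n h := by
      intro A φ n h d
      induction d with
      | zero => rfl
      | succ d ih =>
        rw [← ih]
        exact hVsucc A φ (n + d) _
    have hV : ∀ A φ n h n' h', V A φ n h = V A φ n' h' := by
      intro A φ n h n' h'
      rcases le_total n n' with hle | hle
      · obtain ⟨d, rfl⟩ := Nat.exists_eq_add_of_le hle
        exact (hVmono A φ n h d).symm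
      · obtain ⟨d, rfl⟩ := Nat.exists_eq_add_of_le hle
        exact hVmono A φ n' h' d
    let ξ : ArtFun.Family R.carrier R.res F :=
      { app := fun A φ => V A φ (Classical.choose (exists_kill R φ)) (Classical.choose_spec (exists_kill R φ))
        natural := by
          intro A B f φ
          have hn := Classical.choose_spec (exists_kill R φ)
          rw [hV B (ArtFun.HomSet.map f φ) _ _ (Classical.choose (exists_kill R φ)) (kill_map R φ f hn)]
          change F.map (truncLift R (ArtFun.HomSet.map f φ) _ (kill_map R φ f hn)) (u.elt _) =
            F.map f (F.map (truncLift R φ _ hn) (u.elt _))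
          rw [truncLift_comp R φ f _ hn, F.map_comp_apply] }
    refine ⟨ξ, ?_⟩
    apply ArtFun.FormalElt.ext'
    intro n
    change V (R.trunc n) (R.truncHom n) _ _ = u.elt n
    rw [hV (R.trunc n) (R.truncHom n) _ _ n (truncHom_kill R n)]
    change F.map (truncLift R (R.truncHom n) n (truncHom_kill R n)) (u.elt n) = u.elt n
    rw [truncLift_self, F.map_id_apply]

end Groth.Agent.S12250
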