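import Groth.Statements.S12252
import Groth.Agent.Lib.H18.ArtFunLiftSeq
-- import your own Groth.Agent.* helpers here

set_option autoImplicit false
universe u v
open CategoryTheory
open Deform

namespace Groth.Agent.S12252

open Groth.Agent.H18

/-- Let k be an algebraically closed field, Λ a complete local Noetherian k-algebra with residue field k
and F a set-valued functor on local Artinian Λ-algebras with residue field k. If (R, u) and (S, v)
both prorepresent F (complete local Noetherian Λ-algebras with residue field k carrying universal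
families), then there is a unique isomorphism of Λ-algebras R ≅ S, compatible with the augmentations
to k, along which the universal family of R is transported to that of S. -/
theorem result
    {k Λ : Type u} [Field k] [IsAlgClosed k] [CommRing Λ] [IsLocalRing Λ] [IsNoetherianRing Λ]
    [IsAdicComplete (IsLocalRing.maximalIdeal Λ) Λ] [Algebra k Λ] [Algebra Λ k] [IsScalarTower k Λ k]
    {F : ArtFun.Art Λ k ⥤ Type v} (P Q : ArtFun.ProRep F) :
    ∃! e : P.ring.carrier ≃ₐ[Λ] Q.ring.carrier,
      ∃ he : Q.ring.res.comp e.toAlgHom = P.ring.res, P.family.along e.toAlgHom he = Q.family := by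
  have hPv := isVersal_of_isUniversal P.family P.universal
  have hQv := isVersal_of_isUniversal Q.family Q.universal
  have hPs : ∀ A, Function.Surjective (P.family.app A) := fun A => (P.universal A).2
  have hQs : ∀ A, Function.Surjective (Q.family.app A) := fun A => (Q.universal A).2
  obtain ⟨ψ, hψ, hψe⟩ := exists_along_eq_push (𝟙 F) Q.ring Q.family P.ring P.family hPv hPs
  obtain ⟨φ, hφ, hφe⟩ := exists_along_eq_push (𝟙 F) P.ring P.family Q.ring Q.family hQv hQs
  have hψe' : ∀ (A : ArtFun.Art Λ k) (u : ArtFun.HomSet Q.ring.carrier Q.ring.res A),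
      P.family.app A ⟨u.1.comp ψ, by rw [← AlgHom.comp_assoc, u.2, hψ]⟩ = Q.family.app A u :=
    fun A u => hψe A u
  have hφe' : ∀ (A : ArtFun.Art Λ k) (u : ArtFun.HomSet P.ring.carrier P.ring.res A),
      Q.family.app A ⟨u.1.comp φ, by rw [← AlgHom.comp_assoc, u.2, hφ]⟩ = P.family.app A u :=
    fun A u => hφe A u
  have hψφ : ψ.comp φ = AlgHom.id Λ Q.ring.carrier := by
    apply algHom_eq_of_truncHom_comp_eq Q.ring
    intro n
    let u' : ArtFun.HomSet P.ring.carrier P.ring.res (Q.ring.trunc n) :=
      ⟨(Q.ring.truncHom n).1.comp ψ, by rw [← AlgHom.comp_assoc, (Q.ring.truncHom n).2, hψ]⟩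
    have h1 : Q.family.app (Q.ring.trunc n)
        ⟨(Q.ring.truncHom n).1.comp (ψ.comp φ), by
          rw [← AlgHom.comp_assoc, (Q.ring.truncHom n).2, ← AlgHom.comp_assoc, hψ, hφ]⟩ =
        Q.family.app (Q.ring.trunc n) (Q.ring.truncHom n) :=
      (hφe' _ u').trans (hψe' _ (Q.ring.truncHom n))
    have h2 := congrArg Subtype.val ((Q.universal (Q.ring.trunc n)).1 h1)
    exact h2.trans (AlgHom.comp_id _).symm
  have hφψ : φ.comp ψ = AlgHom.id Λ P.ring.carrier := by
    apply algHom_eq_of_truncHom_comp_eq P.ring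
    intro n
    let u' : ArtFun.HomSet Q.ring.carrier Q.ring.res (P.ring.trunc n) :=
      ⟨(P.ring.truncHom n).1.comp φ, by rw [← AlgHom.comp_assoc, (P.ring.truncHom n).2, hφ]⟩
    have h1 : P.family.app (P.ring.trunc n)
        ⟨(P.ring.truncHom n).1.comp (φ.comp ψ), by
          rw [← AlgHom.comp_assoc, (P.ring.truncHom n).2, ← AlgHom.comp_assoc, hφ, hψ]⟩ =
        P.family.app (P.ring.trunc n) (P.ring.truncHom n) :=
      (hψe' _ u').trans (hφe' _ (P.ring.truncHom n))
    have h2 := congrArg Subtype.val ((P.universal (P.ring.trunc n)).1 h1)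
    exact h2.trans (AlgHom.comp_id _).symm
  let e : P.ring.carrier ≃ₐ[Λ] Q.ring.carrier := AlgEquiv.ofAlgHom ψ φ hψφ hφψ
  refine ⟨e, ⟨hψ, family_ext fun A u => hψe' A u⟩, ?_⟩
  rintro e' ⟨he', h'⟩
  apply AlgEquiv.coe_toAlgHom_injective
  change e'.toAlgHom = ψ
  apply algHom_eq_of_truncHom_comp_eq Q.ring
  intro n
  have h1 : P.family.app (Q.ring.trunc n)
      ⟨(Q.ring.truncHom n).1.comp e'.toAlgHom, by rw [← AlgHom.comp_assoc, (Q.ring.truncHom n).2, he']⟩ =
      P.family.app (Q.ring.trunc n)
      ⟨(Q.ring.truncHom n).1.comp ψ, by rw [← AlgHom.comp_assoc, (Q.ring.truncHom n).2, hψ]⟩ :=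
    (congrArg (fun ξ : ArtFun.Family Q.ring.carrier Q.ring.res F => ξ.app _ (Q.ring.truncHom n)) h').trans
      (hψe' _ (Q.ring.truncHom n)).symm
  exact congrArg Subtype.val ((P.universal (Q.ring.trunc n)).1 h1)

end Groth.Agent.S12252
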