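import Groth.Statements.S12257
import Mathlib.CategoryTheory.Limits.Types.Pullbacks
import Mathlib.CategoryTheory.Limits.Shapes.Pullback.IsPullback.Basic
import Mathlib.CategoryTheory.Limits.FunctorCategory.Basic
-- import your own Groth.Agent.* helpers here

set_option autoImplicit false
universe u v
open CategoryTheory CategoryTheory.Limits
open Deform

namespace Groth.Agent.S12257

/-- Let k be an algebraically closed field, Λ a complete local Noetherian k-algebra with residue field
k, and F, G, H set-valued functors on local Artinian Λ-algebras with residue field k, each with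
one-point value at k. If F → G is a smooth morphism of functors and H → G is any morphism, then the
second projection F ×_G H → H of the fibre product of functors is smooth. -/
theorem result
    {k Λ : Type u} [Field k] [IsAlgClosed k] [CommRing Λ] [IsLocalRing Λ] [IsNoetherianRing Λ]
    [IsAdicComplete (IsLocalRing.maximalIdeal Λ) Λ] [Algebra k Λ] [Algebra Λ k] [IsScalarTower k Λ k]
    {F G H : ArtFun.Art Λ k ⥤ Type v} (η : F ⟶ G) (θ : H ⟶ G)
    (hF : ArtFun.H0 F) (hG : ArtFun.H0 G) (hH : ArtFun.H0 H) (hη : ArtFun.IsSmooth η) :
    ArtFun.IsSmooth (pullback.snd η θ) := by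
  rintro B A μ hμ ⟨⟨x, z⟩, hxz⟩
  change (pullback.snd η θ).app A x = H.map μ z at hxz
  have hPA := (IsPullback.of_hasPullback η θ).app A
  have hPB := (IsPullback.of_hasPullback η θ).app B
  have hc : η.app A ((pullback.fst η θ).app A x) = θ.app A ((pullback.snd η θ).app A x) := by
    have := ConcreteCategory.congr_hom hPA.w x
    simpa using this
  have hrel : η.app A ((pullback.fst η θ).app A x) = G.map μ (θ.app B z) := by
    rw [hc, hxz, NatTrans.naturality_apply]
  obtain ⟨y, hy⟩ := hη μ hμ ⟨((pullback.fst η θ).app A x, θ.app B z), hrel⟩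
  have hy1 : F.map μ y = (pullback.fst η θ).app A x := congrArg (fun t => t.1.1) hy
  have hy2 : η.app B y = θ.app B z := congrArg (fun t => t.1.2) hy
  obtain ⟨w, hw1, hw2⟩ := Limits.Types.exists_of_isPullback hPB y z hy2
  refine ⟨w, ?_⟩
  apply Subtype.ext
  apply Prod.ext
  · change (pullback η θ).map μ w = x
    apply Limits.Types.ext_of_isPullback hPA
    · rw [NatTrans.naturality_apply, hw1, hy1]
    · rw [NatTrans.naturality_apply, hw2, hxz]
  · exact hw2

end Groth.Agent.S12257
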