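import Groth.Statements.S12286
-- import your own Groth.Agent.* helpers here

set_option autoImplicit false
universe u w m
open scoped TensorProduct
open DefT

namespace Groth.Agent.S12286

/-- Let A → B be a ring homomorphism, P a presentation of B over A and M a B-module. The canonical
B-linear map from the A-derivations Der_A(B, M) = Hom_B(Ω_{B/A}, M) to T^0(B/A, M) (the kernel of
Hom_B(L₀, M) → Hom_B(L₁, M), L₀ = B ⊗_R Ω_{R/A}), sending a derivation D to b ⊗ dr ↦ b·D(r̄), is
bijective. -/
theorem result
    (A B : Type u) [CommRing A] [CommRing B] [Algebra A B] (ι σ : Type w) (P : Algebra.Presentation A B ι σ)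
    (M : Type m) [AddCommGroup M] [Module B M] [Module A M] [IsScalarTower A B M] :
    Function.Bijective (CotT.derToT0 P M) := by
  classical
  have hlift : ∀ D : Derivation A B M,
      CotT.derLift P M D = D.liftKaehlerDifferential ∘ₗ P.toExtension.toKaehler := by
    intro D
    apply (P.cotangentSpaceBasis).ext
    intro i
    rw [CotT.derLift_basis, LinearMap.comp_apply, Algebra.Generators.toKaehler_cotangentSpaceBasis,
      Derivation.liftKaehlerDifferential_comp_D]
  have hcot : Function.Surjective (CotT.toCot P) := by
    intro c
    obtain ⟨x, rfl⟩ := Algebra.Extension.Cotangent.mk_surjective c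
    have hx : (x : P.toExtension.Ring) ∈ LinearMap.range (CotT.jmap P) := by
      rw [CotT.range_jmap]; exact x.2
    obtain ⟨f, hf⟩ := hx
    refine ⟨(1 : B) ⊗ₜ f, ?_⟩
    rw [CotT.toCot_tmul, one_smul]
    congr 1
    exact Subtype.ext hf
  constructor
  · intro D D' h
    have h1 : CotT.derLift P M D = CotT.derLift P M D' := congrArg Subtype.val h
    rw [hlift, hlift] at h1
    have h2 : D.liftKaehlerDifferential = D'.liftKaehlerDifferential := by
      apply LinearMap.ext
      intro x
      obtain ⟨y, rfl⟩ := P.toExtension.toKaehler_surjective x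
      exact congrArg (fun g => g y) h1
    rw [← D.liftKaehlerDifferential_comp, ← D'.liftKaehlerDifferential_comp, h2]
  · rintro ⟨φ, hφ⟩
    have hφ0 : φ ∘ₗ CotT.d1 P = 0 := by
      rw [LinearMap.mem_ker, CotT.d1Star_apply] at hφ
      exact hφ
    have hφ' : φ ∘ₗ P.toExtension.cotangentComplex = 0 := by
      apply LinearMap.ext
      intro c
      obtain ⟨l, rfl⟩ := hcot c
      exact congrArg (fun g => g l) hφ0
    have hex := P.toExtension.exact_cotangentComplex_toKaehler
    have hle : LinearMap.ker P.toExtension.toKaehler ≤ LinearMap.ker φ := by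
      intro x hx
      obtain ⟨c, rfl⟩ := (hex x).mp hx
      rw [LinearMap.mem_ker]
      exact congrArg (fun g => g c) hφ'
    let e := LinearMap.quotKerEquivOfSurjective P.toExtension.toKaehler
      P.toExtension.toKaehler_surjective
    let ψ : Ω[B⁄A] →ₗ[B] M := (LinearMap.ker P.toExtension.toKaehler).liftQ φ hle ∘ₗ e.symm.toLinearMap
    have hψ : ψ ∘ₗ P.toExtension.toKaehler = φ := by
      apply LinearMap.ext
      intro x
      have : e.symm (P.toExtension.toKaehler x) = Submodule.Quotient.mk x := by
        rw [LinearEquiv.symm_apply_eq]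
        rfl
      change (LinearMap.ker P.toExtension.toKaehler).liftQ φ hle (e.symm (P.toExtension.toKaehler x)) = φ x
      rw [this]
      rfl
    refine ⟨ψ.compDer (KaehlerDifferential.D A B), ?_⟩
    apply Subtype.ext
    change CotT.derLift P M (ψ.compDer (KaehlerDifferential.D A B)) = φ
    rw [hlift]
    have : (ψ.compDer (KaehlerDifferential.D A B)).liftKaehlerDifferential = ψ :=
      Derivation.liftKaehlerDifferential_unique _ _
        (ψ.compDer (KaehlerDifferential.D A B)).liftKaehlerDifferential_comp
    rw [this, hψ]

end Groth.Agent.S12286
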