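import Groth.Statements.S12289
import Groth.Agent.Lib.H18.CotT
-- import your own Groth.Agent.* helpers here

set_option autoImplicit false
universe u w m
open scoped TensorProduct
open DefT

namespace Groth.Agent.S12289

/-- Let k be a commutative ring and B a k-algebra presented as R/I with R = k[x_i] a polynomial ring
(any set of variables) and chosen generators of I, and let M be a B-module; T^0(B/k, M) and T^1(B/k,
M) are computed from this presentation. Then the sequence 0 → T^0(B/k, M) → Hom_B(Ω_{R/k} ⊗_R B, M)
→ Hom_B(I/I², M) → T^1(B/k, M) → 0 is exact, where the middle map is composition with the conormal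
map d : I/I² → Ω_{R/k} ⊗_R B and the last map sends φ to the class of φ ∘ (F/IF → I/I²): the
submodule T^0(B/k, M) of Hom_B(Ω_{R/k} ⊗ B, M) is the kernel of composition with d, the kernel of
Hom_B(I/I², M) → T^1(B/k, M) is the image of composition with d, and Hom_B(I/I², M) → T^1(B/k, M) is
surjective. (The published statement takes finitely many variables over a field and adds that the
same holds over any base ring; this row allows any base ring and any set of variables.) -/
theorem result
    (k B : Type u) [CommRing k] [CommRing B] [Algebra k B] (ι σ : Type w) (P : Algebra.Presentation k B ι σ)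
    (M : Type m) [AddCommGroup M] [Module B M] :
    LinearMap.ker (CotT.d1Star P M) = LinearMap.ker (LinearMap.lcomp B M P.toExtension.cotangentComplex) ∧
    LinearMap.ker (CotT.homToT1 P M) = LinearMap.range (LinearMap.lcomp B M P.toExtension.cotangentComplex) ∧
    Function.Surjective (CotT.homToT1 P M) := by
  have hcot := Groth.Agent.H18.cotT_toCot_surjective P
  have hcancel : ∀ (g₁ g₂ : P.toExtension.Cotangent →ₗ[B] M),
      g₁ ∘ₗ CotT.toCot P = g₂ ∘ₗ CotT.toCot P → g₁ = g₂ := by
    intro g₁ g₂ h
    apply LinearMap.ext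
    intro c
    obtain ⟨l, rfl⟩ := hcot c
    exact congrArg (fun g => g l) h
  have hd1 : CotT.d1 P = P.toExtension.cotangentComplex ∘ₗ CotT.toCot P := rfl
  refine ⟨?_, ?_, ?_⟩
  · ext φ
    rw [LinearMap.mem_ker, LinearMap.mem_ker, CotT.d1Star_apply, LinearMap.lcomp_apply', hd1,
      ← LinearMap.comp_assoc]
    constructor
    · intro h
      apply hcancel
      rw [h, LinearMap.zero_comp]
    · intro h
      rw [h, LinearMap.zero_comp]
  · ext ψ
    rw [LinearMap.mem_ker, LinearMap.mem_range]
    simp only [CotT.homToT1, LinearMap.coe_comp, Function.comp_apply, Submodule.mkQ_apply,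
      Submodule.Quotient.mk_eq_zero, Submodule.mem_comap, Submodule.subtype_apply,
      LinearMap.codRestrict_apply, LinearMap.mem_range, CotT.d1Star_apply, LinearMap.lcomp_apply']
    constructor
    · rintro ⟨χ, hχ⟩
      refine ⟨χ, ?_⟩
      apply hcancel
      rw [← hχ, hd1, LinearMap.comp_assoc]
    · rintro ⟨χ, hχ⟩
      refine ⟨χ, ?_⟩
      rw [← hχ, hd1, LinearMap.comp_assoc]
  · intro t
    obtain ⟨c, rfl⟩ := Submodule.Quotient.mk_surjective _ t
    have hc : (c : CotT.L1 P →ₗ[B] M) ∘ₗ CotT.d2 P = 0 := by
      have := c.2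
      rw [LinearMap.mem_ker, CotT.d2Star_apply] at this
      exact this
    have hle : LinearMap.ker (CotT.toCot P) ≤ LinearMap.ker (c : CotT.L1 P →ₗ[B] M) := by
      intro x hx
      obtain ⟨y, rfl⟩ := Groth.Agent.H18.cotT_ker_toCot_le P hx
      rw [LinearMap.mem_ker, ← CotT.d2_comp_mkQ, LinearMap.comp_apply]
      have := congrArg (fun g : CotT.L2 P →ₗ[B] M => g
        ((LinearMap.range ((CotT.trivRelKer P).subtype.baseChange B)).mkQ y)) hc
      simpa using this
    let e := LinearMap.quotKerEquivOfSurjective (CotT.toCot P) hcot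
    let ψ : P.toExtension.Cotangent →ₗ[B] M :=
      (LinearMap.ker (CotT.toCot P)).liftQ (c : CotT.L1 P →ₗ[B] M) hle ∘ₗ e.symm.toLinearMap
    have hψ : ψ ∘ₗ CotT.toCot P = (c : CotT.L1 P →ₗ[B] M) := by
      apply LinearMap.ext
      intro x
      have : e.symm (CotT.toCot P x) = Submodule.Quotient.mk x := by
        rw [LinearEquiv.symm_apply_eq]
        rfl
      change (LinearMap.ker (CotT.toCot P)).liftQ (c : CotT.L1 P →ₗ[B] M) hle
        (e.symm (CotT.toCot P x)) = _
      rw [this]
      rfl
    refine ⟨ψ, ?_⟩
    simp only [CotT.homToT1, LinearMap.coe_comp, Function.comp_apply, Submodule.mkQ_apply]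
    congr 1
    apply Subtype.ext
    rw [LinearMap.codRestrict_apply, LinearMap.lcomp_apply', hψ]

end Groth.Agent.S12289
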