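import Groth.Statements.S12299
import Groth.Agent.Lib.H18.ArtFunDeriv
import Mathlib.LinearAlgebra.Basis.VectorSpace
-- import your own Groth.Agent.* helpers here

set_option autoImplicit false
universe u v
open CategoryTheory
open ArtFun

namespace Groth.Agent.S12299

/-- Let k be an algebraically closed field, F a set-valued functor on local Artinian k-algebras with
residue field k, and (R, ξ) a miniversal family for F, with R a complete local Noetherian k-algebra
with residue field k: the morphism h_R → F has the lifting property along surjections and is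
bijective on the dual numbers. Let S be a complete local Noetherian k-algebra with residue field k
and g₁, g₂ : R → S two k-algebra maps compatible with the augmentations along which ξ induces the
same formal family over S (the same compatible sequence in the F(S/m^(n+1))). Then g₁ and g₂ induce
the same map R → S/m_S², so the map R/m_R² → S/m_S² attached to a formal family over S is well
defined. (Coefficient rings are taken Noetherian here.) -/
theorem result
    {k : Type u} [Field k] [IsAlgClosed k] {F : ArtFun.Art k k ⥤ Type v}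
    (R : ArtFun.CRing k k) (ξ : ArtFun.Family R.carrier R.res F) (hξ : ArtFun.IsMiniversal ξ)
    (S : ArtFun.CRing k k) (g₁ g₂ : R.carrier →ₐ[k] S.carrier)
    (hg₁ : S.res.comp g₁ = R.res) (hg₂ : S.res.comp g₂ = R.res)
    (h : (ξ.along g₁ hg₁).toFormalElt = (ξ.along g₂ hg₂).toFormalElt) :
    (S.truncHom 1).1.comp g₁ = (S.truncHom 1).1.comp g₂ := by
  let T := S.trunc 1
  let u₁ : ArtFun.HomSet R.carrier R.res T :=
    ⟨(S.truncHom 1).1.comp g₁, by rw [← AlgHom.comp_assoc, (S.truncHom 1).2, hg₁]⟩
  let u₂ : ArtFun.HomSet R.carrier R.res T :=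
    ⟨(S.truncHom 1).1.comp g₂, by rw [← AlgHom.comp_assoc, (S.truncHom 1).2, hg₂]⟩
  have hu : ξ.app T u₁ = ξ.app T u₂ := congrArg (fun u => u.elt 1) h
  have hq : ∀ q : T ⟶ ArtFun.Art.dual k k, q.toAlgHom.comp u₁.1 = q.toAlgHom.comp u₂.1 := by
    intro q
    have := hξ.2.1 ((ξ.natural q u₁).trans ((congrArg (F.map q) hu).trans (ξ.natural q u₂).symm))
    exact congrArg Subtype.val this
  have hsq : ∀ f ∈ (RingHom.ker T.res) ^ 2, f = 0 := by
    intro f hf
    have hk : RingHom.ker T.res ≤
        (IsLocalRing.maximalIdeal S.carrier).map (Ideal.Quotient.mk (S.mpow 1)) := by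
      intro y hy
      apply ArtFun.CRing.maximalIdeal_quot_le S 1
      exact (ArtFun.Art.mem_maximalIdeal_iff T y).2 hy
    have h1 : f ∈ ((IsLocalRing.maximalIdeal S.carrier).map (Ideal.Quotient.mk (S.mpow 1))) ^ 2 :=
      Ideal.pow_right_mono hk 2 hf
    rw [← Ideal.map_pow] at h1
    have h2 : ((IsLocalRing.maximalIdeal S.carrier) ^ 2).map (Ideal.Quotient.mk (S.mpow 1)) = ⊥ :=
      Ideal.map_quotient_self _
    rw [h2] at h1
    exact (Ideal.mem_bot (R := S.carrier ⧸ S.mpow 1)).1 h1
  apply AlgHom.ext
  intro r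
  by_contra hne
  by_cases hres : T.res (((S.truncHom 1).1.comp g₁) r) = T.res (((S.truncHom 1).1.comp g₂) r)
  · have hd : ((S.truncHom 1).1.comp g₁) r - ((S.truncHom 1).1.comp g₂) r ∉
        Submodule.span k {(1 : T)} := by
      intro hmem
      obtain ⟨c, hc⟩ := Submodule.mem_span_singleton.mp hmem
      have hc0 : c = 0 := by
        have := congrArg T.res hc
        rw [map_smul, map_one, map_sub, hres, sub_self, smul_eq_mul, mul_one] at this
        exact this
      rw [hc0, zero_smul] at hc
      exact hne (sub_eq_zero.mp hc.symm)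
    obtain ⟨L, hLd, hWL⟩ := Submodule.exists_le_ker_of_notMem hd
    have hL1 : L 1 = 0 := hWL (Submodule.mem_span_singleton_self 1)
    have hL2 : ∀ f ∈ (RingHom.ker T.res) ^ 2, L f = 0 := fun f hf => by rw [hsq f hf, map_zero]
    let q : T ⟶ ArtFun.Art.dual k k :=
      ⟨Groth.Agent.H18.toArtDual T.res L hL1 hL2, Groth.Agent.H18.toArtDual_res T.res L hL1 hL2⟩
    have e := congrArg (fun g => (show DualNumber k from g r).snd) (hq q)
    have e1 : L (((S.truncHom 1).1.comp g₁) r) = L (((S.truncHom 1).1.comp g₂) r) :=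
      (Groth.Agent.H18.toDualOfLinear_snd T.res L hL1 hL2 _).symm.trans
        (e.trans (Groth.Agent.H18.toDualOfLinear_snd T.res L hL1 hL2 _))
    apply hLd
    rw [map_sub, e1, sub_self]
  · have h01 : (0 : T →ₗ[k] k) 1 = 0 := rfl
    have h02 : ∀ f ∈ (RingHom.ker T.res) ^ 2, (0 : T →ₗ[k] k) f = 0 := fun _ _ => rfl
    let q : T ⟶ ArtFun.Art.dual k k :=
      ⟨Groth.Agent.H18.toArtDual T.res 0 h01 h02, Groth.Agent.H18.toArtDual_res T.res 0 h01 h02⟩
    have e := congrArg (fun g => (show DualNumber k from g r).fst) (hq q)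
    exact hres ((Groth.Agent.H18.toDualOfLinear_fst T.res 0 h01 h02 _).symm.trans
      (e.trans (Groth.Agent.H18.toDualOfLinear_fst T.res 0 h01 h02 _)))

end Groth.Agent.S12299
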