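import Groth.Statements.S12301
import Groth.Agent.Lib.H18.ArtFunTrunc
import Mathlib.RingTheory.AdicCompletion.RingHom
-- import your own Groth.Agent.* helpers here

set_option autoImplicit false
universe u v
open CategoryTheory
open ArtFun

namespace Groth.Agent.S12301

/-- Let k be an algebraically closed field, f : F₁ → F₂ a morphism of set-valued functors on local
Artinian k-algebras with residue field k, (R₁, ξ₁) a family for F₁ and (R₂, ξ₂) a versal family for
F₂, where R₁, R₂ are complete local Noetherian k-algebras with residue field k and versal is meant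
in the strong sense: h_{R₂} → F₂ is surjective on every object and has the lifting property along
surjections. Then there is a k-algebra map φ : R₂ → R₁, compatible with the augmentations, such that
for every local Artinian A and every u : R₁ → A the element of F₂(A) given by ξ₂ at u ∘ φ equals the
image under f of the element of F₁(A) given by ξ₁ at u; in other words composition with φ, h_{R₁} →
h_{R₂}, covers f. (The published statement assumes (R₁, ξ₁) versal as well; this row asks nothing of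
ξ₁, which is all the argument uses, and takes the coefficient rings Noetherian.) -/
theorem result
    {k : Type u} [Field k] [IsAlgClosed k] {F₁ F₂ : ArtFun.Art k k ⥤ Type v} (f : F₁ ⟶ F₂)
    (R₁ : ArtFun.CRing k k) (ξ₁ : ArtFun.Family R₁.carrier R₁.res F₁)
    (R₂ : ArtFun.CRing k k) (ξ₂ : ArtFun.Family R₂.carrier R₂.res F₂) (hξ₂ : ArtFun.IsVersal ξ₂)
    (hsurj : ∀ A : ArtFun.Art k k, Function.Surjective (ξ₂.app A)) :
    ∃ (φ : R₂.carrier →ₐ[k] R₁.carrier) (hφ : R₁.res.comp φ = R₂.res),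
      ∀ (A : ArtFun.Art k k) (u : ArtFun.HomSet R₁.carrier R₁.res A),
        (ξ₂.along φ hφ).app A u = f.app A (ξ₁.app A u) := by
  have hcR₁ := R₁.isAdicComplete
  -- the formal element `f ∘ ξ₁` over `R₁`
  let η : ∀ n : ℕ, F₂.obj (R₁.trunc n) := fun n => f.app _ (ξ₁.app (R₁.trunc n) (R₁.truncHom n))
  have hη : ∀ n, F₂.map (R₁.truncMap n) (η (n + 1)) = η n := by
    intro n
    change F₂.map (R₁.truncMap n) (f.app _ (ξ₁.app _ (R₁.truncHom (n + 1)))) =
      f.app _ (ξ₁.app _ (R₁.truncHom n))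
    rw [← NatTrans.naturality_apply, ← ξ₁.natural, ArtFun.CRing.truncMap_truncHom]
  have hsurjMap : ∀ n, Function.Surjective (R₁.truncMap n) := by
    intro n x
    obtain ⟨a, rfl⟩ := Ideal.Quotient.mk_surjective x
    exact ⟨Ideal.Quotient.mk _ a, rfl⟩
  have step : ∀ n (ψ : ArtFun.HomSet R₂.carrier R₂.res (R₁.trunc n)), ξ₂.app _ ψ = η n →
      ∃ ψ' : ArtFun.HomSet R₂.carrier R₂.res (R₁.trunc (n + 1)),
        ArtFun.HomSet.map (R₁.truncMap n) ψ' = ψ ∧ ξ₂.app _ ψ' = η (n + 1) := by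
    intro n ψ hψ
    exact hξ₂ (R₁.truncMap n) (hsurjMap n) ψ (η (n + 1)) (by rw [hη, hψ])
  -- a compatible sequence of lifts
  let seq : (n : ℕ) → {ψ : ArtFun.HomSet R₂.carrier R₂.res (R₁.trunc n) // ξ₂.app _ ψ = η n} :=
    fun n => Nat.rec (motive := fun n => {ψ : ArtFun.HomSet R₂.carrier R₂.res (R₁.trunc n) // ξ₂.app _ ψ = η n})
      ⟨Classical.choose (hsurj _ (η 0)), Classical.choose_spec (hsurj _ (η 0))⟩
      (fun n ψ => ⟨Classical.choose (step n ψ.1 ψ.2), (Classical.choose_spec (step n ψ.1 ψ.2)).2⟩) n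
  have seq_succ : ∀ n, ArtFun.HomSet.map (R₁.truncMap n) (seq (n + 1)).1 = (seq n).1 :=
    fun n => (Classical.choose_spec (step n (seq n).1 (seq n).2)).1
  have seq_succ_apply : ∀ n (x : R₂.carrier) (a : R₁.carrier),
      Ideal.Quotient.mk (R₁.mpow (n + 1)) a = (seq (n + 1)).1.1 x →
      Ideal.Quotient.mk (R₁.mpow n) a = (seq n).1.1 x := by
    intro n x a ha
    have e := congrArg (fun t : ArtFun.HomSet R₂.carrier R₂.res (R₁.trunc n) => t.1 x) (seq_succ n)
    change (R₁.truncMap n).toAlgHom ((seq (n + 1)).1.1 x) = (seq n).1.1 x at e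
    rw [← e, ← ha]
    rfl
  have seq_le : ∀ (m d : ℕ) (x : R₂.carrier) (a : R₁.carrier),
      Ideal.Quotient.mk (R₁.mpow (m + d)) a = (seq (m + d)).1.1 x →
      Ideal.Quotient.mk (R₁.mpow m) a = (seq m).1.1 x := by
    intro m d
    induction d with
    | zero => intro x a ha; exact ha
    | succ d ih =>
      intro x a ha
      exact ih x a (seq_succ_apply (m + d) x a ha)
  -- the maps into `R₁ / m^j`
  let Fm : (j : ℕ) → R₂.carrier →ₐ[k] R₁.carrier ⧸ IsLocalRing.maximalIdeal R₁.carrier ^ j :=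
    fun j => (Ideal.Quotient.factorₐ k (Ideal.pow_le_pow_right (Nat.le_succ j))).comp
      ((seq j).1.1 : R₂.carrier →ₐ[k] R₁.carrier ⧸ IsLocalRing.maximalIdeal R₁.carrier ^ (j + 1))
  have hFm : ∀ (j : ℕ) (x : R₂.carrier) (a : R₁.carrier),
      Ideal.Quotient.mk (R₁.mpow j) a = (seq j).1.1 x →
      Fm j x = Ideal.Quotient.mk (IsLocalRing.maximalIdeal R₁.carrier ^ j) a := by
    intro j x a ha
    change Ideal.Quotient.factor (Ideal.pow_le_pow_right (Nat.le_succ j)) ((seq j).1.1 x) = _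
    rw [← ha]
    rfl
  have hcompat : ∀ {m n : ℕ} (hle : m ≤ n),
      (Ideal.Quotient.factorₐ k (Ideal.pow_le_pow_right hle)).comp (Fm n) = Fm m := by
    intro m n hle
    apply AlgHom.ext
    intro x
    obtain ⟨a, ha⟩ := Ideal.Quotient.mk_surjective ((seq n).1.1 x :
      R₁.carrier ⧸ IsLocalRing.maximalIdeal R₁.carrier ^ (n + 1))
    obtain ⟨d, rfl⟩ := Nat.exists_eq_add_of_le hle
    have ha' := seq_le m d x a ha
    rw [AlgHom.comp_apply, hFm _ x a ha, hFm _ x a ha']
    rfl
  let φ : R₂.carrier →ₐ[k] R₁.carrier :=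
    IsAdicComplete.liftAlgHom (IsLocalRing.maximalIdeal R₁.carrier) Fm hcompat
  have hφ_mk : ∀ (n : ℕ) (x : R₂.carrier), Ideal.Quotient.mk (R₁.mpow n) (φ x) = (seq n).1.1 x := by
    intro n x
    have e := IsAdicComplete.mk_liftAlgHom (IsLocalRing.maximalIdeal R₁.carrier) Fm hcompat (n + 1) x
    obtain ⟨a, ha⟩ := Ideal.Quotient.mk_surjective ((seq (n + 1)).1.1 x :
      R₁.carrier ⧸ IsLocalRing.maximalIdeal R₁.carrier ^ (n + 1 + 1))
    rw [hFm _ x a ha] at e
    have e' : Ideal.Quotient.mk (R₁.mpow n) (φ x) = Ideal.Quotient.mk (R₁.mpow n) a := e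
    rw [e']
    exact seq_succ_apply n x a ha
  have hφ : R₁.res.comp φ = R₂.res := by
    apply AlgHom.ext
    intro x
    have e := congrArg (fun g => g x) (seq 0).1.2
    change (R₁.trunc 0).res ((seq 0).1.1 x) = R₂.res x at e
    rw [← hφ_mk 0 x] at e
    exact e
  refine ⟨φ, hφ, ?_⟩
  intro A u
  obtain ⟨n, hn⟩ := Groth.Agent.H18.exists_kill R₁ u
  have e1 : (⟨u.1.comp φ, by rw [← AlgHom.comp_assoc, u.2, hφ]⟩ : ArtFun.HomSet R₂.carrier R₂.res A) =
      ArtFun.HomSet.map (Groth.Agent.H18.truncLift R₁ u n hn) (seq n).1 := by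
    apply Subtype.ext
    apply AlgHom.ext
    intro x
    change u.1 (φ x) = (Groth.Agent.H18.truncLift R₁ u n hn).toAlgHom ((seq n).1.1 x)
    rw [← hφ_mk n x]
    rfl
  have e2 := Groth.Agent.H18.truncLift_truncHom R₁ u n hn
  change ξ₂.app A ⟨u.1.comp φ, _⟩ = f.app A (ξ₁.app A u)
  rw [e1, ξ₂.natural, (seq n).2]
  change F₂.map _ (f.app _ (ξ₁.app _ (R₁.truncHom n))) = _
  rw [← NatTrans.naturality_apply, ← ξ₁.natural, e2]

end Groth.Agent.S12301
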