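import Groth.Statements.S12303
import Groth.Agent.Lib.H18.ArtFunLift
-- import your own Groth.Agent.* helpers here

set_option autoImplicit false
universe u v
open CategoryTheory
open ArtFun

namespace Groth.Agent.S12303

/-- Let k be an algebraically closed field, F a set-valued functor on local Artinian k-algebras with
residue field k, and ξ : h_R → F a miniversal family in the strong sense, over an augmented
k-algebra R: ξ is surjective on every object, has the lifting property along surjections, and is
bijective on the dual numbers k[ε]. Then for every object A and every fibre-product square B = A ×_k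
k[ε] over k, the comparison map F(B) → F(A) ×_{F(k)} F(k[ε]) is bijective. (The published statement
takes R complete local, which the argument does not use.) -/
theorem result
    {k : Type u} [Field k] [IsAlgClosed k] {F : ArtFun.Art k k ⥤ Type v}
    {R : Type u} [CommRing R] [Algebra k R] {resR : R →ₐ[k] k}
    (ξ : ArtFun.Family R resR F) (hξ : ArtFun.IsMiniversal ξ)
    (hsurj : ∀ A : ArtFun.Art k k, Function.Surjective (ξ.app A)) :
    ArtFun.Heps F := by
  intro B A' p' p'' h
  have hd : Function.Surjective (ArtFun.Art.toBase (ArtFun.Art.dual k k)) :=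
    fun c => ⟨TrivSqZeroExt.inl c, rfl⟩
  refine ⟨?_, Groth.Agent.H18.cmp_surjective_of_isVersal ξ hξ.1 hsurj h hd⟩
  -- p' is surjective
  have hp' : Function.Surjective p' := by
    intro a'
    obtain ⟨b, hb, -⟩ := h.surj a' (TrivSqZeroExt.inl (A'.res a')) rfl
    exact ⟨b, hb⟩
  intro z₁ z₂ hz
  have hz1 : F.map p' z₁ = F.map p' z₂ := congrArg (fun t => t.1.1) hz
  have hz2 : F.map p'' z₁ = F.map p'' z₂ := congrArg (fun t => t.1.2) hz
  obtain ⟨χ₁, rfl⟩ := hsurj B z₁
  obtain ⟨χ₃, hχ₃, hχ₃'⟩ := hξ.1 p' hp' (ArtFun.HomSet.map p' χ₁) z₂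
    (by rw [← hz1, ξ.natural])
  have h3 : ArtFun.HomSet.map p'' χ₃ = ArtFun.HomSet.map p'' χ₁ := by
    apply hξ.2.1
    rw [ξ.natural, ξ.natural, hχ₃', hz2]
  have e : χ₃ = χ₁ := by
    apply Subtype.ext
    apply AlgHom.ext
    intro r
    apply h.inj
    · exact congrArg (fun t : ArtFun.HomSet R resR A' => t.1 r) hχ₃
    · exact congrArg (fun t : ArtFun.HomSet R resR (ArtFun.Art.dual k k) => t.1 r) h3
  rw [← hχ₃', e]

end Groth.Agent.S12303
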