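import Groth.Statements.S12417
-- import your own Groth.Agent.* helpers here

set_option autoImplicit false
universe u
open CategoryTheory AlgebraicGeometry
open Props

namespace Groth.Agent.S12417

/-- Let X be a quasi-compact quasi-separated scheme and P a property of opens of X such that (a) P holds
for every affine open, and (b) whenever a quasi-compact open U has a finite affine open covering U =
V_1 ∪ … ∪ V_n with P holding for every intersection V_i ∩ V_j, P holds for U. Then P holds for every
quasi-compact open of X. -/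
theorem result (X : Scheme.{u}) [CompactSpace X] [QuasiSeparatedSpace X]
    (P : X.Opens → Prop) (ha : ∀ U : X.Opens, IsAffineOpen U → P U)
    (hb : ∀ (U : X.Opens) (n : ℕ) (V : Fin n → X.Opens), IsCompact (U : Set X) →
      (∀ i, IsAffineOpen (V i)) → ⨆ i, V i = U → (∀ i j, P (V i ⊓ V j)) → P U)
    (U : X.Opens) (hU : IsCompact (U : Set X)) : P U := by
  classical
  -- Step 1: compact opens inside an affine open
  have step1 : ∀ (W V : X.Opens), IsAffineOpen V → W ≤ V → IsCompact (W : Set X) → P W := by
    intro W V hV hWV hW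
    let ι := {f : Γ(X, V) // X.basicOpen f ≤ W}
    have hcov : (W : Set X) ⊆ ⋃ i : ι, (X.basicOpen i.1 : Set X) := by
      intro x hx
      obtain ⟨f, hfW, hxf⟩ := hV.exists_basicOpen_le (V := W) ⟨x, hx⟩ (hWV hx)
      exact Set.mem_iUnion.2 ⟨⟨f, hfW⟩, hxf⟩
    obtain ⟨t, ht⟩ := hW.elim_finite_subcover (fun i : ι => (X.basicOpen i.1 : Set X))
      (fun i => (X.basicOpen i.1).isOpen) hcov
    let e := t.equivFin.symm
    refine hb W t.card (fun k => X.basicOpen (e k).1.1) hW (fun k => hV.basicOpen _) ?_ ?_
    · apply le_antisymm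
      · exact iSup_le fun k => (e k).1.2
      · intro x hx
        have := ht hx
        rw [Set.mem_iUnion₂] at this
        obtain ⟨i, hi, hxi⟩ := this
        have : x ∈ ((⨆ k, X.basicOpen (e k).1.1 : X.Opens) : Set X) := by
          rw [TopologicalSpace.Opens.coe_iSup, Set.mem_iUnion]
          refine ⟨t.equivFin ⟨i, hi⟩, ?_⟩
          simpa [e] using hxi
        exact this
    · intro k l
      rw [← Scheme.basicOpen_mul]
      exact ha _ (hV.basicOpen _)
  -- Step 2
  obtain ⟨s, hs, e⟩ := isCompact_iff_finite_and_eq_biUnion_affineOpens.mp hU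
  let t := hs.toFinset
  let eq := t.equivFin.symm
  refine hb U t.card (fun k => ((eq k).1 : X.Opens)) hU (fun k => (eq k).1.2) ?_ ?_
  · rw [e]
    apply le_antisymm
    · refine iSup_le fun k => ?_
      exact le_iSup₂_of_le (eq k).1 ((Set.Finite.mem_toFinset hs).1 (eq k).2) le_rfl
    · refine iSup₂_le fun i hi => ?_
      have hi' : i ∈ t := (Set.Finite.mem_toFinset hs).2 hi
      exact le_iSup_of_le (t.equivFin ⟨i, hi'⟩) (by simp [eq])
  · intro k l
    refine step1 _ _ (eq k).1.2 inf_le_left ?_
    exact QuasiSeparatedSpace.inter_isCompact _ _ (eq k).1.1.isOpen (eq k).1.2.isCompact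
      (eq l).1.1.isOpen (eq l).1.2.isCompact

end Groth.Agent.S12417
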