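import Groth.Statements.S12498
import Mathlib.RingTheory.Flat.EquationalCriterion
import Mathlib.Tactic.LinearCombination
-- import your own Groth.Agent.* helpers here

set_option autoImplicit false
universe u
open Deform

namespace Groth.Agent.S12498

/-- Let k be an algebraically closed field, A a local Artinian k-algebra with residue field k, and t a
nonzero element of the maximal ideal m_A annihilated by m_A, so that A → A/tA is a small extension.
Let B be a flat A-algebra (a deformation over A of its closed fibre B_0 = B/m_A B), and σ an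
A-algebra automorphism of B/tB inducing the identity on B_0. Fix an A-algebra automorphism τ of B
inducing σ (so τ induces the identity on B_0). Then the A-algebra automorphisms η of B inducing σ
correspond bijectively to the k-derivations d of B_0 through the rule η = τ + t·d, meaning η(b) =
τ(b) + t b′ for all b ∈ B and all b′ ∈ B lifting d applied to the image of b in B_0: every such η
determines a unique d, and every d comes from some such η. (The published statement phrases the
conclusion as a free and transitive action of Der_k(B_0, B_0) on the nonempty set of lifts of σ; the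
condition that σ induces the identity on B_0 is expressed here through the chosen lift τ.) -/
theorem result
    {k : Type u} [Field k] [IsAlgClosed k]
    {A : Type u} [CommRing A] [Algebra k A] [IsLocalRing A] [IsArtinianRing A]
    (hres : ∀ a : A, ∃ c : k, a - algebraMap k A c ∈ IsLocalRing.maximalIdeal A)
    (t : A) (ht : t ∈ IsLocalRing.maximalIdeal A) (ht0 : t ≠ 0)
    (htm : ∀ a ∈ IsLocalRing.maximalIdeal A, a * t = 0)
    {B : Type u} [CommRing B] [Algebra A B] [Module.Flat A B] [Algebra k B] [IsScalarTower k A B]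
    (σ : (B ⧸ Ideal.span {algebraMap A B t}) ≃ₐ[A] (B ⧸ Ideal.span {algebraMap A B t}))
    (τ : B ≃ₐ[A] B)
    (hτ : ∀ b : B, Ideal.Quotient.mk (Ideal.span {algebraMap A B t}) (τ b) =
      σ (Ideal.Quotient.mk (Ideal.span {algebraMap A B t}) b))
    (hτ0 : ∀ b : B, τ b - b ∈ (IsLocalRing.maximalIdeal A).map (algebraMap A B)) :
    (∀ η : B ≃ₐ[A] B, (∀ b : B, Ideal.Quotient.mk (Ideal.span {algebraMap A B t}) (η b) =
        σ (Ideal.Quotient.mk (Ideal.span {algebraMap A B t}) b)) →
      ∃! d : Derivation k (B ⧸ (IsLocalRing.maximalIdeal A).map (algebraMap A B))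
          (B ⧸ (IsLocalRing.maximalIdeal A).map (algebraMap A B)),
        ∀ b b' : B, Ideal.Quotient.mk ((IsLocalRing.maximalIdeal A).map (algebraMap A B)) b' =
            d (Ideal.Quotient.mk ((IsLocalRing.maximalIdeal A).map (algebraMap A B)) b) →
          η b = τ b + algebraMap A B t * b') ∧
    (∀ d : Derivation k (B ⧸ (IsLocalRing.maximalIdeal A).map (algebraMap A B))
        (B ⧸ (IsLocalRing.maximalIdeal A).map (algebraMap A B)),
      ∃ η : B ≃ₐ[A] B, (∀ b : B, Ideal.Quotient.mk (Ideal.span {algebraMap A B t}) (η b) =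
          σ (Ideal.Quotient.mk (Ideal.span {algebraMap A B t}) b)) ∧
        ∀ b b' : B, Ideal.Quotient.mk ((IsLocalRing.maximalIdeal A).map (algebraMap A B)) b' =
            d (Ideal.Quotient.mk ((IsLocalRing.maximalIdeal A).map (algebraMap A B)) b) →
          η b = τ b + algebraMap A B t * b') := by
  classical
  set mA := IsLocalRing.maximalIdeal A with hmA
  set I : Ideal B := mA.map (algebraMap A B) with hI
  set J : Ideal B := Ideal.span {algebraMap A B t} with hJ
  set t' := algebraMap A B t with ht'
  have hIind : ∀ (P : B → Prop), P 0 → (∀ x y, P x → P y → P (x + y)) →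
      (∀ m ∈ mA, ∀ z : B, P (m • z)) → ∀ y ∈ I, P y := by
    intro P h0 hadd hsmul y hy
    have hy' : y ∈ mA • (⊤ : Submodule A B) := by
      rw [Ideal.smul_top_eq_map]; exact hy
    exact Submodule.smul_induction_on (p := P) hy' (fun m hm z _ => hsmul m hm z)
      (fun x y hx hy => hadd x y hx hy)
  have hmt : ∀ m ∈ mA, ∀ z : B, m • (t' * z) = 0 := by
    intro m hm z
    rw [Algebra.smul_def, ← mul_assoc, ht', ← map_mul, htm m hm, map_zero, zero_mul]
  have hF2 : ∀ y ∈ I, t' * y = 0 := by
    refine hIind (fun y => t' * y = 0) (mul_zero _) (fun x y hx hy => by rw [mul_add, hx, hy, add_zero])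
      (fun m hm z => ?_)
    change t' * (m • z) = 0
    rw [mul_smul_comm, hmt m hm z]
  have hF3 : ∀ y, t' * y = 0 → y ∈ I := by
    intro y hy
    obtain ⟨n, a, z, hx, hrel⟩ := Module.Flat.isTrivialRelation_of_sum_smul_eq_zero (R := A)
      (M := B) (f := fun _ : Unit => t) (x := fun _ => y) (by
        simp only [Finset.univ_unique, Finset.sum_singleton]
        rw [Algebra.smul_def, ← ht', hy])
    have hy' : y = ∑ j, a () j • z j := hx ()
    simp only [Finset.univ_unique, Finset.sum_singleton] at hrel
    rw [hy']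
    refine Submodule.sum_mem _ fun j _ => ?_
    have haj : a () j ∈ mA := by
      by_contra hn
      have hu : IsUnit (a () j) := by
        simpa [hmA, IsLocalRing.mem_maximalIdeal, mem_nonunits_iff] using hn
      exact ht0 ((hu.mul_left_eq_zero).mp (hrel j))
    rw [Algebra.smul_def]
    exact I.mul_mem_right _ (Ideal.mem_map_of_mem _ haj)
  have hF4 : ∀ b, Ideal.Quotient.mk I (τ b) = Ideal.Quotient.mk I b :=
    fun b => Ideal.Quotient.eq.mpr (hτ0 b)
  have ht'I : t' ∈ I := Ideal.mem_map_of_mem _ ht
  have hmkt : Ideal.Quotient.mk I t' = 0 := Ideal.Quotient.eq_zero_iff_mem.mpr ht'I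
  have htt : t' * t' = 0 := by rw [ht', ← map_mul, htm t ht, map_zero]
  choose rep hrep using (Ideal.Quotient.mk_surjective (I := I))
  have hrepI : ∀ b, rep (Ideal.Quotient.mk I b) - b ∈ I :=
    fun b => Ideal.Quotient.eq.mp (hrep _)
  refine ⟨fun η hη => ?_, fun d => ?_⟩
  · have hF5 : ∀ b, ∃ c, η b = τ b + t' * c := by
      intro b
      have h1 : η b - τ b ∈ J := by
        rw [← Ideal.Quotient.eq, hη b, hτ b]
      obtain ⟨c, hc⟩ := Ideal.mem_span_singleton'.mp h1
      exact ⟨c, by rw [mul_comm, hc]; ring⟩
    choose c hc using hF5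
    have hδI : ∀ y ∈ I, η y = τ y := by
      refine hIind (fun y => η y = τ y) (by simp) (fun x y hx hy => by
        simp only [map_add, hx, hy]) (fun m hm z => ?_)
      change η (m • z) = τ (m • z)
      rw [map_smul, map_smul, hc z, smul_add, hmt m hm, add_zero]
    let d₀ : B ⧸ I → B ⧸ I := fun x => Ideal.Quotient.mk I (c (rep x))
    have hd₀ : ∀ b c', η b = τ b + t' * c' → d₀ (Ideal.Quotient.mk I b) = Ideal.Quotient.mk I c' := by
      intro b c' hbc
      have h1 : η (rep (Ideal.Quotient.mk I b) - b) = τ (rep (Ideal.Quotient.mk I b) - b) :=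
        hδI _ (hrepI b)
      rw [map_sub, map_sub, hc, hbc] at h1
      have h2 : t' * (c (rep (Ideal.Quotient.mk I b)) - c') = 0 := by linear_combination h1
      exact Ideal.Quotient.eq.mpr (hF3 _ h2)
    have hadd : ∀ x y, d₀ (x + y) = d₀ x + d₀ y := by
      intro x y
      obtain ⟨b₁, rfl⟩ := Ideal.Quotient.mk_surjective x
      obtain ⟨b₂, rfl⟩ := Ideal.Quotient.mk_surjective y
      rw [← map_add, hd₀ (b₁ + b₂) (c b₁ + c b₂) (by rw [map_add, map_add, hc, hc]; ring),
        hd₀ b₁ _ (hc b₁), hd₀ b₂ _ (hc b₂), map_add]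
    have hsmul : ∀ (r : k) x, d₀ (r • x) = r • d₀ x := by
      intro r x
      obtain ⟨b, rfl⟩ := Ideal.Quotient.mk_surjective x
      have e1 : ∀ y : B, r • Ideal.Quotient.mk I y = Ideal.Quotient.mk I (r • y) := fun y =>
        (map_smul (Ideal.Quotient.mkₐ k I) r y).symm
      have e2 : ∀ y : B, r • y = algebraMap k A r • y := fun y => (algebraMap_smul A r y).symm
      rw [e1, hd₀ (r • b) (r • c b) ?_, hd₀ b _ (hc b), e1]
      rw [e2, e2, map_smul, map_smul, hc b, smul_add, mul_smul_comm]
    have hleib : ∀ x y, d₀ (x * y) = x • d₀ y + y • d₀ x := by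
      intro x y
      obtain ⟨b₁, rfl⟩ := Ideal.Quotient.mk_surjective x
      obtain ⟨b₂, rfl⟩ := Ideal.Quotient.mk_surjective y
      rw [← map_mul, hd₀ (b₁ * b₂) (c b₁ * τ b₂ + τ b₁ * c b₂ + t' * c b₁ * c b₂)
        (by rw [map_mul, map_mul, hc, hc]; ring), hd₀ b₁ _ (hc b₁), hd₀ b₂ _ (hc b₂)]
      simp only [smul_eq_mul, map_add, map_mul, hF4, hmkt]
      ring
    let d : Derivation k (B ⧸ I) (B ⧸ I) :=
      Derivation.mk' { toFun := d₀, map_add' := hadd, map_smul' := hsmul } hleib
    have hdd : ∀ x, d x = d₀ x := fun x => rfl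
    refine ⟨d, ?_, ?_⟩
    · intro b b' hb'
      rw [hdd, hd₀ b (c b) (hc b)] at hb'
      have h4 := hF2 _ (Ideal.Quotient.eq.mp hb')
      rw [hc b]
      linear_combination -h4
    · intro d' hd'
      ext x
      obtain ⟨b, rfl⟩ := Ideal.Quotient.mk_surjective x
      obtain ⟨b', hb'⟩ := Ideal.Quotient.mk_surjective (d' (Ideal.Quotient.mk I b))
      rw [← hb', hdd, hd₀ b b' (hd' b b' hb')]
  · let ψ : B ⧸ I → B := fun x => t' * rep x
    have hψ : ∀ c, ψ (Ideal.Quotient.mk I c) = t' * c := by
      intro c
      have := hF2 _ (hrepI c)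
      change t' * rep (Ideal.Quotient.mk I c) = t' * c
      linear_combination this
    have hψadd : ∀ x y, ψ (x + y) = ψ x + ψ y := by
      intro x y
      obtain ⟨b₁, rfl⟩ := Ideal.Quotient.mk_surjective x
      obtain ⟨b₂, rfl⟩ := Ideal.Quotient.mk_surjective y
      rw [← map_add, hψ, hψ, hψ, mul_add]
    have hψmul : ∀ b x, ψ (Ideal.Quotient.mk I b * x) = b * ψ x := by
      intro b x
      obtain ⟨c, rfl⟩ := Ideal.Quotient.mk_surjective x
      rw [← map_mul, hψ, hψ]; ring
    have hψ0 : ψ 0 = 0 := by rw [← map_zero (Ideal.Quotient.mk I), hψ, mul_zero]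
    have hψJ : ∀ x, ψ x ∈ J := fun x => Ideal.mem_span_singleton'.mpr ⟨rep x, mul_comm _ _⟩
    have hψI : ∀ x, Ideal.Quotient.mk I (ψ x) = 0 := fun x => by
      change Ideal.Quotient.mk I (t' * rep x) = 0
      rw [map_mul, hmkt, zero_mul]
    let N : B → B := fun b => ψ (d (Ideal.Quotient.mk I b))
    have hNN : ∀ b c, N b * N c = 0 := by
      intro b c
      change t' * rep _ * (t' * rep _) = 0
      linear_combination (rep (d (Ideal.Quotient.mk I b)) * rep (d (Ideal.Quotient.mk I c))) * htt
    have hmkN : ∀ b, Ideal.Quotient.mk I (b + N b) = Ideal.Quotient.mk I b := by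
      intro b; rw [map_add, hψI, add_zero]
    have hmkτs : ∀ b, Ideal.Quotient.mk I (τ.symm b) = Ideal.Quotient.mk I b := by
      intro b
      have := hF4 (τ.symm b)
      rw [AlgEquiv.apply_symm_apply] at this
      exact this.symm
    let η₀ : B →ₐ[A] B :=
      { toFun := fun b => τ b + N b
        map_one' := by
          simp only [N, map_one, Derivation.map_one_eq_zero, hψ0, add_zero]
        map_mul' := by
          intro b c
          simp only [N, map_mul, Derivation.leibniz, smul_eq_mul, hψadd]
          have e1 : ψ (Ideal.Quotient.mk I b * d (Ideal.Quotient.mk I c)) =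
              τ b * ψ (d (Ideal.Quotient.mk I c)) := by rw [← hF4 b, hψmul]
          have e2 : ψ (Ideal.Quotient.mk I c * d (Ideal.Quotient.mk I b)) =
              τ c * ψ (d (Ideal.Quotient.mk I b)) := by rw [← hF4 c, hψmul]
          rw [e1, e2]
          have := hNN b c
          simp only [N] at this
          linear_combination -this
        map_zero' := by simp only [N, map_zero, hψ0, add_zero]
        map_add' := by
          intro b c
          simp only [N, map_add, hψadd]
          ring
        commutes' := by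
          intro a
          obtain ⟨c0, hc0⟩ := hres a
          have e1 : Ideal.Quotient.mk I (algebraMap A B a) = algebraMap k (B ⧸ I) c0 := by
            rw [← Ideal.Quotient.mk_algebraMap, IsScalarTower.algebraMap_apply k A B,
              Ideal.Quotient.eq, ← map_sub]
            exact Ideal.mem_map_of_mem _ hc0
          simp only [N, AlgEquiv.commutes, e1, Derivation.map_algebraMap, hψ0, add_zero] }
    have hη₀ : ∀ b, η₀ b = τ b + N b := fun b => rfl
    let ζ : B → B := fun b => τ.symm (b - N (τ.symm b))
    have hleft : Function.LeftInverse ζ η₀ := by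
      intro b
      simp only [ζ, hη₀]
      have : N (τ.symm (τ b + N b)) = N b := by
        simp only [N, hmkτs]
        rw [map_add, hψI, add_zero, hF4]
      rw [this, add_sub_cancel_right, AlgEquiv.symm_apply_apply]
    have hright : Function.RightInverse ζ η₀ := by
      intro b
      simp only [ζ, hη₀, AlgEquiv.apply_symm_apply]
      have h1 : Ideal.Quotient.mk I (τ.symm (b - N (τ.symm b))) = Ideal.Quotient.mk I b := by
        rw [hmkτs, map_sub, hψI, sub_zero]
      have : N (τ.symm (b - N (τ.symm b))) = N (τ.symm b) := by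
        simp only [N] at h1 ⊢
        rw [h1, hmkτs]
      rw [this, sub_add_cancel]
    let η : B ≃ₐ[A] B := AlgEquiv.ofBijective η₀ ⟨hleft.injective, hright.surjective⟩
    have hη : ∀ b, η b = τ b + N b := fun b => rfl
    refine ⟨η, ?_, ?_⟩
    · intro b
      rw [hη, map_add, ← hτ b, Ideal.Quotient.eq_zero_iff_mem.mpr (hψJ _), add_zero]
    · intro b b' hb'
      rw [hη]
      simp only [N, ← hb', hψ]
      rfl

end Groth.Agent.S12498
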