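import Groth.Statements.S12550
import Mathlib.Tactic.Linarith
import Mathlib.LinearAlgebra.Dimension.Constructions
import Mathlib.LinearAlgebra.FiniteDimensional.Lemmas
-- import your own Groth.Agent.* helpers here

set_option autoImplicit false
universe u
open GIT

namespace Groth.Agent.S12550

/-- Let V be a finite-dimensional vector space over a field K and x_0, …, x_m non-zero vectors, a
configuration of m + 1 points of the projective space P(V). If for every subspace L with 0 ≠ L ≠ V
the number of indices i with x_i ∈ L, multiplied by dim V, is less than dim L · (m + 1) (the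
configuration is stable), then no two proper subspaces L', L'' with L' ∩ L'' = 0 contain between
them all the x_i. -/
theorem result (K : Type u) [Field K]
    (V : Type u) [AddCommGroup V] [Module K V] [FiniteDimensional K V]
    (m : ℕ) (x : Fin (m + 1) → V) (hx : ∀ i, x i ≠ 0)
    (hst : ∀ L : Submodule K V, L ≠ ⊥ → L ≠ ⊤ →
      Set.ncard {i : Fin (m + 1) | x i ∈ L} * Module.finrank K V < Module.finrank K L * (m + 1)) :
    ¬ ∃ L' L'' : Submodule K V, L' ≠ ⊤ ∧ L'' ≠ ⊤ ∧ Disjoint L' L'' ∧ ∀ i, x i ∈ L' ∨ x i ∈ L'' := by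
  rintro ⟨L', L'', h1, h2, hd, hcov⟩
  classical
  have hdimV : ∀ L : Submodule K V, Module.finrank K L ≤ Module.finrank K V :=
    fun L => Submodule.finrank_le L
  have huniv : Set.ncard (Set.univ : Set (Fin (m + 1))) = m + 1 := by
    rw [Set.ncard_univ, Nat.card_eq_fintype_card, Fintype.card_fin]
  have hcover : {i : Fin (m + 1) | x i ∈ L'} ∪ {i | x i ∈ L''} = Set.univ := by
    ext i; simp only [Set.mem_union, Set.mem_ofPred_eq, Set.mem_univ, iff_true]; exact hcov i
  have hsum : m + 1 ≤ Set.ncard {i : Fin (m + 1) | x i ∈ L'} + Set.ncard {i | x i ∈ L''} := by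
    calc m + 1 = Set.ncard (Set.univ : Set (Fin (m + 1))) := huniv.symm
      _ = Set.ncard ({i : Fin (m + 1) | x i ∈ L'} ∪ {i | x i ∈ L''}) := by rw [hcover]
      _ ≤ _ := Set.ncard_union_le _ _
  have hdisj : Module.finrank K L' + Module.finrank K L'' ≤ Module.finrank K V := by
    have := Submodule.finrank_sup_add_finrank_inf_eq L' L''
    rw [disjoint_iff.1 hd, finrank_bot, add_zero] at this
    rw [← this]; exact hdimV _
  have hall : ∀ (M N : Submodule K V), M = ⊥ → N ≠ ⊤ → (∀ i, x i ∈ M ∨ x i ∈ N) → False := by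
    intro M N hM hN hcovMN
    have hxN : ∀ i, x i ∈ N := by
      intro i
      rcases hcovMN i with h | h
      · rw [hM, Submodule.mem_bot] at h; exact absurd h (hx i)
      · exact h
    have hN0 : N ≠ ⊥ := by
      intro h; have := hxN 0; rw [h, Submodule.mem_bot] at this; exact hx 0 this
    have := hst N hN0 hN
    have hS : {i : Fin (m + 1) | x i ∈ N} = Set.univ := by
      ext i; simp [hxN i]
    rw [hS, huniv] at this
    have h3 : Module.finrank K V < Module.finrank K N := by
      rw [mul_comm] at this; exact Nat.lt_of_mul_lt_mul_right this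
    exact absurd (hdimV N) (not_le_of_gt h3)
  by_cases hL' : L' = ⊥
  · exact hall L' L'' hL' h2 hcov
  by_cases hL'' : L'' = ⊥
  · exact hall L'' L' hL'' h1 (fun i => (hcov i).symm)
  have a1 := hst L' hL' h1
  have a2 := hst L'' hL'' h2
  set n1 := Set.ncard {i : Fin (m + 1) | x i ∈ L'}
  set n2 := Set.ncard {i : Fin (m + 1) | x i ∈ L''}
  set d := Module.finrank K V
  set d1 := Module.finrank K L'
  set d2 := Module.finrank K L''
  have : (n1 + n2) * d < (d1 + d2) * (m + 1) := by nlinarith
  have : (d1 + d2) * (m + 1) ≤ d * (m + 1) := Nat.mul_le_mul_right _ hdisj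
  have : d * (m + 1) ≤ (n1 + n2) * d := by rw [mul_comm]; exact Nat.mul_le_mul_right _ hsum
  omega

end Groth.Agent.S12550
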