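import Groth.Statements.S12596
-- import your own Groth.Agent.* helpers here

set_option autoImplicit false
open FunFld

namespace Groth.Agent.S12596

/-- Over an algebraically closed constant field, replacing a projective map `φ` by `Aφ` for an
invertible matrix `A` over `k` does not change the `τ`-order sequence, and multiplies every
generalized Wronskian determinant `det [τ(φ) | D^(I₁) φ | ⋯ | D^(Iₙ) φ]` (Hasse derivatives taken
with `H`) by `det A`. -/
theorem result
    (k K : Type*) [Field k] [IsAlgClosed k] [Field K] [Algebra k K]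
    (hK : FunFld.IsFunctionField k K) {n : ℕ} (φ : Fin (n + 1) → K) (hφ : LinearIndependent k φ)
    (τ : K →ₐ[k] K) (s : K) (H : K →ₐ[k] PowerSeries K) (hH : LocRes.IsHasseFamily s H)
    (A : Matrix (Fin (n + 1)) (Fin (n + 1)) k) (hA : A.det ≠ 0)
    (φ' : Fin (n + 1) → K) (hφ' : ∀ i, φ' i = ∑ j, A i j • φ j) :
    (∀ J : Fin n → ℕ, FunFld.IsOrders K (FunFld.hcol τ H φ') J ↔ FunFld.IsOrders K (FunFld.hcol τ H φ) J) ∧
    ∀ I : Fin n → ℕ, (FunFld.wrMat τ H φ' I).det = algebraMap k K A.det * (FunFld.wrMat τ H φ I).det := by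
  classical
  set A' : Matrix (Fin (n + 1)) (Fin (n + 1)) K := A.map (algebraMap k K) with hA'
  have hτlin : ∀ i, τ (φ' i) = ∑ j, A' i j * τ (φ j) := by
    intro i
    rw [hφ' i, map_sum]
    refine Finset.sum_congr rfl (fun j _ => ?_)
    rw [map_smul, Algebra.smul_def]
    rfl
  have hDlin : ∀ (m : ℕ) i, LocRes.hasseD H m (φ' i) = ∑ j, A' i j * LocRes.hasseD H m (φ j) := by
    intro m i
    simp only [LocRes.hasseD_apply]
    rw [hφ' i, map_sum, map_sum]
    refine Finset.sum_congr rfl (fun j _ => ?_)
    rw [map_smul, Algebra.smul_def, PowerSeries.algebraMap_apply, PowerSeries.coeff_C_mul]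
    rfl
  -- columns transform by A'
  have hcol : ∀ c : ℕ, FunFld.hcol τ H φ' c = A'.mulVec (FunFld.hcol τ H φ c) := by
    intro c
    funext i
    cases c with
    | zero => simp only [FunFld.hcol, Matrix.mulVec, dotProduct]; rw [hτlin i]
    | succ m => simp only [FunFld.hcol, Matrix.mulVec, dotProduct]; rw [hDlin m i]
  have hdetA' : A'.det ≠ 0 := by
    rw [hA', ← RingHom.mapMatrix_apply, ← RingHom.map_det]
    exact (map_ne_zero_iff _ (algebraMap k K).injective).mpr hA
  have hinj : Function.Injective A'.mulVec := by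
    intro x y hxy
    have hu : IsUnit A' := (Matrix.isUnit_iff_isUnit_det A').mpr (isUnit_iff_ne_zero.mpr hdetA')
    have := congrArg (A'⁻¹).mulVec hxy
    rwa [Matrix.mulVec_mulVec, Matrix.mulVec_mulVec, Matrix.nonsing_inv_mul _ ((Matrix.isUnit_iff_isUnit_det A').mp hu),
      Matrix.one_mulVec, Matrix.one_mulVec] at this
  have hjump : ∀ j, FunFld.IsJump K (FunFld.hcol τ H φ') j ↔ FunFld.IsJump K (FunFld.hcol τ H φ) j := by
    intro j
    unfold FunFld.IsJump
    have himg : (FunFld.hcol τ H φ') '' Set.Iio j = (Matrix.mulVecLin A') '' ((FunFld.hcol τ H φ) '' Set.Iio j) := by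
      rw [Set.image_image]
      exact Set.image_congr (fun c _ => by rw [hcol]; rfl)
    rw [himg, Submodule.span_image, hcol]
    constructor
    · intro h hmem
      exact h (Submodule.mem_map_of_mem hmem)
    · intro h hmem
      obtain ⟨y, hy, hyeq⟩ := Submodule.mem_map.mp hmem
      exact h (by rw [← hinj hyeq]; exact hy)
  refine ⟨fun J => ?_, fun I => ?_⟩
  · unfold FunFld.IsOrders
    simp only [hjump]
  · have hW : FunFld.wrMat τ H φ' I = A' * FunFld.wrMat τ H φ I := by
      ext i c
      rw [Matrix.mul_apply]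
      refine Fin.cases ?_ (fun l => ?_) c
      · simp only [FunFld.wrMat, Matrix.of_apply, Fin.cases_zero]
        exact hτlin i
      · simp only [FunFld.wrMat, Matrix.of_apply, Fin.cases_succ]
        exact hDlin (I l) i
    rw [hW, Matrix.det_mul, hA', ← RingHom.mapMatrix_apply, ← RingHom.map_det]

end Groth.Agent.S12596
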