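import Groth.Statements.S12612
import Mathlib.RingTheory.MvPolynomial.EulerIdentity
import Mathlib.Algebra.MvPolynomial.Monad
import Mathlib.Tactic.LinearCombination
import Mathlib.Tactic.Module
import Mathlib.Tactic.FieldSimp
-- import your own Groth.Agent.* helpers here

set_option autoImplicit false
open FunFld

namespace Groth.Agent.S12612

open MvPolynomial

theorem chain_rule {R A M σ : Type*} [CommRing R] [CommRing A] [Algebra R A] [AddCommGroup M]
    [Module A M] [Module R M] [IsScalarTower R A M] [Fintype σ] (D : Derivation R A M)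
    (v : σ → A) (f : MvPolynomial σ R) :
    D (aeval v f) = ∑ i, aeval v (pderiv i f) • D (v i) := by
  classical
  induction f using MvPolynomial.induction_on with
  | C a => simp [pderiv_C]
  | add p q hp hq => simp [map_add, hp, hq, add_smul, Finset.sum_add_distrib]
  | mul_X p j hp =>
    rw [map_mul, aeval_X, Derivation.leibniz, hp]
    simp only [pderiv_mul, pderiv_X, map_add, map_mul, add_smul, Finset.sum_add_distrib, aeval_X,
      mul_smul, Finset.smul_sum]
    rw [add_comm]
    congr 1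
    · refine Finset.sum_congr rfl fun i _ => ?_
      rw [smul_comm]
    · rw [Finset.sum_eq_single j]
      · simp
      · intro b _ hb
        simp [Pi.single_apply, hb.symm]
      · simp

theorem aeval_smul_homog {σ R S : Type*} [CommSemiring R] [CommSemiring S] [Algebra R S]
    {φ : MvPolynomial σ R} {n : ℕ} (hφ : φ.IsHomogeneous n) (c : S) (v : σ → S) :
    aeval (fun i => c * v i) φ = c ^ n * aeval v φ := by
  conv_lhs => rw [φ.as_sum]
  conv_rhs => rw [φ.as_sum]
  simp only [map_sum, Finset.mul_sum, aeval_monomial]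
  refine Finset.sum_congr rfl fun d hd => ?_
  have := hφ (mem_support_iff.mp hd)
  simp only [Finsupp.prod, mul_pow, Finset.prod_mul_distrib, Finset.prod_pow_eq_pow_sum]
  rw [Finsupp.weight_apply] at this
  simp only [Finsupp.sum, Pi.one_apply, smul_eq_mul, mul_one] at this
  rw [this]
  ring

/-- For a plane curve given by a homogeneous `f` of degree `e` with `f(1, x, y) = 0` and a change of
projective coordinates `X = AX'` (`A` invertible over `k`), with new affine coordinates `x' =
u₁/u₀`, `y' = u₂/u₀`, `z = 1/u₀ = X₀/X₀'` where `u = A⁻¹(1, x, y)ᵗ`, and `f'(X') = f(AX')`, the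
differentials satisfy `dx/f̂_y = det(A) z^(e-3) dx'/f̂'_{y'}`, where `f̂_y = (∂f/∂X₂)(1, x, y)` and
`f̂'_{y'} = (∂f'/∂X₂')(1, x', y')` are assumed nonzero. (Stated for any field `K` over `k`
containing such `x`, `y`; the published setting is a plane model of a function field over an
algebraically closed field, and the computation uses only the relation `f(1, x, y) = 0`.) -/
theorem result
    (k K : Type*) [Field k] [Field K] [Algebra k K]
    (f : MvPolynomial (Fin 3) k) (e : ℕ) (hf : f.IsHomogeneous e)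
    (x y : K) (hfxy : MvPolynomial.aeval ![(1 : K), x, y] f = 0)
    (A : Matrix (Fin 3) (Fin 3) k) (hA : A.det ≠ 0)
    (u : Fin 3 → K) (hu : ∀ i, ∑ j, algebraMap k K (A i j) * u j = ![(1 : K), x, y] i)
    (hu0 : u 0 ≠ 0)
    (hfy : MvPolynomial.aeval ![(1 : K), x, y] (MvPolynomial.pderiv 2 f) ≠ 0)
    (hfy' : MvPolynomial.aeval ![(1 : K), u 1 / u 0, u 2 / u 0]
      (MvPolynomial.pderiv 2
        (MvPolynomial.aeval (fun i : Fin 3 => ∑ j, MvPolynomial.C (A i j) * MvPolynomial.X j) f)) ≠ 0) :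
    (MvPolynomial.aeval ![(1 : K), x, y] (MvPolynomial.pderiv 2 f))⁻¹ • KaehlerDifferential.D k K x =
      (algebraMap k K A.det * (u 0)⁻¹ ^ ((e : ℤ) - 3) *
        (MvPolynomial.aeval ![(1 : K), u 1 / u 0, u 2 / u 0]
          (MvPolynomial.pderiv 2
            (MvPolynomial.aeval (fun i : Fin 3 => ∑ j, MvPolynomial.C (A i j) * MvPolynomial.X j) f)))⁻¹) •
        KaehlerDifferential.D k K (u 1 / u 0) := by
  set P : Fin 3 → K := ![(1 : K), x, y] with hP
  set g : Fin 3 → MvPolynomial (Fin 3) k :=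
    fun i => ∑ j, MvPolynomial.C (A i j) * MvPolynomial.X j with hg
  set D := KaehlerDifferential.D k K with hD
  set F : Fin 3 → K := fun i => aeval P (pderiv i f) with hF
  have hP0 : P 0 = 1 := rfl
  have hP1 : P 1 = x := rfl
  have hP2 : P 2 = y := rfl
  -- e ≥ 1
  have he : 1 ≤ e := by
    by_contra h
    have he0 : e = 0 := by omega
    subst he0
    have hf0 : f ≠ 0 := by
      rintro rfl
      simp at hfy
    have htd := hf.totalDegree hf0
    rw [MvPolynomial.totalDegree_eq_zero_iff_eq_C] at htd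
    rw [htd, pderiv_C] at hfy
    simp at hfy
  -- chain rule for f(P) = 0
  have hrel : F 1 • D x + F 2 • D y = 0 := by
    have h1 := chain_rule D P f
    rw [hfxy, map_zero, Fin.sum_univ_three, hP0, hP1, hP2, Derivation.map_one_eq_zero,
      smul_zero, zero_add] at h1
    exact h1.symm
  -- Euler
  have heuler : F 0 + x * F 1 + y * F 2 = 0 := by
    have h1 := congrArg (aeval P) hf.sum_X_mul_pderiv
    rw [map_nsmul, hfxy, smul_zero, map_sum, Fin.sum_univ_three] at h1
    simp only [map_mul, aeval_X, hP0, hP1, hP2, one_mul] at h1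
    exact h1
  set P' : Fin 3 → K := ![(1 : K), u 1 / u 0, u 2 / u 0] with hP'
  set a : Fin 3 → Fin 3 → K := fun i j => algebraMap k K (A i j) with ha
  have hpd : pderiv 2 (aeval g f) = ∑ i, aeval g (pderiv i f) * C (A i 2) := by
    rw [chain_rule (pderiv 2) g f]
    refine Finset.sum_congr rfl fun i _ => ?_
    rw [smul_eq_mul]
    congr 1
    simp only [hg, map_sum, pderiv_C_mul, pderiv_X, Fin.sum_univ_three]
    simp [Pi.single_apply]
  have hP'u : ∀ j, P' j = (u 0)⁻¹ * u j := by
    intro j; fin_cases j <;> simp [P', div_eq_inv_mul, hu0]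
  have hgP' : ∀ l, aeval P' (g l) = (u 0)⁻¹ * P l := by
    intro l
    simp only [hg, map_sum, map_mul, aeval_C, aeval_X, hP'u]
    rw [← hu l, Finset.mul_sum]
    refine Finset.sum_congr rfl fun j _ => ?_
    ring
  have hcomp : ∀ h : MvPolynomial (Fin 3) k,
      aeval P' (aeval g h) = aeval (fun l => aeval P' (g l)) h := by
    intro h; rw [aeval_eq_bind₁, aeval_bind₁]
  have hF' : aeval P' (pderiv 2 (aeval g f)) =
      (u 0)⁻¹ ^ (e - 1) * (F 0 * a 0 2 + F 1 * a 1 2 + F 2 * a 2 2) := by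
    rw [hpd, map_sum, Fin.sum_univ_three]
    simp only [map_mul, aeval_C, hcomp, hgP']
    rw [aeval_smul_homog (hf.pderiv (i := 0)) _ P, aeval_smul_homog (hf.pderiv (i := 1)) _ P,
      aeval_smul_homog (hf.pderiv (i := 2)) _ P]
    simp only [hF, ha]
    ring
  have hdet : algebraMap k K A.det = a 0 0 * a 1 1 * a 2 2 - a 0 0 * a 1 2 * a 2 1
      - a 0 1 * a 1 0 * a 2 2 + a 0 1 * a 1 2 * a 2 0 + a 0 2 * a 1 0 * a 2 1
      - a 0 2 * a 1 1 * a 2 0 := by
    rw [Matrix.det_fin_three]; simp [a, map_sub, map_add, map_mul]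
  have hdetne : algebraMap k K A.det ≠ 0 := (map_ne_zero (algebraMap k K)).mpr hA
  have hu0' := hu 0
  have hu1' := hu 1
  have hu2' := hu 2
  simp only [Fin.sum_univ_three] at hu0' hu1' hu2'
  change a 0 0 * u 0 + a 0 1 * u 1 + a 0 2 * u 2 = 1 at hu0'
  change a 1 0 * u 0 + a 1 1 * u 1 + a 1 2 * u 2 = x at hu1'
  change a 2 0 * u 0 + a 2 1 * u 1 + a 2 2 * u 2 = y at hu2'
  -- adjugate rows 0 and 1
  set c00 := a 1 1 * a 2 2 - a 1 2 * a 2 1
  set c01 := a 0 2 * a 2 1 - a 0 1 * a 2 2
  set c02 := a 0 1 * a 1 2 - a 0 2 * a 1 1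
  set c10 := a 1 2 * a 2 0 - a 1 0 * a 2 2
  set c11 := a 0 0 * a 2 2 - a 0 2 * a 2 0
  set c12 := a 0 2 * a 1 0 - a 0 0 * a 1 2
  set dt := algebraMap k K A.det with hdt
  have hdu0 : dt * u 0 = c00 + c01 * x + c02 * y := by
    rw [hdet]; linear_combination c00 * hu0' + c01 * hu1' + c02 * hu2'
  have hdu1 : dt * u 1 = c10 + c11 * x + c12 * y := by
    rw [hdet]; linear_combination c10 * hu0' + c11 * hu1' + c12 * hu2'
  have hDsum : ∀ i, a i 0 • D (u 0) + a i 1 • D (u 1) + a i 2 • D (u 2) = D (P i) := by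
    intro i
    rw [← hu i, Fin.sum_univ_three, map_add, map_add, Derivation.leibniz, Derivation.leibniz,
      Derivation.leibniz, Derivation.map_algebraMap, Derivation.map_algebraMap,
      Derivation.map_algebraMap]
    simp only [smul_zero, add_zero, a]
  have hD0 := hDsum 0
  have hD1 := hDsum 1
  have hD2 := hDsum 2
  rw [hP0, Derivation.map_one_eq_zero] at hD0
  rw [hP1] at hD1
  rw [hP2] at hD2
  have hDu0 : dt • D (u 0) = c01 • D x + c02 • D y := by
    rw [hdet]
    linear_combination (norm := module) c00 • hD0 + c01 • hD1 + c02 • hD2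
  have hDu1 : dt • D (u 1) = c11 • D x + c12 • D y := by
    rw [hdet]
    linear_combination (norm := module) c10 • hD0 + c11 • hD1 + c12 • hD2
  have hF2 : F 2 ≠ 0 := hfy
  have hDy : D y = (-(F 1 / F 2)) • D x := by
    have h2 : F 2 • D y = -(F 1 • D x) := by
      rw [eq_neg_iff_add_eq_zero, add_comm]; exact hrel
    calc D y = (F 2)⁻¹ • (F 2 • D y) := by rw [smul_smul, inv_mul_cancel₀ hF2, one_smul]
      _ = _ := by rw [h2, smul_neg, smul_smul, ← neg_smul]; congr 1; ring
  have hs0 : D (u 0) = (dt⁻¹ * (c01 - c02 * (F 1 / F 2))) • D x := by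
    calc D (u 0) = dt⁻¹ • (dt • D (u 0)) := by rw [smul_smul, inv_mul_cancel₀ hdetne, one_smul]
      _ = _ := by rw [hDu0, hDy, smul_smul, ← add_smul, smul_smul]; congr 1; ring
  have hs1 : D (u 1) = (dt⁻¹ * (c11 - c12 * (F 1 / F 2))) • D x := by
    calc D (u 1) = dt⁻¹ • (dt • D (u 1)) := by rw [smul_smul, inv_mul_cancel₀ hdetne, one_smul]
      _ = _ := by rw [hDu1, hDy, smul_smul, ← add_smul, smul_smul]; congr 1; ring
  set G := F 0 * a 0 2 + F 1 * a 1 2 + F 2 * a 2 2 with hG
  have key : dt * G = (dt * u 0) * (c11 * F 2 - c12 * F 1) - (dt * u 1) * (c01 * F 2 - c02 * F 1) := by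
    rw [hdu0, hdu1]
    have hF0 : F 0 = -(x * F 1) - y * F 2 := by linear_combination heuler
    rw [hG, hF0, hdet]
    ring
  have ht : (u 0)⁻¹ ^ (e - 1) ≠ 0 := pow_ne_zero _ (inv_ne_zero hu0)
  have hGne : G ≠ 0 := by
    intro h0
    apply hfy'
    change aeval P' (pderiv 2 (aeval g f)) = 0
    rw [hF', h0, mul_zero]
  have hz : (u 0)⁻¹ ^ ((e : ℤ) - 3) = (u 0)⁻¹ ^ (e - 1) * (u 0) ^ 2 := by
    have : ((e : ℤ) - 3) = ((e - 1 : ℕ) : ℤ) + (-2) := by omega
    rw [this, zpow_add₀ (inv_ne_zero hu0), zpow_natCast]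
    congr 1
    rw [inv_zpow, zpow_neg, inv_inv]
    norm_cast
  change (F 2)⁻¹ • D x = (dt * (u 0)⁻¹ ^ ((e : ℤ) - 3) * (aeval P' (pderiv 2 (aeval g f)))⁻¹) •
    D (u 1 / u 0)
  rw [Derivation.leibniz_div, hs0, hs1, hF', hz, smul_smul (u 0), smul_smul (u 1), ← sub_smul,
    smul_smul, smul_smul]
  congr 1
  field_simp
  exact mul_left_cancel₀ hdetne (by rw [key]; ring)

end Groth.Agent.S12612
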