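import Groth.Statements.S12906
import Mathlib.Tactic.LinearCombination
-- import your own Groth.Agent.* helpers here

set_option autoImplicit false
universe u
open CAlgX

namespace Groth.Agent.S12906

/-- Let R be a commutative ring, t a natural number and Φ a (t+1) × t matrix over R. For each row index
i let Δ_i be (-1)^i times the determinant of the t × t matrix obtained from Φ by deleting row i.
Then for every column j one has Σ_i Δ_i Φ_{ij} = 0; that is, the row (Δ_0, …, Δ_t) followed by Φ is
the zero map. (The published statement multiplies every Δ_i by one fixed ring element, which changes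
nothing.) -/
theorem result {R : Type u} [CommRing R] (t : ℕ)
    (Φ : Matrix (Fin (t + 1)) (Fin t) R) (j : Fin t) :
    ∑ i : Fin (t + 1), (-1 : R) ^ (i : ℕ) * (Φ.submatrix i.succAbove id).det * Φ i j = 0 := by
  classical
  let M : Matrix (Fin (t + 1)) (Fin (t + 1)) R := Matrix.of fun i => Fin.snoc (Φ i) (Φ i j)
  have h0 : M.det = 0 := by
    apply Matrix.det_zero_of_column_eq (i := j.castSucc) (j := Fin.last t)
    · exact (Fin.castSucc_lt_last j).ne
    · intro k; simp [M]
  have h1 := Matrix.det_succ_column M (Fin.last t)
  rw [h0] at h1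
  have hsub : ∀ i : Fin (t+1), M.submatrix i.succAbove (Fin.last t).succAbove =
      Φ.submatrix i.succAbove id := by
    intro i; ext a b; simp [M, Fin.succAbove_last]
  simp only [hsub] at h1
  have hM : ∀ i : Fin (t+1), M i (Fin.last t) = Φ i j := by intro i; simp [M]
  simp only [hM] at h1
  have hs : (-1 : R) ^ t * (-1) ^ t = 1 := by
    rw [← pow_add, ← two_mul, pow_mul, neg_one_sq, one_pow]
  have : ∑ i : Fin (t + 1), (-1 : R) ^ (i : ℕ) * (Φ.submatrix i.succAbove id).det * Φ i j
      = (-1) ^ t * ∑ i : Fin (t + 1), (-1 : R) ^ ((i : ℕ) + (Fin.last t : ℕ)) * Φ i j *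
        (Φ.submatrix i.succAbove id).det := by
    rw [Finset.mul_sum]
    refine Finset.sum_congr rfl fun i _ => ?_
    rw [Fin.val_last, pow_add]
    linear_combination (-(-1 : R) ^ (i : ℕ) * (Φ.submatrix i.succAbove id).det * Φ i j) * hs
  rw [this, ← h1, mul_zero]

end Groth.Agent.S12906
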