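import Groth.Statements.S12916
import Mathlib.RingTheory.Ideal.AssociatedPrime.Finiteness
import Mathlib.RingTheory.Ideal.AssociatedPrime.Localization
import Mathlib.RingTheory.HopkinsLevitzki
import Mathlib.RingTheory.Polynomial.Basic
import Mathlib.RingTheory.Ideal.MinimalPrime.Basic
import Mathlib.Algebra.Polynomial.Roots
import Mathlib.RingTheory.Ideal.Quotient.Noetherian
-- import your own Groth.Agent.* helpers here

set_option autoImplicit false
universe u
open CAlgX

namespace Groth.Agent.S12916

open MvPolynomial

/-- Let k be an infinite field, S = k[x_0, …, x_r], M a finitely generated S-module and d a natural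
number. Then some nonzero homogeneous polynomial f of degree d is quasi-regular on M: the submodule
(0 :_M f) of elements of M annihilated by f has finite length. (The published statement assumes M
graded; this row assumes only that M is finitely generated.) -/
theorem result (k : Type u) [Field k] [Infinite k] (r d : ℕ)
    (M : Type u) [AddCommGroup M] [Module (MvPolynomial (Fin (r + 1)) k) M] [Module.Finite (MvPolynomial (Fin (r + 1)) k) M] :
    ∃ f : MvPolynomial (Fin (r + 1)) k, f.IsHomogeneous d ∧ f ≠ 0 ∧
      IsFiniteLength (MvPolynomial (Fin (r + 1)) k) ↥(Submodule.torsionBy (MvPolynomial (Fin (r + 1)) k) M f) := by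
  classical
  set S := MvPolynomial (Fin (r + 1)) k
  set B : Set (Ideal S) := {P | P ∈ associatedPrimes S M ∧ ¬ P.IsMaximal} with hB
  have hBfin : B.Finite := (associatedPrimes.finite S M).subset (fun P hP => hP.1)
  let ℓ : k → S := fun t => ∑ j : Fin (r + 1), C (t ^ (j : ℕ)) * X j
  have hfinite : ∀ P ∈ B, {t : k | ℓ t ∈ P}.Finite := by
    intro P hP
    haveI hPp : P.IsPrime := (hP.1).isPrime
    have hX : ∃ j, X j ∉ P := by
      by_contra hcon
      push_neg at hcon
      apply hP.2
      have hker : RingHom.ker (constantCoeff : S →+* k) ≤ P := by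
        intro p hp
        have key : ∀ q : S, q - C (constantCoeff q) ∈ P := by
          intro q
          induction q using MvPolynomial.induction_on with
          | C a => simp
          | add p q hp hq =>
            have := P.add_mem hp hq
            rwa [map_add, map_add, add_sub_add_comm]
          | mul_X p j _ => simpa using P.mul_mem_left p (hcon j)
        have := key p
        rwa [RingHom.mem_ker.mp hp, map_zero, sub_zero] at this
      have hmax := RingHom.ker_isMaximal_of_surjective (constantCoeff : S →+* k)
        (fun a => ⟨C a, constantCoeff_C _ _⟩)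
      rw [← hmax.eq_of_le hPp.ne_top hker]; exact hmax
    obtain ⟨j₀, hj₀⟩ := hX
    let Q : Polynomial (S ⧸ P) :=
      ∑ j : Fin (r + 1), Polynomial.monomial (j : ℕ) (Ideal.Quotient.mk P (X j))
    have hQ : Q ≠ 0 := by
      intro h0
      have := congrArg (Polynomial.coeff · (j₀ : ℕ)) h0
      simp only [Q, Polynomial.finset_sum_coeff, Polynomial.coeff_monomial, Polynomial.coeff_zero] at this
      rw [Finset.sum_eq_single j₀ (fun b _ hb => if_neg (fun h => hb (Fin.ext h)))
        (fun h => absurd (Finset.mem_univ _) h), if_pos rfl] at this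
      exact hj₀ (Ideal.Quotient.eq_zero_iff_mem.mp this)
    have hsub : {t : k | ℓ t ∈ P} ⊆
        (algebraMap k (S ⧸ P)) ⁻¹' (Q.roots.toFinset : Set (S ⧸ P)) := by
      intro t ht
      simp only [Set.mem_setOf_eq] at ht
      simp only [Set.mem_preimage, Finset.mem_coe, Multiset.mem_toFinset]
      rw [Polynomial.mem_roots hQ, Polynomial.IsRoot, Polynomial.eval_finset_sum]
      simp only [Polynomial.eval_monomial]
      have := (Ideal.Quotient.eq_zero_iff_mem.mpr ht)
      simp only [ℓ, map_sum, map_mul] at this
      rw [← this]
      refine Finset.sum_congr rfl fun j _ => ?_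
      rw [mul_comm]
      congr 1
      rw [← map_pow, ← Ideal.Quotient.algebraMap_eq, ← MvPolynomial.algebraMap_eq,
        ← IsScalarTower.algebraMap_apply]
    refine (Set.Finite.preimage ?_ (Finset.finite_toSet _)).subset hsub
    exact (algebraMap k (S ⧸ P)).injective.injOn
  have hU : (⋃ P ∈ B, {t : k | ℓ t ∈ P}).Finite := hBfin.biUnion hfinite
  obtain ⟨t, ht⟩ := hU.infinite_compl.nonempty
  have ht' : ∀ P ∈ B, ℓ t ∉ P := fun P hP h => ht (Set.mem_biUnion hP h)
  refine ⟨ℓ t ^ d, ?_, ?_, ?_⟩
  · have h1 : (ℓ t).IsHomogeneous 1 :=
      IsHomogeneous.sum _ _ _ (fun j _ => isHomogeneous_C_mul_X _ _)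
    simpa using h1.pow d
  · apply pow_ne_zero
    intro h0
    have := congrArg (MvPolynomial.coeff (Finsupp.single (0 : Fin (r + 1)) 1)) h0
    have h2 : ∀ j : Fin (r + 1), MvPolynomial.coeff (Finsupp.single (0 : Fin (r + 1)) 1)
        (C (t ^ (j : ℕ)) * X j : MvPolynomial (Fin (r + 1)) k) = if j = 0 then 1 else 0 := by
      intro j
      rw [coeff_C_mul, coeff_X']
      by_cases hj : j = 0
      · subst hj; simp
      · rw [if_neg, if_neg hj, mul_zero]
        intro h
        exact hj (Finsupp.single_left_injective one_ne_zero h)
    change MvPolynomial.coeff (Finsupp.single (0 : Fin (r + 1)) 1)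
      (∑ j : Fin (r + 1), (C (t ^ (j : ℕ)) * X j : MvPolynomial (Fin (r + 1)) k)) = 0 at this
    rw [coeff_sum, Finset.sum_congr rfl (fun j _ => h2 j), Finset.sum_ite_eq'] at this
    simp at this
  · set N := Submodule.torsionBy S M (ℓ t ^ d) with hN
    have hfN : ℓ t ^ d ∈ Module.annihilator S N := by
      rw [Module.mem_annihilator]
      intro m
      ext
      simpa using (Submodule.mem_torsionBy_iff _ _).mp m.2
    have hmax : ∀ q : Ideal S, q.IsPrime → Module.annihilator S N ≤ q → q.IsMaximal := by
      intro q hq hle
      obtain ⟨p, hp, hpq⟩ := Ideal.exists_minimalPrimes_le hle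
      have hpA : p ∈ associatedPrimes S N :=
        Module.associatedPrimes.minimalPrimes_annihilator_subset_associatedPrimes S N hp
      have hpM : p ∈ associatedPrimes S M :=
        associatedPrimes.subset_of_injective N.injective_subtype hpA
      have hpmax : p.IsMaximal := by
        by_contra hnm
        have hpB : p ∈ B := ⟨hpM, hnm⟩
        have hfp : ℓ t ^ d ∈ p := hp.1.2 hfN
        exact ht' p hpB ((hpM.isPrime).mem_of_pow_mem d hfp)
      rw [← hpmax.eq_of_le hq.ne_top hpq]; exact hpmax
    rw [isFiniteLength_iff_isNoetherian_isArtinian]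
    refine ⟨inferInstance, ?_⟩
    letI : Module (S ⧸ Module.annihilator S N) N := Module.quotientAnnihilator
    haveI : IsScalarTower S (S ⧸ Module.annihilator S N) N :=
      Module.IsTorsionBySet.isScalarTower _
    haveI : Ring.KrullDimLE 0 (S ⧸ Module.annihilator S N) := by
      refine Ring.KrullDimLE.mk₀ (fun J hJ => ?_)
      have h1 : (J.comap (Ideal.Quotient.mk (Module.annihilator S N))).IsMaximal := by
        apply hmax _ (Ideal.comap_isPrime _ J)
        intro a ha
        simp [Ideal.Quotient.eq_zero_iff_mem.mpr ha]
      have hsurj : Function.Surjective (Ideal.Quotient.mk (Module.annihilator S N)) :=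
        Ideal.Quotient.mk_surjective
      rcases Ideal.map_eq_top_or_isMaximal_of_surjective _ hsurj h1 with h | h
      · rw [Ideal.map_comap_of_surjective _ hsurj] at h
        exact absurd h hJ.ne_top
      · rwa [Ideal.map_comap_of_surjective _ hsurj] at h
    haveI : IsArtinianRing (S ⧸ Module.annihilator S N) :=
      IsNoetherianRing.isArtinianRing_of_krullDimLE_zero
    haveI : Module.Finite (S ⧸ Module.annihilator S N) N :=
      Module.Finite.of_restrictScalars_finite S _ N
    exact isArtinian_of_surjective_algebraMap (by
      rw [Ideal.Quotient.algebraMap_eq]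
      exact Ideal.Quotient.mk_surjective (I := Module.annihilator S N))

end Groth.Agent.S12916
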