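import Groth.Statements.S13049
-- import your own Groth.Agent.* helpers here

set_option autoImplicit false
universe u
open FrobAlg

namespace Groth.Agent.S13049

/-- Let p be a prime and A a commutative ring of characteristic p whose nilradical N satisfies x^(p^e) =
0 for all x ∈ N and some fixed e (for instance A Noetherian). Then the map between the inverse-limit
perfections along the absolute Frobenius, lim (⋯ → A → A) → lim (⋯ → A/N → A/N), induced by the
projection A → A/N, is bijective. (The published argument takes A of finite type over a field, where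
the nilradical is finitely generated; this row assumes only that the nilradical is killed by one
fixed iterate of Frobenius, which is all that argument uses.) -/
theorem result
    (p : ℕ) [Fact p.Prime] (A : Type u) [CommRing A] [CharP A p]
    [CharP (A ⧸ nilradical A) p] (e : ℕ) (he : ∀ x ∈ nilradical A, x ^ p ^ e = 0) :
    Function.Bijective (Perfection.map p (Ideal.Quotient.mk (nilradical A))) := by
  set N := nilradical A
  set π := Ideal.Quotient.mk N
  have key : ∀ a b : A, π a = π b → a ^ p ^ e = b ^ p ^ e := by
    intro a b hab
    have h1 : a - b ∈ N := Ideal.Quotient.eq.1 hab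
    have h2 := he _ h1
    rw [sub_pow_char_pow, sub_eq_zero] at h2
    exact h2
  have hpowA : ∀ (f : Perfection A p) (m n : ℕ),
      Perfection.coeff A p (m + n) f ^ p ^ n = Perfection.coeff A p m f :=
    fun f m n => Perfection.coeffMonoidHom_pow_p_pow' f m n
  have hpowQ : ∀ (f : Perfection (A ⧸ N) p) (m n : ℕ),
      Perfection.coeff (A ⧸ N) p (m + n) f ^ p ^ n = Perfection.coeff (A ⧸ N) p m f :=
    fun f m n => Perfection.coeffMonoidHom_pow_p_pow' f m n
  constructor
  · intro f g hfg
    apply Perfection.ext
    intro n
    have h1 : π (Perfection.coeff A p (n + e) f) = π (Perfection.coeff A p (n + e) g) := by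
      have := congrArg (Perfection.coeff (A ⧸ N) p (n + e)) hfg
      simpa using this
    rw [← hpowA f n e, ← hpowA g n e]
    exact key _ _ h1
  · intro y
    set σ := Function.surjInv (Ideal.Quotient.mk_surjective (I := N)) with hσ
    have hσπ : ∀ z, π (σ z) = z := Function.surjInv_eq _
    let x : ℕ → A := fun n => σ (Perfection.coeff (A ⧸ N) p (n + e) y) ^ p ^ e
    have hx : ∀ n, x (n + 1) ^ p = x n := by
      intro n
      change (σ (Perfection.coeff (A ⧸ N) p (n + 1 + e) y) ^ p ^ e) ^ p =
        σ (Perfection.coeff (A ⧸ N) p (n + e) y) ^ p ^ e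
      rw [← pow_mul, mul_comm, pow_mul]
      apply key
      rw [map_pow, hσπ, hσπ]
      have := Perfection.coeff_pow_p' (R := A ⧸ N) (p := p) y (n + e)
      rw [show n + 1 + e = n + e + 1 by omega]
      exact this
    let X : Perfection A p := ⟨x, hx⟩
    refine ⟨X, ?_⟩
    apply Perfection.ext
    intro n
    rw [Perfection.coeff_map]
    change π (σ (Perfection.coeff (A ⧸ N) p (n + e) y) ^ p ^ e) = _
    rw [map_pow, hσπ, hpowQ]

end Groth.Agent.S13049
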