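import Groth.Statements.S13060
import Mathlib.LinearAlgebra.TensorProduct.Basis
import Mathlib.LinearAlgebra.Basis.VectorSpace
-- import your own Groth.Agent.* helpers here

set_option autoImplicit false
universe u v w x
open TensorProduct
open Zeta

namespace Groth.Agent.S13060

/-- Let k be a field, V and W vector spaces over k and G a group acting on V by k-linear automorphisms;
for the induced action on V ⊗_k W (trivial on W) one has (V ⊗_k W)^G = V^G ⊗_k W, i.e. the
invariants of V ⊗ W are the image of V^G ⊗ W → V ⊗ W. -/
theorem result {k : Type u} [Field k] {G : Type v} [Group G]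
    {V : Type w} {W : Type x} [AddCommGroup V] [Module k V] [AddCommGroup W] [Module k W]
    (ρ : Representation k G V) :
    (ρ.tprod (Representation.trivial k G W)).invariants =
      LinearMap.range (TensorProduct.map ρ.invariants.subtype (LinearMap.id : W →ₗ[k] W)) := by
  classical
  have hact : ∀ (g : G) (x : V ⊗[k] W), (ρ.tprod (Representation.trivial k G W)) g x =
      TensorProduct.map (ρ g) LinearMap.id x := by
    intro g x
    rw [Representation.tprod_apply]
    congr 1
  ext x
  rw [Representation.mem_invariants]
  simp only [hact]
  constructor
  · intro hx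
    let 𝒞 := Module.Basis.ofVectorSpace k W
    let E := TensorProduct.equivFinsuppOfBasisRight (M := V) 𝒞
    have nat : ∀ (g : G) (y : V ⊗[k] W) (i : Module.Basis.ofVectorSpaceIndex k W),
        E (TensorProduct.map (ρ g) LinearMap.id y) i = ρ g (E y i) := by
      intro g y i
      simp only [E, TensorProduct.equivFinsuppOfBasisRight_apply]
      induction y using TensorProduct.induction_on with
      | zero => simp
      | tmul v w => simp
      | add y₁ y₂ h₁ h₂ => simp only [map_add, h₁, h₂]
    have hinv : ∀ i, E x i ∈ ρ.invariants := by
      intro i
      rw [Representation.mem_invariants]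
      intro g
      rw [← nat, hx g]
    have hx' : x = E.symm (E x) := (E.symm_apply_apply x).symm
    rw [hx', TensorProduct.equivFinsuppOfBasisRight_symm_apply]
    refine Submodule.finsuppSum_mem _ _ _ _ (fun i _ => ?_)
    exact ⟨⟨E x i, hinv i⟩ ⊗ₜ 𝒞 i, by simp⟩
  · rintro ⟨y, rfl⟩ g
    induction y using TensorProduct.induction_on with
    | zero => simp
    | tmul v w =>
      simp only [TensorProduct.map_tmul, Submodule.subtype_apply, LinearMap.id_apply]
      rw [(Representation.mem_invariants ρ v).mp v.2 g]
    | add y₁ y₂ h₁ h₂ => rw [map_add, map_add, h₁, h₂]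

end Groth.Agent.S13060
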