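import Groth.Statements.S13061
import Mathlib.RingTheory.Invariant.Basic
import Mathlib.Algebra.Polynomial.Expand
import Mathlib.Algebra.CharP.Lemmas
import Mathlib.Algebra.CharP.Algebra
import Mathlib.Data.Nat.Factorization.Basic
import Mathlib.Tactic.LinearCombination
-- import your own Groth.Agent.* helpers here

set_option autoImplicit false
universe u v w
open Zeta

namespace Groth.Agent.S13061

open Polynomial in
theorem coeff_key {R : Type*} [CommRing R] (y : R) (q m : ℕ) (hq0 : 0 < q) (hm : 1 ≤ m)
    (hq : ((X : R[X]) - C y) ^ q = X ^ q - C (y ^ q)) :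
    (((X : R[X]) - C y) ^ (q * m)).coeff (q * m - q) = -(m : R) * y ^ q := by
  rw [pow_mul, hq]
  have hexp : ((X : R[X]) ^ q - C (y ^ q)) ^ m = expand R q ((X - C (y ^ q)) ^ m) := by
    simp
  have hidx : q * m - q = (m - 1) * q := by
    rw [Nat.sub_mul, one_mul, mul_comm]
  rw [hexp, hidx, coeff_expand_mul hq0, sub_eq_add_neg, ← C_neg, coeff_X_add_C_pow,
    Nat.sub_sub_self hm, pow_one, Nat.choose_symm hm, Nat.choose_one_right]
  ring

/-- Let A be a commutative algebra over a field k, G a finite group acting on A by k-algebra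
automorphisms and I ⊆ A an ideal preserved by G. If p^n is the largest power of p = char(k) dividing
|G| (with p^n = 1 when char(k) = 0), then for every G-invariant b ∈ A/I the power b^{p^n} lies in
the image of A^G → (A/I)^G. (The published statement takes A finitely generated over k, which the
proof does not use.) -/
theorem result {k : Type u} [Field k]
    {A : Type v} [CommRing A] [Algebra k A] {G : Type w} [Group G] [Finite G]
    [MulSemiringAction G A] [SMulCommClass G k A] (I : Ideal A)
    (hI : ∀ (g : G) (a : A), a ∈ I → g • a ∈ I) (u : A) (hu : ∀ g : G, g • u - u ∈ I) :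
    ∃ a : A, (∀ g : G, g • a = a) ∧
      Ideal.Quotient.mk I a =
        Ideal.Quotient.mk I u ^ (ringChar k ^ (Nat.card G).factorization (ringChar k)) := by
  classical
  cases nonempty_fintype G
  rcases subsingleton_or_nontrivial (A ⧸ I) with hsub | hnt
  · exact ⟨0, fun g => smul_zero g, Subsingleton.elim _ _⟩
  set p := ringChar k with hp
  set N := Nat.card G with hN
  have hN0 : N ≠ 0 := Nat.card_pos.ne'
  set q := p ^ N.factorization p with hq
  set m := N / q with hm
  have hqm : q * m = N := Nat.ordProj_mul_ordCompl_eq_self N p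
  have hm1 : 1 ≤ m := by
    rcases Nat.eq_zero_or_pos m with h | h
    · rw [h, mul_zero] at hqm; exact absurd hqm.symm hN0
    · exact h
  -- m is invertible in k
  have hmk : (m : k) ≠ 0 := by
    rcases CharP.char_is_prime_or_zero k p with hpp | hp0
    · intro h
      rw [CharP.cast_eq_zero_iff k p] at h
      exact Nat.not_dvd_ordCompl hpp hN0 h
    · haveI : CharZero k := (CharP.charP_zero_iff_charZero k).mp (hp0 ▸ ringChar.charP k)
      exact Nat.cast_ne_zero.mpr (by omega)
  -- Frobenius-type identity in Polynomial (A ⧸ I)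
  set y := Ideal.Quotient.mk I u with hy
  have hq0 : 0 < q := by
    rcases CharP.char_is_prime_or_zero k p with hpp | hp0
    · exact pow_pos hpp.pos _
    · rw [hq, hp0, Nat.factorization_eq_zero_of_not_prime _ Nat.not_prime_zero, pow_zero]
      exact one_pos
  have hfrob : ((Polynomial.X : Polynomial (A ⧸ I)) - Polynomial.C y) ^ q =
      Polynomial.X ^ q - Polynomial.C (y ^ q) := by
    rcases CharP.char_is_prime_or_zero k p with hpp | hp0
    · haveI : Fact p.Prime := ⟨hpp⟩
      haveI : CharP k p := ringChar.charP k
      haveI : CharP (A ⧸ I) p :=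
        charP_of_injective_algebraMap (algebraMap k (A ⧸ I)).injective p
      rw [hq, sub_pow_char_pow, ← Polynomial.C_pow]
    · have : q = 1 := by
        rw [hq, hp0, Nat.factorization_eq_zero_of_not_prime _ Nat.not_prime_zero, pow_zero]
      rw [this, pow_one, pow_one, pow_one]
  -- the characteristic polynomial of u
  set P := MulSemiringAction.charpoly G u with hP
  have hPmap : P.map (Ideal.Quotient.mk I) = ((Polynomial.X : Polynomial (A ⧸ I)) - Polynomial.C y) ^ N := by
    rw [hP, MulSemiringAction.charpoly_eq, Polynomial.map_prod]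
    have : ∀ g : G, ((Polynomial.X : Polynomial A) - Polynomial.C (g • u)).map (Ideal.Quotient.mk I) =
        Polynomial.X - Polynomial.C y := by
      intro g
      rw [Polynomial.map_sub, Polynomial.map_X, Polynomial.map_C, hy, Ideal.Quotient.eq.mpr (hu g)]
    rw [Finset.prod_congr rfl (fun g _ => this g), Finset.prod_const, Finset.card_univ, hN,
      Nat.card_eq_fintype_card]
  set c := P.coeff (N - q) with hc
  have hcmk : Ideal.Quotient.mk I c = -(m : A ⧸ I) * y ^ q := by
    have h1 : Ideal.Quotient.mk I c = (P.map (Ideal.Quotient.mk I)).coeff (N - q) := by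
      rw [Polynomial.coeff_map]
    rw [h1, hPmap, ← hqm]
    exact coeff_key y q m hq0 hm1 hfrob
  refine ⟨-((m : k)⁻¹) • c, ?_, ?_⟩
  · intro g
    rw [smul_comm, hc, MulSemiringAction.smul_coeff_charpoly]
  · rw [show Ideal.Quotient.mk I (-((m : k)⁻¹) • c) = (-((m : k)⁻¹)) • Ideal.Quotient.mk I c from
      map_smul (Ideal.Quotient.mkₐ k I) _ _]
    rw [hcmk, Algebra.smul_def, map_neg]
    have hinv : algebraMap k (A ⧸ I) ((m : k)⁻¹) * (m : A ⧸ I) = 1 := by
      rw [← map_natCast (algebraMap k (A ⧸ I)) m, ← map_mul, inv_mul_cancel₀ hmk, map_one]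
    linear_combination (y ^ q) * hinv

end Groth.Agent.S13061
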