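import Groth.Statements.S13125
-- import your own Groth.Agent.* helpers here

set_option autoImplicit false
universe u v
open KumFam

namespace Groth.Agent.S13125

section helpers

open DirectSum

variable {ι : Type u} [DecidableEq ι] [AddMonoid ι]
    {A : Type v} [CommRing A] (𝒜 : ι → AddSubgroup A) [GradedRing 𝒜] (I : Ideal A)

/-- componentwise reduction -/
noncomputable def redMap (ℬ : ι → AddSubgroup (A ⧸ I))
    (hle : ∀ i : ι, (𝒜 i).map (Ideal.Quotient.mk I : A →+ A ⧸ I) ≤ ℬ i) :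
    (⨁ i, 𝒜 i) →+ ⨁ i, ℬ i :=
  DirectSum.map (fun i => (AddSubgroup.inclusion (hle i)).comp
    ((Ideal.Quotient.mk I : A →+ A ⧸ I).addSubgroupMap (𝒜 i)))

theorem coe_redMap (ℬ : ι → AddSubgroup (A ⧸ I))
    (hle : ∀ i : ι, (𝒜 i).map (Ideal.Quotient.mk I : A →+ A ⧸ I) ≤ ℬ i) (x : ⨁ i, 𝒜 i) :
    DirectSum.coeAddMonoidHom ℬ (redMap 𝒜 I ℬ hle x) =
      Ideal.Quotient.mk I (DirectSum.coeAddMonoidHom 𝒜 x) := by
  induction x using DirectSum.induction_on with
  | zero => simp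
  | of i a => simp [redMap, DirectSum.map_of]
  | add x y hx hy => simp [map_add, hx, hy]

theorem redMap_apply (ℬ : ι → AddSubgroup (A ⧸ I))
    (hle : ∀ i : ι, (𝒜 i).map (Ideal.Quotient.mk I : A →+ A ⧸ I) ≤ ℬ i) (x : ⨁ i, 𝒜 i) (i : ι) :
    ((redMap 𝒜 I ℬ hle x i : ℬ i) : A ⧸ I) = Ideal.Quotient.mk I (x i : A) := by
  simp [redMap, DirectSum.map_apply]

theorem isHomogeneous_of_grading (ℬ : ι → AddSubgroup (A ⧸ I)) [GradedRing ℬ]
    (hle : ∀ i : ι, (𝒜 i).map (Ideal.Quotient.mk I : A →+ A ⧸ I) ≤ ℬ i) :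
    I.IsHomogeneous 𝒜 := by
  intro i r hr
  have h0 : DirectSum.coeAddMonoidHom ℬ (redMap 𝒜 I ℬ hle (DirectSum.decompose 𝒜 r)) =
      DirectSum.coeAddMonoidHom ℬ 0 := by
    rw [coe_redMap, map_zero]
    have : DirectSum.coeAddMonoidHom 𝒜 (DirectSum.decompose 𝒜 r) = r := by
      exact DirectSum.Decomposition.left_inv r
    rw [this, Ideal.Quotient.eq_zero_iff_mem]; exact hr
  have hinj : Function.Injective (DirectSum.coeAddMonoidHom ℬ) :=
    (DirectSum.Decomposition.isInternal ℬ).injective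
  have h1 := hinj h0
  have h2 := congrArg (fun y => ((y i : ℬ i) : A ⧸ I)) h1
  simp only [redMap_apply] at h2
  rw [← Ideal.Quotient.eq_zero_iff_mem]
  simpa using h2

/-- the quotient grading -/
abbrev qGr (i : ι) : AddSubgroup (A ⧸ I) := (𝒜 i).map (Ideal.Quotient.mk I : A →+ A ⧸ I)

/-- decomposition map on representatives -/
noncomputable def psi0 : A →+ ⨁ i, qGr 𝒜 I i :=
  (redMap 𝒜 I (qGr 𝒜 I) (fun _ => le_rfl)).comp (DirectSum.decomposeAddEquiv 𝒜).toAddMonoidHom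

theorem psi0_eq_zero (hI : I.IsHomogeneous 𝒜) (x : A) (hx : x ∈ I) : psi0 𝒜 I x = 0 := by
  ext i
  have := redMap_apply 𝒜 I (qGr 𝒜 I) (fun _ => le_rfl) (DirectSum.decompose 𝒜 x) i
  simp only [psi0, AddMonoidHom.coe_comp, Function.comp_apply, AddEquiv.coe_toAddMonoidHom,
    DirectSum.decomposeAddEquiv_apply, DirectSum.zero_apply, ZeroMemClass.coe_zero]
  rw [this, Ideal.Quotient.eq_zero_iff_mem]
  exact hI i hx

theorem psi0_wd (hI : I.IsHomogeneous 𝒜) (a b : A)
    (h : Ideal.Quotient.mk I a = Ideal.Quotient.mk I b) : psi0 𝒜 I a = psi0 𝒜 I b := by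
  have h1 : a - b ∈ I := Ideal.Quotient.eq.1 h
  have h2 := psi0_eq_zero 𝒜 I hI _ h1
  rw [map_sub, sub_eq_zero] at h2
  exact h2

theorem coe_psi0 (a : A) :
    DirectSum.coeAddMonoidHom (qGr 𝒜 I) (psi0 𝒜 I a) = Ideal.Quotient.mk I a := by
  simp only [psi0, AddMonoidHom.coe_comp, Function.comp_apply, AddEquiv.coe_toAddMonoidHom,
    DirectSum.decomposeAddEquiv_apply]
  rw [coe_redMap]
  rw [show DirectSum.coeAddMonoidHom 𝒜 (DirectSum.decompose 𝒜 a) = a from
    DirectSum.Decomposition.left_inv a]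

theorem exists_rep (x : ⨁ i, qGr 𝒜 I i) :
    ∃ a : A, Ideal.Quotient.mk I a = DirectSum.coeAddMonoidHom (qGr 𝒜 I) x ∧ psi0 𝒜 I a = x := by
  induction x using DirectSum.induction_on with
  | zero => exact ⟨0, by simp, by simp⟩
  | of i b =>
    obtain ⟨b, ⟨a, ha, hab⟩⟩ := b
    have hab' : Ideal.Quotient.mk I a = b := hab
    refine ⟨a, by simp [hab'], ?_⟩
    simp only [psi0, AddMonoidHom.coe_comp, Function.comp_apply, AddEquiv.coe_toAddMonoidHom,
      DirectSum.decomposeAddEquiv_apply]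
    rw [DirectSum.decompose_of_mem 𝒜 ha]
    unfold redMap
    rw [DirectSum.map_of]
    congr 1
    apply Subtype.ext
    simpa using hab
  | add x y hx hy =>
    obtain ⟨a, ha1, ha2⟩ := hx
    obtain ⟨b, hb1, hb2⟩ := hy
    exact ⟨a + b, by simp [ha1, hb1], by simp [ha2, hb2]⟩

instance qGr_gradedMonoid : SetLike.GradedMonoid (qGr 𝒜 I) where
  one_mem := ⟨1, SetLike.GradedOne.one_mem, by simp⟩
  mul_mem := by
    rintro i j _ _ ⟨a, ha, rfl⟩ ⟨b, hb, rfl⟩
    exact ⟨a * b, SetLike.GradedMul.mul_mem ha hb, by simp⟩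

/-- the quotient decomposition -/
noncomputable def qDecomp (hI : I.IsHomogeneous 𝒜) : DirectSum.Decomposition (qGr 𝒜 I) where
  decompose' z := psi0 𝒜 I (Function.surjInv Ideal.Quotient.mk_surjective z)
  left_inv z := by
    rw [coe_psi0]
    exact Function.surjInv_eq _ z
  right_inv x := by
    obtain ⟨a, ha1, ha2⟩ := exists_rep 𝒜 I x
    have e : Ideal.Quotient.mk I (Function.surjInv Ideal.Quotient.mk_surjective
        (DirectSum.coeAddMonoidHom (qGr 𝒜 I) x)) = Ideal.Quotient.mk I a := by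
      rw [Function.surjInv_eq (f := Ideal.Quotient.mk I) Ideal.Quotient.mk_surjective, ha1]
    exact (psi0_wd 𝒜 I hI _ _ e).trans ha2

/-- the quotient graded ring -/
noncomputable def qGradedRing (hI : I.IsHomogeneous 𝒜) : GradedRing (qGr 𝒜 I) :=
  { qGr_gradedMonoid 𝒜 I, qDecomp 𝒜 I hI with }

end helpers

/-- Let A be a commutative ring graded by an additive monoid ι (an abelian group in the published
statement) through additive subgroups 𝒜 i, and I an ideal of A. Then I is a homogeneous ideal if and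
only if A/I carries a structure of ι-graded ring ℬ for which the quotient map sends 𝒜 i into ℬ i for
all i. -/
theorem result (ι : Type u) [DecidableEq ι] [AddMonoid ι]
    (A : Type v) [CommRing A] (𝒜 : ι → AddSubgroup A) [GradedRing 𝒜] (I : Ideal A) :
    I.IsHomogeneous 𝒜 ↔
      ∃ ℬ : ι → AddSubgroup (A ⧸ I), Nonempty (GradedRing ℬ) ∧
        ∀ i : ι, (𝒜 i).map (Ideal.Quotient.mk I : A →+ A ⧸ I) ≤ ℬ i := by
  constructor
  · intro hI
    exact ⟨qGr 𝒜 I, ⟨qGradedRing 𝒜 I hI⟩, fun _ => le_rfl⟩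
  · rintro ⟨ℬ, ⟨inst⟩, hle⟩
    exact isHomogeneous_of_grading 𝒜 I ℬ hle

end Groth.Agent.S13125
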