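import Groth.Statements.S13126
import Mathlib.RingTheory.Ideal.Quotient.Operations
import Mathlib.Algebra.Polynomial.RingDivision
import Mathlib.Algebra.Polynomial.BigOperators
import Mathlib.RingTheory.Polynomial.Ideal
import Mathlib.Algebra.Polynomial.Monic
-- import your own Groth.Agent.* helpers here

set_option autoImplicit false
universe u
open KumFam

namespace Groth.Agent.S13126

open Polynomial in
/-- Let R be a commutative ring, n a natural number which is a unit in R, and ζ ∈ R with ζ^n = 1 and 1 −
ζ^i a unit for 0 < i < n (a primitive n-th root of unity in the fibrewise sense: the powers ζ^0, …,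
ζ^(n−1) are roots of X^n − 1 with pairwise unit differences; over an integral domain in which n is a
unit this is the same as ζ having multiplicative order n). Then the R-algebra homomorphism R[X] →
(Fin n → R) sending a polynomial to its values at ζ^0, …, ζ^(n−1) is surjective and its kernel is
the ideal generated by X^n − 1; hence R[X]/(X^n − 1) ≅ R^n as R-algebras, i.e. the scheme of n-th
roots of unity over Spec R is the disjoint union of n copies of Spec R. (The published statement
asks that R contain a primitive n-th root of unity without defining the term; its Chinese-remainder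
argument uses that the ideals (X − ζ^i), i < n, are pairwise comaximal, which is the unit-difference
condition taken as the hypothesis here, whereas under the reading 'ζ has multiplicative order n'
alone the surjectivity fails over a product of two fields. The published statement also asserts that
the isomorphism respects the group-scheme structures of the n-th roots of unity and of the constant
group ℤ/n; this row does not state that.) -/
theorem result (R : Type u) [CommRing R]
    (n : ℕ) (hn : IsUnit (n : R)) (ζ : R) (hζ : ζ ^ n = 1)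
    (hprim : ∀ i : ℕ, 0 < i → i < n → IsUnit (1 - ζ ^ i)) :
    Function.Surjective (AlgHom.pi (fun i : Fin n => Polynomial.aeval (R := R) (ζ ^ (i : ℕ)))) ∧
      RingHom.ker (AlgHom.pi (fun i : Fin n => Polynomial.aeval (R := R) (ζ ^ (i : ℕ)))) =
        Ideal.span {(X ^ n - 1 : R[X])} := by
  rcases subsingleton_or_nontrivial R with hR | hR
  · exact ⟨fun v => ⟨0, Subsingleton.elim _ _⟩, Subsingleton.elim _ _⟩
  have hn0 : n ≠ 0 := by
    rintro rfl
    simp at hn
  have hζu : IsUnit ζ := by
    refine IsUnit.of_mul_eq_one (ζ ^ (n - 1)) ?_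
    rw [← pow_succ', Nat.sub_add_cancel (Nat.one_le_iff_ne_zero.mpr hn0), hζ]
  have hdiff : ∀ i j : Fin n, i ≠ j → IsUnit (ζ ^ (i : ℕ) - ζ ^ (j : ℕ)) := by
    have key : ∀ i j : Fin n, (i : ℕ) < j → IsUnit (ζ ^ (i : ℕ) - ζ ^ (j : ℕ)) := by
      intro i j hij
      have : ζ ^ (i : ℕ) - ζ ^ (j : ℕ) = ζ ^ (i : ℕ) * (1 - ζ ^ ((j : ℕ) - i)) := by
        rw [mul_sub, mul_one, ← pow_add, Nat.add_sub_cancel' hij.le]
      rw [this]
      exact (hζu.pow _).mul (hprim _ (Nat.sub_pos_of_lt hij)
        (lt_of_le_of_lt (Nat.sub_le _ _) j.2))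
    intro i j hij
    rcases lt_or_gt_of_ne (Fin.val_ne_of_ne hij) with h | h
    · exact key i j h
    · have := (key j i h).neg
      rwa [neg_sub] at this
  set I : Fin n → Ideal R[X] := fun i => Ideal.span {X - C (ζ ^ (i : ℕ))} with hI
  have hcop : Pairwise (fun i j => IsCoprime (I i) (I j)) := by
    intro i j hij
    simp only [I]
    rw [Ideal.isCoprime_span_singleton_iff]
    exact isCoprime_X_sub_C_of_isUnit_sub (hdiff i j hij)
  have hmemI : ∀ i (p : R[X]), p ∈ I i ↔ eval (ζ ^ (i : ℕ)) p = 0 := by
    intro i p
    simp only [I, Ideal.mem_span_singleton, dvd_iff_isRoot, IsRoot.def]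
  have hker : RingHom.ker (AlgHom.pi (fun i : Fin n => Polynomial.aeval (R := R) (ζ ^ (i : ℕ))))
      = ⨅ i, I i := by
    ext p
    simp only [RingHom.mem_ker, Submodule.mem_iInf, hmemI, funext_iff, AlgHom.pi_apply,
      Pi.zero_apply, coe_aeval_eq_eval]
  refine ⟨?_, ?_⟩
  · intro v
    obtain ⟨y, hy⟩ := Ideal.quotientInfToPiQuotient_surj hcop
      (fun i => Ideal.Quotient.mk (I i) (C (v i)))
    obtain ⟨p, rfl⟩ := Ideal.Quotient.mk_surjective y
    refine ⟨p, ?_⟩
    funext i
    have h1 := congrFun hy i
    rw [Ideal.quotientInfToPiQuotient_mk', Ideal.Quotient.eq, hmemI] at h1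
    simp only [eval_sub, eval_C, sub_eq_zero] at h1
    simp [AlgHom.pi_apply, coe_aeval_eq_eval, h1]
  · rw [hker]
    have hspan : ⨅ i, I i = Ideal.span {∏ i : Fin n, (X - C (ζ ^ (i : ℕ)))} := by
      simp only [I]
      refine Ideal.iInf_span_singleton ?_
      intro i j hij
      exact isCoprime_X_sub_C_of_isUnit_sub (hdiff i j hij)
    rw [hspan]
    suffices hPQ : ∏ i : Fin n, (X - C (ζ ^ (i : ℕ))) = (X ^ n - 1 : R[X]) by rw [hPQ]
    set P : R[X] := ∏ i : Fin n, (X - C (ζ ^ (i : ℕ))) with hP
    have hPm : P.Monic := monic_prod_of_monic _ _ (fun i _ => monic_X_sub_C _)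
    have hPd : P.natDegree = n := by
      rw [hP, natDegree_prod_of_monic _ _ (fun i _ => monic_X_sub_C _)]
      simp only [natDegree_X_sub_C, Finset.sum_const, Finset.card_univ, Fintype.card_fin,
        smul_eq_mul, mul_one]
    have hQm : (X ^ n - 1 : R[X]).Monic := by
      simpa only [map_one] using monic_X_pow_sub_C (1 : R) hn0
    have hQd : (X ^ n - 1 : R[X]).natDegree = n := by
      have := natDegree_X_pow_sub_C (n := n) (r := (1 : R))
      simpa using this
    have hdvd : P ∣ X ^ n - 1 := by
      have : (X ^ n - 1 : R[X]) ∈ ⨅ i, I i := by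
        rw [Submodule.mem_iInf]
        intro i
        rw [hmemI]
        simp only [eval_sub, eval_pow, eval_X, eval_one]
        rw [← pow_mul, mul_comm, pow_mul, hζ, one_pow, sub_self]
      rw [hspan, Ideal.mem_span_singleton] at this
      exact this
    by_contra hne
    have hsub : (X ^ n - 1 : R[X]) - P ≠ 0 := sub_ne_zero.mpr (Ne.symm hne)
    have hlt : ((X ^ n - 1 : R[X]) - P).degree < P.degree := by
      have := degree_sub_lt_left (p := (X ^ n - 1 : R[X])) (q := P)
        (by rw [degree_eq_natDegree (Monic.ne_zero hQm), degree_eq_natDegree (Monic.ne_zero hPm), hQd, hPd])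
        (Monic.ne_zero hQm) (by rw [Monic.leadingCoeff hQm, Monic.leadingCoeff hPm])
      refine lt_of_lt_of_eq this ?_
      rw [degree_eq_natDegree (Monic.ne_zero hQm), degree_eq_natDegree (Monic.ne_zero hPm),
        hQd, hPd]
    exact Monic.not_dvd_of_degree_lt hPm hsub hlt (dvd_sub hdvd dvd_rfl)

end Groth.Agent.S13126
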