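import Groth.Statements.S13163
-- import your own Groth.Agent.* helpers here

set_option autoImplicit false
universe u
open ZeroCyc

namespace Groth.Agent.S13163

open Polynomial in
/-- Let P_d(T) = ∏_{0 ≤ i < j ≤ d} (T^i − T^j) − 1 ∈ ℤ[T]. Every residue field of ℤ[T]/(P_d), i.e. every
field receiving a ring homomorphism from it, has at least d + 1 elements. -/
theorem result (d : ℕ) (k : Type u) [Field k]
    (φ : (ℤ[X] ⧸ Ideal.span {(∏ j ∈ Finset.range (d + 1), ∏ i ∈ Finset.range j,
        ((X : ℤ[X]) ^ i - X ^ j)) - 1}) →+* k) :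
    ((d + 1 : ℕ) : Cardinal) ≤ Cardinal.mk k := by
  set P := (∏ j ∈ Finset.range (d + 1), ∏ i ∈ Finset.range j, ((X : ℤ[X]) ^ i - X ^ j)) with hPdef
  let ψ : ℤ[X] →+* k := φ.comp (Ideal.Quotient.mk _)
  have hP : ψ P = 1 := by
    have h1 : Ideal.Quotient.mk (Ideal.span {P - 1}) (P - 1) = 0 :=
      Ideal.Quotient.eq_zero_iff_mem.mpr (Ideal.subset_span rfl)
    have h2 : ψ (P - 1) = 0 := by
      show φ (Ideal.Quotient.mk _ (P - 1)) = 0
      rw [h1, map_zero]
    rw [map_sub, map_one, sub_eq_zero] at h2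
    exact h2
  have hprod : ∏ j ∈ Finset.range (d + 1), ∏ i ∈ Finset.range j, (ψ X ^ i - ψ X ^ j) = 1 := by
    rw [← hP, hPdef, map_prod]
    refine Finset.prod_congr rfl fun j _ => ?_
    rw [map_prod]
    refine Finset.prod_congr rfl fun i _ => ?_
    rw [map_sub, map_pow, map_pow]
  have key : ∀ a b : ℕ, a < b → b < d + 1 → ψ X ^ a ≠ ψ X ^ b := by
    intro a b hab hb heq
    have h0 : ∏ j ∈ Finset.range (d + 1), ∏ i ∈ Finset.range j, (ψ X ^ i - ψ X ^ j) = 0 := by
      apply Finset.prod_eq_zero (Finset.mem_range.mpr hb)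
      apply Finset.prod_eq_zero (Finset.mem_range.mpr hab)
      rw [heq, sub_self]
    rw [hprod] at h0
    exact one_ne_zero h0
  have hinj : Function.Injective (fun i : Fin (d + 1) => ψ X ^ (i : ℕ)) := by
    intro a b hab
    simp only at hab
    rcases lt_trichotomy (a : ℕ) b with h | h | h
    · exact absurd hab (key _ _ h b.2)
    · exact Fin.ext h
    · exact absurd hab.symm (key _ _ h a.2)
  have hinj' : Function.Injective (fun i : ULift.{u} (Fin (d + 1)) => ψ X ^ (i.down : ℕ)) :=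
    fun a b h => ULift.ext _ _ (hinj h)
  have := Cardinal.mk_le_of_injective hinj'
  rwa [Cardinal.mk_uLift, Cardinal.mk_fin, Cardinal.lift_natCast] at this

end Groth.Agent.S13163
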