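import Groth.Statements.S13185
import Groth.Agent.Lib.Helper20.GpH1

set_option autoImplicit false
universe u v w x
open GalCoh

namespace Groth.Agent.S13185

/-- Let a group G act by automorphisms on groups A, B, C and let 1 → A → B → C → 1 (maps ι, π) be a
G-equivariant short exact sequence. For G-fixed elements c, c' of C, the connecting map to H¹(G, A)
takes equal values on c and c' if and only if c' = π(b) · c for some G-fixed b in B: the fibres of
the connecting map are the orbits of the fixed points of B acting on the fixed points of C by left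
multiplication. (The published statement is for a Galois group acting on discrete modules; this row
takes an arbitrary group acting on groups, which is what the argument proves.) -/
theorem result {G : Type u} {A : Type v} {B : Type w} {C : Type x}
    [Group G] [Group A] [Group B] [Group C]
    [MulDistribMulAction G A] [MulDistribMulAction G B] [MulDistribMulAction G C]
    {ι : A →* B} {π : B →* C} (h : GpH1.IsGExt G ι π)
    (c c' : MulAction.fixedPoints G C) :
    GpH1.delta0 h c = GpH1.delta0 h c' ↔
      ∃ b : B, b ∈ MulAction.fixedPoints G B ∧ (c' : C) = π b * (c : C) := by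
  obtain ⟨b0, hb0⟩ := h.surjective c.1
  obtain ⟨b0', hb0'⟩ := h.surjective c'.1
  rw [Groth.Agent.Lib.Helper20.delta0_eq_cl h c b0 hb0,
    Groth.Agent.Lib.Helper20.delta0_eq_cl h c' b0' hb0', GpH1.OneCocycle.cl_eq_cl_iff]
  constructor
  · rintro ⟨d, hd⟩
    refine ⟨b0' * ι d * b0⁻¹, fun σ => ?_, ?_⟩
    · have e := congrArg ι (hd σ)
      rw [h.ι_cocycleOfLift, map_mul, map_mul, map_inv, h.smul_ι, h.ι_cocycleOfLift] at e
      rw [smul_mul', smul_mul', smul_inv']
      have : σ • b0' = b0' * ι d * (b0⁻¹ * σ • b0) * (σ • ι d)⁻¹ := by rw [e]; group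
      rw [this]; group
    · rw [map_mul, map_mul, map_inv, Groth.Agent.Lib.Helper20.gext_π_ι h, hb0, hb0']; group
  · rintro ⟨b, hfix, hb⟩
    have hl : π (b * b0) = c' := by rw [map_mul, hb0, hb]
    have hfx : π (b * b0) ∈ MulAction.fixedPoints G C := by rw [hl]; exact c'.2
    refine GpH1.Cohomologous.trans (b := (h.cocycleOfLift (b * b0) hfx : G → A)) ⟨1, fun σ => ?_⟩
      (Groth.Agent.Lib.Helper20.cocycleOfLift_coh h (b * b0) b0' hfx _ (by rw [hl, hb0']))
    rw [smul_one, inv_one, one_mul, mul_one]
    apply Groth.Agent.Lib.Helper20.cocycleOfLift_apply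
    rw [h.ι_cocycleOfLift, smul_mul', hfix σ]
    group

end Groth.Agent.S13185
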