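import Groth.Statements.S13191


set_option autoImplicit false
universe u v w x
open GalCoh

namespace Groth.Agent.S13191

/-- Let a group G act by automorphisms on a group A, and let E and E' each be a G-equivariant right
A-torsor (a set with a simply transitive right action of A, written m ↦ m·a, and a left action of G
with g(m·a) = (gm)·(ga)). Let m ∈ E and m' ∈ E' be points with attached maps a, a' : G → A (g·m =
m·a(g) and g·m' = m'·a'(g) for all g). Then there is a bijection E ≃ E' commuting with the actions
of G and of A if and only if a and a' are cohomologous. (The published statement is for a Galois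
group acting on discrete modules; this row takes an arbitrary group acting on a group.) -/
theorem result {G : Type u} {A : Type v} {E : Type w} {E' : Type x}
    [Group G] [Group A] [MulDistribMulAction G A]
    [MulAction G E] [MulAction Aᵐᵒᵖ E]
    (hfree : ∀ m₁ m₂ : E, ∃! a : A, m₂ = MulOpposite.op a • m₁)
    (hcompat : ∀ (g : G) (a : A) (m : E), g • (MulOpposite.op a • m) = MulOpposite.op (g • a) • g • m)
    [MulAction G E'] [MulAction Aᵐᵒᵖ E']
    (hfree' : ∀ m₁ m₂ : E', ∃! a : A, m₂ = MulOpposite.op a • m₁)
    (hcompat' : ∀ (g : G) (a : A) (m : E'), g • (MulOpposite.op a • m) = MulOpposite.op (g • a) • g • m)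
    (m : E) (a : G → A) (ha : ∀ g : G, g • m = MulOpposite.op (a g) • m)
    (m' : E') (a' : G → A) (ha' : ∀ g : G, g • m' = MulOpposite.op (a' g) • m') :
    (∃ f : E ≃ E', (∀ (g : G) (e : E), f (g • e) = g • f e) ∧
        ∀ (b : A) (e : E), f (MulOpposite.op b • e) = MulOpposite.op b • f e) ↔
      GpH1.Cohomologous a a' := by
  classical
  constructor
  · rintro ⟨f, hfG, hfA⟩
    obtain ⟨c, hc, -⟩ := hfree' m' (f m)
    refine ⟨c, fun g => ?_⟩
    have e1 : g • f m = MulOpposite.op (c * a g) • m' := by
      rw [← hfG, ha g, hfA, hc, ← mul_smul, ← MulOpposite.op_mul]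
    have e2 : g • f m = MulOpposite.op (a' g * g • c) • m' := by
      rw [hc, hcompat', ha' g, ← mul_smul, ← MulOpposite.op_mul]
    obtain ⟨x, -, hx⟩ := hfree' m' (g • f m)
    have := (hx _ e1).trans (hx _ e2).symm
    rw [mul_assoc, ← this]; group
  · rintro ⟨c, hc⟩
    choose x hx hxu using hfree m
    choose y hy hyu using hfree' m'
    refine ⟨⟨fun e => MulOpposite.op (c * x e) • m', fun e' => MulOpposite.op (c⁻¹ * y e') • m,
      ?_, ?_⟩, ?_, ?_⟩
    · intro e
      have : y (MulOpposite.op (c * x e) • m') = c * x e := (hyu _ _ rfl).symm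
      simp only
      rw [this, inv_mul_cancel_left]; exact (hx e).symm
    · intro e'
      have : x (MulOpposite.op (c⁻¹ * y e') • m) = c⁻¹ * y e' := (hxu _ _ rfl).symm
      simp only
      rw [this, mul_inv_cancel_left]; exact (hy e').symm
    · intro g e
      simp only [Equiv.coe_fn_mk]
      have hge : g • e = MulOpposite.op (a g * g • x e) • m := by
        conv_lhs => rw [hx e]
        rw [hcompat, ha g, ← mul_smul, ← MulOpposite.op_mul]
      have : x (g • e) = a g * g • x e := (hxu _ _ hge).symm
      rw [this, hcompat', ha' g, ← mul_smul, ← MulOpposite.op_mul, smul_mul', hc g]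
      congr 2; group
    · intro b e
      simp only [Equiv.coe_fn_mk]
      have hbe : MulOpposite.op b • e = MulOpposite.op (x e * b) • m := by
        conv_lhs => rw [hx e]
        rw [← mul_smul, ← MulOpposite.op_mul]
      have : x (MulOpposite.op b • e) = x e * b := (hxu _ _ hbe).symm
      rw [this, ← mul_smul, ← MulOpposite.op_mul, mul_assoc]

end Groth.Agent.S13191
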