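import Groth.Statements.S13192
-- import your own Groth.Agent.* helpers here

set_option autoImplicit false
universe u v
open GalCoh

namespace Groth.Agent.S13192


/-- twisted left action `g ⋆ x = a g * g • x` -/
def twAct {G : Type u} {A : Type v} [Group G] [Group A] [MulDistribMulAction G A] (a : G → A)
    (h1 : a 1 = 1) (ha : GpH1.IsOneCocycle a) : MulAction G A where
  smul g x := a g * g • x
  one_smul x := by
    show a 1 * (1 : G) • x = x
    rw [h1, one_smul, one_mul]
  mul_smul g k x := by
    show a (g * k) * (g * k) • x = a g * g • (a k * k • x)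
    rw [ha g k, mul_smul, smul_mul', mul_assoc]

/-- right multiplication action -/
def opAct (A : Type v) [Group A] : MulAction Aᵐᵒᵖ A where
  smul b x := x * b.unop
  one_smul x := by
    show x * (1 : Aᵐᵒᵖ).unop = x
    rw [MulOpposite.unop_one, mul_one]
  mul_smul b c x := by
    show x * (b * c).unop = x * c.unop * b.unop
    rw [MulOpposite.unop_mul, mul_assoc]

/-- Let a group G act by automorphisms on a group A and let a : G → A be a 1-cocycle. Then there exist a
G-equivariant right A-torsor E (a set with a simply transitive right action of A, written m ↦ m·a,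
and a left action of G with g(m·a) = (gm)·(ga)) and a point m of E whose attached map is a, i.e. g·m
= m·a(g) for every g in G. (E is taken in the universe of A. The published statement is for a Galois
group acting on discrete modules; this row takes an arbitrary group acting on a group.) -/
theorem result {G : Type u} {A : Type v}
    [Group G] [Group A] [MulDistribMulAction G A] (a : G → A) (ha : GpH1.IsOneCocycle a) :
    ∃ (E : Type v) (_ : MulAction G E) (_ : MulAction Aᵐᵒᵖ E) (m : E),
      (∀ m₁ m₂ : E, ∃! b : A, m₂ = MulOpposite.op b • m₁) ∧
      (∀ (g : G) (b : A) (e : E), g • (MulOpposite.op b • e) = MulOpposite.op (g • b) • g • e) ∧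
      ∀ g : G, g • m = MulOpposite.op (a g) • m := by
  have h1 : a 1 = 1 := by
    have := ha 1 1
    rw [one_mul, one_smul] at this
    have h2 : a 1 * a 1 = a 1 * 1 := by rw [← this, mul_one]
    exact mul_left_cancel h2
  refine ⟨A, twAct a h1 ha, opAct A, 1, ?_, ?_, ?_⟩
  · intro m₁ m₂
    refine ⟨m₁⁻¹ * m₂, ?_, ?_⟩
    · show m₂ = m₁ * (m₁⁻¹ * m₂)
      group
    · intro y hy
      change m₂ = m₁ * y at hy
      rw [hy]; group
  · intro g b e
    show a g * g • (e * b) = a g * g • e * g • b
    rw [smul_mul', mul_assoc]
  · intro g
    show a g * g • (1 : A) = 1 * a g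
    rw [smul_one, mul_one, one_mul]

end Groth.Agent.S13192
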