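import Groth.Statements.S13608
import Mathlib.RingTheory.AdicCompletion.Completeness

set_option autoImplicit false
universe u v
open CAlg

namespace Groth.Agent.S13608


theorem map_le' {A : Type*} [CommRing A] (I : Ideal A) {P Q : Type*} [AddCommGroup P] [Module A P]
    [AddCommGroup Q] [Module A Q] (f : P →ₗ[A] Q) (n : ℕ) :
    (I ^ n • ⊤ : Submodule A P).map f ≤ I ^ n • ⊤ := by
  rw [Submodule.map_smul'']
  exact smul_mono_right _ le_top

/-- Let A be a commutative ring, I a finitely generated ideal of A and (M_n) an inverse system of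
A-modules with transition maps f_n : M_(n+1) → M_n such that I^(n+1) M_n = 0 for every n. If L is an
inverse limit of the system (projections π_n compatible with the f_n, jointly injective, and such
that every compatible family of elements lifts to L), then L is complete and separated for the
I-adic topology. No surjectivity of the transition maps is assumed. -/
theorem result
    (A : Type u) [CommRing A] (I : Ideal A) (hI : I.FG)
    (M : ℕ → Type v) [∀ n, AddCommGroup (M n)] [∀ n, Module A (M n)]
    (f : ∀ n, M (n + 1) →ₗ[A] M n)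
    (hkill : ∀ n, I ^ (n + 1) • (⊤ : Submodule A (M n)) = ⊥)
    (L : Type v) [AddCommGroup L] [Module A L] (π : ∀ n, L →ₗ[A] M n)
    (hπ : ∀ n, f n ∘ₗ π (n + 1) = π n)
    (hinj : ∀ x : L, (∀ n, π n x = 0) → x = 0)
    (hlift : ∀ y : (∀ n, M n), (∀ n, f n (y (n + 1)) = y n) → ∃ x : L, ∀ n, π n x = y n) :
    IsAdicComplete I L := by
  classical
  have hinj' : ∀ x y : L, (∀ n, π n x = π n y) → x = y := by
    intro x y h
    rw [← sub_eq_zero]
    exact hinj _ (fun n => by rw [map_sub, h n, sub_self])
  have hle : ∀ n, (I ^ (n + 1) • ⊤ : Submodule A L) ≤ LinearMap.ker (π n) := by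
    intro n x hx
    rw [LinearMap.mem_ker]
    have h1 : π n x ∈ (I ^ (n + 1) • ⊤ : Submodule A L).map (π n) := Submodule.mem_map_of_mem hx
    have h2 := map_le' I (π n) (n + 1) h1
    rw [hkill n] at h2
    exact h2
  let πb : ∀ n, (L ⧸ (I ^ (n + 1) • ⊤ : Submodule A L)) →ₗ[A] M n := fun n =>
    (I ^ (n + 1) • ⊤ : Submodule A L).liftQ (π n) (hle n)
  let yv : AdicCompletion I L →ₗ[A] (∀ n, M n) :=
    LinearMap.pi (fun n => (πb n).comp (AdicCompletion.eval I L (n + 1)))
  have hyv : ∀ ξ n, yv ξ n = πb n (ξ.val (n + 1)) := fun ξ n => rfl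
  have hy : ∀ ξ : AdicCompletion I L, ∀ n, f n (yv ξ (n + 1)) = yv ξ n := by
    intro ξ n
    rw [hyv, hyv, ← AdicCompletion.transitionMap_comp_eval_apply I L (Nat.le_succ (n + 1)) ξ]
    obtain ⟨z, hz⟩ := Submodule.Quotient.mk_surjective _ (ξ.val (n + 1 + 1))
    rw [← hz]
    show f n (π (n + 1) z) = π n z
    rw [← LinearMap.comp_apply, hπ]
  choose ψf hψf using fun ξ => hlift (yv ξ) (hy ξ)
  let ψ : AdicCompletion I L →ₗ[A] L :=
    { toFun := ψf
      map_add' := fun ξ η => hinj' _ _ (fun n => by rw [map_add, hψf, hψf, hψf, map_add]; rfl)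
      map_smul' := fun c ξ => hinj' _ _ (fun n => by
        rw [map_smul, hψf, hψf, map_smul]; rfl) }
  have hψof : ∀ x, ψ (AdicCompletion.of I L x) = x := by
    intro x
    apply hinj'
    intro n
    show π n (ψf _) = π n x
    rw [hψf, hyv]
    rfl
  have hC : IsAdicComplete I (AdicCompletion I L) := AdicCompletion.isAdicComplete hI
  refine { haus' := ?_, prec' := ?_ }
  · intro x hx
    apply hinj
    intro n
    have h1 : x ∈ (I ^ (n + 1) • ⊤ : Submodule A L) := by
      have := hx (n + 1)
      rwa [SModEq.zero] at this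
    exact hle n h1
  · intro xs hxs
    obtain ⟨ξ, hξ⟩ := hC.toIsPrecomplete.prec (f := fun k => AdicCompletion.of I L (xs k))
      (fun hmn => ((hxs hmn).map _).mono (map_le' I _ _))
    refine ⟨ψ ξ, fun n => ?_⟩
    have := ((hξ n).map ψ).mono (map_le' I ψ n)
    simpa [hψof] using this

end Groth.Agent.S13608
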