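import Groth.Statements.S13609
-- import your own Groth.Agent.* helpers here

set_option autoImplicit false
universe u v
open CAlg

namespace Groth.Agent.S13609


theorem map_le {A : Type u} [CommRing A] (I : Ideal A) {P Q : Type v} [AddCommGroup P] [Module A P]
    [AddCommGroup Q] [Module A Q] (f : P →ₗ[A] Q) (n : ℕ) :
    (I ^ n • ⊤ : Submodule A P).map f ≤ I ^ n • ⊤ := by
  rw [Submodule.map_smul'']
  exact smul_mono_right _ le_top

/-- A direct summand of a module that is complete and separated for the I-adic topology is again
complete and separated: for a commutative ring A, an ideal I and A-modules M₁, M₂, if M₁ × M₂ is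
I-adically complete then so is M₁. -/
theorem result (A : Type u) [CommRing A] (I : Ideal A)
    (M₁ M₂ : Type v) [AddCommGroup M₁] [Module A M₁] [AddCommGroup M₂] [Module A M₂]
    [IsAdicComplete I (M₁ × M₂)] : IsAdicComplete I M₁ := by
  have hH : IsHausdorff I (M₁ × M₂) := inferInstance
  have hP : IsPrecomplete I (M₁ × M₂) := inferInstance
  refine { haus' := ?_, prec' := ?_ }
  · intro x hx
    have h := hH.haus (LinearMap.inl A M₁ M₂ x) (fun n => by
      have := (hx n).map (LinearMap.inl A M₁ M₂)
      rw [map_zero] at this
      exact this.mono (map_le I _ n))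
    simpa using congrArg Prod.fst h
  · intro f hf
    obtain ⟨L, hL⟩ := hP.prec (f := fun n => LinearMap.inl A M₁ M₂ (f n))
      (fun hmn => ((hf hmn).map _).mono (map_le I _ _))
    refine ⟨L.1, fun n => ?_⟩
    have := ((hL n).map (LinearMap.fst A M₁ M₂)).mono (map_le I _ n)
    simpa using this

end Groth.Agent.S13609
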