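import Groth.Statements.S13622
import Mathlib.RingTheory.AdicCompletion.Completeness
import Mathlib.RingTheory.AdicCompletion.Algebra

set_option autoImplicit false
universe u v
open CAlg

namespace Groth.Agent.S13622

/-- Let A be a commutative ring, I a finitely generated ideal and (M_n) an inverse system of finitely
generated A-modules whose transition maps f_n : M_(n+1) → M_n are surjective with kernel I^(n+1)
M_(n+1), and with I^(n+1) M_n = 0 for all n. If L is an inverse limit of the system (projections π_n
compatible with the f_n, jointly injective, every compatible family lifting to L), endowed with a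
module structure over the I-adic completion A^ of A that is compatible with its A-module structure,
then L is finitely generated as an A^-module. No completeness of A is assumed. -/
theorem result
    (A : Type u) [CommRing A] (I : Ideal A) (hI : I.FG)
    (M : ℕ → Type v) [∀ n, AddCommGroup (M n)] [∀ n, Module A (M n)] [∀ n, Module.Finite A (M n)]
    (f : ∀ n, M (n + 1) →ₗ[A] M n) (hf : ∀ n, Function.Surjective (f n))
    (hker : ∀ n, LinearMap.ker (f n) = I ^ (n + 1) • (⊤ : Submodule A (M (n + 1))))
    (hkill : ∀ n, I ^ (n + 1) • (⊤ : Submodule A (M n)) = ⊥)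
    (L : Type v) [AddCommGroup L] [Module A L] (π : ∀ n, L →ₗ[A] M n)
    (hπ : ∀ n, f n ∘ₗ π (n + 1) = π n)
    (hinj : ∀ x : L, (∀ n, π n x = 0) → x = 0)
    (hlift : ∀ y : (∀ n, M n), (∀ n, f n (y (n + 1)) = y n) → ∃ x : L, ∀ n, π n x = y n)
    [Module (AdicCompletion I A) L] [IsScalarTower A (AdicCompletion I A) L] :
    Module.Finite (AdicCompletion I A) L := by
  classical
  -- compatibility in pointwise form
  have hπx : ∀ n (z : L), f n (π (n + 1) z) = π n z := fun n z => LinearMap.congr_fun (hπ n) z
  -- π 0 is surjective
  have hπ0 : ∀ z : M 0, ∃ x : L, π 0 x = z := by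
    intro z
    let seq : ∀ k, M k := fun k => Nat.rec (motive := fun k => M k) z
      (fun k mk => (hf k mk).choose) k
    have hseq : ∀ k, f k (seq (k + 1)) = seq k := fun k => (hf k (seq k)).choose_spec
    obtain ⟨x, hx⟩ := hlift seq hseq
    exact ⟨x, hx 0⟩
  obtain ⟨r, s, hs⟩ := Module.Finite.exists_fin (R := A) (M := M 0)
  choose x hx using fun i : Fin r => hπ0 (s i)
  -- every M n is spanned by the images of the x i
  have hP : ∀ n, Submodule.span A (Set.range (fun i => π n (x i))) = ⊤ := by
    intro n
    induction n with
    | zero =>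
      have : (fun i => π 0 (x i)) = s := funext hx
      rw [this, hs]
    | succ n ih =>
      set S := Submodule.span A (Set.range (fun i => π (n + 1) (x i))) with hS
      set J : Ideal A := I ^ (n + 1) with hJ
      have h1 : (⊤ : Submodule A (M (n + 1))) ≤ S ⊔ J • ⊤ := by
        intro m _
        have hm : f n m ∈ Submodule.span A (Set.range (fun i => π n (x i))) := by
          rw [ih]; trivial
        obtain ⟨c, hc⟩ := (Submodule.mem_span_range_iff_exists_fun A).mp hm
        have hk : m - ∑ i, c i • π (n + 1) (x i) ∈ LinearMap.ker (f n) := by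
          rw [LinearMap.mem_ker, map_sub, map_sum]
          simp only [map_smul, hπx]
          rw [hc, sub_self]
        rw [hker n] at hk
        have hmS : ∑ i, c i • π (n + 1) (x i) ∈ S :=
          Submodule.sum_mem _ (fun i _ => Submodule.smul_mem _ _
            (Submodule.subset_span ⟨i, rfl⟩))
        have : m = ∑ i, c i • π (n + 1) (x i) + (m - ∑ i, c i • π (n + 1) (x i)) := by abel
        rw [this]
        exact Submodule.add_mem_sup hmS hk
      have h2 : (J * J) • (⊤ : Submodule A (M (n + 1))) = ⊥ := by
        apply le_bot_iff.mp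
        rw [← hkill (n + 1)]
        apply Submodule.smul_mono_left
        rw [hJ, ← pow_add]
        exact Ideal.pow_le_pow_right (by omega)
      have h3 : J • (⊤ : Submodule A (M (n + 1))) ≤ S := by
        calc J • (⊤ : Submodule A (M (n + 1))) ≤ J • (S ⊔ J • ⊤) := Submodule.smul_mono le_rfl h1
          _ = J • S ⊔ J • J • ⊤ := Submodule.smul_sup _ _ _
          _ = J • S ⊔ (J * J) • ⊤ := by rw [Submodule.mul_smul]
          _ = J • S := by rw [h2, sup_bot_eq]
          _ ≤ S := Submodule.smul_le_right
      exact top_le_iff.mp (h1.trans (sup_le le_rfl h3))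
  -- the approximation step
  have step : ∀ (y : L) (n : ℕ) (c : Fin r → A), π n (y - ∑ i, c i • x i) = 0 →
      ∃ b : Fin r → A, (∀ i, b i ∈ I ^ (n + 1)) ∧
        π (n + 1) (y - ∑ i, (c i + b i) • x i) = 0 := by
    intro y n c hc
    set w := π (n + 1) (y - ∑ i, c i • x i) with hw
    have hwk : w ∈ LinearMap.ker (f n) := by
      rw [LinearMap.mem_ker, hw, hπx, hc]
    rw [hker n, ← hP (n + 1), Submodule.mem_ideal_smul_span_iff_exists_sum] at hwk
    obtain ⟨a, ha, haw⟩ := hwk
    rw [Finsupp.sum_fintype _ _ (by simp)] at haw
    refine ⟨a, ha, ?_⟩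
    have : y - ∑ i, (c i + a i) • x i = (y - ∑ i, c i • x i) - ∑ i, a i • x i := by
      simp only [add_smul, Finset.sum_add_distrib]; abel
    rw [this, map_sub, ← hw, map_sum]
    simp only [map_smul]
    rw [haw, sub_self]
  -- surjectivity of the linear combination map
  have hsurj : Function.Surjective (Fintype.linearCombination (AdicCompletion I A) x) := by
    intro y
    obtain ⟨c0, hc0⟩ : ∃ c : Fin r → A, π 0 (y - ∑ i, c i • x i) = 0 := by
      have hm : π 0 y ∈ Submodule.span A (Set.range (fun i => π 0 (x i))) := by
        rw [hP 0]; trivial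
      obtain ⟨c, hc⟩ := (Submodule.mem_span_range_iff_exists_fun A).mp hm
      refine ⟨c, ?_⟩
      rw [map_sub, map_sum]
      simp only [map_smul]
      rw [hc, sub_self]
    choose! B hB using step y
    let a : ℕ → Fin r → A := fun n => Nat.rec (motive := fun _ => Fin r → A) c0
      (fun n an => an + B n an) n
    have haS : ∀ n, a (n + 1) = a n + B n (a n) := fun n => rfl
    have hgood : ∀ n, π n (y - ∑ i, a n i • x i) = 0 := by
      intro n
      induction n with
      | zero => exact hc0
      | succ n ih => rw [haS]; exact (hB n (a n) ih).2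
    have hdiff : ∀ n i, a (n + 1) i - a n i ∈ I ^ (n + 1) := by
      intro n i
      rw [haS, Pi.add_apply, add_sub_cancel_left]
      exact (hB n (a n) (hgood n)).1 i
    have hcauchy : ∀ i n, a n i ≡ a (n + 1) i [SMOD (I ^ n • ⊤ : Submodule A A)] := by
      intro i n
      rw [SModEq.sub_mem, Ideal.smul_eq_mul, Ideal.mul_top]
      have := Ideal.pow_le_pow_right (I := I) (Nat.le_succ n) (hdiff n i)
      rw [← neg_sub]
      exact neg_mem_iff.mpr this
    let ξ : Fin r → AdicCompletion I A := fun i =>
      AdicCompletion.mk I A (AdicCompletion.AdicCauchySequence.mk I A (fun n => a n i) (hcauchy i))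
    refine ⟨ξ, ?_⟩
    rw [Fintype.linearCombination_apply]
    symm
    rw [← sub_eq_zero]
    apply hinj
    intro n
    -- key: (ξ i - a (n+1) i) acts trivially after π n
    have hkey : ∀ i, π n ((ξ i - algebraMap A (AdicCompletion I A) (a (n + 1) i)) • x i) = 0 := by
      intro i
      have hmem : ξ i - algebraMap A (AdicCompletion I A) (a (n + 1) i) ∈
          (I ^ (n + 1) • ⊤ : Submodule A (AdicCompletion I A)) := by
        rw [AdicCompletion.pow_smul_top_eq_ker_eval hI, LinearMap.mem_ker, map_sub,
          AdicCompletion.algebraMap_apply, Algebra.algebraMap_self, RingHom.id_apply,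
          AdicCompletion.eval_of, AdicCompletion.eval_apply, sub_eq_zero]
        simp only [ξ, AdicCompletion.mk_apply_coe, AdicCompletion.AdicCauchySequence.mk_coe]
      have gen : ∀ η ∈ (I ^ (n + 1) • ⊤ : Submodule A (AdicCompletion I A)),
          ∀ z : L, π n (η • z) = 0 := by
        intro η hη
        refine Submodule.smul_induction_on (p := fun η => ∀ z : L, π n (η • z) = 0) hη ?_ ?_
        · intro t ht η' _ z
          rw [smul_assoc, map_smul]
          have : t • π n (η' • z) ∈ (I ^ (n + 1) • ⊤ : Submodule A (M n)) :=
            Submodule.smul_mem_smul ht trivial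
          rw [hkill n] at this
          exact this
        · intro η₁ η₂ h₁ h₂ z
          rw [add_smul, map_add, h₁, h₂, add_zero]
      exact gen _ hmem (x i)
    have hdecomp : y - ∑ i, ξ i • x i = (y - ∑ i, a (n + 1) i • x i) -
        ∑ i, (ξ i - algebraMap A (AdicCompletion I A) (a (n + 1) i)) • x i := by
      simp only [sub_smul, algebraMap_smul, Finset.sum_sub_distrib]
      abel
    rw [hdecomp, map_sub, map_sum, Finset.sum_eq_zero (fun i _ => hkey i), sub_zero,
      ← hπx, hgood, map_zero]
  exact Module.Finite.of_surjective _ hsurj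

end Groth.Agent.S13622
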