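import Groth.Statements.S13623
import Mathlib.RingTheory.LocalRing.Module
import Mathlib.RingTheory.Flat.FaithfullyFlat.Basic
import Mathlib.FieldTheory.IsAlgClosed.AlgebraicClosure
import Mathlib.RingTheory.Support

set_option autoImplicit false
universe u
open TensorProduct
open CAlg

namespace Groth.Agent.S13623

theorem subsingleton_of_forall_algClosed {A : Type u} [CommRing A] (M : Type u) [AddCommGroup M]
    [Module A M] [Module.Finite A M]
    (h : ∀ (k : Type u) [Field k] [IsAlgClosed k] [Algebra A k], Subsingleton (k ⊗[A] M)) :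
    Subsingleton M := by
  rw [← Module.support_eq_empty_iff (R := A)]
  ext p
  simp only [Set.mem_empty_iff_false, iff_false]
  rw [Module.mem_support_iff_nontrivial_residueField_tensorProduct, not_nontrivial_iff_subsingleton]
  have hL := h (AlgebraicClosure p.asIdeal.ResidueField)
  have e := AlgebraTensorModule.cancelBaseChange A p.asIdeal.ResidueField
    (AlgebraicClosure p.asIdeal.ResidueField) (AlgebraicClosure p.asIdeal.ResidueField) M
  have : Subsingleton ((AlgebraicClosure p.asIdeal.ResidueField) ⊗[p.asIdeal.ResidueField]
      (p.asIdeal.ResidueField ⊗[A] M)) := e.toEquiv.subsingleton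
  exact (Module.FaithfullyFlat.subsingleton_tensorProduct_iff_right _ _).mp this

/-- Let A be a commutative ring and B a commutative A-algebra, graded by A-submodules B_m (m ≥ 0)
forming a graded-algebra structure, such that every B_m is a finitely generated A-module. If for
every algebraically closed field k and every A-algebra structure on k the k-algebra k ⊗_A B is
generated by the image of B_1 under b ↦ 1 ⊗ b, then its degree-one part B_1 generates the A-algebra
B. (Algebraically closed fields are taken in the universe of A.) -/
theorem result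
    (A : Type u) [CommRing A] (B : Type u) [CommRing B] [Algebra A B]
    (𝒜 : ℕ → Submodule A B) [GradedAlgebra 𝒜]
    (hfin : ∀ m : ℕ, Module.Finite A (𝒜 m))
    (hgen : ∀ (k : Type u) [Field k] [IsAlgClosed k] [Algebra A k],
      Algebra.adjoin k ((Algebra.TensorProduct.includeRight : B →ₐ[A] k ⊗[A] B) '' (𝒜 1 : Set B)) = ⊤) :
    Algebra.adjoin A (𝒜 1 : Set B) = ⊤ := by
  classical
  set C := Algebra.adjoin A (𝒜 1 : Set B) with hC
  have hD_le : ∀ m : ℕ, (𝒜 1) ^ m ≤ 𝒜 m := by
    intro m
    induction m with
    | zero => rw [pow_zero]; exact Submodule.one_le.mpr (SetLike.one_mem_graded 𝒜)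
    | succ m ih =>
      rw [pow_succ]
      exact Submodule.mul_le.mpr (fun a ha b hb => SetLike.mul_mem_graded (ih ha) hb)
  have hD_C : ∀ m : ℕ, (𝒜 1) ^ m ≤ Subalgebra.toSubmodule C := by
    intro m
    induction m with
    | zero => rw [pow_zero]; exact Submodule.one_le.mpr C.one_mem
    | succ m ih =>
      rw [pow_succ]
      exact Submodule.mul_le.mpr (fun a ha b hb => C.mul_mem (ih ha) (Algebra.subset_adjoin hb))
  have main : ∀ m : ℕ, 𝒜 m ≤ (𝒜 1) ^ m := by
    intro m
    have := hfin m
    let ι : ((𝒜 1) ^ m : Submodule A B) →ₗ[A] 𝒜 m := Submodule.inclusion (hD_le m)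
    let π : B →ₗ[A] 𝒜 m := (DirectSum.component A ℕ (fun i => 𝒜 i) m).comp
      (DirectSum.decomposeLinearEquiv 𝒜).toLinearMap
    have hπ : ∀ y : B, ((π y : 𝒜 m) : B) = (DirectSum.decompose 𝒜 y m : B) := fun y => rfl
    have hπι : π.comp (𝒜 m).subtype = LinearMap.id := by
      ext y
      show ((π (y : B) : 𝒜 m) : B) = (y : B)
      rw [hπ]
      exact DirectSum.decompose_of_mem_same 𝒜 y.2
    have hQ : Subsingleton (𝒜 m ⧸ LinearMap.range ι) := by
      apply subsingleton_of_forall_algClosed (A := A)
      intro k _ _ _
      have closure_lemma : ∀ z ∈ Submonoid.closure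
          ((Algebra.TensorProduct.includeRight : B →ₐ[A] k ⊗[A] B) '' (𝒜 1 : Set B)),
          ∃ r : ℕ, ∃ d ∈ (𝒜 1) ^ r, z = (1 : k) ⊗ₜ[A] d := by
        intro z hz
        induction hz using Submonoid.closure_induction with
        | mem z hz =>
          obtain ⟨b, hb, rfl⟩ := hz
          exact ⟨1, b, by rwa [pow_one], rfl⟩
        | one =>
          exact ⟨0, 1, by rw [pow_zero]; exact Submodule.mem_one.mpr ⟨1, map_one _⟩, rfl⟩
        | mul x y _ _ hx hy =>
          obtain ⟨r, d, hd, rfl⟩ := hx
          obtain ⟨r', d', hd', rfl⟩ := hy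
          exact ⟨r + r', d * d', by rw [pow_add]; exact Submodule.mul_mem_mul hd hd',
            by rw [Algebra.TensorProduct.tmul_mul_tmul, one_mul]⟩
      have key : ∀ y ∈ Submodule.span k (Submonoid.closure
          ((Algebra.TensorProduct.includeRight : B →ₐ[A] k ⊗[A] B) '' (𝒜 1 : Set B)) :
            Set (k ⊗[A] B)),
          (π.baseChange k) y ∈ LinearMap.range (ι.baseChange k) := by
        intro y hy
        induction hy using Submodule.span_induction with
        | mem z hz =>
          obtain ⟨r, d, hd, rfl⟩ := closure_lemma z hz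
          rw [LinearMap.baseChange_tmul]
          by_cases hr : r = m
          · subst hr
            refine ⟨(1 : k) ⊗ₜ[A] (⟨d, hd⟩ : ((𝒜 1) ^ r : Submodule A B)), ?_⟩
            rw [LinearMap.baseChange_tmul]
            congr 1
            apply Subtype.ext
            rw [hπ]
            exact (DirectSum.decompose_of_mem_same 𝒜 (hD_le r hd)).symm
          · have h0 : π d = 0 := by
              apply Subtype.ext
              rw [hπ]
              exact DirectSum.decompose_of_mem_ne 𝒜 (hD_le r hd) hr
            rw [h0, TensorProduct.tmul_zero]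
            exact zero_mem _
        | zero => rw [map_zero]; exact zero_mem _
        | add y z _ _ hy hz => rw [map_add]; exact add_mem hy hz
        | smul c y _ hy => rw [map_smul]; exact Submodule.smul_mem _ c hy
      have hsurj : Function.Surjective (ι.baseChange k) := by
        intro x
        have hx : x = (π.baseChange k) (((𝒜 m).subtype.baseChange k) x) := by
          rw [← LinearMap.comp_apply, ← LinearMap.baseChange_comp, hπι, LinearMap.baseChange_id,
            LinearMap.id_apply]
        have hy : ((𝒜 m).subtype.baseChange k) x ∈ Algebra.adjoin k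
            ((Algebra.TensorProduct.includeRight : B →ₐ[A] k ⊗[A] B) '' (𝒜 1 : Set B)) := by
          rw [hgen k]; trivial
        rw [← Subalgebra.mem_toSubmodule, Algebra.adjoin_eq_span] at hy
        rw [hx]
        exact key _ hy
      have hmk : Function.Surjective ((LinearMap.range ι).mkQ.baseChange k) := by
        rw [LinearMap.baseChange_eq_ltensor]
        exact LinearMap.lTensor_surjective _ (Submodule.mkQ_surjective _)
      constructor
      intro z w
      have hz0 : ∀ z : k ⊗[A] (𝒜 m ⧸ LinearMap.range ι), z = 0 := by
        intro z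
        obtain ⟨x, rfl⟩ := hmk z
        obtain ⟨y, rfl⟩ := hsurj x
        rw [← LinearMap.comp_apply, ← LinearMap.baseChange_comp, LinearMap.range_mkQ_comp,
          LinearMap.baseChange_zero, LinearMap.zero_apply]
      rw [hz0 z, hz0 w]
    intro x hx
    have h0 : Submodule.Quotient.mk (p := LinearMap.range ι) (⟨x, hx⟩ : 𝒜 m) = 0 :=
      Subsingleton.elim _ _
    rw [Submodule.Quotient.mk_eq_zero] at h0
    obtain ⟨d, hd⟩ := h0
    have : ((ι d : 𝒜 m) : B) = x := congrArg Subtype.val hd
    rw [← this]
    exact d.2
  have hall : ∀ b : B, b ∈ C := by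
    intro b
    induction b using DirectSum.Decomposition.inductionOn 𝒜 with
    | zero => exact C.zero_mem
    | homogeneous x => exact hD_C _ (main _ x.2)
    | add _ _ h1 h2 => exact C.add_mem h1 h2
  exact eq_top_iff.mpr (fun b _ => hall b)

end Groth.Agent.S13623
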