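import Groth.Statements.S13702
import Mathlib.RingTheory.AdjoinRoot
import Mathlib.Algebra.Polynomial.Expand
import Mathlib.FieldTheory.Separable
import Mathlib.LinearAlgebra.Matrix.ToLinearEquiv
import Mathlib.RingTheory.LocalRing.ResidueField.Basic
import Mathlib.LinearAlgebra.Determinant

set_option autoImplicit false
universe u
open ZeroCyc

namespace Groth.Agent.S13702

open Polynomial in
theorem pow_dvd_expand_of_dvd {K : Type*} [Field K] (p : ℕ) [hp : Fact p.Prime] [CharP K p]
    {G h : K[X]} (hG : G.Separable) (hdvd : G ∣ expand K p h) : G ^ p ∣ expand K p h := by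
  have hG0 : G ≠ 0 := hG.ne_zero
  have hder : derivative (expand K p h) = 0 := by
    rw [derivative_expand]
    have : (p : K[X]) = 0 := by
      rw [← map_natCast (C : K →+* K[X]), CharP.cast_eq_zero, map_zero]
    rw [this, zero_mul, mul_zero]
  have key : ∀ j : ℕ, 1 ≤ j → j ≤ p → G ^ j ∣ expand K p h := by
    intro j hj1 hjp
    induction j with
    | zero => omega
    | succ j ih =>
      rcases Nat.eq_zero_or_pos j with rfl | hjpos
      · simpa using hdvd
      · obtain ⟨Q, hQ⟩ := ih hjpos (by omega)
        have h1 := hder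
        rw [hQ, derivative_mul, derivative_pow] at h1
        have hj : G ^ j = G ^ (j - 1) * G := by
          rw [← pow_succ]; congr 1; omega
        have h2 : G ^ (j - 1) * (C (j : K) * derivative G * Q + G * derivative Q) = 0 := by
          rw [← h1, hj]; ring
        have h3 : C (j : K) * derivative G * Q + G * derivative Q = 0 :=
          (mul_eq_zero.mp h2).resolve_left (pow_ne_zero _ hG0)
        have h4 : G ∣ C (j : K) * (derivative G * Q) := by
          have : C (j : K) * (derivative G * Q) = -(G * derivative Q) := by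
            rw [← mul_assoc]; exact eq_neg_of_add_eq_zero_left h3
          rw [this]; exact (dvd_mul_right _ _).neg_right
        have hjK : (j : K) ≠ 0 := by
          intro h0
          rw [CharP.cast_eq_zero_iff K p] at h0
          exact absurd (Nat.le_of_dvd hjpos h0) (by omega)
        have h5 : G ∣ derivative G * Q := by
          have hu : IsUnit (C (j : K)) := isUnit_C.mpr (Ne.isUnit hjK)
          exact (hu.dvd_mul_left).mp h4
        have h6 : G ∣ Q := hG.dvd_of_dvd_mul_left h5
        rw [hQ, pow_succ]
        exact mul_dvd_mul_left _ h6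
  exact key p hp.out.one_lt.le le_rfl

open Polynomial in
theorem dvd_of_expand_dvd_expand {K : Type*} [Field K] (p : ℕ) (hp : 0 < p) {a b : K[X]}
    (h : expand K p a ∣ expand K p b) : a ∣ b := by
  rcases eq_or_ne a 0 with rfl | ha
  · rw [map_zero, zero_dvd_iff] at h
    have : b = 0 := (expand_eq_zero hp).mp h
    rw [this]
  have hr : expand K p a ∣ expand K p (b % a) := by
    have : expand K p (b % a) = expand K p b - expand K p a * expand K p (b / a) := by
      rw [EuclideanDomain.mod_eq_sub_mul_div, map_sub, map_mul]
    rw [this]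
    exact dvd_sub h (dvd_mul_right _ _)
  by_contra hab
  have hr0 : b % a ≠ 0 := fun h0 => hab ((EuclideanDomain.mod_eq_zero).mp h0)
  have hlt : (b % a).natDegree < a.natDegree :=
    natDegree_lt_natDegree hr0 (degree_mod_lt b ha)
  have hne : expand K p (b % a) ≠ 0 := fun h0 => hr0 ((expand_eq_zero hp).mp h0)
  have hle := natDegree_le_of_dvd hr hne
  rw [natDegree_expand, natDegree_expand] at hle
  exact absurd (Nat.le_of_mul_le_mul_right hle hp) (by omega)

open Polynomial in
theorem map_frobenius_dvd_of_dvd_expand {K : Type*} [Field K] (p : ℕ) [hp : Fact p.Prime]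
    [CharP K p] {G h : K[X]} (hG : G.Separable) (hdvd : G ∣ expand K p h) :
    map (frobenius K p) G ∣ h := by
  have h1 := pow_dvd_expand_of_dvd p hG hdvd
  rw [← map_frobenius_expand p G, map_expand] at h1
  exact dvd_of_expand_dvd_expand p hp.out.pos h1

open Polynomial in
theorem eq_zero_of_dvd_expand_pow {K : Type*} [Field K] (p : ℕ) [hp : Fact p.Prime] [CharP K p]
    (s : ℕ) : ∀ {G F : K[X]}, G.Separable → F.degree < G.degree → G ∣ expand K (p ^ s) F →
      F = 0 := by
  induction s with
  | zero =>
    intro G F _ hdeg hdvd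
    rw [pow_zero, expand_one] at hdvd
    exact eq_zero_of_dvd_of_degree_lt hdvd hdeg
  | succ s ih =>
    intro G F hG hdeg hdvd
    rw [pow_succ', expand_mul] at hdvd
    have h1 := map_frobenius_dvd_of_dvd_expand p hG hdvd
    refine ih hG.map ?_ h1
    rw [degree_map_eq_of_injective (frobenius_inj K p)]
    exact hdeg

/-- Let A be a local ring with residue field of characteristic p > 0, let g ∈ A[X] be monic and
separable of degree n, so that A' = A[X]/(g) is an étale A-algebra, and let q = p^s with s ≥ 0. Then
the powers 1, t^q, t^{2q}, …, t^{(n-1)q} of the class t of X form a basis of A' as an A-module. -/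
theorem result {A : Type u} [CommRing A] [IsLocalRing A] (p : ℕ) [Fact p.Prime]
    [CharP (IsLocalRing.ResidueField A) p] (g : Polynomial A) (hg : g.Monic) (hsep : g.Separable) (s : ℕ) :
    ∃ b : Module.Basis (Fin g.natDegree) A (AdjoinRoot g),
      ∀ i : Fin g.natDegree, b i = AdjoinRoot.root g ^ (p ^ s * (i : ℕ)) := by
  classical
  let res := IsLocalRing.residue A
  let e := AdjoinRoot.powerBasisAux' hg
  let v : Fin g.natDegree → AdjoinRoot g := fun i => AdjoinRoot.root g ^ (p ^ s * (i : ℕ))
  have hrepr : ∀ i j : Fin g.natDegree,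
      e.toMatrix v i j = ((Polynomial.X ^ (p ^ s * (j : ℕ))) %ₘ g).coeff i := by
    intro i j
    rw [Module.Basis.toMatrix_apply, AdjoinRoot.powerBasisAux'_repr_apply_to_fun]
    simp only [v]
    rw [← AdjoinRoot.mk_X, ← map_pow, AdjoinRoot.modByMonicHom_mk]
  have hgm : (g.map res).Monic := hg.map res
  have hdeg : (g.map res).natDegree = g.natDegree := hg.natDegree_map res
  have hdet : IsUnit (e.det v) := by
    rw [← IsLocalRing.residue_ne_zero_iff_isUnit, Module.Basis.det_apply, RingHom.map_det]
    intro h0
    rw [← Matrix.exists_mulVec_eq_zero_iff] at h0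
    obtain ⟨c, hc0, hc⟩ := h0
    apply hc0
    let F : Polynomial (IsLocalRing.ResidueField A) :=
      ∑ j : Fin g.natDegree, Polynomial.C (c j) * Polynomial.X ^ (j : ℕ)
    have hexp : Polynomial.expand _ (p ^ s) F =
        ∑ j : Fin g.natDegree, Polynomial.C (c j) * Polynomial.X ^ (p ^ s * (j : ℕ)) := by
      simp only [F, map_sum, map_mul, Polynomial.expand_C, map_pow, Polynomial.expand_X, ← pow_mul]
    have hmod : (Polynomial.expand _ (p ^ s) F) %ₘ (g.map res) = 0 := by
      rw [hexp]
      have hlin : (∑ j : Fin g.natDegree, Polynomial.C (c j) * Polynomial.X ^ (p ^ s * (j : ℕ))) %ₘ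
          (g.map res) = ∑ j : Fin g.natDegree, c j • ((Polynomial.X ^ (p ^ s * (j : ℕ))) %ₘ
            (g.map res)) := by
        rw [← Polynomial.modByMonicHom_apply, map_sum]
        refine Finset.sum_congr rfl (fun j _ => ?_)
        rw [Polynomial.C_mul', map_smul, Polynomial.modByMonicHom_apply]
      rw [hlin]
      ext i
      rw [Polynomial.finsetSum_coeff, Polynomial.coeff_zero]
      by_cases hi : i < g.natDegree
      · have := congrFun hc ⟨i, hi⟩
        rw [Pi.zero_apply, Matrix.mulVec, dotProduct] at this
        refine (Finset.sum_congr rfl (fun j _ => ?_)).trans this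
        rw [RingHom.mapMatrix_apply, Matrix.map_apply, hrepr, Polynomial.coeff_smul, smul_eq_mul,
          mul_comm, ← Polynomial.coeff_map, Polynomial.map_modByMonic res hg, Polynomial.map_pow,
          Polynomial.map_X]
      · refine Finset.sum_eq_zero (fun j _ => ?_)
        rw [Polynomial.coeff_smul]
        have : ((Polynomial.X ^ (p ^ s * (j : ℕ))) %ₘ (g.map res)).coeff i = 0 := by
          apply Polynomial.coeff_eq_zero_of_degree_lt
          refine lt_of_lt_of_le (Polynomial.degree_modByMonic_lt _ hgm) ?_
          rw [Polynomial.degree_eq_natDegree hgm.ne_zero, hdeg]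
          exact_mod_cast (not_lt.mp hi)
        rw [this, smul_zero]
    have hF : F = 0 := by
      refine eq_zero_of_dvd_expand_pow p s hsep.map ?_
        ((Polynomial.modByMonic_eq_zero_iff_dvd hgm).mp hmod)
      rw [Polynomial.degree_eq_natDegree hgm.ne_zero, hdeg]
      exact Polynomial.degree_sum_fin_lt _
    funext j
    have := congrArg (fun P => P.coeff (j : ℕ)) hF
    simp only [F, Polynomial.finsetSum_coeff, Polynomial.coeff_C_mul, Polynomial.coeff_X_pow,
      Polynomial.coeff_zero] at this
    rw [Finset.sum_eq_single j] at this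
    · simpa using this
    · intro b _ hb
      rw [if_neg (fun h => hb (Fin.ext h.symm)), mul_zero]
    · intro h; exact absurd (Finset.mem_univ j) h
  obtain ⟨hli, hsp⟩ := (e.is_basis_iff_det).mpr hdet
  exact ⟨Module.Basis.mk hli hsp.ge, fun i => Module.Basis.mk_apply hli hsp.ge i⟩

end Groth.Agent.S13702
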