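import Groth.Statements.S13913
-- import your own Groth.Agent.* helpers here
import Mathlib.Tactic
import Mathlib.RingTheory.MvPolynomial.EulerIdentity

set_option autoImplicit false
universe u
open PlaneCubic

namespace Groth.Agent.S13913

/-- Over an algebraically closed field of characteristic zero, for linearly independent linear forms z₁,
z₂ and quadratic forms q₁, q₂ in three variables and a nonzero common zero p of z₁ and z₂, the point
p is a singular point of the plane cubic z₁q₂ − z₂q₁ = 0 (all three partial derivatives vanish at p)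
if and only if q₁ and q₂ both vanish at p. -/
theorem result (k : Type u) [Field k] [IsAlgClosed k] [CharZero k]
    (z₁ z₂ q₁ q₂ : MvPolynomial (Fin 3) k) (hz₁ : z₁.IsHomogeneous 1) (hz₂ : z₂.IsHomogeneous 1)
    (hq₁ : q₁.IsHomogeneous 2) (hq₂ : q₂.IsHomogeneous 2) (hind : LinearIndependent k ![z₁, z₂])
    (p : Fin 3 → k) (hp : p ≠ 0) (hp₁ : MvPolynomial.eval p z₁ = 0) (hp₂ : MvPolynomial.eval p z₂ = 0) :
    (∀ i : Fin 3, MvPolynomial.eval p (MvPolynomial.pderiv i (z₁ * q₂ - z₂ * q₁)) = 0) ↔
      (MvPolynomial.eval p q₁ = 0 ∧ MvPolynomial.eval p q₂ = 0) := by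
  classical
  have pd : ∀ z : MvPolynomial (Fin 3) k, z.IsHomogeneous 1 → ∀ i : Fin 3,
      MvPolynomial.pderiv i z = MvPolynomial.C (MvPolynomial.coeff (Finsupp.single i 1) z) := by
    intro z hz i
    ext m
    rw [MvPolynomial.coeff_pderiv, MvPolynomial.coeff_C]
    by_cases hm : m = 0
    · subst hm; simp
    · rw [if_neg (Ne.symm hm), hz.coeff_eq_zero, zero_mul]
      rw [map_add, Finsupp.degree_single]
      have : m.degree ≠ 0 := by rwa [Ne, Finsupp.degree_eq_zero_iff]
      omega
  have expand : ∀ z : MvPolynomial (Fin 3) k, z.IsHomogeneous 1 →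
      z = ∑ i, MvPolynomial.X i * MvPolynomial.C (MvPolynomial.coeff (Finsupp.single i 1) z) := by
    intro z hz
    have := hz.sum_X_mul_pderiv
    simp only [pd z hz, one_smul] at this
    exact this.symm
  set Q₁ := MvPolynomial.eval p q₁
  set Q₂ := MvPolynomial.eval p q₂
  have hD : ∀ i : Fin 3, MvPolynomial.eval p (MvPolynomial.pderiv i (z₁ * q₂ - z₂ * q₁)) =
      MvPolynomial.coeff (Finsupp.single i 1) z₁ * Q₂ -
        MvPolynomial.coeff (Finsupp.single i 1) z₂ * Q₁ := by
    intro i
    rw [map_sub, MvPolynomial.pderiv_mul, MvPolynomial.pderiv_mul, pd z₁ hz₁, pd z₂ hz₂]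
    simp only [map_sub, map_add, map_mul, MvPolynomial.eval_C, hp₁, hp₂, zero_mul, add_zero, Q₁, Q₂]
  simp only [hD]
  constructor
  · intro h
    have h0 : Q₂ • z₁ + (-Q₁) • z₂ = 0 := by
      rw [expand z₁ hz₁, expand z₂ hz₂, Finset.smul_sum, Finset.smul_sum, ← Finset.sum_add_distrib]
      refine Finset.sum_eq_zero fun i _ => ?_
      rw [MvPolynomial.smul_eq_C_mul, MvPolynomial.smul_eq_C_mul]
      have hi := h i
      have : MvPolynomial.C Q₂ * (MvPolynomial.X i * MvPolynomial.C (MvPolynomial.coeff (Finsupp.single i 1) z₁)) +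
          MvPolynomial.C (-Q₁) * (MvPolynomial.X i * MvPolynomial.C (MvPolynomial.coeff (Finsupp.single i 1) z₂)) =
          MvPolynomial.X i * MvPolynomial.C (MvPolynomial.coeff (Finsupp.single i 1) z₁ * Q₂ -
            MvPolynomial.coeff (Finsupp.single i 1) z₂ * Q₁) := by
        simp only [map_sub, map_mul, map_neg]; ring
      rw [this, hi, map_zero, mul_zero]
    have := (LinearIndependent.pair_iff.1 hind) Q₂ (-Q₁) h0
    exact ⟨neg_eq_zero.1 this.2, this.1⟩
  · rintro ⟨h1, h2⟩ i
    simp [h1, h2]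

end Groth.Agent.S13913
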