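import Groth.Statements.S13914
-- import your own Groth.Agent.* helpers here
import Mathlib.Tactic

set_option autoImplicit false
universe u
open PlaneConic

namespace Groth.Agent.S13914

/-- Over an algebraically closed field of characteristic zero, an invertible 3 × 3 matrix g, acting on
row vectors and so on the projective plane, fixes every point of the line u_0 = 0 if and only if g
is a nonzero scalar multiple of a matrix with rows (α, β, γ), (0, 1, 0), (0, 0, 1). -/
theorem result (k : Type u) [Field k] [IsAlgClosed k] [CharZero k]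
    (g : Matrix (Fin 3) (Fin 3) k) (hg : IsUnit g.det) :
    (∀ v : Fin 3 → k, v 0 = 0 → ∃ c : k, Matrix.vecMul v g = c • v) ↔
      ∃ c α β γ : k, c ≠ 0 ∧ g = c • !![α, β, γ; 0, 1, 0; 0, 0, 1] := by
  have row : ∀ (v : Fin 3 → k) (j : Fin 3),
      Matrix.vecMul v g j = v 0 * g 0 j + v 1 * g 1 j + v 2 * g 2 j := by
    intro v j
    simp [Matrix.vecMul, dotProduct, Fin.sum_univ_three]
  constructor
  · intro H
    obtain ⟨c1, hc1⟩ := H ![0, 1, 0] rfl
    obtain ⟨c2, hc2⟩ := H ![0, 0, 1] rfl
    obtain ⟨c3, hc3⟩ := H ![0, 1, 1] rfl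
    have e10 := congrFun hc1 0
    have e11 := congrFun hc1 1
    have e12 := congrFun hc1 2
    have e20 := congrFun hc2 0
    have e21 := congrFun hc2 1
    have e22 := congrFun hc2 2
    have e31 := congrFun hc3 1
    have e32 := congrFun hc3 2
    simp only [row, Pi.smul_apply, smul_eq_mul, Matrix.cons_val_zero, Matrix.cons_val_one,
      Matrix.cons_val_two, Matrix.head_cons, Matrix.tail_cons, zero_mul, one_mul, zero_add,
      add_zero, mul_zero, mul_one, Matrix.cons_val] at e10 e11 e12 e20 e21 e22 e31 e32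
    -- g 1 0 = 0, g 1 1 = c1, g 1 2 = 0, g 2 0 = 0, g 2 1 = 0, g 2 2 = c2
    have hc12 : c1 = c2 := by
      have h1 : c3 = c1 := by rw [← e31, e11, e21, add_zero]
      have h2 : c3 = c2 := by rw [← e32, e12, e22, zero_add]
      rw [← h1, h2]
    subst hc12
    have hdet : g.det = g 0 0 * c1 * c1 := by
      rw [Matrix.det_fin_three, e10, e11, e12, e20, e21, e22]
      ring
    have hc0 : c1 ≠ 0 := by
      intro h0
      rw [hdet, h0, mul_zero] at hg
      exact not_isUnit_zero hg
    refine ⟨c1, g 0 0 / c1, g 0 1 / c1, g 0 2 / c1, hc0, ?_⟩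
    ext i j
    fin_cases i <;> fin_cases j <;> simp [e10, e11, e12, e20, e21, e22, hc0, mul_div_cancel₀]
  · rintro ⟨c, α, β, γ, hc, rfl⟩ v hv
    refine ⟨c, ?_⟩
    funext j
    rw [row]
    fin_cases j <;> simp [hv] <;> ring

end Groth.Agent.S13914
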