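import Groth.Statements.S13916
-- import your own Groth.Agent.* helpers here
import Mathlib.Tactic

set_option autoImplicit false
universe u
open PlaneConic

namespace Groth.Agent.S13916

/-- Over an algebraically closed field k of characteristic zero, with u_0, u_1, u_2 the coordinate
linear forms of k[X_0, X_1, X_2] and 2 × 2 matrices of linear forms compared up to M ↦ g M h with g,
h invertible scalar matrices: (1) the matrices with rows (u_1, 0), (u_0, u_2) and (u_2, 0), (u_0,
u_1) are not equivalent; (2) for α ≠ 0 the matrix with rows (u_1, 0), (αu_0 + βu_1 + γu_2, u_2) is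
equivalent to the one with rows (u_1, 0), (u_0, u_2). -/
theorem result (k : Type u) [Field k] [IsAlgClosed k] [CharZero k] :
    (¬ ∃ g h : GL (Fin 2) k,
      (MvPolynomial.C : k →+* MvPolynomial (Fin 3) k).mapMatrix g.val *
          !![MvPolynomial.X 1, 0; MvPolynomial.X 0, MvPolynomial.X 2] *
        (MvPolynomial.C : k →+* MvPolynomial (Fin 3) k).mapMatrix h.val =
      !![MvPolynomial.X 2, 0; MvPolynomial.X 0, MvPolynomial.X 1]) ∧
    (∀ α β γ : k, α ≠ 0 → ∃ g h : GL (Fin 2) k,
      (MvPolynomial.C : k →+* MvPolynomial (Fin 3) k).mapMatrix g.val *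
          !![MvPolynomial.X 1, 0;
             MvPolynomial.C α * MvPolynomial.X 0 + MvPolynomial.C β * MvPolynomial.X 1 + MvPolynomial.C γ * MvPolynomial.X 2,
             MvPolynomial.X 2] *
        (MvPolynomial.C : k →+* MvPolynomial (Fin 3) k).mapMatrix h.val =
      !![MvPolynomial.X 1, 0; MvPolynomial.X 0, MvPolynomial.X 2]) := by
  constructor
  · rintro ⟨g, h, hgh⟩
    have e1 := congrArg (MvPolynomial.coeff (Finsupp.single (0 : Fin 3) 1)) (congrFun (congrFun hgh 1) 0)
    have e2 := congrArg (MvPolynomial.coeff (Finsupp.single (2 : Fin 3) 1)) (congrFun (congrFun hgh 0) 0)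
    have e3 := congrArg (MvPolynomial.coeff (Finsupp.single (0 : Fin 3) 1)) (congrFun (congrFun hgh 0) 0)
    simp [Matrix.mul_apply, Fin.sum_univ_two, MvPolynomial.coeff_X, MvPolynomial.coeff_C_mul,
      mul_comm _ (MvPolynomial.C _), Finsupp.single_eq_single_iff] at e1 e2 e3
    rcases e3 with h0 | h0
    · rw [h0, zero_mul] at e1; exact zero_ne_one e1
    · rw [h0, mul_zero] at e2; exact zero_ne_one e2
  · intro α β γ hα
    refine ⟨Matrix.GeneralLinearGroup.mkOfDetNeZero !![1, 0; -β/α, 1/α] (by
        simp [Matrix.det_fin_two, hα]),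
      Matrix.GeneralLinearGroup.mkOfDetNeZero !![1, 0; -γ, α] (by simp [Matrix.det_fin_two, hα]), ?_⟩
    refine Matrix.ext fun i j => ?_
    fin_cases i <;> fin_cases j <;>
      simp [Matrix.mul_apply, Fin.sum_univ_two, Matrix.GeneralLinearGroup.mkOfDetNeZero]
    all_goals
      have hinv : (MvPolynomial.C α⁻¹ : MvPolynomial (Fin 3) k) * MvPolynomial.C α = 1 := by
        rw [← MvPolynomial.C_mul, inv_mul_cancel₀ hα, MvPolynomial.C_1]
    · rw [show -β / α = -(α⁻¹ * β) by ring, map_neg, map_mul]
      linear_combination (MvPolynomial.X 0) * hinv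
    · linear_combination (MvPolynomial.X 2) * hinv

end Groth.Agent.S13916
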