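import Groth.Statements.S13925
-- import your own Groth.Agent.* helpers here
import Mathlib.Tactic

set_option autoImplicit false
universe u v w x
open W4c1limliniiii

namespace Groth.Agent.S13925

/-- Let k be a field and U, E, W vector spaces over k with linear maps f : U → E, g' : E → U, f₂ : E → W
and g : W → E such that g' ∘ f = 0, the kernel of f₂ is contained in the image of g, and the image
of g meets the kernel of g' only in 0 — the conditions holding at a point of a linked Grassmannian
at which the linking scalar vanishes. Let V₁ ≤ U and V₂ ≤ E be subspaces and let C' ≤ V₂ be a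
subspace contained in the kernel of g' and meeting f(V₁) only in 0. Then the subspaces f(V₁), ker f₂
∩ V₂ and C' of E are independent: their sum is direct. (The published statement is for two
consecutive members V_{i-1}, V_i of a point of a linked Grassmannian at which the linking scalar
vanishes and adds the decomposition V_i = f(V_{i-1}) ⊕ (ker f_i ∩ V_i) ⊕ C with C ⊇ C'; this row
states the independence, with only the three conditions the argument uses.) -/
theorem result (k : Type u) [Field k]
    (U : Type v) (E : Type w) (W : Type x) [AddCommGroup U] [Module k U] [AddCommGroup E]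
    [Module k E] [AddCommGroup W] [Module k W]
    (f : U →ₗ[k] E) (g' : E →ₗ[k] U) (f₂ : E →ₗ[k] W) (g : W →ₗ[k] E)
    (hgf : g'.comp f = 0) (hII : LinearMap.ker f₂ ≤ LinearMap.range g)
    (hIII : LinearMap.range g ⊓ LinearMap.ker g' = ⊥)
    (V₁ : Submodule k U) (V₂ : Submodule k E) (C' : Submodule k E) (hC : C' ≤ V₂)
    (hCg : C' ≤ LinearMap.ker g') (hCf : Submodule.map f V₁ ⊓ C' = ⊥) :
    iSupIndep ![Submodule.map f V₁, LinearMap.ker f₂ ⊓ V₂, C'] := by
  classical
  set A := Submodule.map f V₁ with hA
  set B := LinearMap.ker f₂ ⊓ V₂ with hB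
  have hAk : A ≤ LinearMap.ker g' := by
    rintro _ ⟨v, _, rfl⟩
    rw [LinearMap.mem_ker, ← LinearMap.comp_apply, hgf, LinearMap.zero_apply]
  have hBr : B ≤ LinearMap.range g := le_trans inf_le_left hII
  have key : ∀ y ∈ LinearMap.ker g', y ∈ LinearMap.range g → y = 0 := by
    intro y hy1 hy2
    have : y ∈ LinearMap.range g ⊓ LinearMap.ker g' := ⟨hy2, hy1⟩
    rw [hIII] at this
    exact this
  have hAC : ∀ y ∈ A, y ∈ C' → y = 0 := by
    intro y hy1 hy2
    have : y ∈ A ⊓ C' := ⟨hy1, hy2⟩
    rw [hCf] at this
    exact this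
  rw [iSupIndep_iff_supIndep_univ, Finset.supIndep_iff_disjoint_erase]
  intro i _
  fin_cases i
  · -- A vs B ⊔ C'
    have hs : (Finset.univ.erase (0 : Fin 3)).sup ![A, B, C'] = B ⊔ C' := by
      rw [show (Finset.univ.erase (0 : Fin 3)) = {1, 2} by decide]
      simp
    simp only [Fin.zero_eta, Fin.isValue, Matrix.cons_val_zero]
    rw [hs, Submodule.disjoint_def]
    intro x hx hx'
    obtain ⟨b, hb, c, hc, rfl⟩ := Submodule.mem_sup.mp hx'
    have hb0 : b = 0 := by
      apply key b _ (hBr hb)
      have : b = (b + c) - c := by abel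
      rw [this]
      exact Submodule.sub_mem _ (hAk hx) (hCg hc)
    subst hb0
    rw [zero_add] at hx ⊢
    exact hAC c hx hc
  · -- B vs A ⊔ C'
    have hs : (Finset.univ.erase (1 : Fin 3)).sup ![A, B, C'] = A ⊔ C' := by
      rw [show (Finset.univ.erase (1 : Fin 3)) = {0, 2} by decide]
      simp
    simp only [Fin.mk_one, Fin.isValue, Matrix.cons_val_one, Matrix.cons_val_zero]
    rw [hs, Submodule.disjoint_def]
    intro x hx hx'
    obtain ⟨a, ha, c, hc, rfl⟩ := Submodule.mem_sup.mp hx'
    exact key _ (Submodule.add_mem _ (hAk ha) (hCg hc)) (hBr hx)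
  · -- C' vs A ⊔ B
    have hs : (Finset.univ.erase (2 : Fin 3)).sup ![A, B, C'] = A ⊔ B := by
      rw [show (Finset.univ.erase (2 : Fin 3)) = {0, 1} by decide]
      simp
    simp only [Fin.reduceFinMk, Fin.isValue, Matrix.cons_val]
    rw [hs, Submodule.disjoint_def]
    intro x hx hx'
    obtain ⟨a, ha, b, hb, rfl⟩ := Submodule.mem_sup.mp hx'
    have hb0 : b = 0 := by
      apply key b _ (hBr hb)
      have : b = (a + b) - a := by abel
      rw [this]
      exact Submodule.sub_mem _ (hCg hx) (hAk ha)
    subst hb0
    rw [add_zero] at hx ⊢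
    exact hAC a ha hx

end Groth.Agent.S13925
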