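import Groth.Statements.S13926
-- import your own Groth.Agent.* helpers here
import Groth.Agent.Lib.Helper21.LinAlg

set_option autoImplicit false
universe u v w
open W4c1limliniiii

namespace Groth.Agent.S13926

/-- Let k be a field, E₁ and E₂ finite-dimensional vector spaces over k of the same dimension, f : E₁ →
E₂ and g : E₂ → E₁ linear maps whose composite g ∘ f is multiplication by a scalar s, and V₁ a
subspace of E₁. Then there is a subspace V₂ of E₂ of the same dimension as V₁ with f(V₁) ≤ V₂ and
g(V₂) ≤ V₁. (The published statement is the surjectivity of the truncation morphisms of a linked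
Grassmannian, with a further assertion on lifting families; this row is the lifting step over a
field — over a point the chain of linked subspaces V_1, …, V_{n'} extends one index at a time — and
assumes only g ∘ f = s.) -/
theorem result (k : Type u) [Field k]
    (E₁ : Type v) (E₂ : Type w) [AddCommGroup E₁] [Module k E₁] [FiniteDimensional k E₁]
    [AddCommGroup E₂] [Module k E₂] [FiniteDimensional k E₂]
    (hdim : Module.finrank k E₁ = Module.finrank k E₂)
    (f : E₁ →ₗ[k] E₂) (g : E₂ →ₗ[k] E₁) (s : k) (hgf : g.comp f = s • LinearMap.id)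
    (V₁ : Submodule k E₁) :
    ∃ V₂ : Submodule k E₂, Module.finrank k V₂ = Module.finrank k V₁ ∧
      Submodule.map f V₁ ≤ V₂ ∧ Submodule.map g V₂ ≤ V₁ := by
  have hLU : Submodule.map f V₁ ≤ Submodule.comap g V₁ := by
    rintro _ ⟨v, hv, rfl⟩
    rw [Submodule.mem_comap, ← LinearMap.comp_apply, hgf]
    simp only [LinearMap.smul_apply, LinearMap.id_coe, id_eq]
    exact V₁.smul_mem s hv
  obtain ⟨C, hC1, hC2, hC3⟩ := Groth.Agent.Lib.Helper21.LinAlg.exists_between_finrank_eq
    (Submodule.map f V₁) (Submodule.comap g V₁) hLU (Module.finrank k V₁)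
    (Submodule.finrank_map_le f V₁)
    (Groth.Agent.Lib.Helper21.LinAlg.finrank_le_finrank_comap hdim g V₁)
  refine ⟨C, hC3, hC1, ?_⟩
  rintro _ ⟨w, hw, rfl⟩
  exact hC2 hw

end Groth.Agent.S13926
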