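import Groth.Statements.S13985
-- import your own Groth.Agent.* helpers here
import Mathlib.Algebra.Category.FGModuleCat.Basic

set_option autoImplicit false
universe u
open CategoryTheory
open CohGab

namespace Groth.Agent.S13985

/-- For a ring A, the canonical map from the centre of A to the centre of the category of finitely
generated left A-modules (the endomorphism ring of its identity functor), sending a to
multiplication by a, is bijective: every natural endomorphism of the identity functor acts on each
finitely generated module as multiplication by a unique element of A, and that element is central.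
(The published statement calls this map an isomorphism of commutative rings; this row states its
bijectivity.) -/
theorem result (A : Type u) [Ring A]
    (φ : 𝟭 (FGModuleCat.{u} A) ⟶ 𝟭 (FGModuleCat.{u} A)) :
    ∃! a : A, a ∈ Subring.center A ∧
      ∀ (M : FGModuleCat.{u} A) (x : M), (φ.app M).hom.hom x = a • x := by
  let AA : FGModuleCat.{u} A := FGModuleCat.of A A
  let a : A := (φ.app AA).hom.hom (1 : A)
  have hnat : ∀ (M : FGModuleCat.{u} A) (f : AA ⟶ M) (y : A),
      (φ.app M).hom.hom (f.hom.hom y) = f.hom.hom ((φ.app AA).hom.hom y) := by
    intro M f y
    have := φ.naturality f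
    have h2 := congrArg (fun g => g.hom.hom y) this
    simpa using h2
  have hact : ∀ (M : FGModuleCat.{u} A) (x : M), (φ.app M).hom.hom x = a • x := by
    intro M x
    let f : AA ⟶ M := ObjectProperty.homMk (ModuleCat.ofHom (LinearMap.toSpanSingleton A M x))
    have := hnat M f 1
    have e2 : ∀ y : A, f.hom.hom y = y • x := fun y => rfl
    have e1 : f.hom.hom (1 : A) = x := by rw [e2, one_smul]
    rw [e1, e2] at this
    exact this
  refine ⟨a, ⟨?_, hact⟩, ?_⟩
  · rw [Subring.mem_center_iff]
    intro g
    have h1 := hact AA g
    have h2 : (φ.app AA).hom.hom g = g • (φ.app AA).hom.hom (1 : A) := by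
      rw [← map_smul]
      congr 1
      change g = g * 1
      rw [mul_one]
    rw [h1] at h2
    change a * g = g * a at h2
    exact h2.symm
  · intro a' ⟨_, ha'⟩
    have h1 := ha' AA (1 : A)
    change (φ.app AA).hom.hom (1 : A) = a' * 1 at h1
    rw [mul_one] at h1
    exact h1.symm

end Groth.Agent.S13985
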