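import Groth.Statements.S13996
-- import your own Groth.Agent.* helpers here
import Mathlib.Tactic
import Mathlib.RingTheory.Ideal.AssociatedPrime.Localization
import Mathlib.RingTheory.Regular.IsSMulRegular
import Mathlib.RingTheory.Ideal.MinimalPrime.Noetherian

set_option autoImplicit false
universe u
open CAlg

namespace Groth.Agent.S13996

/-- Let R be a reduced Noetherian local ring of Krull dimension one with maximal ideal m, and M a
non-zero finitely generated R-module. Then M is torsion-free in the sense that no element of m which
is a non-zero-divisor on R is a zero-divisor on M, if and only if M has depth one, i.e. some element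
of m is a non-zero-divisor on M. (The published statement is for a non-zero coherent sheaf F on a
connected reduced projective curve over a characteristic-zero algebraically closed field and asserts
the equivalence of: F torsion-free in the above sense at every closed point; F pure of dimension
one; depth of F_p equal to one at every closed point p. This row is the equivalence of the first and
third conditions at a single closed point p with F_p ≠ 0; at points outside the support the third
condition as published cannot hold, so the row assumes the stalk non-zero.) -/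
theorem result (R : Type u) [CommRing R] [IsLocalRing R] [IsNoetherianRing R] [IsReduced R] (hdim : ringKrullDim R = 1) (M : Type u) [AddCommGroup M] [Module R M] [Module.Finite R M] [Nontrivial M] : (∀ r : R, r ∈ IsLocalRing.maximalIdeal R → IsSMulRegular R r → IsSMulRegular M r) ↔ (∃ x : R, x ∈ IsLocalRing.maximalIdeal R ∧ IsSMulRegular M x) := by
  classical
  set m := IsLocalRing.maximalIdeal R with hm
  have hdimle : Ring.KrullDimLE 1 R := Ring.krullDimLE_iff.2 (le_of_eq hdim)
  have hpm : ∀ p : Ideal R, p.IsPrime → p ∈ minimalPrimes R ∨ p = m := by
    intro p hp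
    rcases (Ring.krullDimLE_one_iff.1 hdimle) p hp with h | h
    · exact Or.inl h
    · exact Or.inr (IsLocalRing.eq_maximalIdeal h)
  have hmmin : m ∉ minimalPrimes R := by
    intro hmin
    have h0 : Ring.KrullDimLE 0 R := by
      rw [Ring.krullDimLE_zero_iff]
      intro I hI
      have hle : I ≤ m := IsLocalRing.le_maximalIdeal_of_isPrime I
      have hge : m ≤ I := hmin.2 ⟨hI, bot_le⟩ hle
      rw [le_antisymm hle hge]
      exact IsLocalRing.maximalIdeal.isMaximal R
    have := Ring.krullDimLE_iff.1 h0
    rw [hdim] at this
    exact absurd this (by decide)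
  have hann : Module.annihilator R R = ⊥ := by
    ext r
    simp only [Module.mem_annihilator, Submodule.mem_bot]
    constructor
    · intro h; simpa using h 1
    · rintro rfl x; simp
  have hminzd : ∀ p ∈ minimalPrimes R, ∀ r ∈ p, ¬ IsSMulRegular R r := by
    intro p hp r hr hreg
    have hass : p ∈ associatedPrimes R R := by
      apply Module.associatedPrimes.minimalPrimes_annihilator_subset_associatedPrimes R R
      rw [hann]
      exact hp
    have hmem : r ∈ ⋃ q ∈ associatedPrimes R R, (q : Set R) := Set.mem_biUnion hass hr
    rw [biUnion_associatedPrimes_eq_compl_regular R R] at hmem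
    exact hmem hreg
  constructor
  · intro h
    have hfin := minimalPrimes.finite_of_isNoetherianRing R
    obtain ⟨x, hxm, hx⟩ : ∃ x ∈ m, ∀ p ∈ minimalPrimes R, x ∉ p := by
      by_contra hcon
      push Not at hcon
      have hsub : (m : Set R) ⊆ ⋃ p ∈ (hfin.toFinset : Set (Ideal R)), (id p : Set R) := by
        intro y hy
        obtain ⟨p, hp, hyp⟩ := hcon y hy
        exact Set.mem_biUnion (by simpa using hp) hyp
      obtain ⟨p, hp, hmp⟩ := (Ideal.subset_union_prime (f := id) m m
        (fun p hp _ _ => (by simpa using hp : p ∈ minimalPrimes R).1.1)).1 hsub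
      have hp' : p ∈ minimalPrimes R := by simpa using hp
      have hpm' : p ≤ m := IsLocalRing.le_maximalIdeal_of_isPrime p (hp := hp'.1.1)
      have : p = m := le_antisymm hpm' hmp
      exact hmmin (this ▸ hp')
    refine ⟨x, hxm, h x hxm ?_⟩
    -- x is regular on R since R is reduced
    rw [isSMulRegular_iff_right_eq_zero_of_smul]
    intro y hxy
    by_contra hy
    -- some minimal prime does not contain y
    have hy1 : y ∉ sInf (minimalPrimes R) := by
      rw [minimalPrimes, Ideal.sInf_minimalPrimes]
      intro hmem
      have h2 : y ∈ nilradical R := hmem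
      rw [nilradical_eq_zero, Submodule.zero_eq_bot, Ideal.mem_bot] at h2
      exact hy h2
    rw [Submodule.mem_sInf] at hy1
    push Not at hy1
    obtain ⟨p, hp, hyp⟩ := hy1
    have hxy' : x * y ∈ p := by rw [← smul_eq_mul, hxy]; exact p.zero_mem
    rcases hp.1.1.mem_or_mem hxy' with h1 | h1
    · exact hx p hp h1
    · exact hyp h1
  · rintro ⟨x, hxm, hx⟩ r hrm hr
    by_contra hrM
    have hmem : r ∈ ⋃ p ∈ associatedPrimes R M, (p : Set R) := by
      rw [biUnion_associatedPrimes_eq_compl_regular R M]; exact hrM
    obtain ⟨p, hp, hrp⟩ := Set.mem_iUnion₂.1 hmem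
    have hpprime : p.IsPrime := hp.isPrime
    rcases hpm p hpprime with hmin | rfl
    · exact hminzd p hmin r hrp hr
    · have hxmem : x ∈ ⋃ p ∈ associatedPrimes R M, (p : Set R) := Set.mem_biUnion hp hxm
      rw [biUnion_associatedPrimes_eq_compl_regular R M] at hxmem
      exact hxmem hx

end Groth.Agent.S13996
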