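import Groth.Statements.S14020
-- import your own Groth.Agent.* helpers here
import Mathlib.RingTheory.Artinian.Module
import Mathlib.Algebra.Module.Torsion.Basic
import Mathlib.RingTheory.Finiteness.Ideal
import Mathlib.Tactic

set_option autoImplicit false
universe u
open CAlg

namespace Groth.Agent.S14020

/-- Let R be a commutative ring and I a finitely generated ideal such that the quotient ring R/I is
artinian. Then R/I^n is artinian for every n. -/
theorem result
    (R : Type u) [CommRing R] (I : Ideal R) (hI : I.FG) [IsArtinianRing (R ⧸ I)] (n : ℕ) :
    IsArtinianRing (R ⧸ I ^ n) := by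
  have hmain : ∀ k : ℕ, IsArtinian R (R ⧸ I ^ k) := by
    intro k
    induction k with
    | zero =>
      rw [pow_zero, Ideal.one_eq_top]
      have : Subsingleton (R ⧸ (⊤ : Ideal R)) := Ideal.Quotient.subsingleton_iff.mpr rfl
      infer_instance
    | succ k ih =>
      let S : Submodule R (R ⧸ I ^ (k + 1)) :=
        Submodule.map (Submodule.mkQ (I ^ (k + 1))) (I ^ k : Submodule R R)
      rw [isArtinian_iff_submodule_quotient S]
      constructor
      · haveI : Module.Finite R S := by
          rw [Module.Finite.iff_fg]
          exact (Submodule.FG.pow hI k).map _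
        have hM : Module.IsTorsionBySet R S I := by
          intro x a
          obtain ⟨x, hx⟩ := x
          obtain ⟨y, hy, rfl⟩ := Submodule.mem_map.mp hx
          apply Subtype.ext
          change (a : R) • (Submodule.mkQ (I ^ (k + 1)) y) = 0
          rw [← map_smul, Submodule.mkQ_apply, Submodule.Quotient.mk_eq_zero]
          rw [pow_succ']
          exact Ideal.mul_mem_mul a.2 hy
        letI := hM.module
        haveI : IsScalarTower R (R ⧸ I) S := hM.isScalarTower
        haveI : Module.Finite (R ⧸ I) S := Module.Finite.of_restrictScalars_finite R (R ⧸ I) S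
        haveI : IsArtinian (R ⧸ I) S := isArtinian_of_fg_of_artinian'
        exact isArtinian_of_surjective_algebraMap (R := R ⧸ I) (S := R) (Ideal.Quotient.mk_surjective (I := I))
      · exact isArtinian_of_linearEquiv (Submodule.quotientQuotientEquivQuotient _ _
          (Ideal.pow_le_pow_right (Nat.le_succ k))).symm
  haveI := hmain n
  exact isArtinian_of_tower R inferInstance

end Groth.Agent.S14020
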