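import Groth.Statements.S14032
-- import your own Groth.Agent.* helpers here
import Mathlib.Tactic
import Mathlib.LinearAlgebra.TensorProduct.Quotient
import Mathlib.RingTheory.Noetherian.Nilpotent

set_option autoImplicit false
universe u v
open W4c1frobunstiva

namespace Groth.Agent.S14032

open TensorProduct in
/-- Let R be a commutative Noetherian ring with nilradical n, M an R-module and r a natural number. Then
M is NR-free of rank r — generated by r elements such that every linear relation among them has
nilpotent coefficients — if and only if (R/n) ⊗_R M is free of rank r over R/n, in the sense of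
admitting a basis indexed by r elements. (The published statement assumes M finitely generated and
also gives the converse when R is local; over a Noetherian ring the nilradical is nilpotent, the
case used here, and finite generation is not needed.) -/
theorem result (R : Type u) [CommRing R]
    [IsNoetherianRing R] (M : Type v) [AddCommGroup M] [Module R M] (r : ℕ) :
    W4c1frobunstiva.IsNRFree R M r ↔
      Nonempty (Module.Basis (Fin r) (R ⧸ nilradical R) ((R ⧸ nilradical R) ⊗[R] M)) := by
  classical
  set N := nilradical R with hN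
  -- 1 ⊗ x = 0 iff x ∈ N • ⊤
  have key0 : ∀ x : M, (1 : R ⧸ N) ⊗ₜ[R] x = 0 ↔ x ∈ N • (⊤ : Submodule R M) := by
    intro x
    rw [← (TensorProduct.quotTensorEquivQuotSMul M N).map_eq_zero_iff,
      TensorProduct.quotTensorEquivQuotSMul_mk_one_tmul, Submodule.Quotient.mk_eq_zero]
  have surj : ∀ y : (R ⧸ N) ⊗[R] M, ∃ x : M, (1 : R ⧸ N) ⊗ₜ[R] x = y := by
    intro y
    obtain ⟨x, hx⟩ := Submodule.Quotient.mk_surjective _
      ((TensorProduct.quotTensorEquivQuotSMul M N) y)
    refine ⟨x, ?_⟩
    rw [← TensorProduct.quotTensorEquivQuotSMul_symm_mk, hx, LinearEquiv.symm_apply_apply]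
  have smul1 : ∀ (c : R) (x : M), (Ideal.Quotient.mk N c) • ((1 : R ⧸ N) ⊗ₜ[R] x) =
      (1 : R ⧸ N) ⊗ₜ[R] (c • x) := by
    intro c x
    rw [TensorProduct.smul_tmul', smul_eq_mul, mul_one, ← TensorProduct.smul_tmul,
      Algebra.smul_def, mul_one]
    rfl
  have nil : ∀ a : R, IsNilpotent a ↔ Ideal.Quotient.mk N a = 0 := by
    intro a
    rw [Ideal.Quotient.eq_zero_iff_mem, hN, mem_nilradical]
  constructor
  · rintro ⟨m, hspan, hrel⟩
    -- elements of N • ⊤ have coefficients in N
    have hNM : ∀ x ∈ N • (⊤ : Submodule R M), ∃ d : Fin r → R, (∀ i, d i ∈ N) ∧ x = ∑ i, d i • m i := by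
      intro x hx
      refine Submodule.smul_induction_on hx ?_ ?_
      · intro n hn y _
        have hy : y ∈ Submodule.span R (Set.range m) := by rw [hspan]; trivial
        obtain ⟨c, hc⟩ := (Submodule.mem_span_range_iff_exists_fun R).1 hy
        refine ⟨fun i => n * c i, fun i => N.mul_mem_right _ hn, ?_⟩
        rw [← hc, Finset.smul_sum]
        simp [mul_smul]
      · rintro x y ⟨d, hd, rfl⟩ ⟨d', hd', rfl⟩
        refine ⟨d + d', fun i => N.add_mem (hd i) (hd' i), ?_⟩
        simp [add_smul, Finset.sum_add_distrib]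
    let b : Fin r → (R ⧸ N) ⊗[R] M := fun i => (1 : R ⧸ N) ⊗ₜ[R] m i
    have hli : LinearIndependent (R ⧸ N) b := by
      rw [Fintype.linearIndependent_iff]
      intro a ha i
      choose a' ha' using fun i => Ideal.Quotient.mk_surjective (a i)
      have h1 : (1 : R ⧸ N) ⊗ₜ[R] (∑ i, a' i • m i) = 0 := by
        rw [← ha, TensorProduct.tmul_sum]
        refine Finset.sum_congr rfl fun j _ => ?_
        rw [← ha' j, smul1]
      obtain ⟨d, hd, hdx⟩ := hNM _ ((key0 _).1 h1)
      have h2 : ∑ j, (a' j - d j) • m j = 0 := by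
        simp only [sub_smul, Finset.sum_sub_distrib, hdx, sub_self]
      have h3 := hrel _ h2 i
      rw [← ha' i]
      rw [nil] at h3
      rw [map_sub, sub_eq_zero] at h3
      rw [h3]
      exact Ideal.Quotient.eq_zero_iff_mem.2 (hd i)
    have hsp : ⊤ ≤ Submodule.span (R ⧸ N) (Set.range b) := by
      intro y _
      obtain ⟨x, rfl⟩ := surj y
      have hx : x ∈ Submodule.span R (Set.range m) := by rw [hspan]; trivial
      obtain ⟨c, hc⟩ := (Submodule.mem_span_range_iff_exists_fun R).1 hx
      rw [← hc, TensorProduct.tmul_sum]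
      refine Submodule.sum_mem _ fun j _ => ?_
      rw [← smul1]
      exact Submodule.smul_mem _ _ (Submodule.subset_span ⟨j, rfl⟩)
    exact ⟨Module.Basis.mk hli hsp⟩
  · rintro ⟨bs⟩
    choose m hm using fun i => surj (bs i)
    refine ⟨m, ?_, ?_⟩
    · -- spanning, via nilpotent Nakayama
      set L := Submodule.span R (Set.range m) with hL
      have h0 : ⊤ ≤ L ⊔ N • (⊤ : Submodule R M) := by
        intro x _
        have := bs.sum_repr ((1 : R ⧸ N) ⊗ₜ[R] x)
        choose c hc using fun i => Ideal.Quotient.mk_surjective (bs.repr ((1 : R ⧸ N) ⊗ₜ[R] x) i)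
        have h1 : (1 : R ⧸ N) ⊗ₜ[R] (x - ∑ i, c i • m i) = 0 := by
          rw [TensorProduct.tmul_sub, TensorProduct.tmul_sum, sub_eq_zero]
          conv_lhs => rw [← this]
          refine Finset.sum_congr rfl fun j _ => ?_
          rw [← hc j, ← hm j, smul1]
        have h2 := (key0 _).1 h1
        have h3 : ∑ i, c i • m i ∈ L :=
          Submodule.sum_mem _ fun i _ => Submodule.smul_mem _ _ (Submodule.subset_span ⟨i, rfl⟩)
        have : x = ∑ i, c i • m i + (x - ∑ i, c i • m i) := by abel
        rw [this]
        exact Submodule.add_mem_sup h3 h2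
      have hpow : ∀ j : ℕ, ⊤ ≤ L ⊔ (N ^ j) • (⊤ : Submodule R M) := by
        intro j
        induction j with
        | zero => simp [Ideal.one_eq_top, Submodule.top_smul]
        | succ j ih =>
          calc (⊤ : Submodule R M) ≤ L ⊔ (N ^ j) • (⊤ : Submodule R M) := ih
            _ ≤ L ⊔ (N ^ j) • (L ⊔ N • (⊤ : Submodule R M)) :=
                sup_le_sup_left (Submodule.smul_mono le_rfl (top_le_iff.1 h0).ge) _
            _ ≤ L ⊔ (N ^ (j + 1)) • (⊤ : Submodule R M) := by
                rw [Submodule.smul_sup, ← Submodule.mul_smul, ← pow_succ]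
                refine sup_le le_sup_left (sup_le ?_ le_sup_right)
                exact Submodule.smul_le_right.trans le_sup_left
      obtain ⟨k, hk⟩ := IsNoetherianRing.isNilpotent_nilradical R
      have := hpow k
      rw [← hN] at hk
      rw [hk, Ideal.zero_eq_bot, Submodule.bot_smul, sup_bot_eq] at this
      exact top_le_iff.1 this
    · intro a ha i
      have h1 : ∑ j, (Ideal.Quotient.mk N (a j)) • bs j = 0 := by
        have : (1 : R ⧸ N) ⊗ₜ[R] (∑ j, a j • m j) = 0 := by rw [ha, TensorProduct.tmul_zero]
        rw [TensorProduct.tmul_sum] at this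
        rw [← this]
        refine Finset.sum_congr rfl fun j _ => ?_
        rw [← hm j, smul1]
      have h2 := (Fintype.linearIndependent_iff.1 bs.linearIndependent) _ h1 i
      exact (nil _).2 h2

end Groth.Agent.S14032
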