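import Groth.Statements.S14033
-- import your own Groth.Agent.* helpers here
import Mathlib.Tactic

set_option autoImplicit false
universe u v
open W4c1frobunstiva

namespace Groth.Agent.S14033

open DualNumber Pointwise in
/-- Let R be a commutative ring, R[ε] its ring of dual numbers (ε² = 0), M an R[ε]-module and r a
natural number. Then M is free of rank r over R[ε] (admits a basis of r elements) if and only if the
R-modules M/εM and εM are both free of rank r. (The published statement concerns a coherent sheaf on
the product of a scheme S with Spec ℤ[ε] and local freeness of rank r; that assertion is local, and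
this row is its form over one ring, with no finiteness assumption on M and no hypothesis on R.) -/
theorem result (R : Type u) [CommRing R] (M : Type v)
    [AddCommGroup M] [Module R[ε] M] [Module R M] [IsScalarTower R R[ε] M] (r : ℕ) :
    Nonempty (Module.Basis (Fin r) R[ε] M) ↔
      (Nonempty (Module.Basis (Fin r) R (M ⧸ ((ε : R[ε]) • (⊤ : Submodule R[ε] M)))) ∧
        Nonempty (Module.Basis (Fin r) R (((ε : R[ε]) • (⊤ : Submodule R[ε] M)).restrictScalars R))) := by
  classical
  set E : Submodule R[ε] M := (ε : R[ε]) • (⊤ : Submodule R[ε] M) with hE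
  have hmemE : ∀ m : M, m ∈ E ↔ ∃ m' : M, (ε : R[ε]) • m' = m := by
    intro m; rw [hE, Submodule.mem_smul_pointwise_iff_exists]; simp
  have hεε : ∀ m : M, (ε : R[ε]) • (ε : R[ε]) • m = 0 := by
    intro m; rw [← mul_smul, DualNumber.eps_mul_eps, zero_smul]
  have hdecomp : ∀ (x : R[ε]) (m : M),
      x • m = TrivSqZeroExt.fst x • m + TrivSqZeroExt.snd x • ((ε : R[ε]) • m) := by
    intro x m
    conv_lhs => rw [← TrivSqZeroExt.inl_fst_add_inr_snd_eq x]
    rw [add_smul, DualNumber.inr_eq_smul_eps, smul_assoc, ← TrivSqZeroExt.algebraMap_eq_inl,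
      algebraMap_smul]
  have hεx : ∀ x : R[ε], (ε : R[ε]) * x = TrivSqZeroExt.fst x • (ε : R[ε]) := by
    intro x
    refine TrivSqZeroExt.ext ?_ ?_
    · simp [DualNumber.fst_eps]
    · simp [DualNumber.snd_mul, DualNumber.fst_eps, DualNumber.snd_eps]
  have hmk_smul : ∀ (c : R) (m : M), (Submodule.Quotient.mk (c • m) : M ⧸ E) = c • Submodule.Quotient.mk m :=
    fun c m => Submodule.Quotient.mk_smul E c m
  have hmk_sum : ∀ (c : Fin r → R) (v : Fin r → M),
      (Submodule.Quotient.mk (∑ i, c i • v i) : M ⧸ E) = ∑ i, c i • Submodule.Quotient.mk (v i) := by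
    intro c v
    rw [← Submodule.mkQ_apply, map_sum]
    simp only [Submodule.mkQ_apply, hmk_smul]
  constructor
  · rintro ⟨b⟩
    constructor
    · -- basis of the quotient
      let w : Fin r → M ⧸ E := fun i => Submodule.Quotient.mk (b i)
      have hli : LinearIndependent R w := by
        rw [Fintype.linearIndependent_iff]
        intro a ha
        have h1 : (∑ i, a i • b i) ∈ E := by
          rw [← Submodule.Quotient.mk_eq_zero, hmk_sum]; exact ha
        obtain ⟨m, hm⟩ := (hmemE _).1 h1
        have h2 : ∑ i, (algebraMap R R[ε] (a i)) • b i = ∑ i, ((ε : R[ε]) * b.repr m i) • b i := by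
          simp only [algebraMap_smul]
          rw [← hm]
          conv_lhs => rw [← b.sum_repr m]
          rw [Finset.smul_sum]
          simp only [smul_smul]
        have h3 : ∑ i, (algebraMap R R[ε] (a i) - (ε : R[ε]) * b.repr m i) • b i = 0 := by
          simp only [sub_smul, Finset.sum_sub_distrib]; rw [h2, sub_self]
        intro i
        have h4 := Fintype.linearIndependent_iff.1 b.linearIndependent _ h3 i
        have h5 := congrArg TrivSqZeroExt.fst h4
        rw [TrivSqZeroExt.fst_sub, hεx] at h5
        simpa [TrivSqZeroExt.algebraMap_eq_inl, DualNumber.fst_eps] using h5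
      have hsp : ⊤ ≤ Submodule.span R (Set.range w) := by
        intro q _
        obtain ⟨m, rfl⟩ := Submodule.Quotient.mk_surjective E q
        rw [← b.sum_repr m, ← Submodule.mkQ_apply, map_sum]
        refine Submodule.sum_mem _ fun i _ => ?_
        rw [Submodule.mkQ_apply, hdecomp (b.repr m i) (b i), Submodule.Quotient.mk_add]
        have hz : (Submodule.Quotient.mk (TrivSqZeroExt.snd (b.repr m i) • (ε : R[ε]) • b i) : M ⧸ E) = 0 := by
          rw [Submodule.Quotient.mk_eq_zero, hmemE]
          exact ⟨TrivSqZeroExt.snd (b.repr m i) • b i, by rw [smul_comm]⟩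
        rw [hz, add_zero, hmk_smul]
        exact Submodule.smul_mem _ _ (Submodule.subset_span ⟨i, rfl⟩)
      exact ⟨Module.Basis.mk hli hsp⟩
    · -- basis of εM
      have hu : ∀ i, (ε : R[ε]) • b i ∈ E.restrictScalars R := fun i => (hmemE _).2 ⟨b i, rfl⟩
      let u : Fin r → E.restrictScalars R := fun i => ⟨(ε : R[ε]) • b i, hu i⟩
      have hli : LinearIndependent R u := by
        rw [Fintype.linearIndependent_iff]
        intro a ha
        have h1 : ∑ i, (a i • (ε : R[ε])) • b i = 0 := by
          have := congrArg Subtype.val ha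
          simpa [u, smul_assoc] using this
        have h2 := Fintype.linearIndependent_iff.1 b.linearIndependent _ h1
        intro i
        have := congrArg TrivSqZeroExt.snd (h2 i)
        simpa [DualNumber.snd_eps] using this
      have hsp : ⊤ ≤ Submodule.span R (Set.range u) := by
        rintro ⟨e, he⟩ _
        obtain ⟨m, rfl⟩ := (hmemE e).1 he
        have : (⟨(ε : R[ε]) • m, he⟩ : E.restrictScalars R) =
            ∑ i, TrivSqZeroExt.fst (b.repr m i) • u i := by
          apply Subtype.ext
          simp only [Submodule.coe_sum, Submodule.coe_smul, u]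
          conv_lhs => rw [← b.sum_repr m]
          rw [Finset.smul_sum]
          refine Finset.sum_congr rfl fun i _ => ?_
          rw [smul_smul, hεx, smul_assoc]
        rw [this]
        exact Submodule.sum_mem _ fun i _ => Submodule.smul_mem _ _ (Submodule.subset_span ⟨i, rfl⟩)
      exact ⟨Module.Basis.mk hli hsp⟩
  · rintro ⟨⟨b1⟩, ⟨b2⟩⟩
    choose v hv using fun i => Submodule.Quotient.mk_surjective E (b1 i)
    -- the map T
    have hTv : ∀ i, (ε : R[ε]) • v i ∈ E.restrictScalars R := fun i => (hmemE _).2 ⟨v i, rfl⟩
    let T : (Fin r → R) →ₗ[R] E.restrictScalars R :=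
      Fintype.linearCombination R (fun i => (⟨(ε : R[ε]) • v i, hTv i⟩ : E.restrictScalars R))
    -- lifting lemma
    have hlift : ∀ m : M, ∃ m' : M, m = ∑ i, b1.repr (Submodule.Quotient.mk m) i • v i + (ε : R[ε]) • m' := by
      intro m
      have h1 : (Submodule.Quotient.mk (m - ∑ i, b1.repr (Submodule.Quotient.mk m) i • v i) : M ⧸ E) = 0 := by
        rw [Submodule.Quotient.mk_sub, hmk_sum]
        simp only [hv]
        rw [b1.sum_repr, sub_self]
      rw [Submodule.Quotient.mk_eq_zero, hmemE] at h1
      obtain ⟨m', hm'⟩ := h1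
      exact ⟨m', by rw [hm']; abel⟩
    have hTsurj : Function.Surjective T := by
      rintro ⟨e, he⟩
      obtain ⟨m, rfl⟩ := (hmemE e).1 he
      obtain ⟨m', hm'⟩ := hlift m
      refine ⟨fun i => b1.repr (Submodule.Quotient.mk m) i, ?_⟩
      apply Subtype.ext
      simp only [T, Fintype.linearCombination_apply, Submodule.coe_sum, Submodule.coe_smul]
      conv_rhs => rw [hm']
      rw [smul_add, hεε, add_zero, Finset.smul_sum]
      refine Finset.sum_congr rfl fun i _ => ?_
      rw [smul_comm]
    have hTinj : Function.Injective T := by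
      let S : (Fin r → R) →ₗ[R] (Fin r → R) := b2.equivFun.toLinearMap ∘ₗ T
      have hS : Function.Surjective S := b2.equivFun.surjective.comp hTsurj
      have hSi := OrzechProperty.injective_of_surjective_endomorphism S hS
      intro x y hxy
      apply hSi
      simp only [S, LinearMap.coe_comp, Function.comp_apply, hxy]
    have hli : LinearIndependent R[ε] v := by
      rw [Fintype.linearIndependent_iff]
      intro g hg
      have hfst : ∀ i, TrivSqZeroExt.fst (g i) = 0 := by
        have hg' : ∑ i, (TrivSqZeroExt.fst (g i) • v i + TrivSqZeroExt.snd (g i) • (ε : R[ε]) • v i) = 0 := by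
          rw [← hg]; exact Finset.sum_congr rfl (fun i _ => (hdecomp (g i) (v i)).symm)
        have h1 := congrArg (fun x : M => (Submodule.Quotient.mk x : M ⧸ E)) hg'
        simp only [Finset.sum_add_distrib, Submodule.Quotient.mk_add, Submodule.Quotient.mk_zero] at h1
        have hz : (Submodule.Quotient.mk (∑ i, TrivSqZeroExt.snd (g i) • (ε : R[ε]) • v i) : M ⧸ E) = 0 := by
          rw [Submodule.Quotient.mk_eq_zero, hmemE]
          refine ⟨∑ i, TrivSqZeroExt.snd (g i) • v i, ?_⟩
          rw [Finset.smul_sum]
          exact Finset.sum_congr rfl fun i _ => smul_comm _ _ _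
        rw [hz, add_zero, hmk_sum] at h1
        simp only [hv] at h1
        exact Fintype.linearIndependent_iff.1 b1.linearIndependent _ h1
      have hsnd : ∀ i, TrivSqZeroExt.snd (g i) = 0 := by
        have h1 : T (fun i => TrivSqZeroExt.snd (g i)) = 0 := by
          apply Subtype.ext
          simp only [T, Fintype.linearCombination_apply, Submodule.coe_sum, Submodule.coe_smul,
            Submodule.coe_zero]
          rw [← hg]
          refine Finset.sum_congr rfl fun i _ => ?_
          rw [hdecomp (g i) (v i), hfst i, zero_smul, zero_add]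
        have h2 := hTinj (h1.trans (map_zero T).symm)
        intro i
        exact congrFun h2 i
      intro i
      exact TrivSqZeroExt.ext (hfst i) (hsnd i)
    have hsp : ⊤ ≤ Submodule.span R[ε] (Set.range v) := by
      intro m _
      obtain ⟨m', hm'⟩ := hlift m
      obtain ⟨m'', hm''⟩ := hlift m'
      rw [hm', hm'', smul_add, hεε, add_zero, Finset.smul_sum]
      refine Submodule.add_mem _ (Submodule.sum_mem _ fun i _ => ?_) (Submodule.sum_mem _ fun i _ => ?_)
      · rw [← algebraMap_smul R[ε]]
        exact Submodule.smul_mem _ _ (Submodule.subset_span ⟨i, rfl⟩)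
      · rw [smul_comm, ← smul_assoc]
        exact Submodule.smul_mem _ _ (Submodule.subset_span ⟨i, rfl⟩)
    exact ⟨Module.Basis.mk hli hsp⟩

end Groth.Agent.S14033
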