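import Groth.Statements.S14043
-- import your own Groth.Agent.* helpers here
import Mathlib.Tactic

set_option autoImplicit false
universe u v
open W4c1frobunstiva

namespace Groth.Agent.S14043

/-- Let R be a commutative Noetherian ring, M an R-module that is NR-free of rank r — generated by some
r elements all of whose linear relations have nilpotent coefficients — and m, m' two generating
families of M, each indexed by the same finite set of size r. Then some invertible r × r matrix T
over R expresses m' in terms of m, m'_j = Σ_i T_{ji} m_i; reducing modulo the nilradical n, such a T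
induces the change-of-basis matrix between the bases of M/nM given by the images of m and m' (an
r-element generating family of M is itself an NR-basis), so only the existence of an invertible T is
asserted here. (T is not unique.) -/
theorem result (R : Type u) [CommRing R]
    [IsNoetherianRing R] (M : Type v) [AddCommGroup M] [Module R M] (r : ℕ)
    (hM : W4c1frobunstiva.IsNRFree R M r) (m m' : Fin r → M)
    (hm : Submodule.span R (Set.range m) = ⊤) (hm' : Submodule.span R (Set.range m') = ⊤) :
    ∃ T : Matrix (Fin r) (Fin r) R, IsUnit T ∧ ∀ j, m' j = ∑ i, T j i • m i := by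
  classical
  obtain ⟨μ, hμspan, hμrel⟩ := hM
  have coeffs : ∀ (v w : Fin r → M), Submodule.span R (Set.range w) = ⊤ →
      ∃ X : Matrix (Fin r) (Fin r) R, ∀ j, v j = ∑ i, X j i • w i := by
    intro v w hw
    have : ∀ j, ∃ c : Fin r → R, ∑ i, c i • w i = v j := fun j =>
      (Submodule.mem_span_range_iff_exists_fun R).1 (by rw [hw]; trivial)
    choose X hX using this
    exact ⟨X, fun j => (hX j).symm⟩
  have comp : ∀ (X Y : Matrix (Fin r) (Fin r) R) (u v w : Fin r → M),
      (∀ j, u j = ∑ i, X j i • v i) → (∀ j, v j = ∑ i, Y j i • w i) →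
      ∀ j, u j = ∑ i, (X * Y) j i • w i := by
    intro X Y u v w h1 h2 j
    rw [h1 j]
    simp_rw [h2, Finset.smul_sum, smul_smul, Matrix.mul_apply, Finset.sum_smul]
    rw [Finset.sum_comm]
  have selfU : ∀ X : Matrix (Fin r) (Fin r) R, (∀ j, μ j = ∑ i, X j i • μ i) → IsUnit X.det := by
    intro X hX
    have hnil : ∀ j i, IsNilpotent ((X - 1) j i) := by
      intro j
      have : ∑ i, (X - 1) j i • μ i = 0 := by
        simp only [Matrix.sub_apply, sub_smul, Finset.sum_sub_distrib, Matrix.one_apply,
          ite_smul, one_smul, zero_smul, Finset.sum_ite_eq, Finset.mem_univ, if_true]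
        rw [← hX j, sub_self]
      exact hμrel _ this
    have hmap : X.map (Ideal.Quotient.mk (nilradical R)) = 1 := by
      ext j i
      have h2 : (X - 1) j i ∈ nilradical R := hnil j i
      rw [← Ideal.Quotient.eq_zero_iff_mem, Matrix.sub_apply, map_sub, sub_eq_zero] at h2
      rw [Matrix.map_apply, h2]
      by_cases hji : j = i
      · subst hji
        rw [Matrix.one_apply_eq, Matrix.one_apply_eq, map_one]
      · rw [Matrix.one_apply_ne hji, Matrix.one_apply_ne hji, map_zero]
    have hdet : Ideal.Quotient.mk (nilradical R) X.det = 1 := by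
      rw [RingHom.map_det, RingHom.mapMatrix_apply, hmap, Matrix.det_one]
    have h3 : X.det - 1 ∈ nilradical R := by
      rw [← Ideal.Quotient.eq_zero_iff_mem, map_sub, hdet, map_one, sub_self]
    have h4 := IsNilpotent.isUnit_one_add (mem_nilradical.1 h3)
    rwa [add_sub_cancel] at h4
  obtain ⟨C, hC⟩ := coeffs μ m' hm'
  obtain ⟨T, hT⟩ := coeffs m' m hm
  obtain ⟨A, hA⟩ := coeffs m μ hμspan
  have h := selfU _ (comp _ _ _ _ _ (comp _ _ _ _ _ hC hT) hA)
  rw [Matrix.det_mul, Matrix.det_mul] at h
  have hTu : IsUnit T.det := isUnit_of_mul_isUnit_right (isUnit_of_mul_isUnit_left h)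
  exact ⟨T, (Matrix.isUnit_iff_isUnit_det T).2 hTu, hT⟩

end Groth.Agent.S14043
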