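import Groth.Statements.S14046
-- import your own Groth.Agent.* helpers here
import Mathlib.Tactic
import Mathlib.RingTheory.Flat.Equalizer
import Mathlib.LinearAlgebra.TensorProduct.Prod

set_option autoImplicit false
universe u v w
open W4c1frobunstiva

namespace Groth.Agent.S14046

open TensorProduct in
/-- Let R → A be a homomorphism of commutative rings and I, J ideals of A with I ∩ J = 0 — so that A is
the fibre product of A/I and A/J over A/(I + J), i.e. Spec A is the union of the two closed
subschemes in the strong sense — and suppose A/(I + J) is flat over R. Then this persists under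
every base change: for every commutative R-algebra R', the ideals generated by I and J in R' ⊗_R A
again meet in 0. (This is the ideal-theoretic, affine form of the base-change step; the exact
sequence of unit sheaves deduced from it in the published statement — restriction of units to a
closed subscheme being surjective locally — is not restated. Without flatness of A/(I + J) the
conclusion fails: for A = k[x, y]/(xy) over R = k[u] with u ↦ x + y, I = (x) and J = (y), the base
change to R/(u) gives k[x]/(x²), in which both ideals become (x).) -/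
theorem result (R : Type u) (A : Type v)
    [CommRing R] [CommRing A] [Algebra R A] (I J : Ideal A) (hIJ : I ⊓ J = ⊥)
    [Module.Flat R (A ⧸ (I ⊔ J))] (R' : Type w) [CommRing R'] [Algebra R R'] :
    I.map (Algebra.TensorProduct.includeRight : A →ₐ[R] R' ⊗[R] A) ⊓
      J.map (Algebra.TensorProduct.includeRight : A →ₐ[R] R' ⊗[R] A) = ⊥ := by
  classical
  let qI : A →ₗ[R] A ⧸ I := (Ideal.Quotient.mkₐ R I).toLinearMap
  let qJ : A →ₗ[R] A ⧸ J := (Ideal.Quotient.mkₐ R J).toLinearMap
  let pI : A ⧸ I →ₗ[R] A ⧸ (I ⊔ J) :=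
    (Ideal.Quotient.factorₐ R (le_sup_left : I ≤ I ⊔ J)).toLinearMap
  let pJ : A ⧸ J →ₗ[R] A ⧸ (I ⊔ J) :=
    (Ideal.Quotient.factorₐ R (le_sup_right : J ≤ I ⊔ J)).toLinearMap
  let g : A →ₗ[R] (A ⧸ I) × (A ⧸ J) := LinearMap.prod qI qJ
  let f : (A ⧸ I) × (A ⧸ J) →ₗ[R] A ⧸ (I ⊔ J) :=
    pI ∘ₗ LinearMap.fst R _ _ - pJ ∘ₗ LinearMap.snd R _ _
  have hg : Function.Injective g := by
    intro a b hab
    have h1 : Ideal.Quotient.mk I a = Ideal.Quotient.mk I b := congrArg Prod.fst hab
    have h2 : Ideal.Quotient.mk J a = Ideal.Quotient.mk J b := congrArg Prod.snd hab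
    rw [Ideal.Quotient.eq] at h1 h2
    have : a - b ∈ I ⊓ J := ⟨h1, h2⟩
    rw [hIJ, Ideal.mem_bot, sub_eq_zero] at this
    exact this
  have hf : Function.Surjective f := by
    intro z
    obtain ⟨a, rfl⟩ := Ideal.Quotient.mk_surjective z
    refine ⟨(Ideal.Quotient.mk I a, 0), ?_⟩
    simp [f, pI, pJ]
  have hex : Function.Exact g f := by
    intro y
    constructor
    · intro hy
      obtain ⟨x, x'⟩ := y
      obtain ⟨a, rfl⟩ := Ideal.Quotient.mk_surjective x
      obtain ⟨b, rfl⟩ := Ideal.Quotient.mk_surjective x'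
      have h0 : Ideal.Quotient.mk (I ⊔ J) a - Ideal.Quotient.mk (I ⊔ J) b = 0 := by
        simpa [f, pI, pJ] using hy
      rw [sub_eq_zero, Ideal.Quotient.eq] at h0
      obtain ⟨i, hi, j, hj, hij⟩ := Submodule.mem_sup.1 h0
      refine ⟨a - i, ?_⟩
      refine Prod.ext ?_ ?_
      · show Ideal.Quotient.mk I (a - i) = Ideal.Quotient.mk I a
        rw [Ideal.Quotient.eq]; simpa using hi
      · show Ideal.Quotient.mk J (a - i) = Ideal.Quotient.mk J b
        rw [Ideal.Quotient.eq]
        have : a - i - b = j := by linear_combination -hij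
        rw [this]; exact hj
    · rintro ⟨a, rfl⟩
      simp [f, g, pI, pJ, qI, qJ]
  have hinj := LinearMap.lTensor_injective_of_exact_of_flat f hf g hg hex R'
  have kill : ∀ (K : Ideal A) (x : R' ⊗[R] A),
      x ∈ K.map (Algebra.TensorProduct.includeRight : A →ₐ[R] R' ⊗[R] A) →
        ((Ideal.Quotient.mkₐ R K).toLinearMap.lTensor R') x = 0 := by
    intro K x hx
    let Ψ : R' ⊗[R] A →ₐ[R] R' ⊗[R] (A ⧸ K) :=
      Algebra.TensorProduct.map (AlgHom.id R R') (Ideal.Quotient.mkₐ R K)
    have hΨ : ∀ y, Ψ y = ((Ideal.Quotient.mkₐ R K).toLinearMap.lTensor R') y := fun y => rfl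
    have hle : K.map (Algebra.TensorProduct.includeRight : A →ₐ[R] R' ⊗[R] A) ≤ RingHom.ker Ψ := by
      rw [Ideal.map_le_iff_le_comap]
      intro i hi
      rw [Ideal.mem_comap, RingHom.mem_ker]
      simp [Ψ, Ideal.Quotient.eq_zero_iff_mem.2 hi]
    rw [← hΨ]
    exact hle hx
  rw [eq_bot_iff]
  intro x hx
  rw [Ideal.mem_bot]
  obtain ⟨hxI, hxJ⟩ := Submodule.mem_inf.1 hx
  apply hinj
  rw [map_zero]
  apply (TensorProduct.prodRight R R R' (A ⧸ I) (A ⧸ J)).injective
  rw [map_zero]
  have hpr : ∀ y, TensorProduct.prodRight R R R' (A ⧸ I) (A ⧸ J) (g.lTensor R' y) =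
      (qI.lTensor R' y, qJ.lTensor R' y) := by
    intro y
    induction y using TensorProduct.induction_on with
    | zero => rw [map_zero, map_zero, map_zero, map_zero]; rfl
    | tmul a b => simp [g]
    | add a b ha hb => simp only [map_add, ha, hb, Prod.mk_add_mk]
  rw [hpr, kill I x hxI, kill J x hxJ]
  rfl

end Groth.Agent.S14046
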