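import Groth.Statements.S14051
-- import your own Groth.Agent.* helpers here
import Mathlib.Tactic

set_option autoImplicit false
universe u
open CAlg

namespace Groth.Agent.S14051

/-- Let A be a commutative ℕ-graded algebra over a base ring R which is generated by A_1 as an
A_0-algebra, written as A_{n+1} = A_1 · A_n for every n, and let M be a graded A-module: an A-module
with R-submodules M_n giving a direct-sum decomposition and A_i · M_j ⊆ M_{i+j}. If M is spanned
over A by a set of homogeneous elements all of degree at most n₀, then for every n ≥ n₀ and every k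
≥ 0 the degree-(n+k) part of M is A_k · M_n. -/
theorem result
    (R : Type u) [CommRing R] (A : Type u) [CommRing A] [Algebra R A]
    (𝒜 : ℕ → Submodule R A) [GradedAlgebra 𝒜]
    (hA : ∀ n : ℕ, 𝒜 (n + 1) = 𝒜 1 * 𝒜 n)
    (M : Type u) [AddCommGroup M] [Module R M] [Module A M] [IsScalarTower R A M]
    (ℳ : ℕ → Submodule R M) [DirectSum.Decomposition ℳ] [SetLike.GradedSMul 𝒜 ℳ]
    (s : Set M) (n₀ : ℕ) (hs : ∀ y ∈ s, ∃ d : ℕ, d ≤ n₀ ∧ y ∈ ℳ d)
    (hspan : Submodule.span A s = ⊤)
    (n k : ℕ) (hn : n₀ ≤ n) :
    ℳ (n + k) = 𝒜 k • ℳ n := by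
  classical
  have hgs : ∀ {i j : ℕ} {a : A} {y : M}, a ∈ 𝒜 i → y ∈ ℳ j → a • y ∈ ℳ (i + j) :=
    fun ha hy => SetLike.GradedSMul.smul_mem ha hy
  have hsplit : ∀ p q, 𝒜 (p + q) ≤ 𝒜 p * 𝒜 q := by
    intro p q
    induction p with
    | zero =>
      intro x hx
      rw [zero_add] at hx
      have := Submodule.mul_mem_mul (SetLike.one_mem_graded 𝒜) hx
      rwa [one_mul] at this
    | succ p ih =>
      rw [show p + 1 + q = (p + q) + 1 by omega, hA, hA p, mul_assoc]
      exact mul_le_mul' le_rfl ih
  let T : Set M := {z | ∃ (j : ℕ) (b : A) (y : M), b ∈ 𝒜 j ∧ y ∈ s ∧ z = b • y}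
  have hhom : ∀ (j : ℕ) (b : A), b ∈ 𝒜 j → ∀ x ∈ Submodule.span R T, b • x ∈ Submodule.span R T := by
    intro j b hb x hx
    induction hx using Submodule.span_induction with
    | mem z hz =>
      obtain ⟨j', b', y, hb', hy, rfl⟩ := hz
      rw [smul_smul]
      exact Submodule.subset_span ⟨j + j', b * b', y, SetLike.mul_mem_graded hb hb', hy, rfl⟩
    | zero => rw [smul_zero]; exact zero_mem _
    | add x y _ _ hx hy => rw [smul_add]; exact add_mem hx hy
    | smul r x _ hx => rw [smul_comm]; exact Submodule.smul_mem _ r hx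
  have htop : ∀ x : M, x ∈ Submodule.span R T := by
    intro x
    have hx : x ∈ Submodule.span A s := by rw [hspan]; trivial
    induction hx using Submodule.span_induction with
    | mem y hy =>
      exact Submodule.subset_span ⟨0, 1, y, SetLike.one_mem_graded 𝒜, hy, (one_smul A y).symm⟩
    | zero => exact zero_mem _
    | add x y _ _ hx hy => exact add_mem hx hy
    | smul a x _ hx =>
      rw [← DirectSum.sum_support_decompose 𝒜 a, Finset.sum_smul]
      exact Submodule.sum_mem _ fun j _ => hhom j _ (SetLike.coe_mem _) x hx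
  have hproj : ∀ x ∈ Submodule.span R T, (DirectSum.decompose ℳ x (n + k) : M) ∈ 𝒜 k • ℳ n := by
    intro x hx
    induction hx using Submodule.span_induction with
    | mem z hz =>
      obtain ⟨j, b, y, hb, hy, rfl⟩ := hz
      obtain ⟨d, hd, hyd⟩ := hs y hy
      have hz : b • y ∈ ℳ (j + d) := hgs hb hyd
      by_cases hjd : j + d = n + k
      · rw [← hjd, DirectSum.decompose_of_mem_same ℳ hz]
        have hj : j = k + (n - d) := by omega
        rw [hj] at hb
        have hb' := hsplit k (n - d) hb
        refine Submodule.mul_induction_on (C := fun b => b • y ∈ 𝒜 k • ℳ n) hb' ?_ ?_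
        · intro b1 hb1 b2 hb2
          show (b1 * b2) • y ∈ 𝒜 k • ℳ n
          rw [mul_smul]
          apply Submodule.smul_mem_smul hb1
          have := hgs hb2 hyd
          rwa [show n - d + d = n by omega] at this
        · intro x y hx hy
          show (x + y) • _ ∈ _
          rw [add_smul]; exact add_mem hx hy
      · rw [DirectSum.decompose_of_mem_ne ℳ hz hjd]; exact zero_mem _
    | zero => simp
    | add x y _ _ hx hy =>
      rw [DirectSum.decompose_add, DirectSum.add_apply, Submodule.coe_add]
      exact add_mem hx hy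
    | smul r x _ hx =>
      rw [DirectSum.decompose_smul, DirectSum.smul_apply, Submodule.coe_smul]
      exact Submodule.smul_mem _ r hx
  apply le_antisymm
  · intro x hx
    have := hproj x (htop x)
    rwa [DirectSum.decompose_of_mem_same ℳ hx] at this
  · rw [Submodule.smul_le]
    intro r hr y hy
    have := hgs hr hy
    rwa [add_comm] at this

end Groth.Agent.S14051
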