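import Groth.Statements.S14052
-- import your own Groth.Agent.* helpers here
import Mathlib.Tactic

set_option autoImplicit false
universe u
open CAlg

namespace Groth.Agent.S14052

/-- Let A be a commutative ℕ-graded algebra over a base ring R with A_{n+1} = A_1 · A_n for every n (A
is generated by A_1 over A_0), and let S be a commutative ℕ-graded A-algebra, the structure map
sending A_i into S_i, which is a finite A-module. Let s be a finite set of homogeneous elements
spanning S as an A-module, all of degree at most n₀, with n₀ > 0. Then (1) S_{n+k} = S_k · S_n for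
all n ≥ n₀ and k ≥ 0, and (2) for every d ≥ n₀ the d-th Veronese subring of S is generated by S_d
over S_0, that is S_{md} = (S_d)^m for every m > 0. -/
theorem result
    (R : Type u) [CommRing R] (A : Type u) [CommRing A] [Algebra R A]
    (𝒜 : ℕ → Submodule R A) [GradedAlgebra 𝒜] (hA : ∀ n : ℕ, 𝒜 (n + 1) = 𝒜 1 * 𝒜 n)
    (S : Type u) [CommRing S] [Algebra R S] [Algebra A S] [IsScalarTower R A S]
    (𝒮 : ℕ → Submodule R S) [GradedAlgebra 𝒮]
    (hAS : ∀ (i : ℕ) (a : A), a ∈ 𝒜 i → algebraMap A S a ∈ 𝒮 i)
    [Module.Finite A S]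
    (s : Set S) (hsfin : s.Finite) (n₀ : ℕ) (hn₀ : 0 < n₀)
    (hs : ∀ y ∈ s, ∃ d : ℕ, d ≤ n₀ ∧ y ∈ 𝒮 d) (hspan : Submodule.span A s = ⊤) :
    (∀ n k : ℕ, n₀ ≤ n → 𝒮 (n + k) = 𝒮 k * 𝒮 n) ∧
      (∀ d : ℕ, n₀ ≤ d → ∀ m : ℕ, 0 < m → 𝒮 (m * d) = 𝒮 d ^ m) := by
  classical
  have hgs : ∀ {i j : ℕ} {a : A} {y : S}, a ∈ 𝒜 i → y ∈ 𝒮 j → a • y ∈ 𝒮 (i + j) := by
    intro i j a y ha hy
    rw [Algebra.smul_def]
    exact SetLike.mul_mem_graded (hAS i a ha) hy
  have hsplit : ∀ p q, 𝒜 (p + q) ≤ 𝒜 p * 𝒜 q := by
    intro p q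
    induction p with
    | zero =>
      intro x hx
      rw [zero_add] at hx
      have := Submodule.mul_mem_mul (SetLike.one_mem_graded 𝒜) hx
      rwa [one_mul] at this
    | succ p ih =>
      rw [show p + 1 + q = (p + q) + 1 by omega, hA, hA p, mul_assoc]
      exact mul_le_mul' le_rfl ih
  let T : Set S := {z | ∃ (j : ℕ) (b : A) (y : S), b ∈ 𝒜 j ∧ y ∈ s ∧ z = b • y}
  have hhom : ∀ (j : ℕ) (b : A), b ∈ 𝒜 j → ∀ x ∈ Submodule.span R T, b • x ∈ Submodule.span R T := by
    intro j b hb x hx
    induction hx using Submodule.span_induction with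
    | mem z hz =>
      obtain ⟨j', b', y, hb', hy, rfl⟩ := hz
      rw [smul_smul]
      exact Submodule.subset_span ⟨j + j', b * b', y, SetLike.mul_mem_graded hb hb', hy, rfl⟩
    | zero => rw [smul_zero]; exact zero_mem _
    | add x y _ _ hx hy => rw [smul_add]; exact add_mem hx hy
    | smul r x _ hx => rw [smul_comm]; exact Submodule.smul_mem _ r hx
  have htop : ∀ x : S, x ∈ Submodule.span R T := by
    intro x
    have hx : x ∈ Submodule.span A s := by rw [hspan]; trivial
    induction hx using Submodule.span_induction with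
    | mem y hy =>
      exact Submodule.subset_span ⟨0, 1, y, SetLike.one_mem_graded 𝒜, hy, (one_smul A y).symm⟩
    | zero => exact zero_mem _
    | add x y _ _ hx hy => exact add_mem hx hy
    | smul a x _ hx =>
      rw [← DirectSum.sum_support_decompose 𝒜 a, Finset.sum_smul]
      exact Submodule.sum_mem _ fun j _ => hhom j _ (SetLike.coe_mem _) x hx
  have part1 : ∀ n k : ℕ, n₀ ≤ n → 𝒮 (n + k) = 𝒮 k * 𝒮 n := by
    intro n k hn
    have hproj : ∀ x ∈ Submodule.span R T, (DirectSum.decompose 𝒮 x (n + k) : S) ∈ 𝒮 k * 𝒮 n := by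
      intro x hx
      induction hx using Submodule.span_induction with
      | mem z hz =>
        obtain ⟨j, b, y, hb, hy, rfl⟩ := hz
        obtain ⟨d, hd, hyd⟩ := hs y hy
        have hz : b • y ∈ 𝒮 (j + d) := hgs hb hyd
        by_cases hjd : j + d = n + k
        · rw [← hjd, DirectSum.decompose_of_mem_same 𝒮 hz]
          have hj : j = k + (n - d) := by omega
          rw [hj] at hb
          have hb' := hsplit k (n - d) hb
          refine Submodule.mul_induction_on (C := fun b => b • y ∈ 𝒮 k * 𝒮 n) hb' ?_ ?_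
          · intro b1 hb1 b2 hb2
            show (b1 * b2) • y ∈ 𝒮 k * 𝒮 n
            rw [mul_smul, Algebra.smul_def b1]
            apply Submodule.mul_mem_mul (hAS k b1 hb1)
            have := hgs hb2 hyd
            rwa [show n - d + d = n by omega] at this
          · intro x y hx hy
            show (x + y) • _ ∈ _
            rw [add_smul]; exact add_mem hx hy
        · rw [DirectSum.decompose_of_mem_ne 𝒮 hz hjd]; exact zero_mem _
      | zero => simp
      | add x y _ _ hx hy =>
        rw [DirectSum.decompose_add, DirectSum.add_apply, Submodule.coe_add]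
        exact add_mem hx hy
      | smul r x _ hx =>
        rw [DirectSum.decompose_smul, DirectSum.smul_apply, Submodule.coe_smul]
        exact Submodule.smul_mem _ r hx
    apply le_antisymm
    · intro x hx
      have := hproj x (htop x)
      rwa [DirectSum.decompose_of_mem_same 𝒮 hx] at this
    · rw [Submodule.mul_le]
      intro r hr y hy
      have := SetLike.mul_mem_graded hr hy
      rwa [add_comm] at this
  refine ⟨part1, ?_⟩
  intro d hd m hm
  induction m with
  | zero => omega
  | succ m ih =>
    rcases Nat.eq_zero_or_pos m with rfl | hm'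
    · simp
    · rw [show (m + 1) * d = m * d + d by ring, part1 (m * d) d (le_trans hd (Nat.le_mul_of_pos_left d hm')),
        ih hm', pow_succ']

end Groth.Agent.S14052
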