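import Groth.Statements.S14053
-- import your own Groth.Agent.* helpers here
import Mathlib.Tactic

set_option autoImplicit false
universe u
open CAlg

namespace Groth.Agent.S14053

/-- Let k be a field and R a commutative ℕ-graded k-algebra with R_0 = k · 1 which is generated as a
k-algebra by R_1, R_2 and R_3, each a finite-dimensional k-vector space, of dimensions d_1, d_2,
d_3. Then for every natural number e ≥ 5 d_1 + 4 d_2 + 3 d_3 the (6e)-th Veronese subring of R is
generated in degree one over k: R_{6em} = (R_{6e})^m for every m > 0. -/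
theorem result
    (k : Type u) [Field k] (R : Type u) [CommRing R] [Algebra k R]
    (ℛ : ℕ → Submodule k R) [GradedAlgebra ℛ]
    (h0 : ℛ 0 = 1)
    (hgen : Algebra.adjoin k ((ℛ 1 : Set R) ∪ (ℛ 2 : Set R) ∪ (ℛ 3 : Set R)) = ⊤)
    [Module.Finite k (ℛ 1)] [Module.Finite k (ℛ 2)] [Module.Finite k (ℛ 3)]
    (e : ℕ) (he : 5 * Module.finrank k (ℛ 1) + 4 * Module.finrank k (ℛ 2) + 3 * Module.finrank k (ℛ 3) ≤ e)
    (m : ℕ) (hm : 0 < m) :
    ℛ (m * (6 * e)) = ℛ (6 * e) ^ m := by
  classical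
  set P : ℕ → ℕ → ℕ → Submodule k R := fun a b c => ℛ 1 ^ a * ℛ 2 ^ b * ℛ 3 ^ c with hP
  have hpowle : ∀ i n, ℛ i ^ n ≤ ℛ (n * i) := by
    intro i n
    induction n with
    | zero => simp [h0]
    | succ n ih =>
      rw [pow_succ, Submodule.mul_le]
      intro x hx y hy
      have := SetLike.mul_mem_graded (ih hx) hy
      rwa [Nat.succ_mul]
  have hmulle : ∀ i j, ℛ i * ℛ j ≤ ℛ (i + j) := by
    intro i j; rw [Submodule.mul_le]; intro x hx y hy; exact SetLike.mul_mem_graded hx hy
  have hPle : ∀ a b c, P a b c ≤ ℛ (a + 2 * b + 3 * c) := by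
    intro a b c
    calc P a b c ≤ ℛ (a * 1) * ℛ (b * 2) * ℛ (c * 3) :=
          mul_le_mul' (mul_le_mul' (hpowle 1 a) (hpowle 2 b)) (hpowle 3 c)
      _ ≤ ℛ (a * 1 + b * 2) * ℛ (c * 3) := mul_le_mul' (hmulle _ _) le_rfl
      _ ≤ ℛ (a * 1 + b * 2 + c * 3) := hmulle _ _
      _ = ℛ (a + 2 * b + 3 * c) := by congr 1; ring
  have hcl : ∀ x ∈ Submonoid.closure ((ℛ 1 : Set R) ∪ (ℛ 2 : Set R) ∪ (ℛ 3 : Set R)),
      ∃ a b c, x ∈ P a b c := by
    intro x hx
    induction hx using Submonoid.closure_induction with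
    | mem x hx =>
      rcases hx with (hx | hx) | hx
      · exact ⟨1, 0, 0, by simpa [P] using hx⟩
      · exact ⟨0, 1, 0, by simpa [P] using hx⟩
      · exact ⟨0, 0, 1, by simpa [P] using hx⟩
    | one => exact ⟨0, 0, 0, by simp only [P, pow_zero, mul_one]; exact Submodule.mem_one.mpr ⟨1, map_one _⟩⟩
    | mul x y _ _ hx hy =>
      obtain ⟨a, b, c, hx⟩ := hx
      obtain ⟨a', b', c', hy⟩ := hy
      refine ⟨a + a', b + b', c + c', ?_⟩
      have : P a b c * P a' b' c' = P (a + a') (b + b') (c + c') := by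
        simp only [P, pow_add]; ring
      rw [← this]; exact Submodule.mul_mem_mul hx hy
  let U : ℕ → Submodule k R := fun N =>
    ⨆ (t : ℕ × ℕ × ℕ) (_ : t.1 + 2 * t.2.1 + 3 * t.2.2 = N), P t.1 t.2.1 t.2.2
  have hproj : ∀ r : R, ∀ N, (DirectSum.decompose ℛ r N : R) ∈ U N := by
    intro r
    have hr : r ∈ Subalgebra.toSubmodule
        (Algebra.adjoin k ((ℛ 1 : Set R) ∪ (ℛ 2 : Set R) ∪ (ℛ 3 : Set R))) := by
      rw [hgen]; trivial
    rw [Algebra.adjoin_eq_span] at hr
    induction hr using Submodule.span_induction with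
    | mem x hx =>
      intro N
      obtain ⟨a, b, c, hx⟩ := hcl x hx
      have hxD := hPle a b c hx
      by_cases hN : a + 2 * b + 3 * c = N
      · subst hN
        rw [DirectSum.decompose_of_mem_same ℛ hxD]
        exact Submodule.mem_iSup_of_mem (a, b, c) (Submodule.mem_iSup_of_mem rfl hx)
      · rw [DirectSum.decompose_of_mem_ne ℛ hxD hN]; exact zero_mem _
    | zero => intro N; simp
    | add x y _ _ hx hy =>
      intro N
      rw [DirectSum.decompose_add, DirectSum.add_apply, Submodule.coe_add]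
      exact add_mem (hx N) (hy N)
    | smul c x _ hx =>
      intro N
      rw [DirectSum.decompose_smul, DirectSum.smul_apply, Submodule.coe_smul]
      exact Submodule.smul_mem _ c (hx N)
  have hcomb : ∀ M a b c, a + 2 * b + 3 * c = 6 * M → P a b c ≤ ℛ 6 ^ M := by
    intro M
    induction M with
    | zero =>
      intro a b c h
      obtain ⟨rfl, rfl, rfl⟩ : a = 0 ∧ b = 0 ∧ c = 0 := by omega
      simp [P]
    | succ M ih =>
      intro a b c h
      have key : ∃ a' b' c', a' ≤ a ∧ b' ≤ b ∧ c' ≤ c ∧ a' + 2 * b' + 3 * c' = 6 := by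
        by_cases hc : 2 ≤ c
        · exact ⟨0, 0, 2, by omega, by omega, hc, rfl⟩
        by_cases hb : 3 ≤ b
        · exact ⟨0, 3, 0, by omega, hb, by omega, rfl⟩
        by_cases hc1 : c = 1
        · by_cases hb1 : 1 ≤ b
          · exact ⟨1, 1, 1, by omega, hb1, by omega, rfl⟩
          · exact ⟨3, 0, 1, by omega, by omega, by omega, rfl⟩
        · exact ⟨6 - 2 * b, b, 0, by omega, le_rfl, by omega, by omega⟩
      obtain ⟨a', b', c', ha, hb, hc, h6⟩ := key
      have hsplit : P a b c = P a' b' c' * P (a - a') (b - b') (c - c') := by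
        simp only [P]
        conv_lhs => rw [← Nat.add_sub_cancel' ha, ← Nat.add_sub_cancel' hb, ← Nat.add_sub_cancel' hc]
        simp only [pow_add]; ring
      rw [hsplit, pow_succ']
      apply mul_le_mul'
      · have := hPle a' b' c'; rwa [h6] at this
      · exact ih _ _ _ (by omega)
  have hmain : ∀ M, ℛ (6 * M) ≤ ℛ 6 ^ M := by
    intro M r hr
    have := hproj r (6 * M)
    rw [DirectSum.decompose_of_mem_same ℛ hr] at this
    have hU : U (6 * M) ≤ ℛ 6 ^ M := by
      refine iSup_le fun t => iSup_le fun ht => ?_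
      exact hcomb M t.1 t.2.1 t.2.2 ht
    exact hU this
  have hpowmono : ∀ (A B : Submodule k R), A ≤ B → ∀ n : ℕ, A ^ n ≤ B ^ n := by
    intro A B hAB n
    induction n with
    | zero => simp
    | succ n ih => rw [pow_succ, pow_succ]; exact mul_le_mul' ih hAB
  apply le_antisymm
  · calc ℛ (m * (6 * e)) = ℛ (6 * (e * m)) := by congr 1; ring
      _ ≤ ℛ 6 ^ (e * m) := hmain _
      _ = (ℛ 6 ^ e) ^ m := pow_mul _ _ _
      _ ≤ ℛ (e * 6) ^ m := hpowmono _ _ (hpowle 6 e) m
      _ = ℛ (6 * e) ^ m := by rw [mul_comm]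
  · exact hpowle _ _

end Groth.Agent.S14053
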