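import Groth.Statements.S14363
-- import your own Groth.Agent.* helpers here

set_option autoImplicit false
universe u
open CAlg

namespace Groth.Agent.S14363

/-- Let A be a Noetherian ring and 0 → M' → M → M'' → 0 a short exact sequence of A-modules. If a prime
p of A is an associated prime of M'' and is not in the support of M', then p is an associated prime
of M. -/
theorem result (A : Type u) [CommRing A] [IsNoetherianRing A]
    (M' M M'' : Type u) [AddCommGroup M'] [Module A M'] [AddCommGroup M] [Module A M]
    [AddCommGroup M''] [Module A M'']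
    (f : M' →ₗ[A] M) (g : M →ₗ[A] M'') (hf : Function.Injective f) (hg : Function.Surjective g)
    (hfg : Function.Exact f g)
    (p : PrimeSpectrum A) (hp : p.asIdeal ∈ associatedPrimes A M'') (hsupp : p ∉ Module.support A M') :
    p.asIdeal ∈ associatedPrimes A M := by
  classical
  rw [AssociatedPrimes.mem_iff, isAssociatedPrime_iff] at hp ⊢
  obtain ⟨hprime, y, hy⟩ := hp
  obtain ⟨x, rfl⟩ := hg y
  rw [Module.notMem_support_iff'] at hsupp
  obtain ⟨S, hS⟩ := (IsNoetherian.noetherian p.asIdeal : p.asIdeal.FG)
  have hmem : ∀ a ∈ S, ∃ m : M', f m = a • x := by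
    intro a ha
    have ha' : a ∈ p.asIdeal := hS ▸ Submodule.subset_span ha
    rw [hy, Submodule.mem_colon_singleton, Submodule.mem_bot, ← map_smul] at ha'
    exact (hfg (a • x)).mp ha'
  choose! m hm using hmem
  have hs : ∀ a ∈ S, ∃ s ∉ p.asIdeal, s • m a = 0 := fun a _ => hsupp (m a)
  choose! s hs1 hs2 using hs
  set t := ∏ a ∈ S, s a with ht_def
  have ht : t ∉ p.asIdeal := by
    rw [ht_def]
    intro hmem'
    obtain ⟨a, ha, hap⟩ := (Ideal.IsPrime.prod_mem_iff (hp := hprime)).mp hmem'
    exact hs1 a ha hap
  refine ⟨hprime, t • x, ?_⟩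
  apply le_antisymm
  · rw [← hS, Ideal.span_le]
    intro a ha
    rw [SetLike.mem_coe, Submodule.mem_colon_singleton, Submodule.mem_bot, smul_comm, ← hm a ha,
      ← map_smul, ht_def, ← Finset.mul_prod_erase S s ha, mul_comm, mul_smul, hs2 a ha,
      smul_zero, map_zero]
  · intro r hr
    rw [Submodule.mem_colon_singleton, Submodule.mem_bot] at hr
    have h1 : (r * t) • g x = 0 := by
      rw [mul_smul, ← map_smul, ← map_smul, hr, map_zero]
    have h2 : r * t ∈ p.asIdeal := by
      rw [hy, Submodule.mem_colon_singleton, Submodule.mem_bot]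
      exact h1
    rcases hprime.mem_or_mem h2 with h3 | h3
    · exact h3
    · exact absurd h3 ht

end Groth.Agent.S14363
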