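import Groth.Statements.S14416
-- import your own Groth.Agent.* helpers here
import Mathlib.Tactic
import Mathlib.RingTheory.LocalRing.Module
import Mathlib.RingTheory.Support

set_option autoImplicit false
universe u
open scoped TensorProduct
open CAlg

namespace Groth.Agent.S14416

/-- Let B → A be a ring map with A a finitely generated B-module such that for every prime ideal p of B
the fibre κ(p) ⊗_B A has dimension at most one over the residue field κ(p). Then B → A is
surjective. In scheme language: a finite morphism whose degree at every point of the target is 0 or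
1 is a closed immersion. (The published statement assumes the two schemes Noetherian; that
hypothesis plays no role and is dropped here.) -/
theorem result
    (B A : Type u) [CommRing B] [CommRing A] [Algebra B A] [Module.Finite B A]
    (h : ∀ p : PrimeSpectrum B,
      Module.finrank p.asIdeal.ResidueField (p.asIdeal.ResidueField ⊗[B] A) ≤ 1) :
    Function.Surjective (algebraMap B A) := by
  classical
  set R := LinearMap.range (Algebra.linearMap B A) with hR
  suffices hQ : Subsingleton (A ⧸ R) by
    intro a
    have : (Submodule.Quotient.mk a : A ⧸ R) = 0 := Subsingleton.elim _ _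
    rw [Submodule.Quotient.mk_eq_zero] at this
    obtain ⟨b, hb⟩ := this
    exact ⟨b, hb⟩
  rw [← Module.support_eq_empty_iff (R := B), Set.eq_empty_iff_forall_notMem]
  intro p hp
  rw [Module.mem_support_iff_nontrivial_residueField_tensorProduct] at hp
  set K := p.asIdeal.ResidueField
  have hsurj : Function.Surjective (algebraMap K (K ⊗[B] A)) := by
    intro y
    by_cases hnt : Nontrivial (K ⊗[B] A)
    · have h1 : Module.finrank K (K ⊗[B] A) = 1 := le_antisymm (h p) Module.finrank_pos
      obtain ⟨c, hc⟩ := (finrank_eq_one_iff_of_nonzero' (1 : K ⊗[B] A) one_ne_zero).mp h1 y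
      exact ⟨c, by rw [Algebra.algebraMap_eq_smul_one]; exact hc⟩
    · rw [not_nontrivial_iff_subsingleton] at hnt
      exact ⟨0, Subsingleton.elim _ _⟩
  have hsub : Subsingleton (K ⊗[B] (A ⧸ R)) := by
    have hmk : Function.Surjective (LinearMap.lTensor K R.mkQ) :=
      LinearMap.lTensor_surjective K (Submodule.mkQ_surjective R)
    suffices hz : ∀ z : K ⊗[B] (A ⧸ R), z = 0 from ⟨fun x y => by rw [hz x, hz y]⟩
    intro z
    obtain ⟨w, rfl⟩ := hmk z
    obtain ⟨c, rfl⟩ := hsurj w
    have h1 : R.mkQ (1 : A) = 0 := by
      rw [Submodule.mkQ_apply, Submodule.Quotient.mk_eq_zero]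
      exact ⟨1, map_one (algebraMap B A)⟩
    rw [Algebra.TensorProduct.algebraMap_apply, LinearMap.lTensor_tmul, h1, TensorProduct.tmul_zero]
  exact (not_subsingleton_iff_nontrivial.mpr hp) hsub

end Groth.Agent.S14416
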