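import Groth.Statements.S14421
-- import your own Groth.Agent.* helpers here
import Mathlib.CategoryTheory.Abelian.Basic

set_option autoImplicit false
universe u v
open CategoryTheory
open HomAlg

namespace Groth.Agent.S14421

/-- Let φ : K → J be a morphism of cochain complexes of modules over a ring which is surjective in
degree p − 1. Then the map induced on cohomology in degree p is surjective if and only if the map
induced on cocycles in degree p is surjective. (Stated for cochain complexes indexed by the
integers; the published statement is for three-term complexes in degrees p − 1, p, p + 1, which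
embed as such complexes.) -/
theorem result {R : Type u} [Ring R]
    (K J : CochainComplex (ModuleCat.{v} R) ℤ) (φ : K ⟶ J) (p : ℤ) [Epi (φ.f (p - 1))] :
    Epi (HomologicalComplex.homologyMap φ p) ↔ Epi (HomologicalComplex.cyclesMap φ p) := by
  have hprev : (ComplexShape.up ℤ).prev p = p - 1 := CochainComplex.prev ℤ p
  have hnat : φ.f (p - 1) ≫ J.toCycles (p - 1) p = K.toCycles (p - 1) p ≫
      HomologicalComplex.cyclesMap φ p := by
    rw [← cancel_mono (J.iCycles p)]
    simp only [Category.assoc, HomologicalComplex.toCycles_i, HomologicalComplex.cyclesMap_i,
      HomologicalComplex.toCycles_i_assoc]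
    exact (φ.comm (p - 1) p)
  constructor
  · intro hh
    constructor
    intro W g g' hgg'
    rw [← sub_eq_zero]
    set e := g - g' with he
    have hce : HomologicalComplex.cyclesMap φ p ≫ e = 0 := by
      rw [he, Preadditive.comp_sub, hgg', sub_self]
    have h1 : J.toCycles (p - 1) p ≫ e = 0 := by
      rw [← cancel_epi (φ.f (p - 1)), ← Category.assoc, hnat, Category.assoc, hce,
        CategoryTheory.Limits.comp_zero, CategoryTheory.Limits.comp_zero]
    let hc := J.homologyIsCokernel (p - 1) p hprev
    obtain ⟨e', he'⟩ := CategoryTheory.Limits.CokernelCofork.IsColimit.desc' hc e h1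
    have h2 : K.homologyπ p ≫ HomologicalComplex.homologyMap φ p ≫ e' = 0 := by
      rw [← Category.assoc, HomologicalComplex.homologyπ_naturality, Category.assoc]
      simp only [CategoryTheory.Limits.CokernelCofork.π_ofπ] at he'
      rw [he', hce]
    have h3 : HomologicalComplex.homologyMap φ p ≫ e' = 0 := by
      rw [← cancel_epi (K.homologyπ p), h2, CategoryTheory.Limits.comp_zero]
    have h4 : e' = 0 := by
      rw [← cancel_epi (HomologicalComplex.homologyMap φ p), h3, CategoryTheory.Limits.comp_zero]
    simp only [CategoryTheory.Limits.CokernelCofork.π_ofπ] at he'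
    rw [← he', h4, CategoryTheory.Limits.comp_zero]
  · intro hc
    have : Epi (K.homologyπ p ≫ HomologicalComplex.homologyMap φ p) := by
      rw [HomologicalComplex.homologyπ_naturality]
      infer_instance
    exact epi_of_epi (K.homologyπ p) _

end Groth.Agent.S14421
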