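import Groth.Statements.S14457
-- import your own Groth.Agent.* helpers here
import Mathlib.Tactic
import Mathlib.Algebra.DualNumber
import Mathlib.RingTheory.Etale.StandardEtale
import Mathlib.FieldTheory.IsAlgClosed.AlgebraicClosure

set_option autoImplicit false
universe u
open CAlg

namespace Groth.Agent.S14457

open Polynomial in
/-- Let A be a commutative ring, a an element of A and n ≥ 1 an integer. The A-algebra A[T]/(T^n − a) is
etale exactly when either n = 1 or the product n·a is a unit of A. (The exponent n is a positive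
integer here; for n = 0 the quotient is (A/(1 − a))[T] and the equivalence fails.) -/
theorem result (A : Type u) [CommRing A] (a : A) (n : ℕ) (hn : 1 ≤ n) :
    Algebra.Etale A (AdjoinRoot ((X : A[X]) ^ n - C a)) ↔ n = 1 ∨ IsUnit ((n : A) * a) := by
  classical
  set f : A[X] := X ^ n - C a with hfdef
  have hn0 : n ≠ 0 := by omega
  have hmonic : f.Monic := Polynomial.monic_X_pow_sub_C a hn0
  have hder : derivative f = C (n : A) * X ^ (n - 1) := by
    simp [hfdef, Polynomial.derivative_X_pow]
  constructor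
  · intro hE
    by_contra hcon
    push Not at hcon
    obtain ⟨hn1, hnu⟩ := hcon
    have hn2 : 2 ≤ n := by omega
    obtain ⟨M, hM, hMa⟩ := Ideal.exists_le_maximal (Ideal.span {(n : A) * a})
      (by rwa [Ne, Ideal.span_singleton_eq_top])
    letI : Field (A ⧸ M) := Ideal.Quotient.field M
    let K := AlgebraicClosure (A ⧸ M)
    set aK : K := algebraMap A K a with haK
    obtain ⟨z, hz⟩ := IsAlgClosed.exists_pow_nat_eq aK (by omega : 0 < n)
    have hna : (n : K) * aK = 0 := by
      have hmem : (n : A) * a ∈ M := hMa (Ideal.subset_span rfl)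
      have h2 : algebraMap A K ((n : A) * a) = 0 := by
        rw [IsScalarTower.algebraMap_apply A (A ⧸ M) K, Ideal.Quotient.algebraMap_eq,
          Ideal.Quotient.eq_zero_iff_mem.mpr hmem, map_zero]
      simpa [aK] using h2
    have hdz : (n : K) * z ^ (n - 1) = 0 := by
      by_cases hz0 : z = 0
      · rw [hz0, zero_pow (by omega), mul_zero]
      · have : (n : K) * z ^ (n - 1) * z = 0 := by
          rw [mul_assoc, ← pow_succ, Nat.sub_add_cancel hn, hz, hna]
        exact (mul_eq_zero.mp this).resolve_right hz0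
    have hfz : aeval (TrivSqZeroExt.inl z : DualNumber K) f = 0 := by
      simp only [hfdef, map_sub, map_pow, aeval_X, aeval_C]
      rw [TrivSqZeroExt.inl_pow, hz, TrivSqZeroExt.algebraMap_eq_inl', sub_self]
    have hfz' : aeval (TrivSqZeroExt.inl z + DualNumber.eps : DualNumber K) f = 0 := by
      rw [Polynomial.aeval_add_of_sq_eq_zero _ _ _ DualNumber.eps_pow_two, hfz, zero_add, hder]
      simp only [map_mul, map_pow, aeval_X, aeval_C]
      rw [TrivSqZeroExt.inl_pow, TrivSqZeroExt.algebraMap_eq_inl', ← TrivSqZeroExt.inl_mul,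
        map_natCast, hdz, TrivSqZeroExt.inl_zero, zero_mul]
    have hfz2 : eval₂ (Algebra.ofId A (DualNumber K) : A →+* DualNumber K)
        (TrivSqZeroExt.inl z) f = 0 := by
      rw [Algebra.toRingHom_ofId, ← aeval_def]; exact hfz
    have hfz2' : eval₂ (Algebra.ofId A (DualNumber K) : A →+* DualNumber K)
        (TrivSqZeroExt.inl z + DualNumber.eps) f = 0 := by
      rw [Algebra.toRingHom_ofId, ← aeval_def]; exact hfz'
    let φ₁ : AdjoinRoot f →ₐ[A] DualNumber K :=
      AdjoinRoot.liftAlgHom f (Algebra.ofId A (DualNumber K)) _ hfz2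
    let φ₂ : AdjoinRoot f →ₐ[A] DualNumber K :=
      AdjoinRoot.liftAlgHom f (Algebra.ofId A (DualNumber K)) _ hfz2'
    let I : Ideal (DualNumber K) := Ideal.span {DualNumber.eps}
    have hI : I ^ 2 = ⊥ := by
      rw [Ideal.span_singleton_pow, DualNumber.eps_pow_two, Ideal.span_singleton_eq_bot]
    have hinj := Algebra.FormallyUnramified.comp_injective (R := A) (A := AdjoinRoot f) I hI
    have heq : φ₁ = φ₂ := by
      apply hinj
      apply AdjoinRoot.algHom_ext
      simp only [AlgHom.comp_apply, φ₁, φ₂, AdjoinRoot.liftAlgHom_root, Ideal.Quotient.mkₐ_eq_mk]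
      have hmemI : (DualNumber.eps : DualNumber K) ∈ I := Ideal.subset_span (Set.mem_singleton _)
      rw [map_add, Ideal.Quotient.eq_zero_iff_mem.mpr hmemI, add_zero]
    have h := congrArg (fun φ => φ (AdjoinRoot.root f)) heq
    simp only [φ₁, φ₂, AdjoinRoot.liftAlgHom_root] at h
    have h2 : (DualNumber.eps : DualNumber K) = 0 := by
      have := congrArg (fun x => x - TrivSqZeroExt.inl z) h
      simpa using this.symm
    have h3 := congrArg TrivSqZeroExt.snd h2
    simp at h3
  · intro h
    have hcond : ∃ p₁ p₂ : A[X], derivative f * p₁ + f * p₂ = 1 := by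
      rcases h with h1 | ⟨u, hu⟩
      · subst h1
        refine ⟨1, 0, ?_⟩
        simp [hfdef]
      · refine ⟨C (↑u⁻¹ : A) * X, -C ((n : A) * ↑u⁻¹), ?_⟩
        rw [hder, hfdef]
        have hX : (X : A[X]) ^ (n - 1) * X = X ^ n := by rw [← pow_succ, Nat.sub_add_cancel hn]
        have hua : (n : A) * a * ↑u⁻¹ = 1 := by rw [← hu, Units.mul_inv]
        calc C (n : A) * X ^ (n - 1) * (C ↑u⁻¹ * X) + (X ^ n - C a) * -C ((n : A) * ↑u⁻¹)
            = C ((n : A) * a * ↑u⁻¹) + C (n : A) * C ↑u⁻¹ * (X ^ (n - 1) * X)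
                - C (n : A) * C ↑u⁻¹ * X ^ n := by
              simp only [map_mul]; ring
          _ = 1 := by rw [hX, hua, map_one]; ring
    obtain ⟨p₁, p₂, hp⟩ := hcond
    let P : StandardEtalePair A := ⟨f, hmonic, 1, ⟨p₁, p₂, 0, by rw [pow_zero]; exact hp⟩⟩
    have hPmap : P.HasMap (AdjoinRoot.root f) :=
      ⟨by rw [AdjoinRoot.aeval_eq, AdjoinRoot.mk_self], by simp [P]⟩
    let φ : P.Ring →ₐ[A] AdjoinRoot f := P.lift (AdjoinRoot.root f) hPmap
    have hX2 : eval₂ (Algebra.ofId A P.Ring : A →+* P.Ring) P.X f = 0 := by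
      rw [Algebra.toRingHom_ofId, ← aeval_def]; exact P.hasMap_X.1
    let ψ : AdjoinRoot f →ₐ[A] P.Ring :=
      AdjoinRoot.liftAlgHom f (Algebra.ofId A P.Ring) P.X hX2
    let e : P.Ring ≃ₐ[A] AdjoinRoot f := AlgEquiv.ofAlgHom φ ψ
      (AdjoinRoot.algHom_ext (by simp [φ, ψ])) (P.hom_ext (by simp [φ, ψ]))
    exact Algebra.Etale.of_equiv e

end Groth.Agent.S14457
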