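import Groth.Statements.S14745
import Mathlib.Algebra.BigOperators.GroupWithZero.Action

set_option autoImplicit false
universe u v w
open CAlg

namespace Groth.Agent.S14745

theorem result (k : Type u) [Field k] [CharZero k]
    (A : Type v) [CommRing A] [Algebra k A] (Γ : Type w) [Group Γ] [Finite Γ]
    [MulSemiringAction Γ A] [SMulCommClass Γ k A]
    (S : Set A) (hS : ∀ f ∈ S, ∀ γ : Γ, γ • f = f) (a : A) (ha : ∀ γ : Γ, γ • a - a ∈ Ideal.span S) :
    ∃ b : A, (∀ γ : Γ, γ • b = b) ∧ a - b ∈ Ideal.span S := by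
  classical
  letI := Fintype.ofFinite Γ
  set n : k := (Fintype.card Γ : k) with hn_def
  have hn : n ≠ 0 := Nat.cast_ne_zero.mpr Fintype.card_ne_zero
  refine ⟨n⁻¹ • ∑ γ : Γ, γ • a, ?_, ?_⟩
  · intro γ
    rw [smul_comm γ n⁻¹, Finset.smul_sum]
    congr 1
    simp_rw [smul_smul]
    exact Fintype.sum_equiv (Equiv.mulLeft γ) _ _ (fun _ => rfl)
  · have key : a - n⁻¹ • ∑ γ : Γ, γ • a = n⁻¹ • ∑ γ : Γ, (a - γ • a) := by
      rw [Finset.sum_sub_distrib, smul_sub, Finset.sum_const, Finset.card_univ,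
        ← Nat.cast_smul_eq_nsmul k, smul_smul, inv_mul_cancel₀ hn, one_smul]
    rw [key, Algebra.smul_def]
    refine Ideal.mul_mem_left _ _ (Submodule.sum_mem _ fun γ _ => ?_)
    rw [← neg_sub]
    exact neg_mem (ha γ)

end Groth.Agent.S14745
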