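import Groth.Statements.S14807
import Mathlib.GroupTheory.OrderOfElement
import Mathlib.SetTheory.Cardinal.Finite
-- import your own Groth.Agent.* helpers here

set_option autoImplicit false
universe u
open CAlg

namespace Groth.Agent.S14807

/-- Let G be a finite abelian group, written additively, and ℓ a prime number. Every sequence (g_n)_{n ≥
0} of elements of G with ℓ^n · g_n = 0 and ℓ · g_{n+1} = g_n for all n is identically zero; in other
words the inverse limit of the subgroups of ℓ^n-torsion elements, with transition maps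
multiplication by ℓ, vanishes. -/
theorem result (G : Type u) [AddCommGroup G] [Finite G]
    (ℓ : ℕ) (hℓ : ℓ.Prime) (g : ℕ → G) (htor : ∀ n : ℕ, ℓ ^ n • g n = 0)
    (hcomp : ∀ n : ℕ, ℓ • g (n + 1) = g n) (n : ℕ) : g n = 0 := by
  have key : ∀ m, g n = ℓ ^ m • g (n + m) := by
    intro m
    induction m with
    | zero => simp
    | succ m ih =>
      rw [ih, ← hcomp (n + m), smul_smul, ← pow_succ]
      rfl
  set N := Nat.card G
  have hdvd : addOrderOf (g (n + N)) ∣ ℓ ^ (n + N) := addOrderOf_dvd_of_nsmul_eq_zero (htor _)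
  obtain ⟨j, hj, hj'⟩ := (Nat.dvd_prime_pow hℓ).1 hdvd
  have hle : addOrderOf (g (n + N)) ≤ N := Nat.le_of_dvd Nat.card_pos (addOrderOf_dvd_natCard _)
  have hjN : j ≤ N := by
    have h1 : j < ℓ ^ j := Nat.lt_pow_self hℓ.one_lt
    rw [hj'] at hle
    exact (lt_of_lt_of_le h1 hle).le
  rw [key N]
  apply addOrderOf_dvd_iff_nsmul_eq_zero.1
  rw [hj']
  exact Nat.pow_dvd_pow ℓ hjN

end Groth.Agent.S14807
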