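import Groth.Statements.S14879
import Mathlib.GroupTheory.Perm.Sign
import Mathlib.Tactic.Ring
-- import your own Groth.Agent.* helpers here

set_option autoImplicit false
universe u
open Finset
open AlgGrp

namespace Groth.Agent.S14879

theorem sign_eq_signAux' {n : ℕ} (f : Equiv.Perm (Fin n)) :
    Equiv.Perm.sign f = Equiv.Perm.signAux f := by
  refine Equiv.Perm.swap_induction_on f ?_ ?_
  · rw [map_one, Equiv.Perm.signAux_one]
  · intro f x y hxy ih
    rw [Equiv.Perm.sign_mul, Equiv.Perm.signAux_mul, Equiv.Perm.sign_swap hxy,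
      Equiv.Perm.signAux_swap hxy, ih]

theorem sign_eq_pow_inv {n : ℕ} (f : Equiv.Perm (Fin n)) :
    Equiv.Perm.sign f = (-1) ^ ((Equiv.Perm.finPairsLT n).filter (fun x => f x.1 ≤ f x.2)).card := by
  rw [sign_eq_signAux', Equiv.Perm.signAux, Finset.prod_ite, Finset.prod_const, Finset.prod_const_one,
    mul_one]

/-- Let k be a field of characteristic zero, n = p + r with p, r ≥ 1, M an n × n matrix over k, A a set
of p row indices and B a set of r row indices, both listed increasingly. For a permutation π of the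
indices, with permutation matrix P_π, let Y_A(M·P_π) be the minor of M·P_π on the rows A and the
first p columns, and Z_B(M·P_π) the minor on the rows B and the last r columns. Then the sum over
all π of sign(π)·Y_A(M·P_π)·Z_B(M·P_π) equals p!·r!·(−1)^N·det M when B is the complement of A,
where N is the number of pairs (a, b) with a in A, b outside A and b < a, and equals 0 otherwise.
Taking det M = 1 this says that the pairing (f, h) ↦ Σ_π sign(π) f(π) h(π) between the spans of the
left p-minors and of the right r-minors is invariant under left translation by matrices of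
determinant one and pairs Y_A with the signed complementary minor to p!·r!. (The published statement
asserts that the two families of minors are dual bases for this pairing, that is, the value 1 in
place of p!·r!; the p!·r! permutations preserving the two column blocks each contribute the same
signed term, so this row carries that factor, which is 1 only for n = 2.) -/
theorem result (k : Type u) [Field k] [CharZero k]
    (p r : ℕ) (hp : 1 ≤ p) (hr : 1 ≤ r) (M : Matrix (Fin (p + r)) (Fin (p + r)) k)
    (A : Finset (Fin (p + r))) (hA : A.card = p) (B : Finset (Fin (p + r))) (hB : B.card = r) :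
    ∑ π : Equiv.Perm (Fin (p + r)), (((Equiv.Perm.sign π : ℤˣ) : ℤ) : k) *
      ((M * π.permMatrix k).submatrix (A.orderEmbOfFin hA) (Fin.castAdd r)).det *
      ((M * π.permMatrix k).submatrix (B.orderEmbOfFin hB) (Fin.natAdd p)).det =
    if B = Aᶜ then ((p.factorial * r.factorial : ℕ) : k) *
      (-1 : k) ^ ((A ×ˢ Aᶜ).filter (fun ab => ab.2 < ab.1)).card * M.det else 0 := by
  classical
  set a := A.orderEmbOfFin hA with ha_def
  set b := B.orderEmbOfFin hB with hb_def
  have hentry : ∀ π : Equiv.Perm (Fin (p + r)), M * π.permMatrix k = M.submatrix id π.symm :=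
    fun π => PEquiv.mul_toMatrix_toPEquiv M π
  let G : Equiv.Perm (Fin p) → Equiv.Perm (Fin r) → Fin (p + r) → Fin (p + r) :=
    fun ρ ρ' => Fin.append (fun i => a (ρ i)) (fun j => b (ρ' j))
  have hdetA : ∀ π : Equiv.Perm (Fin (p + r)),
      ((M * π.permMatrix k).submatrix a (Fin.castAdd r)).det =
        ∑ ρ : Equiv.Perm (Fin p), ((Equiv.Perm.sign ρ : ℤ) : k) *
          ∏ i : Fin p, M (a (ρ i)) (π.symm (Fin.castAdd r i)) := by
    intro π
    rw [hentry, Matrix.submatrix_submatrix, Matrix.det_apply]
    refine Finset.sum_congr rfl (fun ρ _ => ?_)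
    rw [Units.smul_def, zsmul_eq_mul]
    rfl
  have hdetB : ∀ π : Equiv.Perm (Fin (p + r)),
      ((M * π.permMatrix k).submatrix b (Fin.natAdd p)).det =
        ∑ ρ' : Equiv.Perm (Fin r), ((Equiv.Perm.sign ρ' : ℤ) : k) *
          ∏ j : Fin r, M (b (ρ' j)) (π.symm (Fin.natAdd p j)) := by
    intro π
    rw [hentry, Matrix.submatrix_submatrix, Matrix.det_apply]
    refine Finset.sum_congr rfl (fun ρ _ => ?_)
    rw [Units.smul_def, zsmul_eq_mul]
    rfl
  have hprod : ∀ (π : Equiv.Perm (Fin (p + r))) (ρ : Equiv.Perm (Fin p)) (ρ' : Equiv.Perm (Fin r)),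
      (∏ i : Fin p, M (a (ρ i)) (π.symm (Fin.castAdd r i))) *
        (∏ j : Fin r, M (b (ρ' j)) (π.symm (Fin.natAdd p j))) =
        ∏ x : Fin (p + r), M (G ρ ρ' x) (π.symm x) := by
    intro π ρ ρ'
    rw [Fin.prod_univ_add]
    simp only [G, Fin.append_left, Fin.append_right]
  have hE3 : ∀ g : Fin (p + r) → Fin (p + r),
      ∑ π : Equiv.Perm (Fin (p + r)), ((Equiv.Perm.sign π : ℤ) : k) * ∏ x, M (g x) (π.symm x) =
        (M.submatrix g id).det := by
    intro g
    rw [← Matrix.det_transpose, Matrix.det_apply]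
    conv_rhs => rw [← Equiv.sum_comp (Equiv.inv (Equiv.Perm (Fin (p + r))))]
    refine Finset.sum_congr rfl (fun π _ => ?_)
    simp only [Equiv.inv_apply, Equiv.Perm.sign_inv, Units.smul_def, zsmul_eq_mul]
    rfl
  have hterm : ∀ π : Equiv.Perm (Fin (p + r)), ((Equiv.Perm.sign π : ℤ) : k) *
      ((M * π.permMatrix k).submatrix a (Fin.castAdd r)).det *
      ((M * π.permMatrix k).submatrix b (Fin.natAdd p)).det =
        ∑ ρ : Equiv.Perm (Fin p), ∑ ρ' : Equiv.Perm (Fin r),
          ((Equiv.Perm.sign ρ : ℤ) : k) * ((Equiv.Perm.sign ρ' : ℤ) : k) *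
            (((Equiv.Perm.sign π : ℤ) : k) * ∏ x, M (G ρ ρ' x) (π.symm x)) := by
    intro π
    rw [hdetA, hdetB, mul_assoc, Finset.sum_mul_sum, Finset.mul_sum]
    refine Finset.sum_congr rfl (fun ρ _ => ?_)
    rw [Finset.mul_sum]
    refine Finset.sum_congr rfl (fun ρ' _ => ?_)
    rw [← hprod]; ring
  have hmain : (∑ π : Equiv.Perm (Fin (p + r)), (((Equiv.Perm.sign π : ℤˣ) : ℤ) : k) *
      ((M * π.permMatrix k).submatrix (A.orderEmbOfFin hA) (Fin.castAdd r)).det *
      ((M * π.permMatrix k).submatrix (B.orderEmbOfFin hB) (Fin.natAdd p)).det) =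
        ∑ ρ : Equiv.Perm (Fin p), ∑ ρ' : Equiv.Perm (Fin r),
          ((Equiv.Perm.sign ρ : ℤ) : k) * ((Equiv.Perm.sign ρ' : ℤ) : k) *
            (M.submatrix (G ρ ρ') id).det := by
    rw [Finset.sum_congr rfl (fun π _ => hterm π)]
    rw [Finset.sum_comm]
    refine Finset.sum_congr rfl (fun ρ _ => ?_)
    rw [Finset.sum_comm]
    refine Finset.sum_congr rfl (fun ρ' _ => ?_)
    rw [← Finset.mul_sum, hE3]
  rw [hmain]
  have hsq : ∀ u : ℤˣ, ((u : ℤ) : k) * ((u : ℤ) : k) = 1 := fun u => by
    rw [← Int.cast_mul, ← Units.val_mul, Int.units_mul_self, Units.val_one, Int.cast_one]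
  split_ifs with hBA
  · subst hBA
    have hinjG : Function.Injective (Fin.append (fun i => a i) (fun j => b j)) := by
      intro x y
      refine Fin.addCases (fun i => ?_) (fun j => ?_) x <;>
        refine Fin.addCases (fun i' => ?_) (fun j' => ?_) y <;>
        intro hxy <;>
        simp only [Fin.append_left, Fin.append_right] at hxy
      · rw [a.injective hxy]
      · exfalso
        have h1 : a i ∈ A := Finset.orderEmbOfFin_mem A hA i
        have h2 : b j' ∈ Aᶜ := Finset.orderEmbOfFin_mem Aᶜ hB j'
        rw [hxy] at h1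
        exact (Finset.mem_compl.mp h2) h1
      · exfalso
        have h1 : a i' ∈ A := Finset.orderEmbOfFin_mem A hA i'
        have h2 : b j ∈ Aᶜ := Finset.orderEmbOfFin_mem Aᶜ hB j
        rw [← hxy] at h1
        exact (Finset.mem_compl.mp h2) h1
      · rw [b.injective hxy]
    let e0 : Equiv.Perm (Fin (p + r)) := Equiv.ofBijective _ hinjG.bijective_of_finite
    have he0 : ∀ x, e0 x = Fin.append (fun i => a i) (fun j => b j) x := fun x => rfl
    have he0L : ∀ i, e0 (Fin.castAdd r i) = a i := fun i => by rw [he0, Fin.append_left]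
    have he0R : ∀ j, e0 (Fin.natAdd p j) = b j := fun j => by rw [he0, Fin.append_right]
    have hG : ∀ ρ ρ', G ρ ρ' = ⇑(e0 * finSumFinEquiv.permCongr (Equiv.sumCongr ρ ρ')) := by
      intro ρ ρ'
      funext x
      refine Fin.addCases (fun i => ?_) (fun j => ?_) x
      · simp only [G, Fin.append_left, Equiv.Perm.coe_mul, Function.comp_apply,
          Equiv.permCongr_apply, finSumFinEquiv_symm_apply_castAdd, Equiv.sumCongr_apply,
          Sum.map_inl, finSumFinEquiv_apply_left, he0L]
      · simp only [G, Fin.append_right, Equiv.Perm.coe_mul, Function.comp_apply,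
          Equiv.permCongr_apply, finSumFinEquiv_symm_apply_natAdd, Equiv.sumCongr_apply,
          Sum.map_inr, finSumFinEquiv_apply_right, he0R]
    have hterm2 : ∀ ρ ρ', ((Equiv.Perm.sign ρ : ℤ) : k) * ((Equiv.Perm.sign ρ' : ℤ) : k) *
        (M.submatrix (G ρ ρ') id).det = ((Equiv.Perm.sign e0 : ℤ) : k) * M.det := by
      intro ρ ρ'
      rw [hG, Matrix.det_permute, Equiv.Perm.sign_mul, Equiv.Perm.sign_permCongr,
        Equiv.Perm.sign_sumCongr]
      have h1 := hsq (Equiv.Perm.sign ρ)
      have h2 := hsq (Equiv.Perm.sign ρ')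
      push_cast
      set s1 := ((Equiv.Perm.sign ρ : ℤ) : k)
      set s2 := ((Equiv.Perm.sign ρ' : ℤ) : k)
      set s0 := ((Equiv.Perm.sign e0 : ℤ) : k)
      linear_combination (s0 * M.det * s2 * s2) * h1 + (s0 * M.det) * h2
    have hcard : ((Equiv.Perm.finPairsLT (p + r)).filter (fun x => e0 x.1 ≤ e0 x.2)).card =
        ((A ×ˢ Aᶜ).filter (fun ab => ab.2 < ab.1)).card := by
      apply Finset.card_nbij' (fun x => (e0 x.2, e0 x.1)) (fun ab => ⟨e0.symm ab.2, e0.symm ab.1⟩)
      · rintro ⟨i₁, j₁⟩ hx
        rw [Finset.mem_coe, Finset.mem_filter, Equiv.Perm.mem_finPairsLT] at hx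
        rw [Finset.mem_coe, Finset.mem_filter, Finset.mem_product]
        revert hx
        refine Fin.addCases (fun β' => ?_) (fun γ' => ?_) i₁ <;>
          refine Fin.addCases (fun β => ?_) (fun γ => ?_) j₁ <;>
          intro hx <;> simp only [he0L, he0R] at hx ⊢
        · exfalso
          have h1 : β < β' := by
            have := hx.1; rw [Fin.lt_def, Fin.val_castAdd, Fin.val_castAdd] at this
            exact Fin.lt_def.mpr this
          exact absurd hx.2 (not_le.mpr (a.strictMono h1))
        · exfalso
          have := hx.1; rw [Fin.lt_def, Fin.val_castAdd, Fin.val_natAdd] at this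
          have := β'.isLt; omega
        · have h1 : a β ∈ A := Finset.orderEmbOfFin_mem A hA β
          have h2 : b γ' ∈ Aᶜ := Finset.orderEmbOfFin_mem Aᶜ hB γ'
          refine ⟨⟨h1, h2⟩, lt_of_le_of_ne hx.2 ?_⟩
          intro h; rw [h] at h2; exact (Finset.mem_compl.mp h2) h1
        · exfalso
          have h1 : γ < γ' := by
            have := hx.1; rw [Fin.lt_def, Fin.val_natAdd, Fin.val_natAdd] at this
            exact Fin.lt_def.mpr (by omega)
          exact absurd hx.2 (not_le.mpr (b.strictMono h1))
      · rintro ⟨x, y⟩ hxy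
        rw [Finset.mem_coe, Finset.mem_filter, Finset.mem_product] at hxy
        obtain ⟨⟨hxA, hyA⟩, hlt⟩ := hxy
        rw [Finset.mem_coe, Finset.mem_filter, Equiv.Perm.mem_finPairsLT]
        obtain ⟨α, hα⟩ : ∃ α, a α = x := by
          have : x ∈ Set.range a := by rw [ha_def, Finset.range_orderEmbOfFin]; exact hxA
          exact this
        obtain ⟨γ, hγ⟩ : ∃ γ, b γ = y := by
          have : y ∈ Set.range b := by rw [hb_def, Finset.range_orderEmbOfFin]; exact hyA
          exact this
        have e1 : e0.symm x = Fin.castAdd r α := by rw [Equiv.symm_apply_eq, he0L, hα]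
        have e2 : e0.symm y = Fin.natAdd p γ := by rw [Equiv.symm_apply_eq, he0R, hγ]
        refine ⟨?_, ?_⟩
        · show e0.symm x < e0.symm y
          rw [e1, e2, Fin.lt_def, Fin.val_castAdd, Fin.val_natAdd]
          have := α.isLt; omega
        · show e0 (e0.symm y) ≤ e0 (e0.symm x)
          rw [Equiv.apply_symm_apply, Equiv.apply_symm_apply]
          exact hlt.le
      · rintro ⟨i₁, j₁⟩ _
        simp only [Equiv.symm_apply_apply]
      · rintro ⟨x, y⟩ _
        simp only [Equiv.apply_symm_apply]
    have hsign : ((Equiv.Perm.sign e0 : ℤ) : k) =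
        (-1 : k) ^ ((A ×ˢ Aᶜ).filter (fun ab => ab.2 < ab.1)).card := by
      rw [sign_eq_pow_inv, hcard]
      push_cast
      rfl
    rw [Finset.sum_congr rfl (fun ρ _ => Finset.sum_congr rfl (fun ρ' _ => hterm2 ρ ρ'))]
    simp only [Finset.sum_const, Finset.card_univ, Fintype.card_perm, Fintype.card_fin,
      nsmul_eq_mul, hsign]
    push_cast
    ring
  · apply Finset.sum_eq_zero
    intro ρ _
    apply Finset.sum_eq_zero
    intro ρ' _
    obtain ⟨x, hxA, hxB⟩ : ∃ x, x ∈ A ∧ x ∈ B := by
      by_contra hcon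
      push Not at hcon
      apply hBA
      apply Finset.eq_of_subset_of_card_le
      · intro y hy
        rw [Finset.mem_compl]
        exact fun hyA => hcon y hyA hy
      · rw [Finset.card_compl, hA, hB, Fintype.card_fin]
        omega
    obtain ⟨α, hα⟩ : ∃ α, a α = x := by
      have : x ∈ Set.range a := by rw [ha_def, Finset.range_orderEmbOfFin]; exact hxA
      exact this
    obtain ⟨γ, hγ⟩ : ∃ γ, b γ = x := by
      have : x ∈ Set.range b := by rw [hb_def, Finset.range_orderEmbOfFin]; exact hxB
      exact this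
    rw [Matrix.det_zero_of_row_eq (i := Fin.castAdd r (ρ.symm α)) (j := Fin.natAdd p (ρ'.symm γ)),
      mul_zero]
    · intro h
      have := congrArg Fin.val h
      simp only [Fin.val_castAdd, Fin.val_natAdd] at this
      have := (ρ.symm α).isLt
      omega
    · funext col
      simp only [Matrix.submatrix_apply, id, G, Fin.append_left, Fin.append_right,
        Equiv.apply_symm_apply, hα, hγ]

end Groth.Agent.S14879
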