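import Groth.Statements.S14955
import Mathlib.RingTheory.IsTensorProduct
-- import your own Groth.Agent.* helpers here

set_option autoImplicit false
universe u
open TensorProduct
open EtAlg

namespace Groth.Agent.S14955

/-- Let B' = B ×_A A' be a fibre product of commutative rings with A' → A surjective. Then the square is
also a pushout of commutative rings: the canonical map B ⊗_{B'} A' → A is an isomorphism. -/
theorem result (B' B A' A : Type u) [CommRing B'] [CommRing B] [CommRing A'] [CommRing A]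
    [Algebra B' B] [Algebra B' A'] [Algebra B A] [Algebra A' A] [Algebra B' A] [IsScalarTower B' B A] [IsScalarTower B' A' A]
    (hsq : EtMil.IsFibreSquare B' B A' A) : Algebra.IsPushout B' B A' A := by
  obtain ⟨hsurj, huniq⟩ := hsq
  have hBsurj : Function.Surjective (algebraMap B' B) := by
    intro b
    obtain ⟨a', ha'⟩ := hsurj (algebraMap B A b)
    obtain ⟨b', ⟨hb1, -⟩, -⟩ := huniq b a' ha'.symm
    exact ⟨b', hb1⟩
  let φ : B ⊗[B'] A' →ₐ[B] A := Algebra.TensorProduct.lift (Algebra.ofId B A)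
    (IsScalarTower.toAlgHom B' A' A) (fun _ _ => Commute.all _ _)
  have hφ : ∀ b a', φ (b ⊗ₜ a') = algebraMap B A b * algebraMap A' A a' := fun b a' => by
    simp [φ, Algebra.TensorProduct.lift_tmul]
  have hone : ∀ x : B ⊗[B'] A', ∃ a' : A', x = 1 ⊗ₜ a' := by
    intro x
    induction x using TensorProduct.induction_on with
    | zero => exact ⟨0, by simp⟩
    | tmul b a' =>
      obtain ⟨b', rfl⟩ := hBsurj b
      refine ⟨b' • a', ?_⟩
      rw [Algebra.algebraMap_eq_smul_one, TensorProduct.smul_tmul]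
    | add x y hx hy =>
      obtain ⟨a1, rfl⟩ := hx
      obtain ⟨a2, rfl⟩ := hy
      exact ⟨a1 + a2, by rw [TensorProduct.tmul_add]⟩
  have hinj : Function.Injective φ := by
    rw [injective_iff_map_eq_zero]
    intro x hx
    obtain ⟨a', rfl⟩ := hone x
    rw [hφ, map_one, one_mul] at hx
    obtain ⟨b', ⟨hb1, hb2⟩, -⟩ := huniq 0 a' (by rw [map_zero, hx])
    rw [← hb2, Algebra.algebraMap_eq_smul_one b', ← TensorProduct.smul_tmul,
      ← Algebra.algebraMap_eq_smul_one, hb1, TensorProduct.zero_tmul]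
  have hsurjφ : Function.Surjective φ := by
    intro a
    obtain ⟨a', rfl⟩ := hsurj a
    exact ⟨1 ⊗ₜ a', by rw [hφ, map_one, one_mul]⟩
  refine ⟨IsBaseChange.of_equiv (LinearEquiv.ofBijective φ.toLinearMap ⟨hinj, hsurjφ⟩) ?_⟩
  intro x
  show φ (1 ⊗ₜ x) = _
  rw [hφ, map_one, one_mul]
  rfl

end Groth.Agent.S14955
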