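import Groth.Statements.S14964
-- import your own Groth.Agent.* helpers here

set_option autoImplicit false
universe u v w
open EtAlg

namespace Groth.Agent.S14964

/-- Let f : A → A' be a homomorphism of commutative rings, M an A-module and M' an A'-module together
with an A-linear map u : M → M' whose image generates M' over A' (so M' is a quotient of A' ⊗_A M).
Let I be an ideal of A such that the ideal of A' generated by f(I) consists of the elements f(i), i
∈ I. Then f(I) M' = u(I M) as subsets of M'; in particular u(I M) is an A'-submodule. -/
theorem result (A : Type u) [CommRing A] (A' : Type v) [CommRing A'] [Algebra A A']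
    (M : Type w) [AddCommGroup M] [Module A M] (M' : Type w) [AddCommGroup M'] [Module A' M'] [Module A M'] [IsScalarTower A A' M']
    (u : M →ₗ[A] M') (hu : Submodule.span A' (Set.range u) = ⊤)
    (I : Ideal A) (hI : ∀ a ∈ Ideal.map (algebraMap A A') I, ∃ i ∈ I, algebraMap A A' i = a) :
    ((Ideal.map (algebraMap A A') I) • (⊤ : Submodule A' M')).restrictScalars A = Submodule.map u (I • (⊤ : Submodule A M)) := by
  apply le_antisymm
  · intro x hx
    rw [Submodule.restrictScalars_mem] at hx
    have key : ∀ n ∈ Submodule.span A' (Set.range u), ∀ a ∈ Ideal.map (algebraMap A A') I,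
        a • n ∈ Submodule.map u (I • (⊤ : Submodule A M)) := by
      intro n hn
      induction hn using Submodule.span_induction with
      | mem n hn =>
        obtain ⟨m, rfl⟩ := hn
        intro a ha
        obtain ⟨i, hi, rfl⟩ := hI a ha
        refine ⟨i • m, Submodule.smul_mem_smul hi Submodule.mem_top, ?_⟩
        rw [map_smul, algebraMap_smul]
      | zero => intro a _; rw [smul_zero]; exact Submodule.zero_mem _
      | add n₁ n₂ _ _ h₁ h₂ =>
        intro a ha
        rw [smul_add]
        exact Submodule.add_mem _ (h₁ a ha) (h₂ a ha)
      | smul b n _ h =>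
        intro a ha
        rw [smul_smul]
        exact h (a * b) (Ideal.mul_mem_right _ _ ha)
    refine Submodule.smul_induction_on (p := fun x => x ∈ Submodule.map u (I • (⊤ : Submodule A M))) hx ?_ ?_
    · intro a ha n _
      exact key n (by rw [hu]; exact Submodule.mem_top) a ha
    · intro x y hx hy
      exact Submodule.add_mem _ hx hy
  · rintro _ ⟨y, hy, rfl⟩
    rw [Submodule.restrictScalars_mem]
    refine Submodule.smul_induction_on
      (p := fun y => u y ∈ (Ideal.map (algebraMap A A') I) • (⊤ : Submodule A' M')) hy ?_ ?_
    · intro i hi m _
      show u (i • m) ∈ _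
      have e : u (i • m) = (algebraMap A A' i) • u m := by rw [map_smul, algebraMap_smul]
      rw [e]
      exact Submodule.smul_mem_smul (Ideal.mem_map_of_mem _ hi) Submodule.mem_top
    · intro x y hx hy
      show u (x + y) ∈ _
      rw [map_add]
      exact Submodule.add_mem _ hx hy

end Groth.Agent.S14964
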