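import Groth.Statements.S14966
-- import your own Groth.Agent.* helpers here

set_option autoImplicit false
universe u
open EtAlg

namespace Groth.Agent.S14966

/-- Let A → A' be an injective homomorphism of commutative rings and let I ⊆ A be the conductor, i.e.
the annihilator of the A-module A'/A. Then the conductor square formed by A → A/I, A → A', A/I →
A'/IA' and A' → A'/IA' is a fibre product square of rings with A' → A'/IA' surjective: A = A/I
×_{A'/IA'} A'. (The published Lemma is for the conductor square of a finite modification of schemes;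
this row is the underlying statement for one injective ring map, which needs no finiteness.) -/
theorem result (A A' : Type u) [CommRing A] [CommRing A'] [Algebra A A']
    (hinj : Function.Injective (algebraMap A A')) :
    EtMil.IsFibreSquare A (A ⧸ Module.annihilator A (A' ⧸ LinearMap.range (Algebra.linearMap A A'))) A'
      (A' ⧸ Ideal.map (algebraMap A A') (Module.annihilator A (A' ⧸ LinearMap.range (Algebra.linearMap A A')))) := by
  classical
  set f := algebraMap A A' with hf
  set c := Module.annihilator A (A' ⧸ LinearMap.range (Algebra.linearMap A A')) with hc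
  have memc : ∀ w : A, w ∈ c ↔ ∀ a'' : A', ∃ a : A, f a = f w * a'' := by
    intro w
    rw [hc, Module.mem_annihilator]
    constructor
    · intro h a''
      have h1 := h (Submodule.Quotient.mk a'')
      rw [← Submodule.Quotient.mk_smul, Submodule.Quotient.mk_eq_zero] at h1
      obtain ⟨a, ha⟩ := h1
      exact ⟨a, by rw [Algebra.linearMap_apply] at ha; rw [ha, Algebra.smul_def]⟩
    · intro h m
      induction m using Submodule.Quotient.induction_on with
      | H a'' =>
        rw [← Submodule.Quotient.mk_smul, Submodule.Quotient.mk_eq_zero]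
        obtain ⟨a, ha⟩ := h a''
        exact ⟨a, by rw [Algebra.linearMap_apply, ha, Algebra.smul_def]⟩
  have key : ∀ z ∈ c.map f, ∃ w ∈ c, f w = z := by
    intro z hz
    induction hz using Submodule.span_induction with
    | mem z hz =>
      obtain ⟨w, hw, rfl⟩ := hz
      exact ⟨w, hw, rfl⟩
    | zero => exact ⟨0, c.zero_mem, map_zero f⟩
    | add x y _ _ hx hy =>
      obtain ⟨w1, hw1, rfl⟩ := hx
      obtain ⟨w2, hw2, rfl⟩ := hy
      exact ⟨w1 + w2, c.add_mem hw1 hw2, map_add f _ _⟩
    | smul a' z _ hz =>
      obtain ⟨w, hw, rfl⟩ := hz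
      obtain ⟨w'', hw''⟩ := (memc w).mp hw a'
      refine ⟨w'', (memc w'').mpr fun a'' => ?_, ?_⟩
      · obtain ⟨a, ha⟩ := (memc w).mp hw (a' * a'')
        exact ⟨a, by rw [ha, hw'', mul_assoc]⟩
      · rw [hw'', smul_eq_mul, mul_comm]
  refine ⟨fun z => ?_, ?_⟩
  · obtain ⟨w, rfl⟩ := Ideal.Quotient.mk_surjective z
    exact ⟨w, rfl⟩
  intro b a' hba
  obtain ⟨x, rfl⟩ := Ideal.Quotient.mk_surjective b
  rw [Ideal.Quotient.algebraMap_quotient_map_quotient] at hba
  have hba' : Ideal.Quotient.mk (c.map f) (f x) = Ideal.Quotient.mk (c.map f) a' := hba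
  rw [Ideal.Quotient.eq] at hba'
  obtain ⟨w, hw, hfw⟩ := key _ hba'
  refine ⟨x - w, ⟨?_, ?_⟩, ?_⟩
  · rw [Ideal.Quotient.algebraMap_eq, Ideal.Quotient.eq]
    simpa using hw
  · rw [map_sub, hfw, sub_sub_cancel]
  · rintro y ⟨-, hy⟩
    apply hinj
    rw [hy, map_sub, hfw, sub_sub_cancel]

end Groth.Agent.S14966
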