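import Groth.Statements.S15004
-- import your own Groth.Agent.* helpers here

set_option autoImplicit false
universe u v
open Harb

namespace Groth.Agent.S15004

/-- Let C be a finite family of d curves, recorded as an incidence relation between a type of points and
a finite index type, such that any two distinct curves of the family meet in exactly h points; for a
point p write r_p for the number of curves of the family through p. Then for every curve C_i of the
family, Σ_{p ∈ C_i} (r_p − 1) = h (d − 1), the sum being finitely supported. (The published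
statement is for a transversal arrangement of curves on a geometrically ruled surface with invariant
e, all numerically equivalent to a C₀ + b f, where any two of the curves meet transversally in h =
2ab − a²e points; only this common pairwise intersection count enters the proof, and this row states
the identity for an abstract incidence relation.) -/
theorem result (P : Type u) (ι : Type v) [Fintype ι]
    (inc : P → ι → Prop) (h : ℕ)
    (hfin : ∀ i j : ι, i ≠ j → {p : P | inc p i ∧ inc p j}.Finite)
    (hcount : ∀ i j : ι, i ≠ j → {p : P | inc p i ∧ inc p j}.ncard = h) (i : ι) :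
    ∑ᶠ p ∈ {p : P | inc p i}, (Nat.card {j : ι // inc p j} - 1) = h * (Fintype.card ι - 1) := by
  classical
  let f : P → ℕ := fun p => Nat.card {j : ι // inc p j} - 1
  let T : Set P := ⋃ j ∈ ({j | j ≠ i} : Set ι), {p | inc p i ∧ inc p j}
  have hT : T.Finite := Set.Finite.biUnion (Set.toFinite _) (fun j hj => hfin i j (Ne.symm hj))
  have hcardf : ∀ p, inc p i → f p = (Finset.univ.filter (fun j => j ≠ i ∧ inc p j)).card := by
    intro p hp
    simp only [f]
    rw [Nat.card_eq_fintype_card, Fintype.card_subtype]
    have : Finset.univ.filter (fun j => inc p j)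
        = insert i (Finset.univ.filter (fun j => j ≠ i ∧ inc p j)) := by
      ext j; by_cases hj : j = i <;> simp [hj, hp]
    rw [this, Finset.card_insert_of_notMem (by simp)]
    rfl
  have hTi : ∀ p ∈ T, inc p i := by
    intro p hp
    obtain ⟨j, _, hj⟩ := Set.mem_iUnion₂.mp hp
    exact hj.1
  have hsupp : {p : P | inc p i} ∩ Function.support f = ↑hT.toFinset ∩ Function.support f := by
    ext p
    simp only [Set.mem_inter_iff, Function.mem_support, Set.Finite.coe_toFinset, Set.mem_ofPred_eq]
    constructor
    · rintro ⟨hp, hf⟩
      refine ⟨?_, hf⟩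
      rw [hcardf p hp] at hf
      obtain ⟨j, hj⟩ := Finset.card_pos.mp (Nat.pos_of_ne_zero hf)
      simp only [Finset.mem_filter, Finset.mem_univ, true_and] at hj
      exact Set.mem_biUnion (x := j) hj.1 ⟨hp, hj.2⟩
    · rintro ⟨hT', hf⟩
      exact ⟨hTi p hT', hf⟩
  show ∑ᶠ p ∈ {p : P | inc p i}, f p = _
  rw [finsum_mem_eq_sum_of_inter_support_eq f hsupp]
  rw [Finset.sum_congr rfl (fun p hp => hcardf p (hTi p ((Set.Finite.mem_toFinset hT).mp hp)))]
  simp only [Finset.card_filter]
  rw [Finset.sum_comm]
  have hj : ∀ j, (∑ p ∈ hT.toFinset, if j ≠ i ∧ inc p j then 1 else 0)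
      = if j ≠ i then h else 0 := by
    intro j
    by_cases hji : j = i
    · simp [hji]
    · rw [if_pos hji, ← Finset.card_filter]
      rw [← hcount i j (Ne.symm hji), Set.ncard_eq_toFinset_card _ (hfin i j (Ne.symm hji))]
      congr 1
      ext p
      simp only [Finset.mem_filter, Set.Finite.mem_toFinset, Set.mem_ofPred_eq]
      constructor
      · rintro ⟨hp, -, hpj⟩
        exact ⟨hTi p hp, hpj⟩
      · rintro ⟨hpi, hpj⟩
        exact ⟨Set.mem_biUnion (x := j) hji ⟨hpi, hpj⟩, hji, hpj⟩
  rw [Finset.sum_congr rfl (fun j _ => hj j)]
  rw [Finset.sum_ite, Finset.sum_const_zero, add_zero, Finset.sum_const, smul_eq_mul]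
  rw [Finset.filter_ne' Finset.univ i, Finset.card_erase_of_mem (Finset.mem_univ i),
    Finset.card_univ, mul_comm]

end Groth.Agent.S15004
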