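import Groth.Statements.S15005
-- import your own Groth.Agent.* helpers here

set_option autoImplicit false
universe u v
open Harb

namespace Groth.Agent.S15005

/-- Let C be a finite family of d curves, recorded as an incidence relation between a type of points and
a finite index type, such that any two distinct curves of the family meet in exactly h points; let
t_k be the number of k-fold points (points lying on exactly k curves of the family). Then f₂ − f₁ =
Σ_{k ≥ 2} k(k − 1) t_k equals h d(d − 1), where f_i = Σ_{k ≥ 2} k^i t_k. (The published statement is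
for a transversal arrangement of curves on a geometrically ruled surface with invariant e, all
numerically equivalent to a C₀ + b f, where any two of the curves meet transversally in h = 2ab −
a²e points; only this common pairwise intersection count enters the proof, and this row states the
identity for an abstract incidence relation.) -/
theorem result (P : Type u) (ι : Type v) [Fintype ι]
    (inc : P → ι → Prop) (h : ℕ)
    (hfin : ∀ i j : ι, i ≠ j → {p : P | inc p i ∧ inc p j}.Finite)
    (hcount : ∀ i j : ι, i ≠ j → {p : P | inc p i ∧ inc p j}.ncard = h) :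
    ∑ k ∈ Finset.Icc 2 (Fintype.card ι), k * (k - 1) * Nat.card {p : P // Nat.card {j : ι // inc p j} = k} =
      h * (Fintype.card ι * (Fintype.card ι - 1)) := by
  classical
  let m : P → ℕ := fun p => Nat.card {j : ι // inc p j}
  let S : P → Finset ι := fun p => Finset.univ.filter (fun j => inc p j)
  have hm : ∀ p, m p = (S p).card := fun p => by
    simp only [m, S, Nat.card_eq_fintype_card, Fintype.card_subtype]
  let T : Set P := ⋃ ij ∈ ({ij : ι × ι | ij.1 ≠ ij.2} : Set (ι × ι)), {p | inc p ij.1 ∧ inc p ij.2}
  have hT : T.Finite := Set.Finite.biUnion (Set.toFinite _) (fun ij hij => hfin ij.1 ij.2 hij)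
  have hmemT : ∀ p, p ∈ T ↔ 2 ≤ m p := by
    intro p
    rw [hm]
    constructor
    · intro hp
      obtain ⟨ij, hij, hp⟩ := Set.mem_iUnion₂.mp hp
      apply Finset.one_lt_card_iff.mpr
      exact ⟨ij.1, ij.2, by simpa [S] using hp.1, by simpa [S] using hp.2, hij⟩
    · intro h2
      obtain ⟨a, b, ha, hb, hab⟩ := Finset.one_lt_card_iff.mp h2
      simp only [S, Finset.mem_filter, Finset.mem_univ, true_and] at ha hb
      exact Set.mem_biUnion (x := (a, b)) hab ⟨ha, hb⟩
  set Tf := hT.toFinset with hTf
  have hmle : ∀ p, m p ≤ Fintype.card ι := fun p => by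
    rw [hm]; exact Finset.card_le_univ _
  have hk : ∀ k ∈ Finset.Icc 2 (Fintype.card ι),
      Nat.card {p : P // m p = k} = (Tf.filter (fun p => m p = k)).card := by
    intro k hk
    rw [Finset.mem_Icc] at hk
    rw [← Fintype.card_coe, ← Nat.card_eq_fintype_card]
    apply Nat.card_congr
    apply Equiv.subtypeEquivRight
    intro p
    simp only [Finset.mem_filter, hTf, Set.Finite.mem_toFinset]
    constructor
    · intro hp; exact ⟨(hmemT p).mpr (hp ▸ hk.1), hp⟩
    · intro hp; exact hp.2
  show ∑ k ∈ Finset.Icc 2 (Fintype.card ι), k * (k - 1) * Nat.card {p : P // m p = k} = _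
  rw [Finset.sum_congr rfl (fun k hk' => by rw [hk k hk'])]
  have hfib := Finset.sum_fiberwise_of_maps_to (s := Tf) (t := Finset.Icc 2 (Fintype.card ι))
    (g := m) (f := fun p => m p * (m p - 1)) (by
      intro p hp
      rw [hTf, Set.Finite.mem_toFinset] at hp
      exact Finset.mem_Icc.mpr ⟨(hmemT p).mp hp, hmle p⟩)
  have h1 : ∑ k ∈ Finset.Icc 2 (Fintype.card ι), k * (k - 1) * (Tf.filter (fun p => m p = k)).card
      = ∑ p ∈ Tf, m p * (m p - 1) := by
    rw [← hfib]
    apply Finset.sum_congr rfl
    intro k _
    rw [Finset.sum_congr rfl (fun p hp => by rw [(Finset.mem_filter.mp hp).2]), Finset.sum_const,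
      smul_eq_mul, mul_comm]
  rw [h1]
  have h2 : ∀ p, m p * (m p - 1) = ∑ ij ∈ (Finset.univ : Finset ι).offDiag,
      if inc p ij.1 ∧ inc p ij.2 then 1 else 0 := by
    intro p
    rw [← Finset.card_filter, hm, Nat.mul_sub_one, ← Finset.offDiag_card]
    congr 1
    ext ij
    simp only [Finset.mem_offDiag, S, Finset.mem_filter, Finset.mem_univ, true_and]
    tauto
  rw [Finset.sum_congr rfl (fun p _ => h2 p), Finset.sum_comm]
  have h3 : ∀ ij ∈ (Finset.univ : Finset ι).offDiag,
      (∑ p ∈ Tf, if inc p ij.1 ∧ inc p ij.2 then 1 else 0) = h := by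
    intro ij hij
    have hne : ij.1 ≠ ij.2 := (Finset.mem_offDiag.mp hij).2.2
    rw [← Finset.card_filter, ← hcount ij.1 ij.2 hne,
      Set.ncard_eq_toFinset_card _ (hfin ij.1 ij.2 hne)]
    congr 1
    ext p
    simp only [Finset.mem_filter, hTf, Set.Finite.mem_toFinset, Set.mem_ofPred_eq]
    constructor
    · intro hp; exact hp.2
    · intro hp; exact ⟨Set.mem_biUnion (x := ij) hne hp, hp⟩
  rw [Finset.sum_congr rfl h3, Finset.sum_const, smul_eq_mul, Finset.offDiag_card,
    Finset.card_univ, ← Nat.mul_sub_one, mul_comm]

end Groth.Agent.S15005
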