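import Groth.Statements.S15006
import Mathlib.Tactic.LinearCombination
import Mathlib.Tactic.Positivity
import Mathlib.LinearAlgebra.Dimension.Constructions
import Mathlib.LinearAlgebra.FiniteDimensional.Lemmas
import Mathlib.Algebra.Order.Field.Basic
import Mathlib.Algebra.Order.Field.Rat
-- import your own Groth.Agent.* helpers here

set_option autoImplicit false
universe u v
open Harb

namespace Groth.Agent.S15006

/-- Let C be a finite family of d ≥ 2 curves, recorded as an incidence relation between a type of points
and a finite index type, such that any two distinct curves of the family meet in exactly h ≥ 1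
points and no point lies on every curve of the family. Then f₀ ≥ d: the number of multiple points
(points lying on at least two of the curves) is at least the number of curves. (The published
statement is for a transversal arrangement of d ≥ 4 curves on a geometrically ruled surface with
invariant e ≥ 4, all numerically equivalent to a C₀ + b f with a ≥ 1 and b ≥ ae and with no point
common to all of them, satisfying in addition either a ≥ 2, or a = 1 with some four of the curves
having no point in common, where any two of the curves meet transversally in h = 2ab − a²e ≥ 1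
points; only d ≥ 2, h ≥ 1 and the absence of a common point enter the proof, and this row states the
bound for an abstract incidence relation.) -/
theorem result (P : Type u) (ι : Type v) [Fintype ι]
    (inc : P → ι → Prop) (h : ℕ) (hh : 0 < h) (hd : 2 ≤ Fintype.card ι)
    (hfin : ∀ i j : ι, i ≠ j → {p : P | inc p i ∧ inc p j}.Finite)
    (hcount : ∀ i j : ι, i ≠ j → {p : P | inc p i ∧ inc p j}.ncard = h)
    (hnone : ∀ p : P, ∃ i : ι, ¬ inc p i) :
    Fintype.card ι ≤ Nat.card {p : P // 2 ≤ Nat.card {j : ι // inc p j}} := by
  classical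
  let m : P → ℕ := fun p => Nat.card {j : ι // inc p j}
  have hm2 : ∀ p i j, i ≠ j → inc p i → inc p j → 2 ≤ m p := by
    intro p i j hij hi hj
    simp only [m, Nat.card_eq_fintype_card, Fintype.card_subtype]
    apply Finset.one_lt_card_iff.mpr
    exact ⟨i, j, by simpa using hi, by simpa using hj, hij⟩
  let M : Set P := {p | 2 ≤ m p}
  let T : Set P := ⋃ ij ∈ ({ij : ι × ι | ij.1 ≠ ij.2} : Set (ι × ι)), {p | inc p ij.1 ∧ inc p ij.2}
  have hT : T.Finite := Set.Finite.biUnion (Set.toFinite _) (fun ij hij => hfin ij.1 ij.2 hij)
  have hMT : M ⊆ T := by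
    intro p hp
    have h2 : 1 < (Finset.univ.filter (fun j => inc p j)).card := by
      have : 2 ≤ m p := hp
      simp only [m, Nat.card_eq_fintype_card, Fintype.card_subtype] at this
      omega
    obtain ⟨a, b, ha, hb, hab⟩ := Finset.one_lt_card_iff.mp h2
    simp only [Finset.mem_filter, Finset.mem_univ, true_and] at ha hb
    exact Set.mem_biUnion (x := (a, b)) hab ⟨ha, hb⟩
  have hMfin : M.Finite := hT.subset hMT
  set Mf := hMfin.toFinset with hMf
  have hMcard : Nat.card {p : P // 2 ≤ Nat.card {j : ι // inc p j}} = Mf.card := by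
    rw [← Set.ncard_eq_toFinset_card M hMfin, ← Nat.card_coe_set_eq]; rfl
  rw [hMcard]
  have hpair : ∀ i j, i ≠ j → (Mf.filter (fun p => inc p i ∧ inc p j)).card = h := by
    intro i j hij
    rw [← hcount i j hij, Set.ncard_eq_toFinset_card _ (hfin i j hij)]
    congr 1
    ext p
    simp only [Finset.mem_filter, hMf, Set.Finite.mem_toFinset, Set.mem_ofPred_eq]
    constructor
    · intro hp; exact hp.2
    · intro hp; exact ⟨hm2 p i j hij hp.1 hp.2, hp⟩
  let k : ι → ℕ := fun j => (Mf.filter (fun p => inc p j)).card
  have hk : ∀ j, h < k j := by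
    intro j
    obtain ⟨j', hj'⟩ : ∃ j', j' ≠ j := Fintype.exists_ne_of_one_lt_card hd j
    have hsub : ∀ j'', Mf.filter (fun p => inc p j'' ∧ inc p j) ⊆ Mf.filter (fun p => inc p j) := by
      intro j'' p hp
      simp only [Finset.mem_filter] at hp ⊢
      exact ⟨hp.1, hp.2.2⟩
    have hle : h ≤ k j := hpair j' j hj' ▸ Finset.card_le_card (hsub j')
    rcases hle.lt_or_eq with hlt | heq
    · exact hlt
    exfalso
    have hall : ∀ j'', j'' ≠ j → ∀ p ∈ Mf, inc p j → inc p j'' := by
      intro j'' hj'' p hp hpj
      have := Finset.eq_of_subset_of_card_le (hsub j'') (by rw [hpair j'' j hj'']; exact heq.ge)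
      have hmem : p ∈ Mf.filter (fun p => inc p j) := Finset.mem_filter.mpr ⟨hp, hpj⟩
      rw [← this] at hmem
      exact (Finset.mem_filter.mp hmem).2.1
    obtain ⟨p, hp⟩ : (Mf.filter (fun p => inc p j' ∧ inc p j)).Nonempty := by
      rw [← Finset.card_pos, hpair j' j hj']; exact hh
    simp only [Finset.mem_filter] at hp
    obtain ⟨hpM, _, hpj⟩ := hp
    obtain ⟨i0, hi0⟩ := hnone p
    by_cases hi0j : i0 = j
    · exact hi0 (hi0j ▸ hpj)
    · exact hi0 (hall i0 hi0j p hpM hpj)
  let v : ι → (Mf → ℚ) := fun i p => if inc (p : P) i then 1 else 0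
  have hli : LinearIndependent ℚ v := by
    rw [Fintype.linearIndependent_iff]
    intro g hg
    have hpt : ∀ p : Mf, ∑ i, g i * v i p = 0 := by
      intro p
      have := congrFun hg p
      simpa [Finset.sum_apply] using this
    set s := ∑ i, g i with hs
    have hvv : ∀ i j, ∑ p : Mf, v j p * v i p = if i = j then (k j : ℚ) else (h : ℚ) := by
      intro i j
      have e : ∀ p : Mf, v j p * v i p
          = (fun x : P => if (inc x i ∧ inc x j) then (1 : ℚ) else 0) (p : P) := by
        intro p; simp only [v]; split_ifs <;> simp_all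
      rw [Finset.sum_congr rfl (fun p _ => e p)]
      rw [Finset.sum_coe_sort Mf (fun x : P => if (inc x i ∧ inc x j) then (1 : ℚ) else 0)]
      rw [Finset.sum_boole]
      split_ifs with hij
      · subst hij
        simp only [k, and_self]
      · rw [hpair i j hij]
    have heq : ∀ j, (h : ℚ) * s + ((k j : ℚ) - h) * g j = 0 := by
      intro j
      have h0 : ∑ p : Mf, v j p * (∑ i, g i * v i p) = 0 := by simp [hpt]
      simp only [Finset.mul_sum] at h0
      rw [Finset.sum_comm] at h0
      have e2 : ∀ i, ∑ p : Mf, v j p * (g i * v i p)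
          = g i * (if i = j then (k j : ℚ) else (h : ℚ)) := by
        intro i
        rw [← hvv, Finset.mul_sum]
        apply Finset.sum_congr rfl
        intro p _
        ring
      rw [Finset.sum_congr rfl (fun i _ => e2 i)] at h0
      have e3 : ∀ i, g i * (if i = j then (k j : ℚ) else (h : ℚ))
          = g i * h + if i = j then g i * ((k j : ℚ) - h) else 0 := by
        intro i; split_ifs <;> ring
      rw [Finset.sum_congr rfl (fun i _ => e3 i), Finset.sum_add_distrib, ← Finset.sum_mul,
        Finset.sum_ite_eq' Finset.univ j, if_pos (Finset.mem_univ j)] at h0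
      rw [← hs] at h0
      linear_combination h0
    have hquad : (h : ℚ) * s ^ 2 + ∑ j, ((k j : ℚ) - h) * g j ^ 2 = 0 := by
      have e1 : ∑ j, g j * ((h : ℚ) * s + ((k j : ℚ) - h) * g j) = 0 := by simp [heq]
      rw [Finset.sum_congr rfl (fun j _ => show g j * ((h : ℚ) * s + ((k j : ℚ) - h) * g j)
          = (h : ℚ) * s * g j + ((k j : ℚ) - h) * g j ^ 2 by ring), Finset.sum_add_distrib,
        ← Finset.mul_sum, ← hs] at e1
      linear_combination e1
    have hnn : ∀ j ∈ Finset.univ, 0 ≤ ((k j : ℚ) - h) * g j ^ 2 := by
      intro j _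
      apply mul_nonneg
      · have := hk j
        have : (h : ℚ) < k j := by exact_mod_cast this
        linarith
      · exact sq_nonneg _
    have hsum0 : ∑ j, ((k j : ℚ) - h) * g j ^ 2 = 0 := by
      have h1 : 0 ≤ (h : ℚ) * s ^ 2 := mul_nonneg (by positivity) (sq_nonneg _)
      have h2 : 0 ≤ ∑ j, ((k j : ℚ) - h) * g j ^ 2 := Finset.sum_nonneg hnn
      linarith
    intro j
    have := (Finset.sum_eq_zero_iff_of_nonneg hnn).mp hsum0 j (Finset.mem_univ j)
    have hpos : (0 : ℚ) < (k j : ℚ) - h := by
      have := hk j
      have : (h : ℚ) < k j := by exact_mod_cast this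
      linarith
    rcases mul_eq_zero.mp this with h' | h'
    · exact absurd h' hpos.ne'
    · exact pow_eq_zero_iff (two_ne_zero) |>.mp h'
  have := hli.fintype_card_le_finrank
  rwa [Module.finrank_fintype_fun_eq_card, Fintype.card_coe] at this

end Groth.Agent.S15006
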