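import Groth.Statements.S15007
-- import your own Groth.Agent.* helpers here

set_option autoImplicit false
universe u v
open Harb

namespace Groth.Agent.S15007

/-- Let C be a finite family of d ≥ 2 curves, recorded as an incidence relation between a type of points
and a finite index type, such that any two distinct curves of the family meet in exactly h ≥ 1
points and no point lies on every curve of the family. Then f₀ ≥ h + 2: the number of multiple
points (points lying on at least two of the curves) is at least h + 2. (The published claim reads f₀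
≥ 2ab − a²e + 2 for a transversal arrangement of d ≥ 4 curves on a geometrically ruled surface with
invariant e ≥ 4, all numerically equivalent to a C₀ + b f with a ≥ 1 and b ≥ ae and with no point
common to all of them, satisfying in addition either a ≥ 2, or a = 1 with some four of the curves
having no point in common, where any two of the curves meet transversally in h = 2ab − a²e ≥ 1
points; only d ≥ 2, h ≥ 1 and the absence of a common point enter the proof, and this row states the
bound for an abstract incidence relation.) -/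
theorem result (P : Type u) (ι : Type v) [Fintype ι]
    (inc : P → ι → Prop) (h : ℕ) (hh : 0 < h) (hd : 2 ≤ Fintype.card ι)
    (hfin : ∀ i j : ι, i ≠ j → {p : P | inc p i ∧ inc p j}.Finite)
    (hcount : ∀ i j : ι, i ≠ j → {p : P | inc p i ∧ inc p j}.ncard = h)
    (hnone : ∀ p : P, ∃ i : ι, ¬ inc p i) :
    h + 2 ≤ Nat.card {p : P // 2 ≤ Nat.card {j : ι // inc p j}} := by
  classical
  let m : P → ℕ := fun p => Nat.card {j : ι // inc p j}
  have hm2 : ∀ p i j, i ≠ j → inc p i → inc p j → 2 ≤ m p := by
    intro p i j hij hi hj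
    simp only [m, Nat.card_eq_fintype_card, Fintype.card_subtype]
    apply Finset.one_lt_card_iff.mpr
    exact ⟨i, j, by simpa using hi, by simpa using hj, hij⟩
  let M : Set P := {p | 2 ≤ m p}
  let T : Set P := ⋃ ij ∈ ({ij : ι × ι | ij.1 ≠ ij.2} : Set (ι × ι)), {p | inc p ij.1 ∧ inc p ij.2}
  have hT : T.Finite := Set.Finite.biUnion (Set.toFinite _) (fun ij hij => hfin ij.1 ij.2 hij)
  have hMT : M ⊆ T := by
    intro p hp
    have h2 : 1 < (Finset.univ.filter (fun j => inc p j)).card := by
      have : 2 ≤ m p := hp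
      simp only [m, Nat.card_eq_fintype_card, Fintype.card_subtype] at this
      omega
    obtain ⟨a, b, ha, hb, hab⟩ := Finset.one_lt_card_iff.mp h2
    simp only [Finset.mem_filter, Finset.mem_univ, true_and] at ha hb
    exact Set.mem_biUnion (x := (a, b)) hab ⟨ha, hb⟩
  have hMfin : M.Finite := hT.subset hMT
  have hcardM : Nat.card {p : P // 2 ≤ Nat.card {j : ι // inc p j}} = M.ncard := by
    rw [← Nat.card_coe_set_eq]; rfl
  rw [hcardM]
  -- two distinct curves
  obtain ⟨i1, i2, h12⟩ : ∃ i1 i2 : ι, i1 ≠ i2 := by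
    have : 1 < Fintype.card ι := hd
    obtain ⟨a, b, hab⟩ := Fintype.exists_pair_of_one_lt_card this
    exact ⟨a, b, hab⟩
  set H : Set P := {p | inc p i1 ∧ inc p i2} with hH
  have hHfin := hfin i1 i2 h12
  have hHcard := hcount i1 i2 h12
  obtain ⟨p, hp⟩ : H.Nonempty := by
    rw [← Set.ncard_pos hHfin, hHcard]; exact hh
  obtain ⟨i3, hi3⟩ := hnone p
  have h13 : i1 ≠ i3 := fun h => hi3 (h ▸ hp.1)
  have h23 : i2 ≠ i3 := fun h => hi3 (h ▸ hp.2)
  -- a point on i1 and i3 not on i2
  have hq : ∃ q, inc q i1 ∧ inc q i3 ∧ ¬ inc q i2 := by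
    by_contra hcon
    push Not at hcon
    have hsub : {q : P | inc q i1 ∧ inc q i3} ⊆ H := fun q hq => ⟨hq.1, hcon q hq.1 hq.2⟩
    have heq := Set.eq_of_subset_of_ncard_le hsub (by rw [hHcard, hcount i1 i3 h13]) hHfin
    have : p ∈ {q : P | inc q i1 ∧ inc q i3} := heq ▸ hp
    exact hi3 this.2
  have hr : ∃ r, inc r i2 ∧ inc r i3 ∧ ¬ inc r i1 := by
    by_contra hcon
    push Not at hcon
    have hsub : {q : P | inc q i2 ∧ inc q i3} ⊆ H := fun q hq => ⟨hcon q hq.1 hq.2, hq.1⟩
    have heq := Set.eq_of_subset_of_ncard_le hsub (by rw [hHcard, hcount i2 i3 h23]) hHfin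
    have : p ∈ {q : P | inc q i2 ∧ inc q i3} := heq ▸ hp
    exact hi3 this.2
  obtain ⟨q, hq1, hq3, hq2⟩ := hq
  obtain ⟨r, hr2, hr3, hr1⟩ := hr
  have hqH : q ∉ H := fun h => hq2 h.2
  have hrH : r ∉ H := fun h => hr1 h.1
  have hqr : q ≠ r := fun h => hr1 (h ▸ hq1)
  have hsubM : insert q (insert r H) ⊆ M := by
    intro x hx
    rcases hx with rfl | rfl | hx
    · exact hm2 x i1 i3 h13 hq1 hq3
    · exact hm2 x i2 i3 h23 hr2 hr3
    · exact hm2 x i1 i2 h12 hx.1 hx.2
  have hcard : (insert q (insert r H)).ncard = h + 2 := by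
    rw [Set.ncard_insert_of_notMem (by
        rintro (h | h)
        · exact hqr h
        · exact hqH h) (hHfin.insert r),
      Set.ncard_insert_of_notMem hrH hHfin, hHcard]
  rw [← hcard]
  exact Set.ncard_le_ncard hsubM hMfin

end Groth.Agent.S15007
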