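import Groth.Statements.S15080
import Mathlib.Data.Finset.Sort
import Mathlib.Order.WellFounded
import Mathlib.Data.Fintype.Card
-- import your own Groth.Agent.* helpers here

set_option autoImplicit false
open W4c2movlemaddchow

namespace Groth.Agent.S15080

theorem extRight_castAdd (a t : ℕ) (σ : Equiv.Perm (Fin a)) (x : Fin a) :
    W4c2movlemaddchow.extRight a t σ (Fin.castAdd t x) = Fin.castAdd t (σ x) := by
  simp only [W4c2movlemaddchow.extRight, Equiv.permCongr_apply, finSumFinEquiv_symm_apply_castAdd,
    Equiv.sumCongr_apply, Sum.map_inl, finSumFinEquiv_apply_left]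

theorem extRight_natAdd (a t : ℕ) (σ : Equiv.Perm (Fin a)) (l : Fin t) :
    W4c2movlemaddchow.extRight a t σ (Fin.natAdd a l) = Fin.natAdd a l := by
  simp only [W4c2movlemaddchow.extRight, Equiv.permCongr_apply, finSumFinEquiv_symm_apply_natAdd,
    Equiv.sumCongr_apply, Sum.map_inr, Equiv.refl_apply, finSumFinEquiv_apply_right]

/-- Let r, s, t ≥ 1. For an (r+s, t)-shuffle τ of r+s+t letters and an (r, s)-shuffle σ of the first r+s
letters, the composite τ ∘ (σ × id), where σ × id acts as σ on the first r+s letters and fixes the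
last t, is an (r, s, t)-shuffle, and (τ, σ) ↦ τ ∘ (σ × id) is a bijection from such pairs onto the
set of all (r, s, t)-shuffles. (A (p₁, …, p_s)-shuffle is a permutation that is monotone on each of
the consecutive blocks of sizes p₁, …, p_s; composites apply the right-hand factor first.) -/
theorem result (r s t : ℕ) (hr : 1 ≤ r) (hs : 1 ≤ s) (ht : 1 ≤ t) :
    Set.BijOn
      (fun p : Equiv.Perm (Fin (r + s + t)) × Equiv.Perm (Fin (r + s)) =>
        p.1 * W4c2movlemaddchow.extRight (r + s) t p.2)
      ({τ | W4c2movlemaddchow.IsShuffle₂ (r + s) t τ} ×ˢ {σ | W4c2movlemaddchow.IsShuffle₂ r s σ})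
      {ν | W4c2movlemaddchow.IsShuffle₃ r s t ν} := by
  classical
  refine ⟨?_, ?_, ?_⟩
  · rintro ⟨τ, σ⟩ ⟨hτ, hσ⟩
    simp only [Set.mem_ofPred_eq] at hτ hσ ⊢
    obtain ⟨hτ1, hτ2⟩ := hτ
    obtain ⟨hσ1, hσ2⟩ := hσ
    refine ⟨?_, ?_, ?_⟩
    · have : (fun i : Fin r => (τ * W4c2movlemaddchow.extRight (r + s) t σ)
          (Fin.castAdd t (Fin.castAdd s i))) =
          (fun x => τ (Fin.castAdd t x)) ∘ (fun i => σ (Fin.castAdd s i)) := by
        funext i; simp only [Equiv.Perm.coe_mul, Function.comp_apply, extRight_castAdd]
      rw [this]; exact hτ1.comp hσ1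
    · have : (fun j : Fin s => (τ * W4c2movlemaddchow.extRight (r + s) t σ)
          (Fin.castAdd t (Fin.natAdd r j))) =
          (fun x => τ (Fin.castAdd t x)) ∘ (fun j => σ (Fin.natAdd r j)) := by
        funext j; simp only [Equiv.Perm.coe_mul, Function.comp_apply, extRight_castAdd]
      rw [this]; exact hτ1.comp hσ2
    · have : (fun l : Fin t => (τ * W4c2movlemaddchow.extRight (r + s) t σ)
          (Fin.natAdd (r + s) l)) = (fun l => τ (Fin.natAdd (r + s) l)) := by
        funext l; simp only [Equiv.Perm.coe_mul, Function.comp_apply, extRight_natAdd]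
      rw [this]; exact hτ2
  · rintro ⟨τ, σ⟩ ⟨hτ, hσ⟩ ⟨τ', σ'⟩ ⟨hτ', hσ'⟩ heq
    simp only [Set.mem_ofPred_eq] at hτ hσ hτ' hσ' heq
    have hrange : ∀ (τ : Equiv.Perm (Fin (r + s + t))) (σ : Equiv.Perm (Fin (r + s))),
        Set.range (fun i => τ (Fin.castAdd t i)) =
          Set.range (fun i => (τ * W4c2movlemaddchow.extRight (r + s) t σ) (Fin.castAdd t i)) := by
      intro τ σ
      have : (fun i => (τ * W4c2movlemaddchow.extRight (r + s) t σ) (Fin.castAdd t i)) =
          (fun i => τ (Fin.castAdd t i)) ∘ σ := by
        funext i; simp only [Equiv.Perm.coe_mul, Function.comp_apply, extRight_castAdd]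
      rw [this, σ.surjective.range_comp]
    have hτeq : τ = τ' := by
      ext1 x
      refine Fin.addCases (fun i => ?_) (fun l => ?_) x
      · have h1 : StrictMono (fun i : Fin (r + s) => τ (Fin.castAdd t i)) :=
          hτ.1.strictMono_of_injective (τ.injective.comp (Fin.castAdd_injective _ _))
        have h2 : StrictMono (fun i : Fin (r + s) => τ' (Fin.castAdd t i)) :=
          hτ'.1.strictMono_of_injective (τ'.injective.comp (Fin.castAdd_injective _ _))
        have hr : Set.range (fun i => τ (Fin.castAdd t i)) =
            Set.range (fun i => τ' (Fin.castAdd t i)) := by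
          rw [hrange τ σ, hrange τ' σ', heq]
        exact congrFun ((h1.range_inj h2).mp hr) i
      · have := congrArg (fun f : Equiv.Perm (Fin (r + s + t)) => f (Fin.natAdd (r + s) l)) heq
        simpa only [Equiv.Perm.coe_mul, Function.comp_apply, extRight_natAdd] using this
    subst hτeq
    have h2 : W4c2movlemaddchow.extRight (r + s) t σ = W4c2movlemaddchow.extRight (r + s) t σ' :=
      mul_left_cancel heq
    have hσeq : σ = σ' := by
      ext1 x
      have := congrArg (fun f : Equiv.Perm (Fin (r + s + t)) => f (Fin.castAdd t x)) h2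
      simp only [extRight_castAdd] at this
      exact Fin.castAdd_injective _ _ this
    subst hσeq; rfl
  · intro ν hν
    simp only [Set.mem_ofPred_eq] at hν
    obtain ⟨hν1, hν2, hν3⟩ := hν
    set X : Finset (Fin (r + s + t)) := Finset.univ.image (fun i : Fin (r + s) => ν (Fin.castAdd t i))
      with hX
    have hinjX : Function.Injective (fun i : Fin (r + s) => ν (Fin.castAdd t i)) :=
      fun a b h => Fin.castAdd_injective _ _ (ν.injective h)
    have hXcard : X.card = r + s := by
      rw [hX, Finset.card_image_of_injective _ hinjX, Finset.card_univ, Fintype.card_fin]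
    set e := X.orderEmbOfFin hXcard with he
    have hmemX : ∀ i, ν (Fin.castAdd t i) ∈ X := fun i => by
      rw [hX]; exact Finset.mem_image_of_mem _ (Finset.mem_univ i)
    have hinjτ : Function.Injective (Fin.append (fun i => e i) (fun l => ν (Fin.natAdd (r + s) l))) := by
      intro x y
      refine Fin.addCases (fun i => ?_) (fun j => ?_) x <;>
        refine Fin.addCases (fun i' => ?_) (fun j' => ?_) y <;>
        intro hxy <;>
        simp only [Fin.append_left, Fin.append_right] at hxy
      · rw [e.injective hxy]
      · exfalso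
        have h1 : e i ∈ X := Finset.orderEmbOfFin_mem X hXcard i
        rw [hX, Finset.mem_image] at h1
        obtain ⟨k, -, hk⟩ := h1
        rw [← hk] at hxy
        have := ν.injective hxy
        have h3 := congrArg Fin.val this
        simp only [Fin.val_castAdd, Fin.val_natAdd] at h3
        have := k.isLt; omega
      · exfalso
        have h1 : e i' ∈ X := Finset.orderEmbOfFin_mem X hXcard i'
        rw [hX, Finset.mem_image] at h1
        obtain ⟨k, -, hk⟩ := h1
        rw [← hk] at hxy
        have := ν.injective hxy
        have h3 := congrArg Fin.val this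
        simp only [Fin.val_castAdd, Fin.val_natAdd] at h3
        have := k.isLt; omega
      · have := ν.injective hxy
        rw [Fin.natAdd_inj] at this
        rw [this]
    let τ : Equiv.Perm (Fin (r + s + t)) := Equiv.ofBijective _ hinjτ.bijective_of_finite
    have hτL : ∀ i, τ (Fin.castAdd t i) = e i := fun i => by
      simp only [τ, Equiv.ofBijective_apply, Fin.append_left]
    have hτR : ∀ l, τ (Fin.natAdd (r + s) l) = ν (Fin.natAdd (r + s) l) := fun l => by
      simp only [τ, Equiv.ofBijective_apply, Fin.append_right]
    let σf : Fin (r + s) → Fin (r + s) := fun x => (X.orderIsoOfFin hXcard).symm ⟨_, hmemX x⟩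
    have hσf : ∀ x, e (σf x) = ν (Fin.castAdd t x) := by
      intro x
      rw [he, ← Finset.coe_orderIsoOfFin_apply]
      simp only [σf, OrderIso.apply_symm_apply]
    have hσinj : Function.Injective σf := by
      intro x y hxy
      have := congrArg e hxy
      rw [hσf, hσf] at this
      exact Fin.castAdd_injective _ _ (ν.injective this)
    let σ : Equiv.Perm (Fin (r + s)) := Equiv.ofBijective _ hσinj.bijective_of_finite
    have hσ : ∀ x, e (σ x) = ν (Fin.castAdd t x) := hσf
    refine ⟨(τ, σ), ⟨?_, ?_⟩, ?_⟩
    · simp only [Set.mem_ofPred_eq]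
      refine ⟨?_, ?_⟩
      · have : (fun i : Fin (r + s) => τ (Fin.castAdd t i)) = fun i => e i := funext hτL
        rw [this]; exact e.monotone
      · have : (fun l : Fin t => τ (Fin.natAdd (r + s) l)) = fun l => ν (Fin.natAdd (r + s) l) :=
          funext hτR
        rw [this]; exact hν3
    · simp only [Set.mem_ofPred_eq]
      refine ⟨?_, ?_⟩
      · intro i j hij
        have := hν1 hij
        simp only at this
        rw [← hσ, ← hσ] at this
        exact e.le_iff_le.mp this
      · intro i j hij
        have := hν2 hij
        simp only at this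
        rw [← hσ, ← hσ] at this
        exact e.le_iff_le.mp this
    · simp only
      ext1 x
      refine Fin.addCases (fun i => ?_) (fun l => ?_) x
      · simp only [Equiv.Perm.coe_mul, Function.comp_apply, extRight_castAdd, hτL, hσ]
      · simp only [Equiv.Perm.coe_mul, Function.comp_apply, extRight_natAdd, hτR]

end Groth.Agent.S15080
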