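import Groth.Statements.S15081
import Mathlib.Data.Finset.Sort
import Mathlib.Order.WellFounded
import Mathlib.Data.Fintype.Card
import Mathlib.Algebra.Group.End
-- import your own Groth.Agent.* helpers here

set_option autoImplicit false
open W4c2movlemaddchow

namespace Groth.Agent.S15081

/-- The extension acting on the last block of `Fin (r + (s + t))`. -/
def Eperm (r s t : ℕ) (σ : Equiv.Perm (Fin (s + t))) : Equiv.Perm (Fin (r + (s + t))) :=
  finSumFinEquiv.permCongr ((Equiv.refl (Fin r)).sumCongr σ)

theorem Eperm_castAdd (r s t : ℕ) (σ : Equiv.Perm (Fin (s + t))) (i : Fin r) :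
    Eperm r s t σ (Fin.castAdd (s + t) i) = Fin.castAdd (s + t) i := by
  simp only [Eperm, Equiv.permCongr_apply, finSumFinEquiv_symm_apply_castAdd,
    Equiv.sumCongr_apply, Sum.map_inl, Equiv.refl_apply, finSumFinEquiv_apply_left]

theorem Eperm_natAdd (r s t : ℕ) (σ : Equiv.Perm (Fin (s + t))) (j : Fin (s + t)) :
    Eperm r s t σ (Fin.natAdd r j) = Fin.natAdd r (σ j) := by
  simp only [Eperm, Equiv.permCongr_apply, finSumFinEquiv_symm_apply_natAdd,
    Equiv.sumCongr_apply, Sum.map_inr, finSumFinEquiv_apply_right]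

/-- The shuffle condition transported to `Fin (r + (s + t))`. -/
def P3 (r s t : ℕ) (ν : Equiv.Perm (Fin (r + (s + t)))) : Prop :=
  Monotone (fun i : Fin r => ν (Fin.castAdd (s + t) i)) ∧
    Monotone (fun j : Fin s => ν (Fin.natAdd r (Fin.castAdd t j))) ∧
      Monotone (fun l : Fin t => ν (Fin.natAdd r (Fin.natAdd s l)))

theorem mirror (r s t : ℕ) :
    Set.BijOn (fun p : Equiv.Perm (Fin (r + (s + t))) × Equiv.Perm (Fin (s + t)) =>
        p.1 * Eperm r s t p.2)
      ({τ | W4c2movlemaddchow.IsShuffle₂ r (s + t) τ} ×ˢ {σ | W4c2movlemaddchow.IsShuffle₂ s t σ})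
      {ν | P3 r s t ν} := by
  classical
  refine ⟨?_, ?_, ?_⟩
  · rintro ⟨τ, σ⟩ ⟨hτ, hσ⟩
    simp only [Set.mem_ofPred_eq] at hτ hσ ⊢
    obtain ⟨hτ1, hτ2⟩ := hτ
    obtain ⟨hσ1, hσ2⟩ := hσ
    refine ⟨?_, ?_, ?_⟩
    · have : (fun i : Fin r => (τ * Eperm r s t σ) (Fin.castAdd (s + t) i)) =
          (fun i => τ (Fin.castAdd (s + t) i)) := by
        funext i; simp only [Equiv.Perm.coe_mul, Function.comp_apply, Eperm_castAdd]
      rw [this]; exact hτ1
    · have : (fun j : Fin s => (τ * Eperm r s t σ) (Fin.natAdd r (Fin.castAdd t j))) =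
          (fun x => τ (Fin.natAdd r x)) ∘ (fun j => σ (Fin.castAdd t j)) := by
        funext j; simp only [Equiv.Perm.coe_mul, Function.comp_apply, Eperm_natAdd]
      rw [this]; exact hτ2.comp hσ1
    · have : (fun l : Fin t => (τ * Eperm r s t σ) (Fin.natAdd r (Fin.natAdd s l))) =
          (fun x => τ (Fin.natAdd r x)) ∘ (fun l => σ (Fin.natAdd s l)) := by
        funext l; simp only [Equiv.Perm.coe_mul, Function.comp_apply, Eperm_natAdd]
      rw [this]; exact hτ2.comp hσ2
  · rintro ⟨τ, σ⟩ ⟨hτ, hσ⟩ ⟨τ', σ'⟩ ⟨hτ', hσ'⟩ heq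
    simp only [Set.mem_ofPred_eq] at hτ hσ hτ' hσ' heq
    have hrange : ∀ (τ : Equiv.Perm (Fin (r + (s + t)))) (σ : Equiv.Perm (Fin (s + t))),
        Set.range (fun j => τ (Fin.natAdd r j)) =
          Set.range (fun j => (τ * Eperm r s t σ) (Fin.natAdd r j)) := by
      intro τ σ
      have : (fun j => (τ * Eperm r s t σ) (Fin.natAdd r j)) =
          (fun j => τ (Fin.natAdd r j)) ∘ σ := by
        funext j; simp only [Equiv.Perm.coe_mul, Function.comp_apply, Eperm_natAdd]
      rw [this, σ.surjective.range_comp]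
    have hτeq : τ = τ' := by
      ext1 x
      refine Fin.addCases (fun i => ?_) (fun j => ?_) x
      · have := congrArg (fun f : Equiv.Perm (Fin (r + (s + t))) => f (Fin.castAdd (s + t) i)) heq
        simpa only [Equiv.Perm.coe_mul, Function.comp_apply, Eperm_castAdd] using this
      · have h1 : StrictMono (fun j : Fin (s + t) => τ (Fin.natAdd r j)) :=
          hτ.2.strictMono_of_injective (τ.injective.comp (Fin.natAdd_injective _ _))
        have h2 : StrictMono (fun j : Fin (s + t) => τ' (Fin.natAdd r j)) :=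
          hτ'.2.strictMono_of_injective (τ'.injective.comp (Fin.natAdd_injective _ _))
        have hr : Set.range (fun j => τ (Fin.natAdd r j)) =
            Set.range (fun j => τ' (Fin.natAdd r j)) := by
          rw [hrange τ σ, hrange τ' σ', heq]
        exact congrFun ((h1.range_inj h2).mp hr) j
    subst hτeq
    have h2 : Eperm r s t σ = Eperm r s t σ' := mul_left_cancel heq
    have hσeq : σ = σ' := by
      ext1 x
      have := congrArg (fun f : Equiv.Perm (Fin (r + (s + t))) => f (Fin.natAdd r x)) h2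
      simp only [Eperm_natAdd] at this
      exact Fin.natAdd_injective _ _ this
    subst hσeq; rfl
  · intro ν hν
    simp only [Set.mem_ofPred_eq] at hν
    obtain ⟨hν1, hν2, hν3⟩ := hν
    set X : Finset (Fin (r + (s + t))) :=
      Finset.univ.image (fun j : Fin (s + t) => ν (Fin.natAdd r j)) with hX
    have hinjX : Function.Injective (fun j : Fin (s + t) => ν (Fin.natAdd r j)) :=
      fun a b h => Fin.natAdd_injective _ _ (ν.injective h)
    have hXcard : X.card = s + t := by
      rw [hX, Finset.card_image_of_injective _ hinjX, Finset.card_univ, Fintype.card_fin]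
    set e := X.orderEmbOfFin hXcard with he
    have hmemX : ∀ j, ν (Fin.natAdd r j) ∈ X := fun j => by
      rw [hX]; exact Finset.mem_image_of_mem _ (Finset.mem_univ j)
    have hinjτ : Function.Injective
        (Fin.append (fun i => ν (Fin.castAdd (s + t) i)) (fun j => e j)) := by
      intro x y
      refine Fin.addCases (fun i => ?_) (fun j => ?_) x <;>
        refine Fin.addCases (fun i' => ?_) (fun j' => ?_) y <;>
        intro hxy <;>
        simp only [Fin.append_left, Fin.append_right] at hxy
      · have := ν.injective hxy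
        rw [Fin.castAdd_inj] at this
        rw [this]
      · exfalso
        have h1 : e j' ∈ X := Finset.orderEmbOfFin_mem X hXcard j'
        rw [hX, Finset.mem_image] at h1
        obtain ⟨k, -, hk⟩ := h1
        rw [← hk] at hxy
        have := ν.injective hxy
        have h3 := congrArg Fin.val this
        simp only [Fin.val_castAdd, Fin.val_natAdd] at h3
        have := i.isLt; omega
      · exfalso
        have h1 : e j ∈ X := Finset.orderEmbOfFin_mem X hXcard j
        rw [hX, Finset.mem_image] at h1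
        obtain ⟨k, -, hk⟩ := h1
        rw [← hk] at hxy
        have := ν.injective hxy
        have h3 := congrArg Fin.val this
        simp only [Fin.val_castAdd, Fin.val_natAdd] at h3
        have := i'.isLt; omega
      · rw [e.injective hxy]
    let τ : Equiv.Perm (Fin (r + (s + t))) := Equiv.ofBijective _ hinjτ.bijective_of_finite
    have hτL : ∀ i, τ (Fin.castAdd (s + t) i) = ν (Fin.castAdd (s + t) i) := fun i => by
      simp only [τ, Equiv.ofBijective_apply, Fin.append_left]
    have hτR : ∀ j, τ (Fin.natAdd r j) = e j := fun j => by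
      simp only [τ, Equiv.ofBijective_apply, Fin.append_right]
    let σf : Fin (s + t) → Fin (s + t) := fun x => (X.orderIsoOfFin hXcard).symm ⟨_, hmemX x⟩
    have hσf : ∀ x, e (σf x) = ν (Fin.natAdd r x) := by
      intro x
      rw [he, ← Finset.coe_orderIsoOfFin_apply]
      simp only [σf, OrderIso.apply_symm_apply]
    have hσinj : Function.Injective σf := by
      intro x y hxy
      have := congrArg e hxy
      rw [hσf, hσf] at this
      exact Fin.natAdd_injective _ _ (ν.injective this)
    let σ : Equiv.Perm (Fin (s + t)) := Equiv.ofBijective _ hσinj.bijective_of_finite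
    have hσ : ∀ x, e (σ x) = ν (Fin.natAdd r x) := hσf
    refine ⟨(τ, σ), ⟨?_, ?_⟩, ?_⟩
    · simp only [Set.mem_ofPred_eq]
      refine ⟨?_, ?_⟩
      · have : (fun i : Fin r => τ (Fin.castAdd (s + t) i)) =
            fun i => ν (Fin.castAdd (s + t) i) := funext hτL
        rw [this]; exact hν1
      · have : (fun j : Fin (s + t) => τ (Fin.natAdd r j)) = fun j => e j := funext hτR
        rw [this]; exact e.monotone
    · simp only [Set.mem_ofPred_eq]
      refine ⟨?_, ?_⟩
      · intro i j hij
        have := hν2 hij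
        simp only at this
        rw [← hσ, ← hσ] at this
        exact e.le_iff_le.mp this
      · intro i j hij
        have := hν3 hij
        simp only at this
        rw [← hσ, ← hσ] at this
        exact e.le_iff_le.mp this
    · simp only
      ext1 x
      refine Fin.addCases (fun i => ?_) (fun j => ?_) x
      · simp only [Equiv.Perm.coe_mul, Function.comp_apply, Eperm_castAdd, hτL]
      · simp only [Equiv.Perm.coe_mul, Function.comp_apply, Eperm_natAdd, hτR, hσ]

/-- Let r, s, t ≥ 1. For an (r, s+t)-shuffle τ' of r+s+t letters and an (s, t)-shuffle σ' of the last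
s+t letters, the composite τ' ∘ (id × σ'), where id × σ' fixes the first r letters and acts as σ' on
the last s+t, is an (r, s, t)-shuffle, and (τ', σ') ↦ τ' ∘ (id × σ') is a bijection from such pairs
onto the set of all (r, s, t)-shuffles. (Shuffles are permutations monotone on each consecutive
block; composites apply the right-hand factor first.) -/
theorem result (r s t : ℕ) (hr : 1 ≤ r) (hs : 1 ≤ s) (ht : 1 ≤ t) :
    Set.BijOn
      (fun p : Equiv.Perm (Fin (r + s + t)) × Equiv.Perm (Fin (s + t)) =>
        p.1 * W4c2movlemaddchow.extLeft r s t p.2)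
      ({τ | W4c2movlemaddchow.IsShuffle₂ r (s + t) ((finCongr (Nat.add_assoc r s t)).permCongr τ)} ×ˢ
        {σ | W4c2movlemaddchow.IsShuffle₂ s t σ})
      {ν | W4c2movlemaddchow.IsShuffle₃ r s t ν} := by
  classical
  set c := finCongr (Nat.add_assoc r s t) with hc
  have hcle : ∀ x y, c x ≤ c y ↔ x ≤ y := by
    intro x y; rw [Fin.le_iff_val_le_val, Fin.le_iff_val_le_val]; simp [hc]
  have hmono : ∀ {α : Type} [Preorder α] (g : α → Fin (r + s + t)),
      Monotone (fun a => c (g a)) ↔ Monotone g := by
    intro α _ g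
    exact ⟨fun h i j hij => (hcle _ _).mp (h hij), fun h i j hij => (hcle _ _).mpr (h hij)⟩
  have hA : ∀ i : Fin r, c.symm (Fin.castAdd (s + t) i) = Fin.castAdd t (Fin.castAdd s i) := by
    intro i; apply Fin.ext; simp [hc]
  have hB : ∀ j : Fin s, c.symm (Fin.natAdd r (Fin.castAdd t j)) = Fin.castAdd t (Fin.natAdd r j) := by
    intro j; apply Fin.ext; simp [hc]
  have hC : ∀ l : Fin t, c.symm (Fin.natAdd r (Fin.natAdd s l)) = Fin.natAdd (r + s) l := by
    intro l; apply Fin.ext; simp [hc]; omega
  have hT2 : ∀ ν : Equiv.Perm (Fin (r + s + t)),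
      W4c2movlemaddchow.IsShuffle₃ r s t ν ↔ P3 r s t (c.permCongr ν) := by
    intro ν
    simp only [W4c2movlemaddchow.IsShuffle₃, P3, Equiv.permCongr_apply, hA, hB, hC]
    rw [hmono, hmono, hmono]
  have hT1 : ∀ τ σ, c.permCongr (τ * W4c2movlemaddchow.extLeft r s t σ) =
      c.permCongr τ * Eperm r s t σ := by
    intro τ σ
    rw [Equiv.permCongr_mul]
    congr 1
  obtain ⟨M1, M2, M3⟩ := mirror r s t
  refine ⟨?_, ?_, ?_⟩
  · rintro ⟨τ, σ⟩ ⟨hτ, hσ⟩
    simp only [Set.mem_ofPred_eq] at hτ hσ ⊢
    rw [hT2, hT1]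
    exact M1 (show (c.permCongr τ, σ) ∈ _ from ⟨hτ, hσ⟩)
  · rintro ⟨τ, σ⟩ ⟨hτ, hσ⟩ ⟨τ', σ'⟩ ⟨hτ', hσ'⟩ heq
    simp only at heq
    have h1 := congrArg c.permCongr heq
    rw [hT1, hT1] at h1
    have := M2 (show (c.permCongr τ, σ) ∈ _ from ⟨hτ, hσ⟩)
      (show (c.permCongr τ', σ') ∈ _ from ⟨hτ', hσ'⟩) h1
    simp only [Prod.mk.injEq] at this
    obtain ⟨h2, h3⟩ := this
    rw [c.permCongr.injective h2, h3]
  · intro ν hν
    simp only [Set.mem_ofPred_eq] at hν
    rw [hT2] at hν
    obtain ⟨⟨τ', σ⟩, ⟨hτ', hσ⟩, hpν⟩ := M3 hν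
    refine ⟨(c.permCongr.symm τ', σ), ⟨?_, hσ⟩, ?_⟩
    · simp only [Set.mem_ofPred_eq, Equiv.apply_symm_apply]
      exact hτ'
    · simp only at hpν ⊢
      apply c.permCongr.injective
      rw [hT1, Equiv.apply_symm_apply]
      exact hpν

end Groth.Agent.S15081
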