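import Groth.Statements.S15082
import Groth.Agent.S15080
import Groth.Agent.S15081
import Mathlib.Algebra.MonoidAlgebra.Defs
-- import your own Groth.Agent.* helpers here

set_option autoImplicit false
open W4c2movlemaddchow

namespace Groth.Agent.S15082

/-- Let r, s, t ≥ 1. In the group ring ℤ[S_{r+s+t}] the element Σ_ν sgn(ν) ν, summed over all (r, s,
t)-shuffles ν, equals Σ_τ Σ_σ sgn(τ) sgn(σ) τ ∘ (σ × id), summed over (r+s, t)-shuffles τ and (r,
s)-shuffles σ of the first r+s letters, and also equals Σ_{τ'} Σ_{σ'} sgn(τ') sgn(σ') τ' ∘ (id ×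
σ'), summed over (r, s+t)-shuffles τ' and (s, t)-shuffles σ' of the last s+t letters. (Shuffles are
permutations monotone on each consecutive block; composites apply the right-hand factor first.) -/
theorem result (r s t : ℕ) (hr : 1 ≤ r) (hs : 1 ≤ s) (ht : 1 ≤ t) :
    ((∑ ν ∈ Finset.univ.filter (W4c2movlemaddchow.IsShuffle₃ r s t),
        MonoidAlgebra.single ν (((Equiv.Perm.sign ν : ℤˣ) : ℤ)) :
          MonoidAlgebra ℤ (Equiv.Perm (Fin (r + s + t)))) =
      ∑ τ ∈ Finset.univ.filter (W4c2movlemaddchow.IsShuffle₂ (r + s) t),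
        ∑ σ ∈ Finset.univ.filter (W4c2movlemaddchow.IsShuffle₂ r s),
          MonoidAlgebra.single (τ * W4c2movlemaddchow.extRight (r + s) t σ)
            (((Equiv.Perm.sign τ : ℤˣ) : ℤ) * ((Equiv.Perm.sign σ : ℤˣ) : ℤ))) ∧
    ((∑ ν ∈ Finset.univ.filter (W4c2movlemaddchow.IsShuffle₃ r s t),
        MonoidAlgebra.single ν (((Equiv.Perm.sign ν : ℤˣ) : ℤ)) :
          MonoidAlgebra ℤ (Equiv.Perm (Fin (r + s + t)))) =
      ∑ τ ∈ Finset.univ.filter (fun τ : Equiv.Perm (Fin (r + s + t)) =>
          W4c2movlemaddchow.IsShuffle₂ r (s + t) ((finCongr (Nat.add_assoc r s t)).permCongr τ)),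
        ∑ σ ∈ Finset.univ.filter (W4c2movlemaddchow.IsShuffle₂ s t),
          MonoidAlgebra.single (τ * W4c2movlemaddchow.extLeft r s t σ)
            (((Equiv.Perm.sign τ : ℤˣ) : ℤ) * ((Equiv.Perm.sign σ : ℤˣ) : ℤ))) := by
  classical
  have hsign1 : ∀ σ : Equiv.Perm (Fin (r + s)),
      Equiv.Perm.sign (W4c2movlemaddchow.extRight (r + s) t σ) = Equiv.Perm.sign σ := by
    intro σ
    simp only [W4c2movlemaddchow.extRight, Equiv.Perm.sign_permCongr, Equiv.Perm.sign_sumCongr,
      Equiv.Perm.sign_refl, mul_one]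
  have hsign2 : ∀ σ : Equiv.Perm (Fin (s + t)),
      Equiv.Perm.sign (W4c2movlemaddchow.extLeft r s t σ) = Equiv.Perm.sign σ := by
    intro σ
    simp only [W4c2movlemaddchow.extLeft, Equiv.Perm.sign_permCongr, Equiv.Perm.sign_sumCongr,
      Equiv.Perm.sign_refl, one_mul]
  obtain ⟨B1, B2, B3⟩ := Groth.Agent.S15080.result r s t hr hs ht
  obtain ⟨C1, C2, C3⟩ := Groth.Agent.S15081.result r s t hr hs ht
  constructor
  · rw [← Finset.sum_product']
    symm
    apply Finset.sum_nbij (fun p => p.1 * W4c2movlemaddchow.extRight (r + s) t p.2)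
    · intro p hp
      have hp' : p ∈ ({τ | W4c2movlemaddchow.IsShuffle₂ (r + s) t τ} ×ˢ
          {σ | W4c2movlemaddchow.IsShuffle₂ r s σ}) := by simpa using hp
      have := B1 hp'
      simpa using this
    · intro p hp q hq hpq
      exact B2 (by simpa using hp) (by simpa using hq) hpq
    · intro ν hν
      have hν' : ν ∈ {ν | W4c2movlemaddchow.IsShuffle₃ r s t ν} := by simpa using hν
      obtain ⟨p, hp, hpν⟩ := B3 hν'
      exact ⟨p, by simpa using hp, hpν⟩
    · intro p _
      simp only [Equiv.Perm.sign_mul, hsign1, Units.val_mul]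
  · rw [← Finset.sum_product']
    symm
    apply Finset.sum_nbij (fun p => p.1 * W4c2movlemaddchow.extLeft r s t p.2)
    · intro p hp
      have hp' : p ∈ ({τ | W4c2movlemaddchow.IsShuffle₂ r (s + t)
          ((finCongr (Nat.add_assoc r s t)).permCongr τ)} ×ˢ
          {σ | W4c2movlemaddchow.IsShuffle₂ s t σ}) := by simpa using hp
      have := C1 hp'
      simpa using this
    · intro p hp q hq hpq
      exact C2 (by simpa using hp) (by simpa using hq) hpq
    · intro ν hν
      have hν' : ν ∈ {ν | W4c2movlemaddchow.IsShuffle₃ r s t ν} := by simpa using hν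
      obtain ⟨p, hp, hpν⟩ := C3 hν'
      exact ⟨p, by simpa using hp, hpν⟩
    · intro p _
      simp only [Equiv.Perm.sign_mul, hsign2, Units.val_mul]

end Groth.Agent.S15082
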