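import Groth.Statements.S15083
import Mathlib.LinearAlgebra.Matrix.Transvection
import Mathlib.Algebra.Polynomial.Eval.Defs
-- import your own Groth.Agent.* helpers here

set_option autoImplicit false
universe u
open MovLem

namespace Groth.Agent.S15083

open Matrix Polynomial

theorem whitehead {n : Type*} [Fintype n] [DecidableEq n] {K : Type*} [Field K] (i j : n)
    (hij : i ≠ j) (c : K) (hc : c ≠ 0) :
    transvection i j c * (transvection j i (-c⁻¹) * (transvection i j c * (transvection i j (-1) *
      (transvection j i 1 * transvection i j (-1))))) =
    diagonal (Function.update (Function.update (fun _ => (1 : K)) i c) j c⁻¹) := by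
  have hji : j ≠ i := Ne.symm hij
  have hc' : c * c⁻¹ = 1 := mul_inv_cancel₀ hc
  have hc'' : c⁻¹ * c = 1 := inv_mul_cancel₀ hc
  ext a b
  by_cases ha : a = i
  · subst ha
    simp only [transvection_mul_apply_same, transvection_mul_apply_of_ne, ne_eq, hij, hji,
      not_false_eq_true]
    by_cases hb : b = a
    · subst hb
      simp [transvection, one_apply, hij, hji, diagonal_apply, hc'']
    · by_cases hb' : b = j
      · subst hb'
        simp [transvection, one_apply, single_apply, hij, hji, diagonal_apply, hc']
      · simp [transvection, one_apply, single_apply, hij, hji, diagonal_apply, hb, hb', Ne.symm hb,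
          Ne.symm hb']
  · by_cases ha' : a = j
    · subst ha'
      simp only [transvection_mul_apply_same, transvection_mul_apply_of_ne, ne_eq, hij, hji,
        not_false_eq_true]
      by_cases hb : b = a
      · subst hb
        simp [transvection, one_apply, single_apply, hij, hji, diagonal_apply, hc', hc'']
      · by_cases hb' : b = i
        · subst hb'
          simp [transvection, one_apply, single_apply, hij, hji, diagonal_apply, hc', hc'']
        · simp [transvection, one_apply, single_apply, hij, hji, diagonal_apply, hb, hb', Ne.symm hb,
            Ne.symm hb']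
    · simp only [transvection_mul_apply_of_ne, ne_eq, ha, ha', not_false_eq_true]
      simp [transvection, one_apply, single_apply, diagonal_apply, ha, ha', Function.update_apply]
      intro h; exact absurd h.symm ha

theorem transvection_map' {n : Type*} [Fintype n] [DecidableEq n] {R S : Type*} [CommRing R]
    [CommRing S] (f : R →+* S) (i j : n) (a : R) :
    (transvection i j a).map f = transvection i j (f a) := by
  ext x y
  simp only [transvection, map_apply, Matrix.add_apply, one_apply, single_apply]
  split_ifs <;> simp_all

def PathP {n : Type*} [Fintype n] [DecidableEq n] {K : Type*} [Field K] (B : Matrix n n K) : Prop :=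
  ∃ M : Matrix n n K[X], M.det = 1 ∧ M.map (evalRingHom (0:K)) = 1 ∧
    M.map (evalRingHom (1:K)) = B

theorem pathP_one {n : Type*} [Fintype n] [DecidableEq n] {K : Type*} [Field K] :
    PathP (1 : Matrix n n K) :=
  ⟨1, det_one, by simp, by simp⟩

theorem pathP_mul {n : Type*} [Fintype n] [DecidableEq n] {K : Type*} [Field K]
    {A B : Matrix n n K} (hA : PathP A) (hB : PathP B) : PathP (A * B) := by
  obtain ⟨M, hM, hM0, hM1⟩ := hA
  obtain ⟨N, hN, hN0, hN1⟩ := hB
  refine ⟨M * N, by rw [det_mul, hM, hN, one_mul], ?_, ?_⟩
  · rw [Matrix.map_mul, hM0, hN0, one_mul]
  · rw [Matrix.map_mul, hM1, hN1]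

theorem pathP_transvection {n : Type*} [Fintype n] [DecidableEq n] {K : Type*} [Field K]
    (i j : n) (hij : i ≠ j) (c : K) : PathP (transvection i j c) := by
  refine ⟨transvection i j (C c * X), det_transvection_of_ne i j hij _, ?_, ?_⟩
  · rw [transvection_map']; simp
  · rw [transvection_map']; simp

theorem pathP_H {n : Type*} [Fintype n] [DecidableEq n] {K : Type*} [Field K]
    (i j : n) (hij : i ≠ j) (c : K) (hc : c ≠ 0) :
    PathP (diagonal (Function.update (Function.update (fun _ => (1 : K)) i c) j c⁻¹)) := by
  rw [← whitehead i j hij c hc]
  have hji := Ne.symm hij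
  exact pathP_mul (pathP_transvection _ _ hij _) (pathP_mul (pathP_transvection _ _ hji _)
    (pathP_mul (pathP_transvection _ _ hij _) (pathP_mul (pathP_transvection _ _ hij _)
    (pathP_mul (pathP_transvection _ _ hji _) (pathP_transvection _ _ hij _)))))

theorem pathP_diag {n : Type*} [Fintype n] [DecidableEq n] {K : Type*} [Field K]
    (i0 : n) (D : n → K) (hD : ∏ i, D i = 1) : PathP (diagonal D) := by
  have hD0 : ∀ i, D i ≠ 0 := by
    intro i hi
    have : ∏ k, D k = 0 := Finset.prod_eq_zero (Finset.mem_univ i) hi
    rw [hD] at this; exact one_ne_zero this
  let F : Finset n → n → K := fun s k =>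
    if k ∈ s then D k else if k = i0 then ∏ i ∈ s, (D i)⁻¹ else 1
  have key : ∀ s : Finset n, i0 ∉ s → PathP (diagonal (F s)) := by
    intro s
    induction s using Finset.induction_on with
    | empty =>
      intro _
      have h1 : F ∅ = fun _ => 1 := by
        funext k; simp [F]
      rw [h1, diagonal_one]; exact pathP_one
    | insert a s has ih =>
      intro h0
      have ha0 : a ≠ i0 := fun h => h0 (h ▸ Finset.mem_insert_self a s)
      have hs0 : i0 ∉ s := fun h => h0 (Finset.mem_insert_of_mem h)
      have h2 : diagonal (F (insert a s)) = diagonal (F s) *
          diagonal (Function.update (Function.update (fun _ => (1 : K)) a (D a)) i0 (D a)⁻¹) := by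
        rw [diagonal_mul_diagonal]
        congr 1
        funext k
        by_cases hka : k = a
        · subst hka
          simp [F, has, ha0, Function.update_apply]
        · by_cases hks : k ∈ s
          · have hk0 : k ≠ i0 := fun h => hs0 (h ▸ hks)
            simp [F, hka, hks, hk0, Function.update_apply]
          · by_cases hk0 : k = i0
            · subst hk0
              simp [F, hka, hks, has, Function.update_apply, Finset.prod_insert, mul_comm]
            · simp [F, hka, hks, hk0, Function.update_apply]
      rw [h2]
      exact pathP_mul (ih hs0) (pathP_H a i0 ha0 (D a) (hD0 a))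
  have h3 := key (Finset.univ.erase i0) (Finset.notMem_erase i0 _)
  convert h3 using 2
  funext k
  by_cases hk : k = i0
  · subst hk
    simp only [F, Finset.mem_erase, ne_eq, not_true_eq_false, Finset.mem_univ, and_true,
      if_false, if_true]
    rw [Finset.prod_inv_distrib]
    have h4 := Finset.mul_prod_erase Finset.univ D (Finset.mem_univ k)
    rw [hD] at h4
    exact eq_inv_of_mul_eq_one_left h4
  · simp [F, hk]

/-- Let K be a field and r ≥ 1. For every element A of the special linear group SL_{r+1}(K) there is an
algebraic path in SL_{r+1} from the identity to A defined over K: a matrix M of determinant 1 with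
entries in the polynomial ring K[y] such that M(0) is the identity matrix and M(1) = A. (The
published statement takes K to be the function field of SL_{r+1} over the ground field, A its
generic point viewed as a K-rational point, and the parameter space to be the projective line minus
the point 1, with endpoints 0 and ∞; this row gives the path for an arbitrary K-point A on the
affine line with endpoints 0 and 1, which is what the published construction provides before
composing with the coordinate change y ↦ y/(y − 1).) -/
theorem result
    (K : Type u) [Field K] (r : ℕ) (hr : 1 ≤ r)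
    (A : Matrix.SpecialLinearGroup (Fin (r + 1)) K) :
    ∃ M : Matrix.SpecialLinearGroup (Fin (r + 1)) (Polynomial K),
      Matrix.SpecialLinearGroup.map (Polynomial.evalRingHom (0 : K)) M = 1 ∧
      Matrix.SpecialLinearGroup.map (Polynomial.evalRingHom (1 : K)) M = A := by
  have hP : PathP (A : Matrix (Fin (r+1)) (Fin (r+1)) K) := by
    apply diagonal_transvection_induction PathP (A : Matrix (Fin (r+1)) (Fin (r+1)) K)
    · intro D hD
      rw [A.prop, det_diagonal] at hD
      exact pathP_diag 0 D hD
    · intro t
      exact pathP_transvection t.i t.j t.hij t.c
    · intro A B hA hB; exact pathP_mul hA hB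
  obtain ⟨M, hM, hM0, hM1⟩ := hP
  refine ⟨⟨M, hM⟩, ?_, ?_⟩
  · exact Subtype.ext hM0
  · exact Subtype.ext hM1

end Groth.Agent.S15083
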