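import Groth.Statements.S15116
-- import your own Groth.Agent.* helpers here

set_option autoImplicit false
universe u v
open NRGIT

namespace Groth.Agent.S15116

/-- Let k be a characteristic-zero field and A a commutative k-algebra, graded by the integers with all
pieces of positive degree zero, and D a k-derivation of A that raises degrees by a fixed positive
integer l. If no maximal ideal of A contains both every piece of negative degree and the image of D,
then there is f with D f = 1. (The published statement is for an affine variety with an action of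
the semidirect product of the additive and multiplicative groups, the multiplicative group acting on
the coordinate ring with non-positive weights and on the Lie algebra of the additive group with
positive weight: the derivation is a generator of that Lie algebra, the maximal ideals containing
the pieces of negative degree are the limit points under the multiplicative group, and a limit point
has trivial additive stabiliser exactly when the image of D is not contained in its ideal; this row
keeps only this algebraic content, for any such graded algebra. The first assertion of the published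
lemma, that every point has a limit in the variety under the multiplicative group as t → 0, is not
part of this row.) -/
theorem result (k : Type u) [Field k] [CharZero k]
    (A : Type v) [CommRing A] [Algebra k A] (𝒜 : ℤ → Submodule k A) [GradedAlgebra 𝒜]
    (hpos : ∀ i : ℤ, 0 < i → 𝒜 i = ⊥)
    (D : Derivation k A A) (l : ℤ) (hl : 0 < l)
    (hD : ∀ (i : ℤ) (a : A), a ∈ 𝒜 i → D a ∈ 𝒜 (i + l))
    (hfree : ∀ m : Ideal A, m.IsMaximal → (∀ i : ℤ, i < 0 → (𝒜 i : Set A) ⊆ m) → ∃ a : A, D a ∉ m) :
    ∃ f : A, D f = 1 := by
  classical
  have hD0 : ∀ (i : ℤ) (a : A), a ∈ 𝒜 i → 0 < i + l → D a = 0 := by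
    intro i a ha hi
    have := hD i a ha
    rw [hpos _ hi] at this
    simpa using this
  have hz : ∀ (i : ℤ), 0 < i → ∀ y : A, y ∈ 𝒜 i → y = 0 := by
    intro i hi y hy
    rw [hpos i hi] at hy
    simpa using hy
  have hcomp : ∀ (x : A) (i : ℤ), 0 < i → (DirectSum.decompose 𝒜 x i : A) = 0 :=
    fun x i hi => hz i hi _ (DirectSum.decompose 𝒜 x i).2
  let T : Ideal A :=
    { carrier := {x | ∃ h : A, D h = (DirectSum.decompose 𝒜 x 0 : A)}
      add_mem' := by
        rintro x y ⟨h1, e1⟩ ⟨h2, e2⟩
        exact ⟨h1 + h2, by simp [e1, e2]⟩
      zero_mem' := ⟨0, by simp⟩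
      smul_mem' := by
        rintro r x ⟨h, e⟩
        simp only [smul_eq_mul]
        induction r using DirectSum.Decomposition.inductionOn 𝒜 with
        | zero => exact ⟨0, by simp⟩
        | @homogeneous a r =>
          obtain ⟨r, hr⟩ := r
          have key : (DirectSum.decompose 𝒜 (r * x) 0 : A)
              = r * (DirectSum.decompose 𝒜 x (-a) : A) := by
            have := DirectSum.coe_decompose_mul_add_of_left_mem 𝒜 (b := x) (j := -a) hr
            rw [add_neg_cancel] at this
            exact this
          show ∃ h : A, D h = (DirectSum.decompose 𝒜 (r * x) 0 : A)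
          rw [key]
          rcases lt_trichotomy a 0 with ha | ha | ha
          · exact ⟨0, by rw [hcomp x (-a) (by omega)]; simp⟩
          · subst ha
            refine ⟨r * h, ?_⟩
            rw [Derivation.leibniz, hD0 0 r hr (by omega)]
            simp [e]
          · have : r = 0 := hz a ha r hr
            exact ⟨0, by simp [this]⟩
        | add r r' ih ih' =>
          obtain ⟨h1, e1⟩ := ih
          obtain ⟨h2, e2⟩ := ih'
          exact ⟨h1 + h2, by simp [add_mul, e1, e2]⟩ }
  let S : Set A := {x | ∃ i : ℤ, i < 0 ∧ x ∈ 𝒜 i} ∪ Set.range D
  have hST : Ideal.span S ≤ T := by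
    rw [Ideal.span_le]
    rintro x (⟨i, hi, hx⟩ | ⟨y, rfl⟩)
    · refine ⟨0, ?_⟩
      rw [DirectSum.decompose_of_mem_ne 𝒜 hx (by omega)]
      simp
    · show ∃ h : A, D h = (DirectSum.decompose 𝒜 (D y) 0 : A)
      induction y using DirectSum.Decomposition.inductionOn 𝒜 with
      | zero => exact ⟨0, by simp⟩
      | @homogeneous c y =>
        obtain ⟨y, hy⟩ := y
        have hDy := hD c y hy
        by_cases hc : c + l = 0
        · refine ⟨y, ?_⟩
          rw [hc] at hDy
          rw [DirectSum.decompose_of_mem_same 𝒜 hDy]
        · refine ⟨0, ?_⟩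
          rw [DirectSum.decompose_of_mem_ne 𝒜 hDy hc]
          simp
      | add y y' ih ih' =>
        obtain ⟨h1, e1⟩ := ih
        obtain ⟨h2, e2⟩ := ih'
        exact ⟨h1 + h2, by simp [e1, e2]⟩
  have htop : Ideal.span S = ⊤ := by
    by_contra hne
    obtain ⟨m, hm, hle⟩ := Ideal.exists_le_maximal _ hne
    obtain ⟨a, ha⟩ := hfree m hm (fun i hi x hx => hle (Ideal.subset_span (Or.inl ⟨i, hi, hx⟩)))
    exact ha (hle (Ideal.subset_span (Or.inr ⟨a, rfl⟩)))
  have h1 : (1 : A) ∈ T := hST (htop ▸ Submodule.mem_top)
  obtain ⟨f, hf⟩ := h1
  refine ⟨f, ?_⟩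
  rw [hf, DirectSum.decompose_of_mem_same 𝒜 SetLike.GradedOne.one_mem]

end Groth.Agent.S15116
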