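import Groth.Statements.S15122
-- import your own Groth.Agent.* helpers here

set_option autoImplicit false
universe u v w
open GIT

namespace Groth.Agent.S15122

/-- Let R be a commutative ring, A a commutative R-algebra graded by the natural numbers, σ a
homogeneous element of degree zero, and B the localisation of A away from σ, equipped with a grading
by the natural numbers for which the localisation map ι : A → B is a graded ring homomorphism (such
a grading is necessarily the one induced from A). Then the homogeneous ideal of B generated by the
image of the irrelevant ideal of A is the whole irrelevant ideal of B; in other words the induced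
rational map from Proj B to Proj A is defined everywhere. (The published statement also assumes σ a
non-zero-divisor, which this step does not use, and goes on to conclude that Proj B → Proj A is an
open immersion onto the basic open set of σ.) -/
theorem result
    (R : Type u) (A : Type v) (B : Type w) [CommRing R] [CommRing A] [CommRing B] [Algebra R A] [Algebra R B]
    [Algebra A B] [IsScalarTower R A B]
    (𝒜 : ℕ → Submodule R A) [GradedAlgebra 𝒜] (ℬ : ℕ → Submodule R B) [GradedAlgebra ℬ]
    (σ : A) (hσ0 : σ ∈ 𝒜 0) [IsLocalization.Away σ B]
    (ι : 𝒜 →+*ᵍ ℬ) (hι : ∀ a : A, ι a = algebraMap A B a) :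
    (HomogeneousIdeal.irrelevant 𝒜).map ι = HomogeneousIdeal.irrelevant ℬ := by
  classical
  apply le_antisymm
  · rw [HomogeneousIdeal.map_le_iff_le_comap]
    intro a ha
    show ι a ∈ HomogeneousIdeal.irrelevant ℬ
    rw [HomogeneousIdeal.mem_irrelevant_iff, GradedRing.proj_apply,
      ← GradedRingHom.map_directSumDecompose]
    rw [HomogeneousIdeal.mem_irrelevant_iff, GradedRing.proj_apply] at ha
    rw [ha, map_zero]
  · intro b hb
    show b ∈ Ideal.map ι (HomogeneousIdeal.irrelevant 𝒜).toIdeal
    rw [HomogeneousIdeal.mem_irrelevant_iff, GradedRing.proj_apply] at hb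
    obtain ⟨⟨a, s⟩, hab⟩ := IsLocalization.mk'_surjective (Submonoid.powers σ) b
    simp only at hab
    subst hab
    have hspec := IsLocalization.mk'_spec B a s
    obtain ⟨n, hn⟩ := s.2
    have hs0 : (s : A) ∈ 𝒜 0 := by
      rw [← hn]
      have := SetLike.pow_mem_graded n hσ0
      simpa using this
    have hv0 : algebraMap A B s ∈ ℬ 0 := by
      rw [← hι]
      exact ι.map_mem hs0
    have h0 : (DirectSum.decompose ℬ (IsLocalization.mk' B a s * algebraMap A B s) (0 + 0) : B)
        = (DirectSum.decompose ℬ (IsLocalization.mk' B a s) 0 : B) * algebraMap A B s :=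
      DirectSum.coe_decompose_mul_add_of_right_mem ℬ hv0
    rw [hb, zero_mul, hspec, add_zero, ← hι, ← GradedRingHom.map_directSumDecompose] at h0
    have hmem : a - (DirectSum.decompose 𝒜 a 0 : A) ∈ HomogeneousIdeal.irrelevant 𝒜 := by
      rw [HomogeneousIdeal.mem_irrelevant_iff, GradedRing.proj_apply, DirectSum.decompose_sub]
      simp
    have hunit := IsLocalization.map_units B s
    have hb' : IsLocalization.mk' B a s
        = ι (a - (DirectSum.decompose 𝒜 a 0 : A)) * ↑(hunit.unit⁻¹) := by
      rw [map_sub, h0, sub_zero, hι, ← hspec, mul_assoc, IsUnit.mul_val_inv, mul_one]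
    rw [hb']
    exact Ideal.mul_mem_right _ _ (Ideal.mem_map_of_mem ι hmem)

end Groth.Agent.S15122
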