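import Groth.Statements.S15135
-- import your own Groth.Agent.* helpers here

set_option autoImplicit false
universe u v
open Deform

namespace Groth.Agent.S15135

/-- For R-modules M ⊆ N, the first-order embedded deformations of M in N are in canonical bijection with
Hom_R(M, N/M). Writing N ⊗ k[ε] = N ⊕ εN as N × N (the pair (x, y) standing for x + εy), such a
deformation is an R-submodule L of N × N which is stable under multiplication by ε (if (x, y) ∈ L
then (0, x) ∈ L), reduces to M (x ∈ M exactly when (x, y) ∈ L for some y) and is flat over the dual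
numbers, flatness being stated elementwise as: (0, y) ∈ L only if y ∈ M (for a submodule reducing to
M this is the equality of the kernel and the image of ε on L, i.e. flatness over k[ε] when R is an
algebra over a field k). To φ : M → N/M corresponds the submodule of all (x, y) with x ∈ M and y ≡
φ(x) mod M. The first clause says this rule defines exactly one submodule for each φ; the second
says that a submodule has the three properties precisely when its membership is given by this rule
for some φ. (The published statement is a linear isomorphism t_G ≅ Hom_R(M, N/M) for the functor G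
of flat deformations of M inside N ⊗ A over local Artinian algebras A; this row states only the
underlying bijection, and the obstruction half is not stated here.) -/
theorem result
    (R : Type u) [CommRing R] (N : Type v) [AddCommGroup N] [Module R N] (M : Submodule R N) :
    (∀ φ : M →ₗ[R] (N ⧸ M), ∃! L : Submodule R (N × N),
        ∀ x y : N, (x, y) ∈ L ↔ ∃ h : x ∈ M, Submodule.Quotient.mk y = φ ⟨x, h⟩) ∧
    (∀ L : Submodule R (N × N),
      ((∀ x y : N, (x, y) ∈ L → ((0 : N), x) ∈ L) ∧
        (∀ x : N, x ∈ M ↔ ∃ y : N, (x, y) ∈ L) ∧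
        (∀ y : N, ((0 : N), y) ∈ L → y ∈ M)) ↔
      ∃ φ : M →ₗ[R] (N ⧸ M), ∀ x y : N, (x, y) ∈ L ↔ ∃ h : x ∈ M, Submodule.Quotient.mk y = φ ⟨x, h⟩) := by
  refine ⟨fun φ => ?_, fun L => ?_⟩
  · let L : Submodule R (N × N) :=
      { carrier := {p | ∃ h : p.1 ∈ M, Submodule.Quotient.mk p.2 = φ ⟨p.1, h⟩}
        add_mem' := by
          rintro ⟨a, b⟩ ⟨c, d⟩ ⟨ha, hab⟩ ⟨hc, hcd⟩
          refine ⟨M.add_mem ha hc, ?_⟩
          simp only [Prod.fst_add, Prod.snd_add, Submodule.Quotient.mk_add] at hab hcd ⊢
          rw [hab, hcd, ← map_add]; rfl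
        zero_mem' := ⟨M.zero_mem, by rw [Prod.snd_zero, Submodule.Quotient.mk_zero]; exact (map_zero φ).symm⟩
        smul_mem' := by
          rintro r ⟨a, b⟩ ⟨ha, hab⟩
          refine ⟨M.smul_mem r ha, ?_⟩
          simp only [Prod.smul_fst, Prod.smul_snd, Submodule.Quotient.mk_smul] at hab ⊢
          rw [hab, ← map_smul]; rfl }
    refine ⟨L, fun x y => Iff.rfl, ?_⟩
    intro L' hL'
    ext ⟨x, y⟩
    exact (hL' x y).trans Iff.rfl
  · constructor
    · rintro ⟨h1, h2, h3⟩
      have hex : ∀ x : M, ∃ y : N, ((x : N), y) ∈ L := fun x => (h2 x).1 x.2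
      choose f hf using hex
      have wd : ∀ (x : N) (hx : x ∈ M) (y : N), (x, y) ∈ L →
          Submodule.Quotient.mk (p := M) y = Submodule.Quotient.mk (f ⟨x, hx⟩) := by
        intro x hx y hy
        rw [Submodule.Quotient.eq]
        apply h3
        have := L.sub_mem hy (hf ⟨x, hx⟩)
        simpa using this
      let φ : M →ₗ[R] N ⧸ M :=
        { toFun := fun x => Submodule.Quotient.mk (f x)
          map_add' := fun a b => by
            rw [← Submodule.Quotient.mk_add]
            exact (wd _ (a + b).2 _ (by simpa using L.add_mem (hf a) (hf b))).symm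
          map_smul' := fun r a => by
            rw [RingHom.id_apply, ← Submodule.Quotient.mk_smul]
            exact (wd _ (r • a).2 _ (by simpa using L.smul_mem r (hf a))).symm }
      refine ⟨φ, fun x y => ⟨fun hxy => ⟨(h2 x).2 ⟨y, hxy⟩, wd x _ y hxy⟩, ?_⟩⟩
      rintro ⟨hx, hmk⟩
      have hd : y - f ⟨x, hx⟩ ∈ M := (Submodule.Quotient.eq M).mp hmk
      obtain ⟨z, hz⟩ := (h2 _).1 hd
      have h0 : ((0 : N), y - f ⟨x, hx⟩) ∈ L := h1 _ _ hz
      have := L.add_mem (hf ⟨x, hx⟩) h0
      simpa using this
    · rintro ⟨φ, hφ⟩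
      refine ⟨?_, ?_, ?_⟩
      · intro x y hxy
        obtain ⟨hx, -⟩ := (hφ x y).1 hxy
        refine (hφ 0 x).2 ⟨M.zero_mem, ?_⟩
        rw [(Submodule.Quotient.mk_eq_zero M).mpr hx]
        exact (map_zero φ).symm
      · intro x
        constructor
        · intro hx
          obtain ⟨y, hy⟩ := Submodule.Quotient.mk_surjective M (φ ⟨x, hx⟩)
          exact ⟨y, (hφ x y).2 ⟨hx, hy⟩⟩
        · rintro ⟨y, hy⟩
          exact ((hφ x y).1 hy).1
      · intro y hy
        obtain ⟨hx0, h⟩ := (hφ 0 y).1 hy
        rw [← Submodule.Quotient.mk_eq_zero, h]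
        exact map_zero φ

end Groth.Agent.S15135
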