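import Groth.Statements.S15235
import Mathlib
-- import your own Groth.Agent.* helpers here

set_option autoImplicit false
universe u
open CategoryTheory Opposite
open HomAlg3

namespace Groth.Agent.S15235

section Aux

variable {F : ℕᵒᵖ ⥤ Type u}

/-- The transition maps of an inverse system indexed by `ℕ`. -/
noncomputable def tr (F : ℕᵒᵖ ⥤ Type u) {n m : ℕ} (h : n ≤ m) : F.obj (op m) → F.obj (op n) :=
  F.map (homOfLE h).op

lemma map_eq_tr {j k : ℕᵒᵖ} (g : k ⟶ j) : F.map g = tr F (leOfHom g.unop) := by
  unfold tr
  congr 1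

lemma tr_comp {a b c : ℕ} (h1 : a ≤ b) (h2 : b ≤ c) (x : F.obj (op c)) :
    tr F h1 (tr F h2 x) = tr F (h1.trans h2) x := by
  unfold tr
  rw [← FunctorToTypes.map_comp_apply]
  congr 1

lemma tr_refl {a : ℕ} (x : F.obj (op a)) : tr F (le_refl a) x = x := by
  unfold tr
  rw [show (homOfLE (le_refl a)).op = 𝟙 (op a) from Subsingleton.elim _ _,
    FunctorToTypes.map_id_apply]

end Aux

/-- Let (G_j) be an inverse system of abelian groups indexed by the natural numbers, with transition
maps G_{j+1} → G_j, and let j₀ be a natural number such that the transition map G_{j+1} → G_j is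
surjective for every j ≥ j₀. Then: (a) the system satisfies the Mittag-Leffler condition; (b) the
evaluation map from the inverse limit (realised as the set of compatible families) to G_{j₀} is
surjective; (c) if in addition the transition maps G_{j+1} → G_j are injective for every j ≥ j₀,
that evaluation map is bijective. (The published statement indexes the system by the negative
integers and assumes j₀ ≥ 1; this row indexes it by the natural numbers and allows j₀ = 0, which
changes nothing.) -/
theorem result (G : ℕᵒᵖ ⥤ AddCommGrpCat.{u})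
    (j₀ : ℕ) (hs : ∀ j : ℕ, j₀ ≤ j → Function.Surjective (G.map (homOfLE (Nat.le_succ j)).op).hom) :
    (G ⋙ forget AddCommGrpCat.{u}).IsMittagLeffler ∧
      Function.Surjective (fun s : (G ⋙ forget AddCommGrpCat.{u}).sections => s.1 (op j₀)) ∧
      ((∀ j : ℕ, j₀ ≤ j → Function.Injective (G.map (homOfLE (Nat.le_succ j)).op).hom) →
        Function.Bijective (fun s : (G ⋙ forget AddCommGrpCat.{u}).sections => s.1 (op j₀))) := by
  classical
  set F := G ⋙ forget AddCommGrpCat.{u} with hF
  have hsF : ∀ j, j₀ ≤ j → Function.Surjective (tr F (Nat.le_succ j)) := by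
    intro j hj
    exact hs j hj
  have hsurj : ∀ n m (h : n ≤ m), j₀ ≤ n → Function.Surjective (tr F h) := by
    intro n m h hn
    induction m, h using Nat.le_induction with
    | base => intro x; exact ⟨x, tr_refl x⟩
    | succ m hm ih =>
      intro x
      obtain ⟨y, hy⟩ := ih x
      obtain ⟨z, hz⟩ := hsF m (hn.trans hm) y
      exact ⟨z, by rw [← tr_comp hm (Nat.le_succ m), hz, hy]⟩
  have hsurj_eval : Function.Surjective (fun s : F.sections => s.1 (op j₀)) := by
    intro x
    let z : ∀ k : ℕ, F.obj (op (j₀ + k)) := fun k =>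
      Nat.rec (motive := fun k => F.obj (op (j₀ + k))) x
        (fun k zk => Classical.choose (hsF (j₀ + k) (Nat.le_add_right _ _) zk)) k
    have hz : ∀ k, tr F (Nat.le_succ (j₀ + k)) (z (k + 1)) = z k := fun k =>
      Classical.choose_spec (hsF (j₀ + k) (Nat.le_add_right _ _) (z k))
    have hzc : ∀ a b (h : a ≤ b), tr F (Nat.add_le_add_left h j₀) (z b) = z a := by
      intro a b h
      induction b, h using Nat.le_induction with
      | base => exact tr_refl _
      | succ b hb ih =>
        rw [← tr_comp (Nat.add_le_add_left hb j₀) (Nat.le_succ (j₀ + b))]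
        rw [hz, ih]
    let s : ∀ j : ℕᵒᵖ, F.obj j := fun j => tr F (Nat.le_add_left (unop j) j₀) (z (unop j))
    have hs_mem : s ∈ F.sections := by
      intro j j' g
      rw [map_eq_tr g]
      simp only [s]
      rw [tr_comp, ← hzc (unop j') (unop j) (leOfHom g.unop), tr_comp]
    refine ⟨⟨s, hs_mem⟩, ?_⟩
    show tr F (Nat.le_add_left j₀ j₀) (z j₀) = x
    have := hzc 0 j₀ (Nat.zero_le _)
    exact this
  refine ⟨?_, hsurj_eval, ?_⟩
  · intro j
    refine ⟨op (max (unop j) j₀), (homOfLE (le_max_left (unop j) j₀)).op, ?_⟩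
    intro k g
    rw [map_eq_tr g]
    rintro _ ⟨x, rfl⟩
    by_cases hkm : unop k ≤ max (unop j) j₀
    · exact ⟨tr F hkm x, by rw [tr_comp]; rfl⟩
    · push Not at hkm
      obtain ⟨y, hy⟩ := hsurj (max (unop j) j₀) (unop k) hkm.le (le_max_right _ _) x
      refine ⟨y, ?_⟩
      rw [← hy]
      show _ = tr F _ (tr F _ y)
      rw [tr_comp]
  · intro hinj
    refine ⟨?_, hsurj_eval⟩
    intro s₁ s₂ h12
    have h12' : s₁.1 (op j₀) = s₂.1 (op j₀) := h12
    apply Functor.sections_ext_iff.2
    intro j
    have key : ∀ n : ℕ, s₁.1 (op n) = s₂.1 (op n) := by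
      intro n
      rcases le_total n j₀ with hn | hn
      · have e1 := s₁.2 (homOfLE hn).op
        have e2 := s₂.2 (homOfLE hn).op
        rw [← e1, ← e2, h12']
      · induction n, hn using Nat.le_induction with
        | base => exact h12'
        | succ n hn ih =>
          apply hinj n hn
          have e1 := s₁.2 (homOfLE (Nat.le_succ n)).op
          have e2 := s₂.2 (homOfLE (Nat.le_succ n)).op
          change F.map _ (s₁.1 _) = F.map _ (s₂.1 _)
          rw [e1, e2, ih]
    exact key (unop j)

end Groth.Agent.S15235
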