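import Groth.Statements.S15259
import Groth.Agent.Lib.Helper23.EssFTLocal
-- import your own Groth.Agent.* helpers here

set_option autoImplicit false
universe u
open CategoryTheory CategoryTheory.Limits AlgebraicGeometry TopologicalSpace
open W4c2seshadripos

namespace Groth.Agent.S15259

/-- Call f : X → Y locally essentially of finite type when Y has a cover by affine opens U = Spec A such
that each f⁻¹(U) has a cover by affine opens Spec B with A → B essentially of finite type (a
localization of a finite-type A-algebra; Mathlib's RingHom.EssFiniteType), and essentially of finite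
type when moreover f is quasi-compact. Then f is essentially of finite type exactly when every
affine open U = Spec A of Y has f⁻¹(U) covered by finitely many affine opens V = Spec B of X with A
→ B essentially of finite type. -/
theorem result {X Y : Scheme.{u}} (f : X ⟶ Y) :
    ((∃ S : Set Y.affineOpens, (⋃ U ∈ S, ((U : Y.Opens) : Set ↥Y)) = Set.univ ∧
      ∀ U ∈ S, ∃ T : Set X.affineOpens, (⋃ V ∈ T, ((V : X.Opens) : Set ↥X)) = ((f ⁻¹ᵁ (U : Y.Opens)) : Set ↥X) ∧
        ∀ V ∈ T, ∃ e : (V : X.Opens) ≤ f ⁻¹ᵁ (U : Y.Opens), (f.appLE (U : Y.Opens) (V : X.Opens) e).hom.EssFiniteType) ∧ QuasiCompact f) ↔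
    ∀ U : Y.affineOpens, ∃ T : Set X.affineOpens, T.Finite ∧ (⋃ V ∈ T, ((V : X.Opens) : Set ↥X)) = ((f ⁻¹ᵁ (U : Y.Opens)) : Set ↥X) ∧
        ∀ V ∈ T, ∃ e : (V : X.Opens) ≤ f ⁻¹ᵁ (U : Y.Opens), (f.appLE (U : Y.Opens) (V : X.Opens) e).hom.EssFiniteType := by
  open Groth.Agent.Lib.Helper23.EFTL in
  constructor
  · rintro ⟨h, hqc⟩ U
    obtain ⟨T, hT, hTV⟩ := covers_of_left f (left_of_cover f h) U
    have hcpt : IsCompact ((f ⁻¹ᵁ (U : Y.Opens)) : Set ↥X) := f.isCompact_preimage U.2.isCompact
    rw [← hT] at hcpt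
    obtain ⟨t, ht⟩ := hcpt.elim_finite_subcover (fun V : T => ((V.1 : X.Opens) : Set ↥X))
      (fun V => (V.1 : X.Opens).isOpen) (by
        intro x hx
        simp only [Set.mem_iUnion] at hx ⊢
        obtain ⟨V, hV, hxV⟩ := hx
        exact ⟨⟨V, hV⟩, hxV⟩)
    refine ⟨(fun V : T => V.1) '' (t : Set T), (t.finite_toSet.image _), ?_, ?_⟩
    · apply subset_antisymm
      · simp only [Set.iUnion_subset_iff, Set.mem_image]
        rintro V ⟨W, _, rfl⟩
        rw [← hT]
        exact Set.subset_biUnion_of_mem (u := fun V : X.affineOpens => ((V : X.Opens) : Set ↥X)) W.2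
      · rw [← hT]
        intro x hx
        have := ht hx
        simp only [Set.mem_iUnion] at this ⊢
        obtain ⟨V, hVt, hxV⟩ := this
        exact ⟨V.1, ⟨V, hVt, rfl⟩, hxV⟩
    · rintro V ⟨W, _, rfl⟩
      exact hTV W.1 W.2
  · intro h
    refine ⟨⟨Set.univ, affineOpens_cover Y, fun U _ => ?_⟩, ?_⟩
    · obtain ⟨T, _, hT, hTV⟩ := h U
      exact ⟨T, hT, hTV⟩
    · rw [quasiCompact_iff_forall_isAffineOpen]
      intro U hU
      obtain ⟨T, hTf, hT, _⟩ := h ⟨U, hU⟩
      rw [← hT]
      exact hTf.isCompact_biUnion (fun V _ => V.2.isCompact)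

end Groth.Agent.S15259
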