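import Groth.Statements.S15315
import Mathlib
-- import your own Groth.Agent.* helpers here

set_option autoImplicit false
universe u
open ArLef

namespace Groth.Agent.S15315

/-- For a Noetherian commutative ring A, elements a, b with a a non-zero-divisor on A/(b), and an ideal
I, one has length(A/(aI + bA)) = length(A/(a, b)) + length(A/(I + bA)) as extended natural numbers;
in particular when two of the three quotients have finite length so does the third. -/
theorem result (A : Type u) [CommRing A] [IsNoetherianRing A] (a b : A) (I : Ideal A)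
    (ha : IsSMulRegular (A ⧸ Ideal.span ({b} : Set A)) a) :
    Module.length A (A ⧸ (Ideal.span {a} * I ⊔ Ideal.span {b})) =
      Module.length A (A ⧸ Ideal.span ({a, b} : Set A)) + Module.length A (A ⧸ (I ⊔ Ideal.span {b})) := by
  set J : Ideal A := Ideal.span {a} * I ⊔ Ideal.span {b} with hJ
  have hle1 : (I ⊔ Ideal.span {b} : Submodule A A) ≤ Submodule.comap (LinearMap.mulLeft A a) (J : Submodule A A) := by
    intro x hx
    simp only [Submodule.mem_comap, LinearMap.mulLeft_apply]
    obtain ⟨y, hy, z, hz, rfl⟩ := Submodule.mem_sup.1 hx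
    rw [mul_add]
    refine Submodule.add_mem _ (Submodule.mem_sup_left ?_) (Submodule.mem_sup_right ?_)
    · exact Ideal.mem_span_singleton_mul.2 ⟨y, hy, rfl⟩
    · exact Ideal.mul_mem_left _ _ hz
  have hle2 : (J : Submodule A A) ≤ Submodule.comap LinearMap.id (Ideal.span ({a, b} : Set A) : Submodule A A) := by
    intro x hx
    simp only [Submodule.comap_id]
    obtain ⟨y, hy, z, hz, rfl⟩ := Submodule.mem_sup.1 hx
    refine Submodule.add_mem _ ?_ ?_
    · obtain ⟨w, -, rfl⟩ := Ideal.mem_span_singleton_mul.1 hy
      exact Ideal.mul_mem_right _ _ (Ideal.subset_span (by simp))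
    · obtain ⟨c, rfl⟩ := Ideal.mem_span_singleton'.1 hz
      exact Ideal.mul_mem_left _ _ (Ideal.subset_span (by simp))
  let f : (A ⧸ (I ⊔ Ideal.span {b})) →ₗ[A] (A ⧸ J) :=
    Submodule.mapQ (I ⊔ Ideal.span {b} : Submodule A A) (J : Submodule A A) (LinearMap.mulLeft A a) hle1
  let g : (A ⧸ J) →ₗ[A] (A ⧸ Ideal.span ({a, b} : Set A)) :=
    Submodule.mapQ (J : Submodule A A) (Ideal.span ({a, b} : Set A) : Submodule A A) LinearMap.id hle2
  have hf : Function.Injective f := by
    rw [← LinearMap.ker_eq_bot, eq_bot_iff]
    intro x hx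
    obtain ⟨x, rfl⟩ := Submodule.Quotient.mk_surjective _ x
    rw [LinearMap.mem_ker] at hx
    simp only [f, Submodule.mapQ_apply, LinearMap.mulLeft_apply] at hx
    rw [Submodule.Quotient.mk_eq_zero] at hx
    obtain ⟨y, hy, z, hz, hyz⟩ := Submodule.mem_sup.1 hx
    obtain ⟨w, hw, rfl⟩ := Ideal.mem_span_singleton_mul.1 hy
    have h1 : a • (Submodule.Quotient.mk (x - w) : A ⧸ Ideal.span ({b} : Set A)) =
        a • (Submodule.Quotient.mk 0 : A ⧸ Ideal.span ({b} : Set A)) := by
      rw [← Submodule.Quotient.mk_smul, ← Submodule.Quotient.mk_smul, Submodule.Quotient.eq,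
        smul_eq_mul, smul_eq_mul, mul_zero, sub_zero, mul_sub, ← hyz, add_sub_cancel_left]
      exact hz
    have h2 := ha h1
    rw [Submodule.Quotient.eq, sub_zero] at h2
    rw [Submodule.mem_bot, Submodule.Quotient.mk_eq_zero]
    have : x = w + (x - w) := by ring
    rw [this]
    exact Submodule.add_mem _ (Submodule.mem_sup_left hw) (Submodule.mem_sup_right h2)
  have hg : Function.Surjective g := by
    intro y
    obtain ⟨y, rfl⟩ := Submodule.Quotient.mk_surjective _ y
    exact ⟨Submodule.Quotient.mk y, by simp [g]⟩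
  have H : Function.Exact f g := by
    intro y
    obtain ⟨y, rfl⟩ := Submodule.Quotient.mk_surjective _ y
    simp only [g, Submodule.mapQ_apply, LinearMap.id_apply, Set.mem_range]
    rw [Submodule.Quotient.mk_eq_zero]
    constructor
    · intro hy
      obtain ⟨r, s, hrs⟩ := Ideal.mem_span_pair.1 hy
      refine ⟨Submodule.Quotient.mk r, ?_⟩
      simp only [f, Submodule.mapQ_apply, LinearMap.mulLeft_apply]
      rw [Submodule.Quotient.eq, ← hrs]
      have : a * r - (r * a + s * b) = -(s * b) := by ring
      rw [this]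
      exact Submodule.neg_mem _ (Submodule.mem_sup_right (Ideal.mul_mem_left _ _
        (Ideal.subset_span (by simp))))
    · rintro ⟨x, hx⟩
      obtain ⟨x, rfl⟩ := Submodule.Quotient.mk_surjective _ x
      simp only [f, Submodule.mapQ_apply, LinearMap.mulLeft_apply] at hx
      rw [Submodule.Quotient.eq] at hx
      have hy : y = a * x - (a * x - y) := by ring
      rw [hy]
      refine Submodule.sub_mem _ (Ideal.mul_mem_right _ _ (Ideal.subset_span (by simp)))
        (hle2 hx)
  rw [Module.length_eq_add_of_exact f g hf hg H, add_comm]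

end Groth.Agent.S15315
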