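import Groth.Statements.S15391
import Mathlib
-- import your own Groth.Agent.* helpers here

set_option autoImplicit false
universe u
open TensorProduct
open TorFree

namespace Groth.Agent.S15391

/-- Let R be a reduced Noetherian commutative ring, M a finitely generated torsion-free R-module (no
non-zero element of M is annihilated by a non-zero-divisor of R), and t an element of M whose image
1 ⊗ t in the fibre κ(p) ⊗_R M vanishes for every prime ideal p of R, κ(p) being the residue field at
p. Then t = 0. This is the affine form of the claim that a global section of a coherent torsion-free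
module on a reduced Noetherian scheme which vanishes in every fibre is zero. -/
theorem result (R : Type u) [CommRing R] [IsReduced R] [IsNoetherianRing R]
    (M : Type u) [AddCommGroup M] [Module R M] [Module.Finite R M] [Module.IsTorsionFree R M]
    (t : M) (ht : ∀ p : PrimeSpectrum R, (1 : p.asIdeal.ResidueField) ⊗ₜ[R] t = (0 : p.asIdeal.ResidueField ⊗[R] M)) :
    t = 0 := by
  classical
  have step1 : ∀ p ∈ minimalPrimes R, ∃ s : R, s ∉ p ∧ s • t = 0 := by
    intro p hp
    haveI : p.IsPrime := hp.1.1
    have h := ht ⟨p, hp.1.1⟩
    haveI : Ring.KrullDimLE 0 (Localization.AtPrime p) :=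
      Ring.KrullDimLE.of_isLocalization p hp (Localization.AtPrime p)
    have hfield : IsField (Localization.AtPrime p) := Ring.KrullDimLE.isField_of_isReduced
    have hmax : IsLocalRing.maximalIdeal (Localization.AtPrime p) = ⊥ :=
      (IsLocalRing.isField_iff_maximalIdeal_eq).1 hfield
    let res := IsScalarTower.toAlgHom R (Localization.AtPrime p) p.ResidueField
    have hinj : Function.Injective res := by
      rw [injective_iff_map_eq_zero]
      intro x hx
      have hx' : IsLocalRing.residue (Localization.AtPrime p) x = 0 := hx
      rw [IsLocalRing.residue_eq_zero_iff, hmax] at hx'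
      exact hx'
    have hsurj : Function.Surjective res := IsLocalRing.residue_surjective
    let e : Localization.AtPrime p ≃ₗ[R] p.ResidueField :=
      LinearEquiv.ofBijective res.toLinearMap ⟨hinj, hsurj⟩
    let φ : p.ResidueField ⊗[R] M →ₗ[R] LocalizedModule p.primeCompl M :=
      ((LocalizedModule.isBaseChange p.primeCompl M).equiv.restrictScalars R).toLinearMap ∘ₗ
        (e.symm.toLinearMap.rTensor M)
    have h2 := congrArg φ h
    have he1 : e.symm 1 = 1 := by
      rw [LinearEquiv.symm_apply_eq]
      show (1 : p.ResidueField) = res 1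
      rw [map_one]
    simp only [φ, LinearMap.coe_comp, Function.comp_apply, LinearMap.rTensor_tmul,
      LinearEquiv.coe_coe, he1, map_zero, LinearEquiv.restrictScalars_apply,
      IsBaseChange.equiv_tmul, one_smul] at h2
    obtain ⟨s, hs⟩ := (IsLocalizedModule.eq_zero_iff p.primeCompl
      (LocalizedModule.mkLinearMap p.primeCompl M)).1 h2
    exact ⟨s, s.2, hs⟩
  let J : Ideal R := LinearMap.ker (LinearMap.toSpanSingleton R M t)
  have hfin := minimalPrimes.finite_of_isNoetherianRing R
  have hJ : ¬ ((J : Set R) ⊆ ⋃ p ∈ minimalPrimes R, (p : Set R)) := by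
    rw [Ideal.subset_union_prime_finite hfin ⊥ ⊥ (fun p hp _ _ => hp.1.1)]
    rintro ⟨p, hp, hJp⟩
    obtain ⟨s, hs, hst⟩ := step1 p hp
    exact hs (hJp (by simpa [J] using hst))
  simp only [Set.subset_def, not_forall] at hJ
  obtain ⟨s, hsJ, hsU⟩ := hJ
  have hst : s • t = 0 := by simpa [J] using hsJ
  have hreg : IsRegular s := by
    rw [isRegular_iff_mem_nonZeroDivisors, mem_nonZeroDivisors_iff]
    have key : ∀ x : R, s * x = 0 → x = 0 := by
      intro x hx
      have hxrad : x ∈ (⊥ : Ideal R).radical := by
        rw [← Ideal.sInf_minimalPrimes]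
        refine Submodule.mem_sInf.2 fun q hq => ?_
        have hqp : Ideal.IsPrime q := hq.1.1
        have hsq : s ∉ q := fun h => hsU (Set.mem_biUnion hq h)
        have : s * x ∈ q := by rw [hx]; exact q.zero_mem
        exact (hqp.mem_or_mem this).resolve_left hsq
      obtain ⟨n, hn⟩ := hxrad
      exact IsReduced.eq_zero x ⟨n, hn⟩
    exact ⟨key, fun x hx => key x (by rw [mul_comm]; exact hx)⟩
  exact (hreg.smul_eq_zero_iff_right).1 hst

end Groth.Agent.S15391
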