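import Groth.Statements.S15442
-- import your own Groth.Agent.* helpers here

set_option autoImplicit false
universe u v
open CategoryTheory AlgebraicGeometry
open WeilCoh

namespace Groth.Agent.S15442

/-- Let H^* be a Weil cohomology theory, with coefficient field K of characteristic zero, on nonsingular
connected projective varieties over the algebraically closed field k, and X such a variety. Then the
structure morphism K → H^0(X) is an isomorphism: c ↦ c · 1 is a bijection from K onto the degree-0
part of the cohomology ring. -/
theorem result (k : Type u) [Field k] [IsAlgClosed k] (K : Type v) [Field K] [CharZero K]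
    (T : WeilCoh.Theory k K) (X : WeilCoh.Var k) :
    Function.Bijective (fun c : K =>
      (⟨c • (1 : T.H X), (T.gr X 0).smul_mem c (SetLike.one_mem_graded (T.gr X))⟩ : ↥(T.gr X 0))) := by
  
  set d : ℤ := 2 * (WeilCoh.dim X.obj.left : ℤ)
  have hdual := T.duality X 0 d (by ring)
  have htop : Module.finrank K (T.gr X d) = 1 := by
    have e := LinearEquiv.ofBijective ((T.tr X).domRestrict (T.gr X d)) (T.tr_bijective X)
    rw [e.finrank_eq, Module.finrank_self]
  have h0 : Module.finrank K (T.gr X 0) = 1 := by
    rw [Module.finrank_of_isPerfPair (pairing K (T.gr X 0) (T.gr X d) (T.tr X)), htop]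
  have one_mem : (1 : T.H X) ∈ T.gr X 0 := SetLike.one_mem_graded (T.gr X)
  have hne : (⟨1, one_mem⟩ : T.gr X 0) ≠ 0 := by
    intro h
    have h1 : (1 : T.H X) = 0 := congrArg Subtype.val h
    have : Subsingleton (T.H X) := subsingleton_of_zero_eq_one h1.symm
    have : Subsingleton (T.gr X d) := by
      constructor
      intro x y
      exact Subtype.ext (Subsingleton.elim _ _)
    have := Module.finrank_zero_of_subsingleton (R := K) (M := T.gr X d)
    omega
  let F : K →ₗ[K] T.gr X 0 := LinearMap.toSpanSingleton K _ ⟨1, one_mem⟩
  have hF : ∀ c, F c = ⟨c • (1 : T.H X), (T.gr X 0).smul_mem c one_mem⟩ := by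
    intro c; rfl
  have hinj : Function.Injective F := by
    intro a b hab
    by_contra hne'
    have h1 : F (a - b) = 0 := by rw [map_sub, hab, sub_self]
    have : (a - b) • (⟨1, one_mem⟩ : T.gr X 0) = 0 := h1
    rcases smul_eq_zero.1 this with h | h
    · exact hne' (sub_eq_zero.1 h)
    · exact hne h
  have hbij : Function.Bijective F := by
    refine ⟨hinj, ?_⟩
    have hr : Module.finrank K K = Module.finrank K (T.gr X 0) := by rw [Module.finrank_self, h0]
    exact (LinearMap.injective_iff_surjective_of_finrank_eq_finrank hr).1 hinj
  have : (fun c : K => (⟨c • (1 : T.H X), (T.gr X 0).smul_mem c (SetLike.one_mem_graded (T.gr X))⟩ :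
      ↥(T.gr X 0))) = F := by
    funext c; rfl
  rw [this]
  exact hbij

end Groth.Agent.S15442
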