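import Groth.Statements.S15449
import Groth.Agent.Lib.Helper23.WeilCoh
-- import your own Groth.Agent.* helpers here

set_option autoImplicit false
universe u v
open CategoryTheory AlgebraicGeometry
open WeilCoh

namespace Groth.Agent.S15449

/-- For a Weil cohomology theory H^* (coefficients in K of characteristic zero, on nonsingular connected
projective varieties over an algebraically closed field k), such varieties X and Y with product X ×
Y and projections p, q, and α ∈ H^i(Y): p_*(q^*(α)) = Tr_Y(α) (as a multiple of 1 ∈ H^0(X)) if i = 2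
dim Y, and p_*(q^*(α)) = 0 otherwise. The product is any object Q with morphisms p : Q → X, q : Q →
Y forming a cartesian square over Spec k; both sides are read in the total cohomology ring of X. -/
theorem result (k : Type u) [Field k] [IsAlgClosed k] (K : Type v) [Field K] [CharZero K]
    (T : WeilCoh.Theory k K) (X Y Q : WeilCoh.Var k) (p : Q ⟶ X) (q : Q ⟶ Y)
    (hQ : WeilCoh.IsProd p q) (i : ℤ) (a : ↥(T.gr Y i)) :
    (i = 2 * (WeilCoh.dim Y.obj.left : ℤ) →
      (T.push p i ⟨T.pull q a, T.pull_mem q i a a.2⟩ : T.H X) = algebraMap K (T.H X) (T.tr Y a)) ∧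
    (i ≠ 2 * (WeilCoh.dim Y.obj.left : ℤ) →
      (T.push p i ⟨T.pull q a, T.pull_mem q i a a.2⟩ : T.H X) = 0) := by
  open Groth.Agent.Lib.Helper23.Weil in
  -- dimension of the product
  have hdim : (WeilCoh.dim Q.obj.left : ℤ) = WeilCoh.dim X.obj.left + WeilCoh.dim Y.obj.left := by
    obtain ⟨aX, haX⟩ := (T.tr_bijective X).2 1
    obtain ⟨aY, haY⟩ := (T.tr_bijective Y).2 1
    have h1 : T.tr Q (T.pull p (aX : T.H X) * T.pull q (aY : T.H Y)) = 1 := by
      rw [T.tr_prod p q hQ _ _ aX.2 aY.2]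
      have e1 : T.tr X (aX : T.H X) = 1 := haX
      have e2 : T.tr Y (aY : T.H Y) = 1 := haY
      rw [e1, e2, one_mul]
    have hmem : T.pull p (aX : T.H X) * T.pull q (aY : T.H Y) ∈
        T.gr Q (2 * (WeilCoh.dim X.obj.left : ℤ) + 2 * (WeilCoh.dim Y.obj.left : ℤ)) :=
      SetLike.mul_mem_graded (T.pull_mem p _ _ aX.2) (T.pull_mem q _ _ aY.2)
    by_contra hne
    have := T.tr_vanish Q _ _ hmem (by omega)
    rw [h1] at this
    exact one_ne_zero this
  have hx := (T.push p i ⟨T.pull q a, T.pull_mem q i a a.2⟩).2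
  constructor
  · intro hi
    have hy : algebraMap K (T.H X) (T.tr Y a) ∈
        T.gr X (i + 2 * (WeilCoh.dim X.obj.left : ℤ) - 2 * (WeilCoh.dim Q.obj.left : ℤ)) := by
      rw [Algebra.algebraMap_eq_smul_one]
      refine Submodule.smul_mem _ _ (mem_gr_of_eq T (by omega) (SetLike.GradedOne.one_mem (A := T.gr X)))
    refine eq_of_tr T X _ _ _ hx hy ?_
    intro β hβ
    rw [push_spec T p i _ β (mem_gr_of_eq T (by omega) hβ)]
    have hβ' : β ∈ T.gr X (2 * (WeilCoh.dim X.obj.left : ℤ)) := mem_gr_of_eq T (by omega) hβ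
    have ha' : (a : T.H Y) ∈ T.gr Y (2 * (WeilCoh.dim Y.obj.left : ℤ)) := mem_gr_of_eq T hi a.2
    show T.tr Q (T.pull q (a : T.H Y) * T.pull p β) = T.tr X (algebraMap K (T.H X) (T.tr Y a) * β)
    rw [T.gradedComm Q _ _ _ _ (T.pull_mem q _ _ ha') (T.pull_mem p _ _ hβ'), map_smul,
      T.tr_prod p q hQ _ _ hβ' ha', Algebra.algebraMap_eq_smul_one, smul_mul_assoc, one_mul,
      map_smul, smul_eq_mul, smul_eq_mul]
    have heven : Even ((2 * (WeilCoh.dim Y.obj.left : ℤ)).natAbs * (2 * (WeilCoh.dim X.obj.left : ℤ)).natAbs) := by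
      refine Even.mul_right ?_ _
      rw [Int.natAbs_mul]
      exact Even.mul_right (by decide) _
    rw [heven.neg_one_pow, one_mul]
    ring
  · intro hi
    refine eq_of_tr T X _ _ _ hx (Submodule.zero_mem _) ?_
    intro β hβ
    rw [push_spec T p i _ β (mem_gr_of_eq T (by omega) hβ), zero_mul, map_zero]
    rcases lt_or_gt_of_ne hi with hlt | hgt
    · have hβ0 : β = 0 := by
        have := T.vanish X (2 * (WeilCoh.dim X.obj.left : ℤ) -
          (i + 2 * (WeilCoh.dim X.obj.left : ℤ) - 2 * (WeilCoh.dim Q.obj.left : ℤ))) (Or.inr (by omega))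
        rw [this] at hβ
        exact (Submodule.mem_bot K).1 hβ
      rw [hβ0, map_zero, mul_zero, map_zero]
    · have ha0 : (a : T.H Y) = 0 := by
        have hbot := T.vanish Y i (Or.inr (by omega))
        have ha : (a : T.H Y) ∈ (⊥ : Submodule K (T.H Y)) := hbot ▸ a.2
        exact (Submodule.mem_bot K).1 ha
      show T.tr Q (T.pull q (a : T.H Y) * T.pull p β) = 0
      rw [ha0, map_zero, zero_mul, map_zero]

end Groth.Agent.S15449
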