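import Groth.Statements.S15505
import Mathlib.Tactic
import Mathlib.FieldTheory.Finite.Basic
-- import your own Groth.Agent.* helpers here

set_option autoImplicit false
universe u v w
open FrobAlg

namespace Groth.Agent.S15505

/-- Let k be an algebraically closed field of characteristic p, V a k-vector space, φ a p⁻¹-linear
endomorphism of V (additive, φ(a·v) = a^{1/p}·φ(v)) and b a finite basis of V consisting of vectors
fixed by φ. Then the vectors fixed by φ are exactly the combinations of the b_i with coefficients in
the prime field: v is fixed if and only if v = Σ c_i·b_i with all c_i in the image of ℤ/p. -/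
theorem result (p : ℕ) [Fact p.Prime]
    (k : Type u) [Field k] [CharP k p] [IsAlgClosed k]
    (V : Type v) [AddCommGroup V] [Module k V]
    (φ : V →ₛₗ[((frobeniusEquiv k p).symm : k →+* k)] V)
    {ι : Type w} [Fintype ι] (b : Module.Basis ι k V) (hb : ∀ i, φ (b i) = b i) (v : V) :
    φ v = v ↔ ∃ c : ι → ZMod p, v = ∑ i, (ZMod.castHom (dvd_refl p) k (c i)) • b i := by
  
  have hφ : ∀ c : ι → k, φ (∑ i, c i • b i) = ∑ i, ((frobeniusEquiv k p).symm : k →+* k) (c i) • b i := by
    intro c
    rw [map_sum]
    refine Finset.sum_congr rfl fun i _ => ?_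
    rw [LinearMap.map_smulₛₗ, hb]
  have hcast : ∀ z : ZMod p, ((frobeniusEquiv k p).symm : k →+* k) (ZMod.castHom (dvd_refl p) k z) = ZMod.castHom (dvd_refl p) k z := by
    intro z
    have : ((frobeniusEquiv k p).symm : k →+* k).comp (ZMod.castHom (dvd_refl p) k) = ZMod.castHom (dvd_refl p) k := RingHom.ext_zmod _ _
    exact congrArg (fun g : ZMod p →+* k => g z) this
  constructor
  · intro hv
    have hv' := hv
    rw [← b.sum_repr v, hφ] at hv'
    have hc : ∀ i, ((frobeniusEquiv k p).symm : k →+* k) (b.repr v i) = b.repr v i := by
      intro i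
      have := congrArg (fun w => b.repr w i) hv'
      simp only [Module.Basis.repr_sum_self] at this
      exact this
    have hc2 : ∀ i, b.repr v i ∈ (⊥ : Subfield k) := by
      intro i
      rw [Subfield.mem_bot_iff_pow_eq_self k p]
      have h := congrArg (frobeniusEquiv k p) (hc i)
      simp only [RingEquiv.coe_toRingHom, RingEquiv.apply_symm_apply] at h
      rw [frobeniusEquiv_apply, frobenius_def] at h
      exact h.symm
    have hc3 : ∀ i, ∃ z : ZMod p, ZMod.castHom (dvd_refl p) k z = b.repr v i := by
      intro i
      have := hc2 i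
      rw [← ZMod.fieldRange_castHom_eq_bot p] at this
      exact this
    choose z hz using hc3
    refine ⟨z, ?_⟩
    conv_lhs => rw [← b.sum_repr v]
    simp only [hz]
  · rintro ⟨c, rfl⟩
    rw [hφ]
    simp only [hcast]

end Groth.Agent.S15505
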