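import Groth.Statements.S15738
import Mathlib.Tactic
-- import your own Groth.Agent.* helpers here

set_option autoImplicit false
universe u
open W4c2invhilbsl2

namespace Groth.Agent.S15738

open MvPolynomial in
lemma key {k : Type u} [Field k] (p q : ℕ) (hpq : p < q) (d0 d1 d2 e0 e1 e2 : ℕ)
    (hn : (e0 : ℤ) - p * e1 + q * e2 = (d0 : ℤ) - p * d1 + q * d2)
    (hc : (d1 : ℤ) - d2 = (e1 : ℤ) - e2) :
    (X (0 : Fin 3) ^ (q - p) - X 1 * X 2 : MvPolynomial (Fin 3) k) ∣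
      X 0 ^ d0 * X 1 ^ d1 * X 2 ^ d2 - X 0 ^ e0 * X 1 ^ e1 * X 2 ^ e2 := by
  wlog h : e1 ≤ d1 generalizing d0 d1 d2 e0 e1 e2
  · have := this e0 e1 e2 d0 d1 d2 hn.symm hc.symm (by omega)
    exact dvd_sub_comm.1 this
  obtain ⟨δ, rfl⟩ := Nat.exists_eq_add_of_le h
  have hd2 : d2 = e2 + δ := by push_cast at hc; omega
  subst hd2
  have he0 : e0 = d0 + (q - p) * δ := by
    have : (e0 : ℤ) = d0 + ((q : ℤ) - p) * δ := by
      push_cast at hn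
      linear_combination hn
    zify [hpq.le]
    exact this
  subst he0
  have : (X 0 ^ d0 * X 1 ^ (e1 + δ) * X 2 ^ (e2 + δ) -
      X 0 ^ (d0 + (q - p) * δ) * X 1 ^ e1 * X 2 ^ e2 : MvPolynomial (Fin 3) k) =
      (X 0 ^ d0 * X 1 ^ e1 * X 2 ^ e2) * (-((X 0 ^ (q - p)) ^ δ - (X 1 * X 2) ^ δ)) := by
    ring
  rw [this]
  exact Dvd.dvd.mul_left ((dvd_neg).2 (sub_dvd_pow_sub_pow _ _ δ)) _

open MvPolynomial in
lemma key2 {k : Type u} [Field k] (p q m : ℕ) (hpq : p < q) (d0 d1 d2 e0 e1 e2 j : ℕ)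
    (hn : (e0 : ℤ) - p * e1 + q * e2 = (d0 : ℤ) - p * d1 + q * d2)
    (hc : (d1 : ℤ) - d2 - ((e1 : ℤ) - e2) = m * j) :
    (X (0 : Fin 3) ^ (q - p) - X 1 * X 2 : MvPolynomial (Fin 3) k) ∣
      X 0 ^ d0 * X 1 ^ d1 * X 2 ^ d2 -
        (X 0 ^ e0 * X 1 ^ e1 * X 2 ^ e2) * (X 0 ^ (m * p) * X 1 ^ m) ^ j := by
  have h := key (k := k) p q hpq d0 d1 d2 (e0 + j * (m * p)) (e1 + j * m) e2
    (by push_cast; linear_combination hn) (by push_cast; linear_combination hc)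
  have e : (X 0 ^ (e0 + j * (m * p)) * X 1 ^ (e1 + j * m) * X 2 ^ e2 : MvPolynomial (Fin 3) k) =
      (X 0 ^ e0 * X 1 ^ e1 * X 2 ^ e2) * (X 0 ^ (m * p) * X 1 ^ m) ^ j := by
    ring
  rwa [e] at h

/-- Let k be a field and m ≥ 1; for a monomial X₀^d₀X₁^d₁X₂^d₂ of the polynomial ring in X₀, X₁, X₂ (X₂
standing for Xⱼ, j = 3 or 4, of the five-variable ring) put n = d₀ − p·d₁ + q·d₂ (its weight for the
torus diag(t, t^(−p), t^q)), c = d₁ − d₂ and ω = p·d₁ − q·d₂, so that d₀ = n + ω; here 0 < p < q are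
coprime integers. Take two monomials X₀^d₀X₁^d₁X₂^d₂ and X₀^e₀X₁^e₁X₂^e₂ with the same n and with
values c, c' of c congruent modulo m (so both lie in the same ℤ × ℤ/m-weight piece for the weights
(1,0), (−p,−1), (q,1)). Then: (i) if c = c', the difference of the two monomials lies in the
principal ideal (X₀^(q−p) − X₁X₂); (ii) if c' < c, the monomial X₀^d₀X₁^d₁X₂^d₂ lies in the ideal
(X₀^(q−p) − X₁X₂, X₀^(mp)X₁^m); (iii) in all cases the difference lies in the ideal (X₀^(q−p) −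
X₁X₂, 1 − X₀^(mp)X₁^m). -/
theorem result (k : Type u) [Field k] (p q m : ℕ) (hp : 0 < p) (hpq : p < q) (hcop : Nat.Coprime p q) (hm : 0 < m)
    (d0 d1 d2 e0 e1 e2 : ℕ) (hn : (e0 : ℤ) - (p : ℤ) * e1 + (q : ℤ) * e2 = (d0 : ℤ) - (p : ℤ) * d1 + (q : ℤ) * d2)
    (hc : (m : ℤ) ∣ ((d1 : ℤ) - d2) - ((e1 : ℤ) - e2)) :
    ((d1 : ℤ) - d2 = (e1 : ℤ) - e2 →
      (MvPolynomial.X (0 : Fin 3) ^ d0 * MvPolynomial.X (1 : Fin 3) ^ d1 * MvPolynomial.X (2 : Fin 3) ^ d2 - MvPolynomial.X (0 : Fin 3) ^ e0 * MvPolynomial.X (1 : Fin 3) ^ e1 * MvPolynomial.X (2 : Fin 3) ^ e2 : MvPolynomial (Fin 3) k) ∈ Ideal.span {MvPolynomial.X (0 : Fin 3) ^ (q - p) - MvPolynomial.X (1 : Fin 3) * MvPolynomial.X (2 : Fin 3)}) ∧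
    ((e1 : ℤ) - e2 < (d1 : ℤ) - d2 →
      (MvPolynomial.X (0 : Fin 3) ^ d0 * MvPolynomial.X (1 : Fin 3) ^ d1 * MvPolynomial.X (2 : Fin 3) ^ d2 : MvPolynomial (Fin 3) k) ∈ Ideal.span {MvPolynomial.X (0 : Fin 3) ^ (q - p) - MvPolynomial.X (1 : Fin 3) * MvPolynomial.X (2 : Fin 3), MvPolynomial.X (0 : Fin 3) ^ (m * p) * MvPolynomial.X (1 : Fin 3) ^ m}) ∧
    ((MvPolynomial.X (0 : Fin 3) ^ d0 * MvPolynomial.X (1 : Fin 3) ^ d1 * MvPolynomial.X (2 : Fin 3) ^ d2 - MvPolynomial.X (0 : Fin 3) ^ e0 * MvPolynomial.X (1 : Fin 3) ^ e1 * MvPolynomial.X (2 : Fin 3) ^ e2 : MvPolynomial (Fin 3) k) ∈ Ideal.span {MvPolynomial.X (0 : Fin 3) ^ (q - p) - MvPolynomial.X (1 : Fin 3) * MvPolynomial.X (2 : Fin 3), 1 - MvPolynomial.X (0 : Fin 3) ^ (m * p) * MvPolynomial.X (1 : Fin 3) ^ m}) := by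
  obtain ⟨j, hj⟩ := hc
  have hpart : ∀ (d0 d1 d2 e0 e1 e2 : ℕ),
      (e0 : ℤ) - (p : ℤ) * e1 + (q : ℤ) * e2 = (d0 : ℤ) - (p : ℤ) * d1 + (q : ℤ) * d2 →
      ∀ j : ℤ, ((d1 : ℤ) - d2) - ((e1 : ℤ) - e2) = m * j → (e1 : ℤ) - e2 < (d1 : ℤ) - d2 →
      ∃ j' : ℕ, (MvPolynomial.X (0 : Fin 3) ^ (q - p) - MvPolynomial.X 1 * MvPolynomial.X 2 :
        MvPolynomial (Fin 3) k) ∣
        MvPolynomial.X 0 ^ d0 * MvPolynomial.X 1 ^ d1 * MvPolynomial.X 2 ^ d2 -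
          (MvPolynomial.X 0 ^ e0 * MvPolynomial.X 1 ^ e1 * MvPolynomial.X 2 ^ e2) *
            (MvPolynomial.X 0 ^ (m * p) * MvPolynomial.X 1 ^ m) ^ (j' + 1) := by
    intro d0 d1 d2 e0 e1 e2 hn j hj hlt
    have hjpos : 0 < j := by
      by_contra hneg
      push Not at hneg
      have : (m : ℤ) * j ≤ 0 := mul_nonpos_of_nonneg_of_nonpos (by positivity) hneg
      linarith
    refine ⟨(j - 1).toNat, key2 p q m hpq d0 d1 d2 e0 e1 e2 _ hn ?_⟩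
    rw [hj]
    push_cast
    rw [Int.toNat_of_nonneg (by omega)]
    ring
  have hiii : ∀ (d0 d1 d2 e0 e1 e2 : ℕ),
      (e0 : ℤ) - (p : ℤ) * e1 + (q : ℤ) * e2 = (d0 : ℤ) - (p : ℤ) * d1 + (q : ℤ) * d2 →
      ∀ j : ℤ, ((d1 : ℤ) - d2) - ((e1 : ℤ) - e2) = m * j → (e1 : ℤ) - e2 < (d1 : ℤ) - d2 →
      (MvPolynomial.X (0 : Fin 3) ^ d0 * MvPolynomial.X (1 : Fin 3) ^ d1 * MvPolynomial.X (2 : Fin 3) ^ d2 - MvPolynomial.X (0 : Fin 3) ^ e0 * MvPolynomial.X (1 : Fin 3) ^ e1 * MvPolynomial.X (2 : Fin 3) ^ e2 : MvPolynomial (Fin 3) k) ∈ Ideal.span {MvPolynomial.X (0 : Fin 3) ^ (q - p) - MvPolynomial.X (1 : Fin 3) * MvPolynomial.X (2 : Fin 3), 1 - MvPolynomial.X (0 : Fin 3) ^ (m * p) * MvPolynomial.X (1 : Fin 3) ^ m} := by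
    intro d0 d1 d2 e0 e1 e2 hn j hj hlt
    obtain ⟨j', r, hr⟩ := hpart d0 d1 d2 e0 e1 e2 hn j hj hlt
    obtain ⟨s, hs⟩ := sub_dvd_pow_sub_pow
      (MvPolynomial.X 0 ^ (m * p) * MvPolynomial.X 1 ^ m : MvPolynomial (Fin 3) k) 1 (j' + 1)
    rw [Ideal.mem_span_pair]
    refine ⟨r, -(MvPolynomial.X 0 ^ e0 * MvPolynomial.X 1 ^ e1 * MvPolynomial.X 2 ^ e2) * s, ?_⟩
    rw [one_pow] at hs
    linear_combination (-1 : MvPolynomial (Fin 3) k) * hr +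
      (-(MvPolynomial.X 0 ^ e0 * MvPolynomial.X 1 ^ e1 * MvPolynomial.X 2 ^ e2)) * hs
  refine ⟨fun h => ?_, fun h => ?_, ?_⟩
  · rw [Ideal.mem_span_singleton]
    exact key p q hpq d0 d1 d2 e0 e1 e2 hn h
  · obtain ⟨j', r, hr⟩ := hpart d0 d1 d2 e0 e1 e2 hn j hj h
    rw [Ideal.mem_span_pair]
    refine ⟨r, (MvPolynomial.X 0 ^ e0 * MvPolynomial.X 1 ^ e1 * MvPolynomial.X 2 ^ e2) *
      (MvPolynomial.X 0 ^ (m * p) * MvPolynomial.X 1 ^ m) ^ j', ?_⟩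
    linear_combination (-1 : MvPolynomial (Fin 3) k) * hr
  · rcases lt_trichotomy ((e1 : ℤ) - e2) ((d1 : ℤ) - d2) with hlt | heq | hgt
    · exact hiii d0 d1 d2 e0 e1 e2 hn j hj hlt
    · have := key (k := k) p q hpq d0 d1 d2 e0 e1 e2 hn heq.symm
      obtain ⟨r, hr⟩ := this
      rw [Ideal.mem_span_pair]
      exact ⟨r, 0, by rw [hr]; ring⟩
    · have := hiii e0 e1 e2 d0 d1 d2 hn.symm (-j) (by rw [← neg_sub, hj]; ring) hgt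
      have h2 := neg_mem this
      rwa [neg_sub] at h2

end Groth.Agent.S15738
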