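import Groth.Statements.S15740
import Mathlib.Tactic
-- import your own Groth.Agent.* helpers here

set_option autoImplicit false
open W4c2invhilbsl2

namespace Groth.Agent.S15740

/-- For a monomial X₀^d₀X₁^d₁X₂^d₂ of the polynomial ring in X₀, X₁, X₂ (X₂ standing for Xⱼ, j = 3 or 4,
of the five-variable ring) put n = d₀ − p·d₁ + q·d₂ (its weight for the torus diag(t, t^(−p), t^q)),
c = d₁ − d₂ and ω = p·d₁ − q·d₂, so that d₀ = n + ω; here 0 < p < q are coprime integers. Suppose n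
≥ 0, c > 0 and d₀ < q − p (the last condition says that ω is the least value of ω for the pair (n,
c)). Then ω ≥ 0 if and only if the remainder of p·c on division by q − p, plus n, is less than q −
p. -/
theorem result (p q : ℕ) (hp : 0 < p) (hpq : p < q) (hcop : Nat.Coprime p q) (d0 d1 d2 : ℕ)
    (hn : 0 ≤ (d0 : ℤ) - (p : ℤ) * d1 + (q : ℤ) * d2) (hc : (d2 : ℤ) < d1) (hd0 : d0 < q - p) :
    0 ≤ (p : ℤ) * d1 - (q : ℤ) * d2 ↔
      Int.emod ((p : ℤ) * ((d1 : ℤ) - d2)) ((q : ℤ) - p) + ((d0 : ℤ) - (p : ℤ) * d1 + (q : ℤ) * d2) < (q : ℤ) - p := by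
  
  have hqp : (0:ℤ) < (q:ℤ) - p := by omega
  have hd' : (d0:ℤ) < (q:ℤ) - p := by omega
  have hrk : Int.emod ((p:ℤ) * ((d1:ℤ) - d2)) ((q:ℤ) - p) +
      ((q:ℤ) - p) * (((p:ℤ) * ((d1:ℤ) - d2)) / ((q:ℤ) - p)) = (p:ℤ) * ((d1:ℤ) - d2) :=
    Int.emod_add_mul_ediv _ _
  have hr0 : 0 ≤ Int.emod ((p:ℤ) * ((d1:ℤ) - d2)) ((q:ℤ) - p) := Int.emod_nonneg _ (ne_of_gt hqp)
  have hr1 : Int.emod ((p:ℤ) * ((d1:ℤ) - d2)) ((q:ℤ) - p) < (q:ℤ) - p := Int.emod_lt_of_pos _ hqp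
  generalize Int.emod ((p:ℤ) * ((d1:ℤ) - d2)) ((q:ℤ) - p) = r at *
  generalize ((p:ℤ) * ((d1:ℤ) - d2)) / ((q:ℤ) - p) = k at *
  have hω : (p:ℤ) * d1 - (q:ℤ) * d2 = ((q:ℤ) - p) * (k - d2) + r := by
    linear_combination (-1 : ℤ) * hrk
  have hd0' : (0:ℤ) ≤ d0 := by positivity
  have hsplit : (d0:ℤ) = ((d0:ℤ) - p * d1 + q * d2) + (((q:ℤ) - p) * (k - d2) + r) := by
    rw [← hω]; ring
  rw [hω]
  rcases le_or_gt 0 (k - (d2:ℤ)) with h | h
  · have hm : 0 ≤ ((q:ℤ) - p) * (k - d2) := mul_nonneg hqp.le h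
    constructor
    · intro _
      linarith
    · intro _; linarith
  · have hm : ((q:ℤ) - p) * (k - d2) ≤ -((q:ℤ) - p) := by nlinarith
    constructor
    · intro h'; linarith
    · intro h'
      exfalso
      linarith

end Groth.Agent.S15740
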