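import Groth.Statements.S15784
import Mathlib
-- import your own Groth.Agent.* helpers here

set_option autoImplicit false
universe u
open Neron

namespace Groth.Agent.S15784

/-- Let O be a discrete valuation ring with fraction field L and uniformizer ϖ', let ϖ be an element of
the maximal ideal of O, let q = u·ϖ'^n with u a unit of O and n ≥ 1, and let m ≥ 1 be a divisor of
n. Then the following are equivalent: (i) there is a nonzero element z = w·ϖ'^a of L, with w a unit
of O and a an integer congruent to n/m modulo n, and an integer j such that z^m·q^j lies in 1 + ϖO;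
(ii) ϖ'^n/q is an m-th power in the group of units of O/ϖO, that is, u·(y^m + ϖ·r) = 1 for some y, r
∈ O. (The published statement phrases (i) geometrically, as the existence of a point of order m in
the special fibre of the Néron model of the Weil restriction of the Tate curve with parameter q from
L down to a subfield over which L is totally ramified with ϖ a uniformizer of the subfield, whose
image in the component group also has order m; this row states the equivalence between (i) and (ii)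
that the printed argument establishes.) -/
theorem result
    (O : Type u) [CommRing O] [IsDomain O] [IsDiscreteValuationRing O]
    (L : Type u) [Field L] [Algebra O L] [IsFractionRing O L]
    (ϖ' : O) (hϖ' : Irreducible ϖ') (ϖ : O) (hϖ : ϖ ∈ IsLocalRing.maximalIdeal O)
    (n : ℕ) (hn : 1 ≤ n) (u : Oˣ) (q : O) (hq : q = u * ϖ' ^ n)
    (m : ℕ) (hm : 1 ≤ m) (hmn : m ∣ n) :
    (∃ (w : Oˣ) (a j t : ℤ) (r : O), a = (n / m : ℕ) + t * n ∧
        (algebraMap O L w * algebraMap O L ϖ' ^ a) ^ m * algebraMap O L q ^ j = algebraMap O L (1 + ϖ * r)) ↔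
      ∃ y r : O, (u : O) * (y ^ m + ϖ * r) = 1 := by
  classical
  have hinj : Function.Injective (algebraMap O L) := IsFractionRing.injective O L
  set φ := algebraMap O L with hφ
  have hϖ'0 : ϖ' ≠ 0 := hϖ'.ne_zero
  have hπ : φ ϖ' ≠ 0 := (map_ne_zero_iff φ hinj).2 hϖ'0
  have hϖ'max : ϖ' ∈ IsLocalRing.maximalIdeal O :=
    (IsLocalRing.mem_maximalIdeal _).2 hϖ'.not_isUnit
  have hunit1 : ∀ r : O, IsUnit (1 + ϖ * r) := by
    intro r
    by_contra h
    have h1 : 1 + ϖ * r ∈ IsLocalRing.maximalIdeal O := (IsLocalRing.mem_maximalIdeal _).2 h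
    have h2 : ϖ * r ∈ IsLocalRing.maximalIdeal O := Ideal.mul_mem_right _ _ hϖ
    have h3 : (1 : O) ∈ IsLocalRing.maximalIdeal O := by
      simpa using Ideal.sub_mem _ h1 h2
    exact (IsLocalRing.maximalIdeal.isMaximal O).ne_top ((Ideal.eq_top_iff_one _).2 h3)
  have hφz : ∀ (v : Oˣ) (j : ℤ), φ ((v ^ j : Oˣ) : O) = (φ v) ^ j := by
    intro v j
    have h1 : ((Units.map (φ : O →* L) (v ^ j) : Lˣ) : L) = φ ((v ^ j : Oˣ) : O) := Units.coe_map _ _
    rw [← h1, map_zpow, Units.val_zpow_eq_zpow_val, Units.coe_map]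
    rfl
  have hmn' : ((n / m : ℕ) : ℤ) * m = n := by exact_mod_cast Nat.div_mul_cancel hmn
  have hu0 : φ (u : O) ≠ 0 := (map_ne_zero_iff φ hinj).2 u.ne_zero
  constructor
  · rintro ⟨w, a, j, t, r, ha, heq⟩
    set V : Oˣ := (hunit1 r).unit with hV
    set U : Oˣ := w ^ m * u ^ j with hUdef
    have hexp : (φ w * φ ϖ' ^ a) ^ m * φ q ^ j = φ (U : O) * φ ϖ' ^ (a * m + n * j) := by
      rw [hq, map_mul, map_pow, mul_pow, mul_zpow, hUdef, Units.val_mul, map_mul,
        Units.val_pow_eq_pow_val, map_pow, hφz u j, ← zpow_natCast (φ ϖ' ^ a) m, ← zpow_mul,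
        ← zpow_natCast (φ ϖ') n, ← zpow_mul, zpow_add₀ hπ]
      ring
    rw [hexp] at heq
    have he : a * m + n * j = 0 := by
      by_contra hne
      rcases lt_or_gt_of_ne hne with hlt | hgt
      · obtain ⟨k, hk⟩ : ∃ k : ℕ, a * m + n * j = -((k + 1 : ℕ) : ℤ) :=
          ⟨(-(a * m + n * j) - 1).toNat, by omega⟩
        rw [hk, zpow_neg, zpow_natCast] at heq
        have h1 : φ (U : O) = φ ((1 + ϖ * r) * ϖ' ^ (k + 1)) := by
          rw [map_mul, map_pow, ← heq]
          field_simp
        have hU' := hinj h1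
        have hmem : (1 + ϖ * r) * ϖ' ^ (k + 1) ∈ IsLocalRing.maximalIdeal O :=
          Ideal.mul_mem_left _ _ (Ideal.pow_mem_of_mem _ hϖ'max _ (Nat.succ_pos k))
        rw [← hU'] at hmem
        exact (IsLocalRing.mem_maximalIdeal _).1 hmem U.isUnit
      · obtain ⟨k, hk⟩ : ∃ k : ℕ, a * m + n * j = ((k + 1 : ℕ) : ℤ) :=
          ⟨(a * m + n * j - 1).toNat, by omega⟩
        rw [hk, zpow_natCast, ← map_pow, ← map_mul] at heq
        have hU' := hinj heq
        have hmem : (U : O) * ϖ' ^ (k + 1) ∈ IsLocalRing.maximalIdeal O :=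
          Ideal.mul_mem_left _ _ (Ideal.pow_mem_of_mem _ hϖ'max _ (Nat.succ_pos k))
        rw [hU'] at hmem
        exact (IsLocalRing.mem_maximalIdeal _).1 hmem (hunit1 r)
    rw [he, zpow_zero, mul_one] at heq
    have hUV : U = V := Units.ext (hinj heq)
    have hj : j = -1 - t * m := by
      have h1 : a * m + n * j = n * (1 + t * m + j) := by
        rw [ha, add_mul, hmn']
        ring
      rw [h1] at he
      have hn0 : (n : ℤ) ≠ 0 := by exact_mod_cast (show n ≠ 0 by omega)
      have := (mul_eq_zero.1 he).resolve_left hn0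
      linarith
    have hz : (w * (u ^ t)⁻¹) ^ m = u * V := by
      rw [← hUV, hUdef, hj, mul_pow, inv_pow, ← zpow_natCast (u ^ t) m, ← zpow_mul, ← zpow_neg]
      rw [mul_left_comm, ← zpow_one_add]
      congr 2
      ring
    refine ⟨(((w * (u ^ t)⁻¹)⁻¹ : Oˣ) : O), ((u⁻¹ : Oˣ) : O) * r * ((V⁻¹ : Oˣ) : O), ?_⟩
    have key : (u : O) * (((w * (u ^ t)⁻¹)⁻¹ : Oˣ) : O) ^ m = ((V⁻¹ : Oˣ) : O) := by
      rw [← Units.val_pow_eq_pow_val, inv_pow, hz, ← Units.val_mul]
      congr 1
      rw [mul_inv, ← mul_assoc, mul_inv_cancel, one_mul]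
    rw [mul_add, key]
    have hu : (u : O) * ((u⁻¹ : Oˣ) : O) = 1 := Units.mul_inv u
    have hv : ((V⁻¹ : Oˣ) : O) * (1 + ϖ * r) = 1 := by
      have := Units.inv_mul V
      rwa [hV, IsUnit.unit_spec] at this
    linear_combination (ϖ * r * ((V⁻¹ : Oˣ) : O)) * hu + hv
  · rintro ⟨y, r, h⟩
    have hy : IsUnit y := by
      have h1 : y ^ m * u = 1 + ϖ * (-(u * r)) := by linear_combination h
      have h2 : IsUnit (y ^ m * u) := by rw [h1]; exact hunit1 _
      exact (isUnit_pow_iff (by omega : m ≠ 0)).1 (isUnit_of_mul_isUnit_left h2)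
    set Yu : Oˣ := hy.unit with hYu
    set v : O := (((u * Yu ^ m)⁻¹ : Oˣ) : O) with hv
    refine ⟨Yu⁻¹, ((n / m : ℕ) : ℤ), -1, 0, v * u * r, by simp, ?_⟩
    have hvu : v * ((u : O) * y ^ m) = 1 := by
      have := Units.inv_mul (u * Yu ^ m)
      rw [Units.val_mul, Units.val_pow_eq_pow_val, hYu, IsUnit.unit_spec] at this
      exact this
    have hO : (((Yu⁻¹) ^ m * u⁻¹ : Oˣ) : O) = 1 + ϖ * (v * u * r) := by
      have e1 : ((Yu⁻¹) ^ m * u⁻¹ : Oˣ) = (u * Yu ^ m)⁻¹ := by
        rw [mul_inv, inv_pow, mul_comm]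
      rw [e1, ← hv]
      linear_combination (-v) * h + hvu
    rw [← hO, Units.val_mul, map_mul, Units.val_pow_eq_pow_val, map_pow,
      show ((u⁻¹ : Oˣ) : O) = ((u ^ (-1 : ℤ) : Oˣ) : O) by rw [zpow_neg_one], hφz u (-1),
      zpow_natCast, mul_pow, ← pow_mul, Nat.div_mul_cancel hmn, hq, map_mul, map_pow, zpow_neg_one,
      zpow_neg_one]
    field_simp

end Groth.Agent.S15784
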