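import Groth.Statements.S16155
import Mathlib.Tactic.Linarith

set_option autoImplicit false
universe u

open MukaiVec

namespace Groth.Agent.S16155

theorem result
    (N : Type u) [AddCommGroup N] (B : LinearMap.BilinForm ℤ N) (hB : ∀ x y : N, B x y = B y x)
    (H₁ : N) (hodge : ∀ x : N, B x H₁ = 0 → B x x ≤ 0)
    (r a p q : ℤ) (ξ η : N) (hr : 0 < r) (hp : 0 < p)
    (hiso : B η η = 2 * p * q) (hslope : B (r • η - p • ξ) H₁ = 0)
    (hvv : 4 * r < B ξ ξ - 2 * r * a) :
    2 * p < B ξ η - r * q - a * p := by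
  have hxx := hodge _ hslope
  simp only [map_sub, map_zsmul, LinearMap.sub_apply, LinearMap.smul_apply, smul_eq_mul] at hxx
  rw [hB η ξ, hiso] at hxx
  by_contra hcon
  rw [not_lt] at hcon
  have hrp : 0 < r * p := mul_pos hr hp
  have hpp : 0 < p * p := mul_pos hp hp
  nlinarith [mul_le_mul_of_nonneg_left hcon (le_of_lt hrp), mul_lt_mul_of_pos_left hvv hpp]

end Groth.Agent.S16155
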