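import Groth.Statements.S16156
import Mathlib

set_option autoImplicit false
set_option linter.unusedSimpArgs false
universe u
open MukaiVec

namespace Groth.Agent.S16156

lemma key_ineq (n d A : ℤ) (hn : 0 < n) (hd : 0 < d) (hA : 0 < A) (h1 : 4*n ≤ A^2)
    (h2 : (n*d^2+2)*A ≤ 4*n*d) : False := by
  have hm : 0 < n*d^2 + 2 := by positivity
  have h3 : ((n*d^2+2)*A)^2 ≤ (4*n*d)^2 := by
    have h0 : 0 ≤ (n*d^2+2)*A := by positivity
    nlinarith
  have h4 : (n*d^2+2)^2 * (4*n) ≤ (n*d^2+2)^2 * A^2 := by
    apply mul_le_mul_of_nonneg_left h1; positivity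
  have h5 : (n*d^2+2)^2 * (4*n) ≤ 16*n^2*d^2 := by nlinarith
  have h6 : (n*d^2+2)^2 ≤ 4*n*d^2 := by nlinarith
  nlinarith [sq_nonneg (n*d^2)]

/-- Let N be an abelian group with a symmetric integer-valued bilinear form and H an element with H·H =
2n for some n > 0 such that every x with x·H = 0 satisfies x·x ≤ 0 (the Hodge index inequality). Fix
integers r ≥ 2, d > 0 and χ < 0 (a Mukai vector v = (r, dH, χ)) and an isotropic Mukai vector u =
(p, η, q), p ≥ 0, η ∈ N, η·η = 2pq, whose pairing ⟨v, u⟩ = d(H·η) − rq − χp has absolute value 1 or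
2. Exclude the case d = 1, χ = −1, H·η = 1, η·η = 0, and when r = 2 also the case p = 0, H·η = 0.
Then the pairings of u∨ = (p, −η, q) with w₀ = (0, rH, −2nd) and with w₁ = (2nd, −χH, 0) are both
non-negative or both negative: 2ndp − r(H·η) ≥ 0 holds if and only if χ(H·η) − 2ndq ≥ 0 holds. -/
theorem result
    (N : Type u) [AddCommGroup N] (B : LinearMap.BilinForm ℤ N) (hB : ∀ x y : N, B x y = B y x)
    (H : N) (n : ℤ) (hn : 0 < n) (hH : B H H = 2 * n) (hodge : ∀ x : N, B x H = 0 → B x x ≤ 0)
    (r d χ p q : ℤ) (η : N) (hr : 2 ≤ r) (hd : 0 < d) (hχ : χ < 0) (hp : 0 ≤ p)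
    (hiso : B η η = 2 * p * q)
    (hvu : 1 ≤ |d * B H η - r * q - χ * p| ∧ |d * B H η - r * q - χ * p| ≤ 2)
    (hexc : ¬ (d = 1 ∧ χ = -1 ∧ B H η = 1 ∧ B η η = 0))
    (hr2 : r = 2 → ¬ (p = 0 ∧ B H η = 0)) :
    (0 ≤ 2 * n * d * p - r * B H η ↔ 0 ≤ χ * B H η - 2 * n * d * q) := by
  set a := B H η with ha
  have hHodge : 4 * n * p * q ≤ a ^ 2 := by
    have hx1 : B ((2*n) • η - a • H) H = 0 := by
      simp only [map_sub, map_zsmul, LinearMap.sub_apply, LinearMap.smul_apply, smul_eq_mul]
      rw [hB η H, hH]; ring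
    have hx2 := hodge _ hx1
    have : B ((2*n) • η - a • H) ((2*n) • η - a • H) = 8*n^2*p*q - 2*n*a^2 := by
      simp only [map_sub, map_zsmul, LinearMap.sub_apply, LinearMap.smul_apply, smul_eq_mul]
      rw [hB η H, hH, hiso]; ring
    rw [this] at hx2
    nlinarith
  set k := d * a - r * q - χ * p with hk
  have hk1 : 1 ≤ |k| := hvu.1
  have hk2 : |k| ≤ 2 := hvu.2
  have hkl : -2 ≤ k := by have := neg_abs_le k; linarith
  have hku : k ≤ 2 := le_trans (le_abs_self k) hk2
  have hXY : (2*n*d*p - r*a) * (χ*a - 2*n*d*q) =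
      2*n*d^2*(a^2 - 2*n*p*q) - 2*n*d*a*k - r*χ*a^2 := by
    rw [hk]; ring
  have hrχ : 2 ≤ -(r*χ) := by nlinarith
  have hnd : 0 < n*d := mul_pos hn hd
  constructor
  · intro hX
    by_contra hY
    push Not at hY
    have hXY0 : (2*n*d*p - r*a) * (χ*a - 2*n*d*q) ≤ 0 :=
      mul_nonpos_of_nonneg_of_nonpos hX hY.le
    rw [hXY] at hXY0
    rcases le_or_gt a 0 with ha0 | ha0
    · -- a ≤ 0
      have hq : 1 ≤ q := by
        have h1 : 0 ≤ χ * a := mul_nonneg_of_nonpos_of_nonpos hχ.le ha0
        have h2 : 0 < 2*n*d*q := by linarith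
        by_contra hq; push Not at hq
        have : 2*n*d*q ≤ 0 := by nlinarith
        linarith
      rcases eq_or_lt_of_le hp with hp0 | hp1
      · -- p = 0
        have hk' : k = d * a - r * q := by rw [hk, ← hp0]; ring
        have h1 : d * a ≤ 0 := by nlinarith
        have h2 : 2 * q ≤ r * q := by nlinarith
        have hda : d * a = 0 := by linarith
        have hrq : r * q = 2 := by linarith
        have ha' : a = 0 := by
          rcases mul_eq_zero.mp hda with h | h
          · omega
          · exact h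
        have hr' : r = 2 := by nlinarith
        exact hr2 hr' ⟨hp0.symm, ha'⟩
      · -- p ≥ 1
        have hpq : 1 ≤ p * q := by nlinarith only [hp1, hq]
        have h4n : 4 * n ≤ a ^ 2 := by nlinarith only [hpq, hHodge, hn]
        have ha1 : a < 0 := by
          rcases lt_or_eq_of_le ha0 with h | h
          · exact h
          · rw [h] at h4n; nlinarith only [h4n, hn]
        have F1 : 0 ≤ n*d^2 * (a^2 - 4*n*p*q) :=
          mul_nonneg (by positivity) (by linarith only [hHodge])
        have F2 : 0 ≤ (-(r*χ) - 2) * a^2 := mul_nonneg (by linarith only [hrχ]) (sq_nonneg a)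
        have F3 : 0 ≤ 2*n*d*(-a) * (k + 2) :=
          mul_nonneg (mul_nonneg (by linarith only [hnd]) (by linarith only [ha1]))
            (by linarith only [hkl])
        have hmain : (n*d^2+2)*(-a) * (-a) ≤ 4*n*d * (-a) := by
          linarith only [F1, F2, F3, hXY0]
        have hmain' : (n*d^2+2)*(-a) ≤ 4*n*d :=
          le_of_mul_le_mul_right hmain (by linarith only [ha1])
        exact key_ineq n d (-a) hn hd (by linarith only [ha1]) (by nlinarith only [h4n]) hmain'
    · -- a ≥ 1
      have hp1 : 1 ≤ p := by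
        by_contra hp1; push Not at hp1
        have hp0 : p = 0 := by omega
        rw [hp0] at hX
        nlinarith only [hX, hr, ha0]
      rcases lt_trichotomy q 0 with hq | hq | hq
      · -- q ≤ -1: k too large
        have h1 : 1 ≤ d * a := by nlinarith only [hd, ha0]
        have h2 : 2 ≤ -(r * q) := by nlinarith only [hr, hq]
        have h3 : 1 ≤ -(χ * p) := by nlinarith only [hχ, hp1]
        linarith only [h1, h2, h3, hku, hk]
      · -- q = 0: excluded case
        have h1 : 1 ≤ d * a := by nlinarith only [hd, ha0]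
        have h3 : 1 ≤ -(χ * p) := by nlinarith only [hχ, hp1]
        have hk' : k = d * a - χ * p := by rw [hk, hq]; ring
        have hda : d * a = 1 := by linarith only [h1, h3, hk', hku]
        have hχp : -(χ * p) = 1 := by linarith only [h1, h3, hk', hku]
        have hd1 : d = 1 := Int.eq_one_of_mul_eq_one_right hd.le hda
        have ha1 : a = 1 := by rw [hd1] at hda; linarith
        have hχ1 : χ = -1 := by
          have : (-χ) * p = 1 := by rw [neg_mul]; exact hχp
          have := Int.eq_one_of_mul_eq_one_right (by linarith only [hχ]) this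
          linarith
        apply hexc
        refine ⟨hd1, hχ1, ha1, ?_⟩
        rw [hiso, hq]; ring
      · -- q ≥ 1
        have hpq : 1 ≤ p * q := by nlinarith only [hp1, hq]
        have h4n : 4 * n ≤ a ^ 2 := by nlinarith only [hpq, hHodge, hn]
        have F1 : 0 ≤ n*d^2 * (a^2 - 4*n*p*q) :=
          mul_nonneg (by positivity) (by linarith only [hHodge])
        have F2 : 0 ≤ (-(r*χ) - 2) * a^2 := mul_nonneg (by linarith only [hrχ]) (sq_nonneg a)
        have F3 : 0 ≤ 2*n*d*a * (2 - k) :=
          mul_nonneg (mul_nonneg (by linarith only [hnd]) ha0.le) (by linarith only [hku])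
        have hmain : (n*d^2+2)*a * a ≤ 4*n*d * a := by
          linarith only [F1, F2, F3, hXY0]
        have hmain' : (n*d^2+2)*a ≤ 4*n*d := le_of_mul_le_mul_right hmain ha0
        exact key_ineq n d a hn hd ha0 h4n hmain'
  · intro hY
    by_contra hX
    push Not at hX
    have h0 : 0 ≤ 2*n*d*p := by positivity
    have hra : 0 < r * a := by linarith
    have ha0 : 0 < a := by
      by_contra h; push Not at h
      have : r * a ≤ 0 := by nlinarith
      linarith
    have hχa : χ * a < 0 := mul_neg_of_neg_of_pos hχ ha0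
    have hq : q < 0 := by
      by_contra h; push Not at h
      have : 0 ≤ 2*n*d*q := by positivity
      linarith
    have h1 : 1 ≤ d * a := by nlinarith only [hd, ha0]
    have h2 : 2 ≤ -(r * q) := by nlinarith only [hr, hq]
    have h3 : 0 ≤ -(χ * p) := by nlinarith only [hχ, hp]
    linarith only [h1, h2, h3, hku, hk]

end Groth.Agent.S16156
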