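import Groth.Statements.S16161
import Mathlib

set_option autoImplicit false
set_option linter.unusedSimpArgs false
set_option linter.style.haveILetI false
universe u v
open MadRed

namespace Groth.Agent.S16161

open Polynomial


/-- Let k be an algebraically closed field of characteristic zero and R a reduced finitely generated
commutative k-algebra whose spectrum is connected (R has no idempotents besides 0 and 1); let W =
R^n be a free R-module of finite rank and g an R-linear endomorphism of W of finite order, g^m = 1
with m > 0 (an element of finite order of GL(W)(R)). Then the action of g on W is diagonalizable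
over k: viewing g as a k-linear map, its eigenspaces for eigenvalues in k span W. The source also
assumes that g is diagonalizable over k on every fibre W ⊗ k(x), x a point of Spec R; for g of
finite order this holds automatically (k is algebraically closed of characteristic zero), as the
source itself notes, so that hypothesis is omitted. -/
theorem result
    (k : Type u) [Field k] [IsAlgClosed k] [CharZero k]
    (R : Type v) [CommRing R] [Algebra k R] [IsReduced R] [Algebra.FiniteType k R]
    (hconn : ∀ e : R, IsIdempotentElem e → e = 0 ∨ e = 1)
    (n : ℕ) (g : Module.End R (Fin n → R)) (m : ℕ) (hm : 0 < m) (hg : g ^ m = 1) :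
    ⨆ μ : k, Module.End.eigenspace (g.restrictScalars k) μ = ⊤ := by
  classical
  set g' : Module.End k (Fin n → R) := g.restrictScalars k with hg'def
  have hpow : ∀ (l : ℕ) (v : Fin n → R), (g' ^ l) v = (g ^ l) v := by
    intro l
    induction l with
    | zero => intro v; rfl
    | succ l ih =>
      intro v
      rw [pow_succ, pow_succ, Module.End.mul_apply, Module.End.mul_apply, ih]
      rfl
  have hg' : g' ^ m = 1 := by
    apply LinearMap.ext
    intro v
    rw [hpow, hg]
    rfl
  set p : k[X] := X ^ m - C 1 with hpdef
  have hsep : p.Separable :=
    Polynomial.separable_X_pow_sub_C (1 : k) (by exact_mod_cast hm.ne') one_ne_zero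
  have hmon : p.Monic := monic_X_pow_sub_C 1 hm.ne'
  have hcard : Multiset.card p.roots = p.natDegree :=
    (IsAlgClosed.splits p).natDegree_eq_card_roots.symm
  have hprod : (p.roots.map fun a => X - C a).prod = p :=
    prod_multiset_X_sub_C_of_monic_of_roots_card_eq hmon hcard
  have hnodup := nodup_roots hsep
  have hprod' : ∏ ζ ∈ p.roots.toFinset, (X - C ζ) = p := by
    rw [Finset.prod_eq_multiset_prod, Multiset.toFinset_val, Multiset.dedup_eq_self.mpr hnodup,
      hprod]
  have key : ∀ t : Finset k, LinearMap.ker (aeval g' (∏ ζ ∈ t, (X - C ζ))) ≤
      ⨆ μ : k, Module.End.eigenspace g' μ := by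
    intro t
    induction t using Finset.induction_on with
    | empty =>
      intro v hv
      simp only [Finset.prod_empty, map_one, LinearMap.mem_ker, Module.End.one_apply] at hv
      rw [hv]; exact Submodule.zero_mem _
    | insert ζ t hζ ih =>
      rw [Finset.prod_insert hζ, ← sup_ker_aeval_eq_ker_aeval_mul_of_coprime]
      · apply sup_le
        · refine le_trans ?_ (le_iSup _ ζ)
          intro v hv
          rw [Module.End.mem_eigenspace_iff]
          rw [LinearMap.mem_ker] at hv
          simp only [map_sub, aeval_X, aeval_C, LinearMap.sub_apply, Algebra.algebraMap_eq_smul_one,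
            LinearMap.smul_apply, Module.End.one_apply] at hv
          exact sub_eq_zero.mp hv
        · exact ih
      · apply IsCoprime.prod_right
        intro ζ' hζ'
        apply isCoprime_X_sub_C_of_isUnit_sub
        apply IsUnit.mk0
        intro h
        apply hζ
        rw [sub_eq_zero] at h
        rw [h]; exact hζ'
  have htop : LinearMap.ker (aeval g' p) = ⊤ := by
    rw [LinearMap.ker_eq_top, hpdef, map_sub, map_pow, aeval_X, aeval_C, hg']
    simp
  rw [eq_top_iff, ← htop, ← hprod']
  exact key _

end Groth.Agent.S16161
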