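import Groth.Statements.S16263
import Mathlib

set_option autoImplicit false
set_option linter.unusedSimpArgs false
open W4c3wronskmg

namespace Groth.Agent.S16263

open Polynomial in
/-- Let `k` be a field of characteristic zero and `a` a positive integer. On the projective line with `A
= 0`, `B = -1`, `C = ∞`, the `(a+1)`-dimensional system `V = H⁰(ω((1+a)C)) ⊕ H⁰(ω(A+B)) ⊆
H⁰(ω((1+a)C + A + B)) ≅ H⁰(O(a+1))` is, in the affine coordinate, the space of polynomials `c + X
(X+1) F` with `c` a constant and `deg F ≤ a - 1`. Then `V` has no special ramification point (no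
point of weight at least two): since the members have degree at most `a + 1`, this says that for
every point `p` of the affine line at most a one-dimensional subspace of `V` is divisible by
`(X-p)^a`, and at `C` that at most a one-dimensional subspace has degree at most one (degree less
than two). (The published statement carries two further positive integers `i, j` with `i + j = a -
1`, used only in its second assertion, and is over the complex numbers.) -/
theorem result
    (k : Type*) [Field k] [CharZero k] (a : ℕ) (ha : 0 < a)
    (V : Submodule k (Polynomial k))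
    (hV : V = Submodule.span k {(1 : Polynomial k)} ⊔
      ((Ideal.span {(X : Polynomial k) * (X + 1)}).restrictScalars k ⊓ Polynomial.degreeLE k ↑(a + 1))) :
    (∀ p : k, Module.finrank k ↥(V ⊓ (Ideal.span {(X - C p) ^ a}).restrictScalars k) ≤ 1) ∧
      Module.finrank k ↥(V ⊓ Polynomial.degreeLT k 2) ≤ 1 := by
  have hVeval : ∀ f ∈ V, f.eval 0 = f.eval (-1) := by
    intro f hf
    rw [hV, Submodule.mem_sup] at hf
    obtain ⟨y, hy, z, hz, rfl⟩ := hf
    rw [Submodule.mem_span_singleton] at hy
    obtain ⟨c, rfl⟩ := hy
    obtain ⟨hz1, -⟩ := Submodule.mem_inf.mp hz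
    rw [Submodule.restrictScalars_mem, Ideal.mem_span_singleton] at hz1
    obtain ⟨h, rfl⟩ := hz1
    simp
  have hVdeg : ∀ f ∈ V, f.degree ≤ ↑(a+1) := by
    intro f hf
    rw [hV, Submodule.mem_sup] at hf
    obtain ⟨y, hy, z, hz, rfl⟩ := hf
    rw [Submodule.mem_span_singleton] at hy
    obtain ⟨c, rfl⟩ := hy
    obtain ⟨-, hz2⟩ := Submodule.mem_inf.mp hz
    rw [Polynomial.mem_degreeLE] at hz2
    refine (Polynomial.degree_add_le _ _).trans (max_le ?_ hz2)
    calc (c • (1 : k[X])).degree ≤ 0 := by
          rw [Polynomial.smul_eq_C_mul, mul_one]; exact Polynomial.degree_C_le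
      _ ≤ _ := by exact_mod_cast Nat.zero_le _
  constructor
  · intro p
    set W : Submodule k k[X] := (Polynomial.degreeLT k 2).map (LinearMap.mulLeft k ((X - C p)^a))
      with hW
    have hmon : ((X - C p)^a).Monic := (monic_X_sub_C p).pow a
    have hle : V ⊓ (Ideal.span {(X - C p) ^ a}).restrictScalars k ≤ W := by
      intro f hf
      obtain ⟨hfV, hfI⟩ := Submodule.mem_inf.mp hf
      rw [Submodule.restrictScalars_mem, Ideal.mem_span_singleton] at hfI
      obtain ⟨g, rfl⟩ := hfI
      refine Submodule.mem_map.mpr ⟨g, ?_, rfl⟩
      rw [Polynomial.mem_degreeLT]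
      have h1 := hVdeg _ hfV
      rw [degree_mul, degree_pow, degree_X_sub_C, nsmul_one] at h1
      by_cases hg : g = 0
      · simp [hg]; exact compareOfLessAndEq_eq_lt.mp rfl
      · rw [degree_eq_natDegree hg] at h1 ⊢
        have : (a : WithBot ℕ) + (g.natDegree : WithBot ℕ) ≤ ((a + 1 : ℕ) : WithBot ℕ) := by
          exact_mod_cast h1
        have h2 : a + g.natDegree ≤ a + 1 := by exact_mod_cast this
        exact_mod_cast (show g.natDegree < 2 by omega)
    have hne : ¬ W ≤ V ⊓ (Ideal.span {(X - C p) ^ a}).restrictScalars k := by
      intro h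
      have h1 : (X - C p)^a ∈ V := by
        have hm : (X - C p)^a ∈ W :=
          Submodule.mem_map.mpr ⟨1, by rw [mem_degreeLT]; simp, by simp⟩
        exact (Submodule.mem_inf.mp (h hm)).1
      have h2 : (X - C p)^a * X ∈ V := by
        have hm : (X - C p)^a * X ∈ W :=
          Submodule.mem_map.mpr ⟨X, by rw [mem_degreeLT, degree_X]; norm_num, by simp⟩
        exact (Submodule.mem_inf.mp (h hm)).1
      have e1 := hVeval _ h1
      have e2 := hVeval _ h2
      simp only [eval_pow, eval_sub, eval_X, eval_C, eval_mul] at e1 e2
      have hp : (-1 - p) ^ a = 0 := by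
        have : (-1 - p) ^ a * (-1) = 0 := by rw [← e2]; simp
        simpa using this
      have hp' : -1 - p = 0 := pow_eq_zero_iff (by omega) |>.mp hp
      have : p = -1 := by linear_combination -hp'
      subst this
      rw [hp] at e1
      simp at e1
    have hfin : Module.finrank k W = 2 := by
      have hinj : Function.Injective (LinearMap.mulLeft k ((X - C p)^a)) := by
        intro x y hxy
        simp only [LinearMap.mulLeft_apply] at hxy
        exact mul_left_cancel₀ hmon.ne_zero hxy
      rw [hW, ← LinearEquiv.finrank_eq (Submodule.equivMapOfInjective _ hinj _),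
        LinearEquiv.finrank_eq (degreeLTEquiv k 2)]
      simp
    have : FiniteDimensional k W := by
      apply Module.finite_of_finrank_pos; omega
    have := Submodule.finrank_lt_finrank_of_lt
      (lt_of_le_of_ne hle (fun h' => hne (h' ▸ le_rfl)))
    omega
  · have hle : V ⊓ Polynomial.degreeLT k 2 ≤ Submodule.span k {(1 : k[X])} := by
      intro f hf
      obtain ⟨hfV, hfD⟩ := Submodule.mem_inf.mp hf
      rw [mem_degreeLT] at hfD
      have hf : f = C (f.coeff 0) + C (f.coeff 1) * X := by
        ext n
        rcases n with _ | _ | n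
        · simp
        · simp
        · simp only [coeff_add, coeff_C, coeff_C_mul, coeff_X]
          rw [coeff_eq_zero_of_degree_lt]
          · simp
          · refine lt_of_lt_of_le hfD ?_
            exact_mod_cast (show 2 ≤ n + 1 + 1 by omega)
      have e := hVeval f hfV
      rw [hf] at e
      simp at e
      have h1 : f.coeff 1 = 0 := by linear_combination e
      rw [Submodule.mem_span_singleton]
      refine ⟨f.coeff 0, ?_⟩
      rw [hf, h1]
      simp [Polynomial.smul_eq_C_mul]
    calc Module.finrank k ↥(V ⊓ Polynomial.degreeLT k 2)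
        ≤ Module.finrank k ↥(Submodule.span k {(1 : k[X])}) := Submodule.finrank_mono hle
      _ ≤ 1 := by
        rw [finrank_span_singleton one_ne_zero]
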