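import Groth.Statements.S16264
import Mathlib

set_option autoImplicit false
set_option linter.unusedSimpArgs false
set_option linter.style.haveILetI false
open W4c3wronskmg

namespace Groth.Agent.S16264

open Polynomial in
/-- Let `k` be a field of characteristic zero and `a, i, j` positive integers with `i + j = a - 1`. With
`A = 0`, `B = -1`, `C = ∞` on the projective line and `V` the `(a+1)`-dimensional system of
polynomials `c + X (X+1) F`, `deg F ≤ a - 1` (that is, `H⁰(ω((1+a)C)) ⊕ H⁰(ω(A+B)) ⊆ H⁰(O(a+1))`),
the pairs of points `(P, Q) = (p, q)` of the affine line with `dim V(-iP-jQ) ≥ 3`, i.e. with at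
least a three-dimensional subspace of `V` divisible by `(X-p)^i (X-q)^j`, are exactly `(A, B)` and
`(B, A)`. (Here `P, Q` range over the points other than `C`; when one of them is `C` the dimension
is at most two for degree reasons. The published statement is over the complex numbers.) -/
theorem result
    (k : Type*) [Field k] [CharZero k] (a i j : ℕ) (hi : 0 < i) (hj : 0 < j) (hij : i + j + 1 = a)
    (V : Submodule k (Polynomial k))
    (hV : V = Submodule.span k {(1 : Polynomial k)} ⊔
      ((Ideal.span {(X : Polynomial k) * (X + 1)}).restrictScalars k ⊓ Polynomial.degreeLE k ↑(a + 1)))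
    (p q : k) :
    3 ≤ Module.finrank k ↥(V ⊓ (Ideal.span {(X - C p) ^ i * (X - C q) ^ j}).restrictScalars k) ↔
      (p = 0 ∧ q = -1) ∨ (p = -1 ∧ q = 0) := by
  have hVeval : ∀ f ∈ V, f.eval 0 = f.eval (-1) := by
    intro f hf
    rw [hV, Submodule.mem_sup] at hf
    obtain ⟨y, hy, z, hz, rfl⟩ := hf
    rw [Submodule.mem_span_singleton] at hy
    obtain ⟨c, rfl⟩ := hy
    obtain ⟨hz1, -⟩ := Submodule.mem_inf.mp hz
    rw [Submodule.restrictScalars_mem, Ideal.mem_span_singleton] at hz1
    obtain ⟨h, rfl⟩ := hz1
    simp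
  have hVdeg : ∀ f ∈ V, f.degree ≤ ↑(a+1) := by
    intro f hf
    rw [hV, Submodule.mem_sup] at hf
    obtain ⟨y, hy, z, hz, rfl⟩ := hf
    rw [Submodule.mem_span_singleton] at hy
    obtain ⟨c, rfl⟩ := hy
    obtain ⟨-, hz2⟩ := Submodule.mem_inf.mp hz
    rw [Polynomial.mem_degreeLE] at hz2
    refine (Polynomial.degree_add_le _ _).trans (max_le ?_ hz2)
    calc (c • (1 : k[X])).degree ≤ 0 := by
          rw [Polynomial.smul_eq_C_mul, mul_one]; exact Polynomial.degree_C_le
      _ ≤ _ := by exact_mod_cast Nat.zero_le _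
  have hVmem : ∀ f : k[X], f.degree ≤ ↑(a+1) → f.eval 0 = f.eval (-1) → f ∈ V := by
    intro f hdeg hev
    rw [hV, Submodule.mem_sup]
    refine ⟨C (f.eval 0), ?_, f - C (f.eval 0), ?_, by ring⟩
    · rw [Submodule.mem_span_singleton]; exact ⟨f.eval 0, by simp [Polynomial.smul_eq_C_mul]⟩
    · refine Submodule.mem_inf.mpr ⟨?_, ?_⟩
      · rw [Submodule.restrictScalars_mem, Ideal.mem_span_singleton]
        have h1 : X ∣ f - C (f.eval 0) := by
          rw [Polynomial.X_dvd_iff]; simp [Polynomial.coeff_zero_eq_eval_zero]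
        have h2 : X + 1 ∣ f - C (f.eval 0) := by
          have : (X + 1 : k[X]) = X - C (-1) := by simp
          rw [this, Polynomial.dvd_iff_isRoot]
          simp [hev]
        have hcop : IsCoprime (X : k[X]) (X + 1) := ⟨-1, 1, by ring⟩
        exact hcop.mul_dvd h1 h2
      · rw [Polynomial.mem_degreeLE]
        refine (Polynomial.degree_sub_le _ _).trans (max_le hdeg ?_)
        exact Polynomial.degree_C_le.trans (by exact_mod_cast Nat.zero_le _)
  set P : k[X] := (X - C p) ^ i * (X - C q) ^ j with hP
  have hPmon : P.Monic := ((monic_X_sub_C p).pow i).mul ((monic_X_sub_C q).pow j)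
  have hPdeg : P.natDegree = a - 1 := by
    rw [hP, natDegree_mul (pow_ne_zero _ (X_sub_C_ne_zero p)) (pow_ne_zero _ (X_sub_C_ne_zero q)),
      natDegree_pow, natDegree_pow, natDegree_X_sub_C, natDegree_X_sub_C]; omega
  clear_value P
  set W : Submodule k k[X] := (Polynomial.degreeLT k 3).map (LinearMap.mulLeft k P) with hW
  have hP0 : P ≠ 0 := hPmon.ne_zero
  have ha1 : 1 ≤ a := by omega
  have hle : V ⊓ (Ideal.span {P}).restrictScalars k ≤ W := by
    intro f hf
    obtain ⟨hfV, hfI⟩ := Submodule.mem_inf.mp hf
    rw [Submodule.restrictScalars_mem, Ideal.mem_span_singleton] at hfI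
    obtain ⟨g, rfl⟩ := hfI
    refine Submodule.mem_map.mpr ⟨g, ?_, rfl⟩
    rw [Polynomial.mem_degreeLT]
    have h1 := hVdeg _ hfV
    by_cases hg : g = 0
    · simp [hg]; exact compareOfLessAndEq_eq_lt.mp rfl
    · have h2 : (P * g).natDegree ≤ a + 1 := natDegree_le_of_degree_le h1
      rw [natDegree_mul hP0 hg, hPdeg] at h2
      exact (Polynomial.degree_le_natDegree).trans_lt (by exact_mod_cast (show g.natDegree < 3 by omega))
  have hinj : Function.Injective (LinearMap.mulLeft k P) := by
    intro x y hxy
    simp only [LinearMap.mulLeft_apply] at hxy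
    exact mul_left_cancel₀ hP0 hxy
  have hfin : Module.finrank k W = 3 := by
    rw [hW, ← LinearEquiv.finrank_eq (Submodule.equivMapOfInjective _ hinj _),
      LinearEquiv.finrank_eq (degreeLTEquiv k 3)]
    simp
  have hWfd : FiniteDimensional k W := by
    apply Module.finite_of_finrank_pos; omega
  have hPW : ∀ g ∈ Polynomial.degreeLT k 3, P * g ∈ W := fun g hg =>
    Submodule.mem_map.mpr ⟨g, hg, rfl⟩
  constructor
  · intro h3
    have heq : V ⊓ (Ideal.span {P}).restrictScalars k = W :=
      Submodule.eq_of_le_of_finrank_le hle (by omega)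
    have hm1 : P ∈ V := by
      have := hPW 1 (by rw [mem_degreeLT]; simp)
      rw [mul_one, ← heq] at this
      exact (Submodule.mem_inf.mp this).1
    have hm2 : P * X ∈ V := by
      have := hPW X (by rw [mem_degreeLT, degree_X]; norm_num)
      rw [← heq] at this
      exact (Submodule.mem_inf.mp this).1
    have e1 := hVeval _ hm1
    have e2 := hVeval _ hm2
    rw [eval_mul, eval_mul, eval_X, eval_X, mul_zero] at e2
    have hm1' : P.eval (-1) = 0 := by
      have : P.eval (-1) * (-1) = 0 := e2.symm
      simpa using this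
    have hm0 : P.eval 0 = 0 := by rw [e1, hm1']
    simp only [hP, eval_mul, eval_pow, eval_sub, eval_X, eval_C, mul_eq_zero,
      pow_eq_zero_iff hi.ne', pow_eq_zero_iff hj.ne'] at hm0 hm1'
    have hne : (0 : k) ≠ -1 := by norm_num
    rcases hm0 with h | h <;> rcases hm1' with h' | h'
    · exfalso; apply hne; linear_combination h - h'
    · left; exact ⟨by linear_combination -h, by linear_combination -h'⟩
    · right; exact ⟨by linear_combination -h', by linear_combination -h⟩
    · exfalso; apply hne; linear_combination h - h'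
  · intro hpq
    have hPev0 : P.eval 0 = 0 := by
      rcases hpq with ⟨rfl, rfl⟩ | ⟨rfl, rfl⟩
      · simp [hP, zero_pow hi.ne']
      · simp [hP, zero_pow hj.ne']
    have hPev1 : P.eval (-1) = 0 := by
      rcases hpq with ⟨rfl, rfl⟩ | ⟨rfl, rfl⟩
      · simp [hP, zero_pow hj.ne']
      · simp [hP, zero_pow hi.ne']
    have hge : W ≤ V ⊓ (Ideal.span {P}).restrictScalars k := by
      intro f hf
      obtain ⟨g, hg, rfl⟩ := Submodule.mem_map.mp hf
      simp only [LinearMap.mulLeft_apply]
      refine Submodule.mem_inf.mpr ⟨?_, ?_⟩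
      · apply hVmem
        · rw [mem_degreeLT] at hg
          by_cases hg0 : g = 0
          · simp [hg0]
          · rw [degree_mul, degree_eq_natDegree hP0, degree_eq_natDegree hg0, hPdeg]
            rw [degree_eq_natDegree hg0] at hg
            have : g.natDegree < 3 := by exact_mod_cast hg
            exact_mod_cast (show a - 1 + g.natDegree ≤ a + 1 by omega)
        · simp [eval_mul, hPev0, hPev1]
      · rw [Submodule.restrictScalars_mem, Ideal.mem_span_singleton]
        exact dvd_mul_right P g
    rw [le_antisymm hle hge, hfin]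

end Groth.Agent.S16264
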