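import Groth.Statements.S16644
import Mathlib.RingTheory.Ideal.Quotient.Operations
import Mathlib.LinearAlgebra.Matrix.Determinant.Basic
import Mathlib.RingTheory.MvPolynomial.Basic
import Mathlib.Algebra.Ring.CharZero
-- import your own Groth.Agent.* helpers here

set_option autoImplicit false
open QuadZ

namespace Groth.Agent.S16644

/-- For odd n, the discriminant of the universal quadratic form Σ_{i ≤ j} A_{ij} x_i x_j in n variables
(variables A_{ij} indexed by unordered pairs), i.e. the determinant of the symmetric matrix with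
diagonal entries 2 A_{ii} and off-diagonal entries A_{ij}, is divisible by 2 in the integral
polynomial ring ℤ[A_{ij}] (so the half-discriminant is an integral polynomial). -/
theorem result (n : ℕ) (hn : Odd n) :
    (2 : MvPolynomial (Sym2 (Fin n)) ℤ) ∣
      (Matrix.of fun i j : Fin n =>
        if i = j then 2 * MvPolynomial.X (R := ℤ) (σ := Sym2 (Fin n)) (Sym2.mk i j)
        else MvPolynomial.X (R := ℤ) (σ := Sym2 (Fin n)) (Sym2.mk i j)).det := by
  classical
  set R := MvPolynomial (Sym2 (Fin n)) ℤ
  set M : Matrix (Fin n) (Fin n) R := Matrix.of fun i j : Fin n =>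
        if i = j then 2 * MvPolynomial.X (R := ℤ) (σ := Sym2 (Fin n)) (Sym2.mk i j)
        else MvPolynomial.X (R := ℤ) (σ := Sym2 (Fin n)) (Sym2.mk i j) with hM
  set K : Matrix (Fin n) (Fin n) R := Matrix.of fun i j : Fin n =>
        if i < j then MvPolynomial.X (R := ℤ) (σ := Sym2 (Fin n)) (Sym2.mk i j)
        else if j < i then -MvPolynomial.X (R := ℤ) (σ := Sym2 (Fin n)) (Sym2.mk i j) else 0 with hK
  have hKt : K.transpose = -K := by
    refine Matrix.ext fun i j => ?_
    simp only [hK, Matrix.transpose_apply, Matrix.of_apply, Matrix.neg_apply]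
    rcases lt_trichotomy i j with h | h | h
    · rw [if_neg (not_lt.mpr h.le), if_pos h, if_pos h, Sym2.eq_swap]
    · subst h; simp
    · rw [if_pos h, if_neg (not_lt.mpr h.le), if_pos h, neg_neg, Sym2.eq_swap]
  have hdetK : K.det = 0 := by
    have h1 : K.det = -K.det := by
      conv_lhs => rw [← Matrix.det_transpose, hKt, Matrix.det_neg]
      rw [Fintype.card_fin, hn.neg_one_pow, neg_one_mul]
    have h2 : K.det + K.det = 0 := by
      nth_rewrite 2 [h1]
      exact add_neg_cancel _
    exact add_self_eq_zero.mp h2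
  set I : Ideal R := Ideal.span {2}
  have h2I : (Ideal.Quotient.mk I) 2 = 0 := by
    rw [Ideal.Quotient.eq_zero_iff_mem]; exact Ideal.subset_span rfl
  have h2I' : (2 : R ⧸ I) = 0 := by
    rw [← h2I, map_ofNat]
  have hmap : (Ideal.Quotient.mk I).mapMatrix M = (Ideal.Quotient.mk I).mapMatrix K := by
    refine Matrix.ext fun i j => ?_
    simp only [RingHom.mapMatrix_apply, Matrix.map_apply, hM, hK, Matrix.of_apply]
    rcases lt_trichotomy i j with h | h | h
    · rw [if_neg (ne_of_lt h), if_pos h]
    · subst h; simp [h2I]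
    · rw [if_neg (ne_of_gt h), if_neg (not_lt.mpr h.le), if_pos h, map_neg]
      rw [eq_neg_iff_add_eq_zero, ← two_mul, h2I', zero_mul]
  have key : (Ideal.Quotient.mk I) M.det = 0 := by
    rw [RingHom.map_det, hmap, ← RingHom.map_det, hdetK, map_zero]
  rw [Ideal.Quotient.eq_zero_iff_mem, Ideal.mem_span_singleton] at key
  exact key

end Groth.Agent.S16644
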