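import Groth.Statements.S16737
import Mathlib.RingTheory.Kaehler.Polynomial
import Mathlib.Algebra.MvPolynomial.Expand
import Mathlib.Algebra.MvPolynomial.PDeriv
import Mathlib.Algebra.Field.ZMod
import Mathlib.Algebra.CharP.Basic
-- import your own Groth.Agent.* helpers here

set_option autoImplicit false
universe u v
open DeRham

namespace Groth.Agent.S16737

/-- The case of affine space over an affine base of characteristic p, in degree zero. Let p be a prime
and R a commutative ring with p = 0 in R. For a polynomial f over R in any set of variables t_i, the
Kähler differential df in Ω_{R[t]/R} vanishes if and only if f is a polynomial in the p-th powers of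
the variables, f = g(t_i^p). Equivalently, the functions on affine space over R killed by the
differential of the de Rham complex are exactly the functions on its Frobenius twist. (The published
computation is for finitely many variables over a noetherian base of characteristic p; the statement
here allows any commutative ring with p = 0 and any set of variables.) -/
theorem result (p : ℕ) [Fact p.Prime]
    (R : Type u) [CommRing R] [CharP R p] (σ : Type v) (f : MvPolynomial σ R) :
    KaehlerDifferential.D R (MvPolynomial σ R) f = 0 ↔
      ∃ g : MvPolynomial σ R, f = MvPolynomial.expand p g := by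
  classical
  have hp : p.Prime := Fact.out
  have hA : KaehlerDifferential.D R (MvPolynomial σ R) f = 0 ↔
      ∀ i, MvPolynomial.pderiv i f = 0 := by
    rw [← (KaehlerDifferential.mvPolynomialBasis R σ).repr.map_eq_zero_iff, Finsupp.ext_iff]
    simp [KaehlerDifferential.mvPolynomialBasis_repr_apply]
  have hunit : ∀ n : ℕ, ¬ p ∣ n → IsUnit (n : R) := by
    intro n hn
    have h1 : (n : ZMod p) ≠ 0 := by
      rw [Ne, ZMod.natCast_eq_zero_iff]; exact hn
    have h2 : IsUnit (n : ZMod p) := isUnit_iff_ne_zero.mpr h1
    have h3 := h2.map (ZMod.castHom (dvd_refl p) R)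
    rwa [map_natCast] at h3
  rw [hA]
  constructor
  · intro h
    have hdiv : ∀ m ∈ f.support, ∀ i, p ∣ m i := by
      intro m hm i
      by_contra hnd
      have hmi : m i ≠ 0 := by
        intro h0; rw [h0] at hnd; exact hnd (dvd_zero p)
      have hm' : m - Finsupp.single i 1 + Finsupp.single i 1 = m := by
        ext j
        by_cases hj : j = i
        · subst hj; simp; omega
        · simp [Ne.symm hj]
      have hc := MvPolynomial.coeff_pderiv (i := i) f (m - Finsupp.single i 1)
      rw [h i, hm', MvPolynomial.coeff_zero] at hc
      have hcast : (((m - Finsupp.single i 1 : σ →₀ ℕ) i : ℕ) : R) + 1 = (m i : R) := by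
        have : (m - Finsupp.single i 1 : σ →₀ ℕ) i + 1 = m i := by simp; omega
        rw [← this]; push_cast; ring
      rw [hcast] at hc
      have := ((hunit (m i) hnd).mul_left_eq_zero).mp hc.symm
      exact (MvPolynomial.mem_support_iff.mp hm) this
    refine ⟨∑ m ∈ f.support, MvPolynomial.monomial
      (Finsupp.mapRange (· / p) (Nat.zero_div p) m) (MvPolynomial.coeff m f), ?_⟩
    rw [map_sum]
    conv_lhs => rw [f.as_sum]
    refine Finset.sum_congr rfl fun m hm => ?_
    have hmm : p • Finsupp.mapRange (· / p) (Nat.zero_div p) m = m := by
      ext i
      simp [Nat.mul_div_cancel' (hdiv m hm i)]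
    rw [MvPolynomial.expand_monomial, hmm]
  · rintro ⟨g, rfl⟩ i
    ext m
    rw [MvPolynomial.coeff_pderiv, MvPolynomial.coeff_zero]
    by_cases hd : p ∣ m i + 1
    · have : ((m i : R) + 1) = ((m i + 1 : ℕ) : R) := by push_cast; ring
      rw [this, (CharP.cast_eq_zero_iff R p _).mpr hd, mul_zero]
    · rw [MvPolynomial.coeff_expand_of_not_dvd (i := i), zero_mul]
      simpa using hd

end Groth.Agent.S16737
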