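import Groth.Statements.S16979
import Mathlib.FieldTheory.IsAlgClosed.Spectrum
import Mathlib.FieldTheory.IsAlgClosed.AlgebraicClosure
import Mathlib.FieldTheory.Separable
import Mathlib.LinearAlgebra.Matrix.Charpoly.Eigs
-- import your own Groth.Agent.* helpers here

set_option autoImplicit false
universe u v
open CAlg

namespace Groth.Agent.S16979

/-- Let R be an integral domain with fraction field K and φ a square matrix over R whose characteristic
polynomial becomes separable in K[T] (equivalently, K[T] modulo the characteristic polynomial is
geometrically reduced over K). Then a polynomial f over R satisfies f(φ) = 0 exactly when the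
characteristic polynomial of φ divides f in R[T]: the kernel of evaluation at φ (the minimal ideal
of φ) is the principal ideal generated by the characteristic polynomial. -/
theorem result
    {R : Type u} [CommRing R] [IsDomain R] {n : Type v} [Fintype n] [DecidableEq n]
    (φ : Matrix n n R)
    (hsep : (φ.charpoly.map (algebraMap R (FractionRing R))).Separable) :
    RingHom.ker (Polynomial.aeval (R := R) φ) = Ideal.span {φ.charpoly} := by
  classical
  apply le_antisymm
  · intro f hf
    rw [RingHom.mem_ker] at hf
    rw [Ideal.mem_span_singleton]
    let K := FractionRing R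
    let L := AlgebraicClosure K
    let ι : R →+* L := algebraMap R L
    have hι : Function.Injective ι := by
      change Function.Injective (algebraMap R L)
      rw [IsScalarTower.algebraMap_eq R K L]
      exact (algebraMap K L).injective.comp (IsFractionRing.injective R K)
    rw [← Polynomial.map_dvd_map ι hι (Matrix.charpoly_monic φ)]
    set φL : Matrix n n L := φ.map ι with hφL
    have hchar : φL.charpoly = φ.charpoly.map ι := Matrix.charpoly_map φ ι
    rw [← hchar]
    have hsepL : φL.charpoly.Separable := by
      rw [hchar]
      change (φ.charpoly.map (algebraMap R L)).Separable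
      rw [IsScalarTower.algebraMap_eq R K L, ← Polynomial.map_map]
      exact hsep.map
    have hfL : Polynomial.aeval φL (f.map ι) = 0 := by
      change Polynomial.aeval φL (f.map (algebraMap R L)) = 0
      rw [Polynomial.aeval_map_algebraMap]
      have : φL = (Algebra.ofId R L).mapMatrix φ := rfl
      rw [this, Polynomial.aeval_algHom_apply, hf, map_zero]
    by_cases hf0 : f.map ι = 0
    · rw [hf0]; exact dvd_zero _
    have hroots : ∀ μ ∈ φL.charpoly.roots, (f.map ι).IsRoot μ := by
      intro μ hμ
      rw [Polynomial.mem_roots (Matrix.charpoly_monic _).ne_zero] at hμ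
      have h1 : μ ∈ spectrum L φL := Matrix.mem_spectrum_iff_isRoot_charpoly.mpr hμ
      have h2 : (f.map ι).eval μ ∈ spectrum L (Polynomial.aeval φL (f.map ι)) :=
        spectrum.subset_polynomial_aeval φL (f.map ι) ⟨μ, h1, rfl⟩
      rw [hfL, spectrum.mem_iff, sub_zero] at h2
      by_contra hne
      exact h2 ((Ne.isUnit hne).map _)
    have hsplit : (φL.charpoly.roots.map fun a => Polynomial.X - Polynomial.C a).prod
        = φL.charpoly :=
      Polynomial.prod_multiset_X_sub_C_of_monic_of_roots_card_eq (Matrix.charpoly_monic _)
        IsAlgClosed.card_roots_eq_natDegree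
    rw [← hsplit, Multiset.prod_X_sub_C_dvd_iff_le_roots hf0,
      Multiset.le_iff_subset (Polynomial.nodup_roots hsepL)]
    intro μ hμ
    exact (Polynomial.mem_roots hf0).mpr (hroots μ hμ)
  · rw [Ideal.span_le, Set.singleton_subset_iff]
    exact Matrix.aeval_self_charpoly φ

end Groth.Agent.S16979
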