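import Groth.Statements.S17006
import Mathlib.Algebra.DualNumber
import Mathlib.Tactic.NoncommRing
-- import your own Groth.Agent.* helpers here

set_option autoImplicit false
universe u
open scoped TensorProduct
open QuadGrp

namespace Groth.Agent.S17006

open TensorProduct CliffordAlgebra

section Aux

variable {R : Type u} [CommRing R] {n : ℕ} (Q : QuadraticForm R (Fin n → R))

theorem QA_one_tmul (A : Type u) [CommRing A] [Algebra R A] (x : Fin n → R) :
    QuadGrp.baseChangeForm A Q ((1 : A) ⊗ₜ[R] x) = algebraMap R A (Q x) := by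
  rw [QuadGrp.baseChangeForm, LinearMap.compQuadraticMap_apply, QuadGrp.baseChange_tmul]
  simp [Algebra.algebraMap_eq_smul_one]

theorem polarA_one_tmul (A : Type u) [CommRing A] [Algebra R A] (x y : Fin n → R) :
    QuadraticMap.polar (QuadGrp.baseChangeForm A Q) ((1 : A) ⊗ₜ[R] x) ((1 : A) ⊗ₜ[R] y) =
      algebraMap R A (QuadraticMap.polar Q x y) := by
  simp only [QuadraticMap.polar, ← TensorProduct.tmul_add, QA_one_tmul, map_sub]

/-- The infinitesimal rotation `w ↦ B(a, w) b − B(b, w) a` over the dual numbers. -/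
noncomputable def Xm (a b : Fin n → R) :
    (DualNumber R ⊗[R] (Fin n → R)) →ₗ[DualNumber R] (DualNumber R ⊗[R] (Fin n → R)) :=
  (QuadraticMap.polarBilin (QuadGrp.baseChangeForm (DualNumber R) Q)
      ((1 : DualNumber R) ⊗ₜ[R] a)).smulRight ((1 : DualNumber R) ⊗ₜ[R] b) -
    (QuadraticMap.polarBilin (QuadGrp.baseChangeForm (DualNumber R) Q)
      ((1 : DualNumber R) ⊗ₜ[R] b)).smulRight ((1 : DualNumber R) ⊗ₜ[R] a)

theorem Xm_apply (a b : Fin n → R) (w : DualNumber R ⊗[R] (Fin n → R)) :
    Xm Q a b w = QuadraticMap.polar (QuadGrp.baseChangeForm (DualNumber R) Q)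
        ((1 : DualNumber R) ⊗ₜ[R] a) w • ((1 : DualNumber R) ⊗ₜ[R] b) -
      QuadraticMap.polar (QuadGrp.baseChangeForm (DualNumber R) Q)
        ((1 : DualNumber R) ⊗ₜ[R] b) w • ((1 : DualNumber R) ⊗ₜ[R] a) := rfl

theorem Xm_one_tmul (a b v : Fin n → R) :
    Xm Q a b ((1 : DualNumber R) ⊗ₜ[R] v) =
      (1 : DualNumber R) ⊗ₜ[R] (QuadraticMap.polar Q a v • b - QuadraticMap.polar Q b v • a) := by
  rw [Xm_apply, polarA_one_tmul, polarA_one_tmul, algebraMap_smul, algebraMap_smul,
    ← TensorProduct.tmul_smul, ← TensorProduct.tmul_smul, ← TensorProduct.tmul_sub]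

/-- The dual-number point `1 + ε X` of the orthogonal group. -/
noncomputable def Hm (a b : Fin n → R) :
    (DualNumber R ⊗[R] (Fin n → R)) ≃ₗ[DualNumber R] (DualNumber R ⊗[R] (Fin n → R)) :=
  LinearEquiv.ofLinearMap (LinearMap.id + (DualNumber.eps : DualNumber R) • Xm Q a b)
    (LinearMap.id - (DualNumber.eps : DualNumber R) • Xm Q a b)
    (by
      apply LinearMap.ext; intro w
      simp only [LinearMap.comp_apply, LinearMap.add_apply, LinearMap.sub_apply, LinearMap.id_apply,
        LinearMap.smul_apply, map_add, map_sub, map_smul, smul_add, smul_sub, smul_smul,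
        DualNumber.eps_mul_eps, zero_smul, add_zero, sub_zero]
      abel)
    (by
      apply LinearMap.ext; intro w
      simp only [LinearMap.comp_apply, LinearMap.add_apply, LinearMap.sub_apply, LinearMap.id_apply,
        LinearMap.smul_apply, map_add, map_sub, map_smul, smul_add, smul_sub, smul_smul,
        DualNumber.eps_mul_eps, zero_smul, add_zero, sub_zero]
      abel)

theorem Hm_apply (a b : Fin n → R) (w : DualNumber R ⊗[R] (Fin n → R)) :
    Hm Q a b w = w + (DualNumber.eps : DualNumber R) • Xm Q a b w := rfl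

theorem Hm_mem (a b : Fin n → R) :
    Hm Q a b ∈ QuadGrp.O (QuadGrp.baseChangeForm (DualNumber R) Q) := by
  intro w
  rw [Hm_apply, QuadraticMap.map_add (⇑(QuadGrp.baseChangeForm (DualNumber R) Q)), QuadraticMap.map_smul, DualNumber.eps_mul_eps, zero_smul, add_zero,
    QuadraticMap.polar_smul_right, Xm_apply, QuadraticMap.polar_sub_right, QuadraticMap.polar_smul_right,
    QuadraticMap.polar_smul_right, QuadraticMap.polar_comm _ w ((1 : DualNumber R) ⊗ₜ[R] b),
    QuadraticMap.polar_comm _ w ((1 : DualNumber R) ⊗ₜ[R] a)]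
  simp [smul_eq_mul, mul_comm]

theorem Hm_dickson (a b : Fin n → R) :
    QuadGrp.IsDicksonTrivial (QuadGrp.baseChangeForm (DualNumber R) Q) (Hm Q a b) (Hm_mem Q a b) := by
  intro z hz
  -- notation
  obtain ⟨E, hE⟩ : ∃ E : CliffordAlgebra (QuadGrp.baseChangeForm (DualNumber R) Q),
      E = algebraMap (DualNumber R) _ DualNumber.eps := ⟨_, rfl⟩
  obtain ⟨S, hS⟩ : ∃ S : CliffordAlgebra (QuadGrp.baseChangeForm (DualNumber R) Q),
      S = ι (QuadGrp.baseChangeForm (DualNumber R) Q) ((1 : DualNumber R) ⊗ₜ[R] a) *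
        ι (QuadGrp.baseChangeForm (DualNumber R) Q) ((1 : DualNumber R) ⊗ₜ[R] b) := ⟨_, rfl⟩
  have hEE : E * E = 0 := by rw [hE, ← map_mul, DualNumber.eps_mul_eps, map_zero]
  have hEc : ∀ x, E * x = x * E := fun x => by rw [hE]; exact Algebra.commutes _ x
  have hEE' : ∀ X Y : CliffordAlgebra (QuadGrp.baseChangeForm (DualNumber R) Q), E * X * E * Y = 0 := by
    intro X Y
    rw [mul_assoc E X E, ← hEc X, ← mul_assoc E E X, hEE, zero_mul, zero_mul]
  have huu' : (1 - E * S) * (1 + E * S) = 1 := by
    have h1 : (1 - E * S) * (1 + E * S) = 1 - E * S * E * S := by noncomm_ring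
    rw [h1, hEE', sub_zero]
  have hιsmul : ∀ (c : DualNumber R) (w : DualNumber R ⊗[R] (Fin n → R)),
      ι (QuadGrp.baseChangeForm (DualNumber R) Q) (c • w) =
        algebraMap (DualNumber R) (CliffordAlgebra (QuadGrp.baseChangeForm (DualNumber R) Q)) c *
          ι (QuadGrp.baseChangeForm (DualNumber R) Q) w := fun c w => by
    rw [map_smul]; exact Algebra.smul_def c _
  have key : ∀ w, ι (QuadGrp.baseChangeForm (DualNumber R) Q) (Xm Q a b w) =
      ι (QuadGrp.baseChangeForm (DualNumber R) Q) w * S - S * ι (QuadGrp.baseChangeForm (DualNumber R) Q) w := by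
    intro w
    have e : ∀ P A1 B1 : CliffordAlgebra (QuadGrp.baseChangeForm (DualNumber R) Q),
        P * (A1 * B1) - A1 * B1 * P = (P * A1 + A1 * P) * B1 - A1 * (B1 * P + P * B1) := by
      intro P A1 B1; noncomm_ring
    rw [hS, e, ι_mul_ι_add_swap, ι_mul_ι_add_swap, Xm_apply, map_sub, hιsmul, hιsmul,
      ← Algebra.commutes _ (ι _ ((1 : DualNumber R) ⊗ₜ[R] a)), QuadraticMap.polar_comm _ w]
  have hconj : ∀ x : CliffordAlgebra (QuadGrp.baseChangeForm (DualNumber R) Q),
      CliffordAlgebra.map (QuadGrp.isometryOfMem (QuadGrp.baseChangeForm (DualNumber R) Q) (Hm Q a b)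
          (Hm_mem Q a b)) x * (1 - E * S) = (1 - E * S) * x := by
    intro x
    induction x using CliffordAlgebra.induction with
    | algebraMap r => rw [AlgHom.commutes, Algebra.commutes]
    | ι w =>
      rw [CliffordAlgebra.map_apply_ι, QuadGrp.isometryOfMem_apply, Hm_apply, map_add, hιsmul, key, ← hE]
      have h1 : ∀ P : CliffordAlgebra (QuadGrp.baseChangeForm (DualNumber R) Q),
          (P + E * (P * S - S * P)) * (1 - E * S) =
            P - P * E * S + E * P * S - E * S * P - E * (P * S - S * P) * E * S := by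
        intro P; noncomm_ring
      rw [h1, hEE', ← hEc]
      noncomm_ring
    | mul x y hx hy => rw [map_mul, mul_assoc, hy, ← mul_assoc, hx, mul_assoc]
    | add x y hx hy => rw [map_add, add_mul, hx, hy, mul_add]
  have hu_even : (1 - E * S) ∈ CliffordAlgebra.even (QuadGrp.baseChangeForm (DualNumber R) Q) := by
    refine (CliffordAlgebra.even _).sub_mem (CliffordAlgebra.even _).one_mem
      ((CliffordAlgebra.even _).mul_mem ?_ ?_)
    · rw [hE]; exact (CliffordAlgebra.even _).algebraMap_mem _
    · rw [hS]; exact CliffordAlgebra.ι_mul_ι_mem_evenOdd_zero _ _ _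
  have hzu := congrArg Subtype.val ((Subalgebra.mem_center_iff.mp hz) ⟨_, hu_even⟩)
  change (1 - E * S) * (z : CliffordAlgebra (QuadGrp.baseChangeForm (DualNumber R) Q)) =
    (z : CliffordAlgebra _) * (1 - E * S) at hzu
  calc _ = CliffordAlgebra.map (QuadGrp.isometryOfMem (QuadGrp.baseChangeForm (DualNumber R) Q) (Hm Q a b)
          (Hm_mem Q a b)) (z : CliffordAlgebra (QuadGrp.baseChangeForm (DualNumber R) Q)) *
        (1 - E * S) * (1 + E * S) := by
        rw [mul_assoc, huu', mul_one]
    _ = _ := by rw [hconj, hzu, mul_assoc, huu', mul_one]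

theorem Hm_sorth [Nontrivial R] (hn : Even n) (a b : Fin n → R) :
    Hm Q a b ∈ QuadGrp.sorth Q (DualNumber R) := by
  unfold QuadGrp.sorth QuadGrp.SO
  rw [if_pos]
  · exact ⟨Hm_mem Q a b, Hm_dickson Q a b⟩
  · rw [Module.finrank_baseChange, Module.finrank_fin_fun]; exact hn

theorem key_of_comm (g : (Fin n → R) ≃ₗ[R] (Fin n → R)) (a b : Fin n → R)
    (hc : g.baseChange R (DualNumber R) (Fin n → R) (Fin n → R) * Hm Q a b =
      Hm Q a b * g.baseChange R (DualNumber R) (Fin n → R) (Fin n → R)) (v : Fin n → R) :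
    g (QuadraticMap.polar Q a v • b - QuadraticMap.polar Q b v • a) =
      QuadraticMap.polar Q a (g v) • b - QuadraticMap.polar Q b (g v) • a := by
  have h1 := LinearEquiv.congr_fun hc ((1 : DualNumber R) ⊗ₜ[R] v)
  rw [LinearEquiv.mul_apply, LinearEquiv.mul_apply, Hm_apply, Hm_apply, Xm_one_tmul,
    LinearEquiv.baseChange_tmul, map_add, map_smul, LinearEquiv.baseChange_tmul, LinearEquiv.baseChange_tmul,
    Xm_one_tmul, add_right_inj, TensorProduct.smul_tmul', TensorProduct.smul_tmul'] at h1
  have h2 := congrArg (fun w => TensorProduct.lid R (Fin n → R)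
    (LinearMap.rTensor (Fin n → R) (TrivSqZeroExt.sndHom R R) w)) h1
  simpa using h2

end Aux


/-- Let Q be a quadratic form on R^{2m}, m ≥ 2, over a commutative ring R, whose polar form is a perfect
pairing. An isometry g of Q satisfying the Dickson condition commutes, after base change to every
R-algebra A, with every isometry of Q_A satisfying the Dickson condition if and only if g is
multiplication by a scalar whose square is one. (Points-level form of: for even rank at least 4 the
functorial centre of the special orthogonal group is the central μ₂ and coincides with that of the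
naive one.) -/
theorem result (R : Type u) [CommRing R] (m : ℕ) (hm : 2 ≤ m)
    (Q : QuadraticForm R (Fin (2 * m) → R)) (hQ : QuadGrp.IsRegular Q)
    (g : (Fin (2 * m) → R) ≃ₗ[R] (Fin (2 * m) → R)) (hg : g ∈ QuadGrp.SO Q) :
    (∀ (A : Type u) [CommRing A] [Algebra R A], ∀ h ∈ QuadGrp.sorth Q A,
        g.baseChange R A (Fin (2 * m) → R) (Fin (2 * m) → R) * h = h * g.baseChange R A (Fin (2 * m) → R) (Fin (2 * m) → R)) ↔
      ∃ c : R, c * c = 1 ∧ ∀ v, g v = c • v := by
  classical
  constructor
  · intro H
    rcases subsingleton_or_nontrivial R with hR | hR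
    · exact ⟨0, Subsingleton.elim _ _, fun v => Subsingleton.elim _ _⟩
    have hn : Even (2 * m) := even_two_mul m
    have key : ∀ a b v : Fin (2 * m) → R,
        g (QuadraticMap.polar Q a v • b - QuadraticMap.polar Q b v • a) =
          QuadraticMap.polar Q a (g v) • b - QuadraticMap.polar Q b (g v) • a := fun a b v =>
      key_of_comm Q g a b (H (DualNumber R) (Hm Q a b) (Hm_sorth Q hn a b)) v
    have hO : g ∈ QuadGrp.O Q := by
      unfold QuadGrp.SO at hg
      split_ifs at hg
      · obtain ⟨h1, _⟩ := hg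
        exact h1
      · exact (Subgroup.mem_inf.mp hg).1
    -- dual vectors
    choose f hf using fun i : Fin (2 * m) => hQ.2 (LinearMap.proj i)
    have hf' : ∀ i w, QuadraticMap.polar Q (f i) w = w i := fun i w => by
      have := LinearMap.congr_fun (hf i) w
      simpa using this
    have third : ∀ i j : Fin (2 * m), ∃ k : Fin (2 * m), k ≠ i ∧ k ≠ j := by
      intro i j
      by_contra hcon
      push Not at hcon
      have h0 := hcon ⟨0, by omega⟩
      have h1 := hcon ⟨1, by omega⟩
      have h2 := hcon ⟨2, by omega⟩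
      simp only [ne_eq, Fin.ext_iff] at h0 h1 h2
      omega
    -- the relation for dual vectors
    have E : ∀ i j : Fin (2 * m), i ≠ j →
        g (f j) = g (Pi.single i 1) i • f j - g (Pi.single i 1) j • f i := by
      intro i j hij
      have := key (f i) (f j) (Pi.single i 1)
      rw [hf', hf', hf', hf', Pi.single_eq_same, Pi.single_eq_of_ne hij.symm, one_smul, zero_smul,
        sub_zero] at this
      exact this
    have coord : ∀ i j l : Fin (2 * m), i ≠ j →
        QuadraticMap.polar Q (g (f j)) (Pi.single l 1) =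
          g (Pi.single i 1) i * (Pi.single l (1 : R) : Fin (2 * m) → R) j -
            g (Pi.single i 1) j * (Pi.single l (1 : R) : Fin (2 * m) → R) i := by
      intro i j l hij
      rw [E i j hij, QuadraticMap.polar_sub_left, QuadraticMap.polar_smul_left, QuadraticMap.polar_smul_left,
        hf', hf', smul_eq_mul, smul_eq_mul]
    -- off-diagonal entries vanish
    have off : ∀ i j : Fin (2 * m), i ≠ j → g (Pi.single i 1) j = 0 := by
      intro i j hij
      obtain ⟨k, hki, hkj⟩ := third i j
      have c1 := coord i j i hij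
      have c2 := coord k j i hkj
      rw [Pi.single_eq_same, Pi.single_eq_of_ne hij.symm] at c1
      rw [Pi.single_eq_of_ne hij.symm, Pi.single_eq_of_ne hki] at c2
      rw [c1] at c2
      simpa using c2
    -- diagonal entries agree
    have diag : ∀ i k : Fin (2 * m), g (Pi.single i 1) i = g (Pi.single k 1) k := by
      intro i k
      by_cases hik : i = k
      · rw [hik]
      obtain ⟨j, hji, hjk⟩ := third i k
      have c1 := coord i j j (Ne.symm hji)
      have c2 := coord k j j (Ne.symm hjk)
      rw [Pi.single_eq_same, Pi.single_eq_of_ne hji.symm] at c1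
      rw [Pi.single_eq_same, Pi.single_eq_of_ne hjk.symm] at c2
      rw [c1] at c2
      simpa using c2
    set c : R := g (Pi.single (⟨0, by omega⟩ : Fin (2 * m)) 1) ⟨0, by omega⟩ with hc
    have hge : ∀ k : Fin (2 * m), g (Pi.single k 1) = c • Pi.single k 1 := by
      intro k
      funext l
      by_cases hlk : l = k
      · subst hlk
        rw [Pi.smul_apply, Pi.single_eq_same, smul_eq_mul, mul_one, hc, diag]
      · rw [off k l (Ne.symm hlk), Pi.smul_apply, Pi.single_eq_of_ne hlk, smul_zero]
    have hgv : ∀ v, g v = c • v := by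
      have hlin : (g : (Fin (2 * m) → R) →ₗ[R] (Fin (2 * m) → R)) = c • LinearMap.id := by
        refine (Pi.basisFun R (Fin (2 * m))).ext fun k => ?_
        rw [Pi.basisFun_apply, LinearMap.smul_apply, LinearMap.id_apply]
        exact hge k
      intro v
      exact LinearMap.congr_fun hlin v
    refine ⟨c, ?_, hgv⟩
    have hpol : ∀ x y, QuadraticMap.polar Q (g x) (g y) = QuadraticMap.polar Q x y := by
      intro x y
      simp only [QuadraticMap.polar, ← map_add, hO _]
    have := hpol (f ⟨0, by omega⟩) (Pi.single ⟨0, by omega⟩ 1)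
    rw [hgv, hgv, QuadraticMap.polar_smul_left, QuadraticMap.polar_smul_right, hf', Pi.single_eq_same,
      smul_eq_mul, smul_eq_mul, mul_one] at this
    exact this
  · rintro ⟨c, hc, hgc⟩ A _ _ h _
    have hgA : ∀ w : A ⊗[R] (Fin (2 * m) → R),
        g.baseChange R A (Fin (2 * m) → R) (Fin (2 * m) → R) w = algebraMap R A c • w := by
      intro w
      induction w using TensorProduct.induction_on with
      | zero => simp
      | tmul x y => rw [LinearEquiv.baseChange_tmul, hgc, algebraMap_smul, TensorProduct.tmul_smul]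
      | add x y hx hy => rw [map_add, hx, hy, smul_add]
    ext w
    rw [LinearEquiv.mul_apply, LinearEquiv.mul_apply, hgA, hgA, map_smul]

end Groth.Agent.S17006
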