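import Groth.Statements.S17014
import Mathlib.LinearAlgebra.Matrix.SesquilinearForm
import Mathlib.RingTheory.MvPolynomial.Basic
import Mathlib.Algebra.Ring.CharZero
import Mathlib.RingTheory.Ideal.Quotient.Operations
import Mathlib.LinearAlgebra.Matrix.Determinant.Basic
-- import your own Groth.Agent.* helpers here

set_option autoImplicit false
universe u v
open QuadGrp

namespace Groth.Agent.S17014

open MvPolynomial

/-- For odd `n`, `2` divides the universal discriminant (same argument as S16644). -/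
theorem two_dvd_discUniv (n : ℕ) (hn : Odd n) :
    (2 : MvPolynomial (Sym2 (Fin n)) ℤ) ∣ QuadGrp.discUniv n := by
  classical
  set R := MvPolynomial (Sym2 (Fin n)) ℤ
  set M : Matrix (Fin n) (Fin n) R := QuadGrp.univPolarMat n with hM
  set K : Matrix (Fin n) (Fin n) R := Matrix.of fun i j : Fin n =>
        if i < j then MvPolynomial.X (R := ℤ) (σ := Sym2 (Fin n)) (Sym2.mk i j)
        else if j < i then -MvPolynomial.X (R := ℤ) (σ := Sym2 (Fin n)) (Sym2.mk i j) else 0 with hK
  have hKt : K.transpose = -K := by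
    refine Matrix.ext fun i j => ?_
    simp only [hK, Matrix.transpose_apply, Matrix.of_apply, Matrix.neg_apply]
    rcases lt_trichotomy i j with h | h | h
    · rw [if_neg (not_lt.mpr h.le), if_pos h, if_pos h, Sym2.eq_swap]
    · subst h; simp
    · rw [if_pos h, if_neg (not_lt.mpr h.le), if_pos h, neg_neg, Sym2.eq_swap]
  have hdetK : K.det = 0 := by
    have h1 : K.det = -K.det := by
      conv_lhs => rw [← Matrix.det_transpose, hKt, Matrix.det_neg]
      rw [Fintype.card_fin, hn.neg_one_pow, neg_one_mul]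
    have h2 : K.det + K.det = 0 := by
      nth_rewrite 2 [h1]
      exact add_neg_cancel _
    exact add_self_eq_zero.mp h2
  set I : Ideal R := Ideal.span {2}
  have h2I : (Ideal.Quotient.mk I) 2 = 0 := by
    rw [Ideal.Quotient.eq_zero_iff_mem]; exact Ideal.subset_span rfl
  have h2I' : (2 : R ⧸ I) = 0 := by
    rw [← h2I, map_ofNat]
  have hmap : (Ideal.Quotient.mk I).mapMatrix M = (Ideal.Quotient.mk I).mapMatrix K := by
    refine Matrix.ext fun i j => ?_
    simp only [RingHom.mapMatrix_apply, Matrix.map_apply, hM, hK, QuadGrp.univPolarMat,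
      Matrix.of_apply]
    rcases lt_trichotomy i j with h | h | h
    · rw [if_neg (ne_of_lt h), if_pos h]
    · subst h; simp [h2I]
    · rw [if_neg (ne_of_gt h), if_neg (not_lt.mpr h.le), if_pos h, map_neg]
      rw [eq_neg_iff_add_eq_zero, ← two_mul, h2I', zero_mul]
  have key : (Ideal.Quotient.mk I) M.det = 0 := by
    rw [RingHom.map_det, hmap, ← RingHom.map_det, hdetK, map_zero]
  rw [Ideal.Quotient.eq_zero_iff_mem, Ideal.mem_span_singleton] at key
  exact key

theorem discUniv_eq_two_mul (n : ℕ) (hn : Odd n) :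
    QuadGrp.discUniv n = 2 * QuadGrp.halfDiscUniv n := by
  obtain ⟨D, hD⟩ := two_dvd_discUniv n hn
  have : QuadGrp.halfDiscUniv n = D := by
    ext s
    rw [QuadGrp.coeff_halfDiscUniv, hD, ← map_ofNat C 2, coeff_C_mul]
    exact Int.mul_ediv_cancel_left _ two_ne_zero
  rw [this, hD]

theorem eval_discUniv {S : Type*} [CommRing S] (n : ℕ) (c : Sym2 (Fin n) → S) :
    eval₂ (Int.castRingHom S) c (QuadGrp.discUniv n) =
      (Matrix.of fun i j : Fin n => if i = j then 2 * c (Sym2.mk i j) else c (Sym2.mk i j)).det := by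
  rw [QuadGrp.discUniv, ← coe_eval₂Hom, RingHom.map_det]
  congr 1
  refine Matrix.ext fun i j => ?_
  simp only [RingHom.mapMatrix_apply, Matrix.map_apply, QuadGrp.univPolarMat, Matrix.of_apply]
  split_ifs <;> simp

open scoped Matrix in
theorem main {R : Type u} [CommRing R] {M : Type v} [AddCommGroup M] [Module R M]
    (n : ℕ) (hn : Odd n) (b : Module.Basis (Fin n) R M) (Q : QuadraticForm R M) (g : M →ₗ[R] M) :
    QuadGrp.halfDisc b (LinearEquiv.refl R R) (Q.comp g) =
      LinearMap.det g ^ 2 * QuadGrp.halfDisc b (LinearEquiv.refl R R) Q := by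
  classical
  let a : Sym2 (Fin n) → (MvPolynomial (Sym2 (Fin n) ⊕ (Fin n × Fin n)) ℤ) := fun s => X (Sum.inl s)
  let AU : Matrix (Fin n) (Fin n) (MvPolynomial (Sym2 (Fin n) ⊕ (Fin n × Fin n)) ℤ) := Matrix.of fun k l => X (Sum.inr (k, l))
  let TU : Matrix (Fin n) (Fin n) (MvPolynomial (Sym2 (Fin n) ⊕ (Fin n × Fin n)) ℤ) := Matrix.of fun k l => if k ≤ l then a (Sym2.mk k l) else 0
  let MU : Matrix (Fin n) (Fin n) (MvPolynomial (Sym2 (Fin n) ⊕ (Fin n × Fin n)) ℤ) := AUᵀ * TU * AU
  let c' : Sym2 (Fin n) → (MvPolynomial (Sym2 (Fin n) ⊕ (Fin n × Fin n)) ℤ) := Sym2.lift ⟨fun i j => if i = j then MU i i else MU i j + MU j i, by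
    intro i j
    by_cases h : i = j
    · subst h; rfl
    · simp only [if_neg h, if_neg (Ne.symm h)]; ring⟩
  have hc'mk : ∀ i j, c' (Sym2.mk i j) = if i = j then MU i i else MU i j + MU j i :=
    fun i j => rfl
  have hpol_c' : (Matrix.of fun i j : Fin n =>
      if i = j then 2 * c' (Sym2.mk i j) else c' (Sym2.mk i j)) = AUᵀ * (TU + TUᵀ) * AU := by
    have hMU : MU + MUᵀ = AUᵀ * (TU + TUᵀ) * AU := by
      simp only [MU, Matrix.transpose_mul, Matrix.transpose_transpose, Matrix.mul_add,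
        Matrix.add_mul, Matrix.mul_assoc]
    rw [← hMU]
    refine Matrix.ext fun i j => ?_
    simp only [Matrix.of_apply, hc'mk, Matrix.add_apply, Matrix.transpose_apply]
    split_ifs with h
    · subst h; ring
    · rfl
  have hpol_a : (Matrix.of fun i j : Fin n =>
      if i = j then 2 * a (Sym2.mk i j) else a (Sym2.mk i j)) = TU + TUᵀ := by
    refine Matrix.ext fun i j => ?_
    simp only [Matrix.of_apply, Matrix.add_apply, Matrix.transpose_apply, TU]
    rcases lt_trichotomy i j with h | h | h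
    · rw [if_neg (ne_of_lt h), if_pos h.le, if_neg (not_le.mpr h), add_zero]
    · subst h; simp only [if_true, le_refl]; ring
    · rw [if_neg (ne_of_gt h), if_neg (not_le.mpr h), if_pos h.le, zero_add, Sym2.eq_swap]
  have huniv : eval₂ (Int.castRingHom (MvPolynomial (Sym2 (Fin n) ⊕ (Fin n × Fin n)) ℤ)) c' (QuadGrp.halfDiscUniv n) =
      AU.det ^ 2 * eval₂ (Int.castRingHom (MvPolynomial (Sym2 (Fin n) ⊕ (Fin n × Fin n)) ℤ)) a (QuadGrp.halfDiscUniv n) := by
    have h2 : (2 : (MvPolynomial (Sym2 (Fin n) ⊕ (Fin n × Fin n)) ℤ)) ≠ 0 := two_ne_zero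
    apply mul_left_cancel₀ h2
    have e1 : ∀ c : Sym2 (Fin n) → (MvPolynomial (Sym2 (Fin n) ⊕ (Fin n × Fin n)) ℤ), (2 : (MvPolynomial (Sym2 (Fin n) ⊕ (Fin n × Fin n)) ℤ)) * eval₂ (Int.castRingHom (MvPolynomial (Sym2 (Fin n) ⊕ (Fin n × Fin n)) ℤ)) c (QuadGrp.halfDiscUniv n)
        = eval₂ (Int.castRingHom (MvPolynomial (Sym2 (Fin n) ⊕ (Fin n × Fin n)) ℤ)) c (QuadGrp.discUniv n) := by
      intro c
      rw [discUniv_eq_two_mul n hn, eval₂_mul]
      congr 1
      simp
    rw [e1, mul_left_comm, e1, eval_discUniv, eval_discUniv, hpol_c', hpol_a, Matrix.det_mul,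
      Matrix.det_mul, Matrix.det_transpose]
    ring
  -- specialization
  let A := LinearMap.toMatrix b b g
  let ψ : (MvPolynomial (Sym2 (Fin n) ⊕ (Fin n × Fin n)) ℤ) →+* R := eval₂Hom (Int.castRingHom R)
    (Sum.elim (QuadGrp.coeffs b (LinearEquiv.refl R R) Q) (fun p => A p.1 p.2))
  have hψcomp : ψ.comp (Int.castRingHom (MvPolynomial (Sym2 (Fin n) ⊕ (Fin n × Fin n)) ℤ)) = Int.castRingHom R := RingHom.ext_int _ _
  have hspec : ∀ (c : Sym2 (Fin n) → (MvPolynomial (Sym2 (Fin n) ⊕ (Fin n × Fin n)) ℤ)) (H : MvPolynomial (Sym2 (Fin n)) ℤ),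
      ψ (eval₂ (Int.castRingHom (MvPolynomial (Sym2 (Fin n) ⊕ (Fin n × Fin n)) ℤ)) c H) = eval₂ (Int.castRingHom R) (ψ ∘ c) H := by
    intro c H
    rw [eval₂_comp_left, hψcomp]
  have hψa : ψ ∘ a = QuadGrp.coeffs b (LinearEquiv.refl R R) Q := by
    funext s
    simp only [Function.comp_apply, ψ, a, eval₂Hom_X', Sum.elim_inl]
  have hψA : ψ.mapMatrix AU = A := by
    refine Matrix.ext fun k l => ?_
    simp only [RingHom.mapMatrix_apply, Matrix.map_apply, AU, Matrix.of_apply, ψ, eval₂Hom_X',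
      Sum.elim_inr]
  let B := Q.toBilin b
  have hψT : ψ.mapMatrix TU = LinearMap.toMatrix₂ b b B := by
    refine Matrix.ext fun k l => ?_
    rw [LinearMap.toMatrix₂_apply, QuadraticMap.toBilin_apply]
    simp only [RingHom.mapMatrix_apply, Matrix.map_apply, TU, Matrix.of_apply]
    rcases lt_trichotomy k l with h | h | h
    · rw [if_pos h.le, if_neg (ne_of_lt h), if_pos h]
      simp only [ψ, a, eval₂Hom_X', Sum.elim_inl, QuadGrp.coeffs_mk, if_neg (ne_of_lt h),
        LinearEquiv.refl_apply]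
    · subst h
      simp only [ψ, a, eval₂Hom_X', Sum.elim_inl, QuadGrp.coeffs_mk, if_true, if_pos le_rfl,
        LinearEquiv.refl_apply]
    · rw [if_neg (not_le.mpr h), if_neg (ne_of_gt h), if_neg (not_lt.mpr h.le), map_zero]
  have hψMU : ψ.mapMatrix MU = LinearMap.toMatrix₂ b b (B.compl₁₂ g g) := by
    rw [LinearMap.toMatrix₂_compl₁₂ b b b b B g g, ← hψT]
    simp only [MU, map_mul]
    have hT : ψ.mapMatrix AUᵀ = (ψ.mapMatrix AU)ᵀ := rfl
    rw [hT, hψA]
  have hMij : ∀ i j, ψ (MU i j) = B (g (b i)) (g (b j)) := by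
    intro i j
    have := congrArg (fun M => M i j) hψMU
    simp only [RingHom.mapMatrix_apply, Matrix.map_apply] at this
    rw [this, LinearMap.toMatrix₂_apply, LinearMap.compl₁₂_apply]
  have hQB : ∀ x, Q x = B x x := by
    intro x
    conv_lhs => rw [← QuadraticMap.toQuadraticMap_toBilin Q b]
    rfl
  have hpolQ : ∀ x y, QuadraticMap.polar Q x y = B x y + B y x := by
    intro x y
    conv_lhs => rw [← QuadraticMap.toQuadraticMap_toBilin Q b]
    exact LinearMap.BilinMap.polar_toQuadraticMap x y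
  have hψc' : ψ ∘ c' = QuadGrp.coeffs b (LinearEquiv.refl R R) (Q.comp g) := by
    funext s
    induction s using Sym2.ind with
    | h i j =>
    simp only [Function.comp_apply, hc'mk, QuadGrp.coeffs_mk, LinearEquiv.refl_apply]
    split_ifs with h
    · subst h
      rw [hMij, QuadraticMap.comp_apply, hQB]
    · rw [map_add, hMij, hMij]
      have : QuadraticMap.polar (Q.comp g) (b i) (b j) = QuadraticMap.polar Q (g (b i)) (g (b j)) := by
        simp [QuadraticMap.polar, map_add]
      rw [this, hpolQ]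
  have hdet : ψ AU.det = LinearMap.det g := by
    rw [RingHom.map_det, hψA, LinearMap.det_toMatrix]
  have := congrArg ψ huniv
  rw [hspec, map_mul, map_pow, hspec, hψc', hψa, hdet] at this
  exact this

theorem result {R : Type u} [CommRing R] {M : Type v} [AddCommGroup M] [Module R M]
    (m : ℕ) (b : Module.Basis (Fin (2 * m + 1)) R M) (Q : QuadraticForm R M) (g : M →ₗ[R] M) :
    QuadGrp.halfDisc b (LinearEquiv.refl R R) (Q.comp g) =
      LinearMap.det g ^ 2 * QuadGrp.halfDisc b (LinearEquiv.refl R R) Q := by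
  exact main (2 * m + 1) ⟨m, rfl⟩ b Q g

end Groth.Agent.S17014
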