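import Groth.Statements.S17016
import Mathlib.Tactic.NoncommRing
import Mathlib.Tactic.FinCases
-- import your own Groth.Agent.* helpers here

set_option autoImplicit false
universe u
open QuadGrp

namespace Groth.Agent.S17016

/-- For the standard split quadratic form Σ x_{2i} x_{2i+1} on R^{2m} over any commutative ring R, with
standard basis vectors e_j in the Clifford algebra, the product w of the elements 1 − 2 e_{2i}
e_{2i+1} (i < m, which pairwise commute) satisfies w² = 1 and anticommutes with every e_j. (Hence w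
is central in the even Clifford algebra; over rings in which 2 is invertible (1 − w)/2 is the
non-trivial central idempotent of the even part.) -/
theorem result (R : Type u) [CommRing R] (m : ℕ) :
    let Q := QuadGrp.splitForm R (m * 2)
    let e : Fin (m * 2) → CliffordAlgebra Q := fun j => CliffordAlgebra.ι Q (Pi.single j 1)
    let w : CliffordAlgebra Q :=
      ((List.finRange m).map fun i => 1 - 2 * (e (finProdFinEquiv (i, 0)) * e (finProdFinEquiv (i, 1)))).prod
    w * w = 1 ∧ ∀ j : Fin (m * 2), e j * w = -(w * e j) := by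
  intro Q e w
  classical
  let φ := (finProdFinEquiv : Fin m × Fin 2 ≃ Fin (m * 2))
  have hQ : ∀ x : Fin (m * 2) → R, Q x = ∑ i : Fin m, x (φ (i, 0)) * x (φ (i, 1)) := by
    intro x
    have h2 : m * 2 / 2 = m := by omega
    have h3 : ¬ (m * 2 % 2 = 1) := by omega
    simp only [Q, QuadGrp.splitForm, dif_neg h3, add_zero]
    rw [sum_apply]
    refine Fintype.sum_equiv (finCongr h2) _ _ (fun i => ?_)
    rw [QuadraticMap.linMulLin_apply, LinearMap.proj_apply, LinearMap.proj_apply]
    congr 2 <;> ext <;> simp [φ] <;> omega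
  have hpolar : ∀ x y : Fin (m * 2) → R, QuadraticMap.polar Q x y =
      ∑ i : Fin m, (x (φ (i, 0)) * y (φ (i, 1)) + y (φ (i, 0)) * x (φ (i, 1))) := by
    intro x y
    rw [QuadraticMap.polar, hQ, hQ, hQ, ← Finset.sum_sub_distrib, ← Finset.sum_sub_distrib]
    refine Finset.sum_congr rfl fun i _ => ?_
    simp only [Pi.add_apply]; ring
  have hsingle : ∀ p q : Fin m × Fin 2, (Pi.single (φ p) (1 : R) : Fin (m * 2) → R) (φ q) =
      if q = p then 1 else 0 := by
    intro p q
    by_cases h : q = p
    · subst h; simp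
    · rw [if_neg h, Pi.single_eq_of_ne (fun h' => h (φ.injective h'))]
  let E : Fin m × Fin 2 → CliffordAlgebra Q := fun p => e (φ p)
  have hsq : ∀ p, E p * E p = 0 := by
    intro p
    simp only [E, e]
    rw [CliffordAlgebra.ι_sq_scalar, hQ, Finset.sum_eq_zero, map_zero]
    intro k _
    rw [hsingle, hsingle]
    split_ifs with h1 h2
    · exact absurd (congrArg Prod.snd (h1.trans h2.symm)) (by simp)
    all_goals simp
  have hpair : ∀ i : Fin m, E (i, 0) * E (i, 1) + E (i, 1) * E (i, 0) = 1 := by
    intro i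
    simp only [E, e]
    rw [CliffordAlgebra.ι_mul_ι_add_swap, hpolar]
    simp only [hsingle, Prod.mk.injEq]
    simp
  have hfar : ∀ p q : Fin m × Fin 2, p.1 ≠ q.1 → E p * E q = -(E q * E p) := by
    intro p q hpq
    rw [eq_neg_iff_add_eq_zero]
    simp only [E, e]
    rw [CliffordAlgebra.ι_mul_ι_add_swap, hpolar, Finset.sum_eq_zero, map_zero]
    intro k _
    rw [hsingle, hsingle, hsingle, hsingle]
    obtain ⟨p1, p2⟩ := p
    obtain ⟨q1, q2⟩ := q
    simp only [Prod.mk.injEq]
    simp only at hpq
    split_ifs <;> simp_all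
  -- the factors
  let U : Fin m → CliffordAlgebra Q := fun i => 1 - 2 * (E (i, 0) * E (i, 1))
  have hw : w = ((List.finRange m).map U).prod := rfl
  have hba : ∀ i : Fin m, E (i, 1) * E (i, 0) = 1 - E (i, 0) * E (i, 1) := by
    intro i; rw [← hpair i]; abel
  have hUsq : ∀ i, U i * U i = 1 := by
    intro i
    simp only [U]
    have h1 : E (i, 0) * E (i, 1) * (E (i, 0) * E (i, 1)) = E (i, 0) * E (i, 1) := by
      calc E (i, 0) * E (i, 1) * (E (i, 0) * E (i, 1))
          = E (i, 0) * (E (i, 1) * E (i, 0)) * E (i, 1) := by noncomm_ring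
        _ = E (i, 0) * E (i, 1) - (E (i, 0) * E (i, 0)) * (E (i, 1) * E (i, 1)) := by
          rw [hba]; noncomm_ring
        _ = E (i, 0) * E (i, 1) := by rw [hsq, zero_mul, sub_zero]
    calc (1 - 2 * (E (i, 0) * E (i, 1))) * (1 - 2 * (E (i, 0) * E (i, 1)))
        = 1 - 4 * (E (i, 0) * E (i, 1)) + 4 * (E (i, 0) * E (i, 1) * (E (i, 0) * E (i, 1))) := by
          noncomm_ring
      _ = 1 := by rw [h1]; noncomm_ring
  -- an element anticommuting with both members of a pair commutes with its factor
  have hcommU : ∀ (x : CliffordAlgebra Q) (i : Fin m), x * E (i, 0) = -(E (i, 0) * x) →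
      x * E (i, 1) = -(E (i, 1) * x) → x * U i = U i * x := by
    intro x i h0 h1
    have hx : x * (E (i, 0) * E (i, 1)) = E (i, 0) * E (i, 1) * x := by
      calc x * (E (i, 0) * E (i, 1)) = (x * E (i, 0)) * E (i, 1) := by noncomm_ring
        _ = -(E (i, 0) * (x * E (i, 1))) := by rw [h0]; noncomm_ring
        _ = E (i, 0) * E (i, 1) * x := by rw [h1]; noncomm_ring
    simp only [U]
    calc x * (1 - 2 * (E (i, 0) * E (i, 1))) = x - 2 * (x * (E (i, 0) * E (i, 1))) := by
          noncomm_ring
      _ = (1 - 2 * (E (i, 0) * E (i, 1))) * x := by rw [hx]; noncomm_ring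
  have hUcomm : ∀ i k, Commute (U i) (U k) := by
    intro i k
    by_cases hik : i = k
    · subst hik; exact Commute.refl _
    · have h0 := hcommU (E (k, 0)) i (hfar _ _ (Ne.symm hik)) (hfar _ _ (Ne.symm hik))
      have h1 := hcommU (E (k, 1)) i (hfar _ _ (Ne.symm hik)) (hfar _ _ (Ne.symm hik))
      have hc0 : Commute (U i) (E (k, 0)) := h0.symm
      have hc1 : Commute (U i) (E (k, 1)) := h1.symm
      exact (Commute.one_right _).sub_right ((Commute.ofNat_right _ 2).mul_right (hc0.mul_right hc1))
  have hself0 : ∀ i, E (i, 0) * U i = -(U i * E (i, 0)) := by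
    intro i
    simp only [U]
    have ha : E (i, 0) * (1 - 2 * (E (i, 0) * E (i, 1))) = E (i, 0) := by
      calc E (i, 0) * (1 - 2 * (E (i, 0) * E (i, 1)))
          = E (i, 0) - 2 * ((E (i, 0) * E (i, 0)) * E (i, 1)) := by noncomm_ring
        _ = E (i, 0) := by rw [hsq]; noncomm_ring
    have hb : (1 - 2 * (E (i, 0) * E (i, 1))) * E (i, 0) = -E (i, 0) := by
      calc (1 - 2 * (E (i, 0) * E (i, 1))) * E (i, 0)
          = E (i, 0) - 2 * (E (i, 0) * (E (i, 1) * E (i, 0))) := by noncomm_ring
        _ = E (i, 0) - 2 * E (i, 0) + 2 * ((E (i, 0) * E (i, 0)) * E (i, 1)) := by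
          rw [hba]; noncomm_ring
        _ = -E (i, 0) := by rw [hsq]; noncomm_ring
    rw [ha, hb, neg_neg]
  have hself1 : ∀ i, E (i, 1) * U i = -(U i * E (i, 1)) := by
    intro i
    simp only [U]
    have ha : E (i, 1) * (1 - 2 * (E (i, 0) * E (i, 1))) = -E (i, 1) := by
      calc E (i, 1) * (1 - 2 * (E (i, 0) * E (i, 1)))
          = E (i, 1) - 2 * ((E (i, 1) * E (i, 0)) * E (i, 1)) := by noncomm_ring
        _ = E (i, 1) - 2 * E (i, 1) + 2 * (E (i, 0) * (E (i, 1) * E (i, 1))) := by
          rw [hba]; noncomm_ring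
        _ = -E (i, 1) := by rw [hsq]; noncomm_ring
    have hb : (1 - 2 * (E (i, 0) * E (i, 1))) * E (i, 1) = E (i, 1) := by
      calc (1 - 2 * (E (i, 0) * E (i, 1))) * E (i, 1)
          = E (i, 1) - 2 * (E (i, 0) * (E (i, 1) * E (i, 1))) := by noncomm_ring
        _ = E (i, 1) := by rw [hsq]; noncomm_ring
    rw [ha, hb]
  -- list lemmas
  have list_sq : ∀ l : List (Fin m), (l.map U).prod * (l.map U).prod = 1 := by
    intro l
    induction l with
    | nil => simp
    | cons a l ih =>
      simp only [List.map_cons, List.prod_cons]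
      have hc : Commute (l.map U).prod (U a) :=
        Commute.list_prod_left _ _ (fun y hy => by
          obtain ⟨k, _, rfl⟩ := List.mem_map.mp hy
          exact hUcomm k a)
      calc U a * (l.map U).prod * (U a * (l.map U).prod)
          = U a * ((l.map U).prod * U a) * (l.map U).prod := by noncomm_ring
        _ = U a * (U a * (l.map U).prod) * (l.map U).prod := by rw [hc.eq]
        _ = (U a * U a) * ((l.map U).prod * (l.map U).prod) := by noncomm_ring
        _ = 1 := by rw [hUsq, ih, one_mul]
  have list_anti : ∀ (x : CliffordAlgebra Q) (i₀ : Fin m), x * U i₀ = -(U i₀ * x) →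
      (∀ i ≠ i₀, x * U i = U i * x) → ∀ l : List (Fin m), l.Nodup →
      x * (l.map U).prod = if i₀ ∈ l then -((l.map U).prod * x) else (l.map U).prod * x := by
    intro x i₀ h₀ h₁ l
    induction l with
    | nil => intro _; simp
    | cons a l ih =>
      intro hnd
      rw [List.nodup_cons] at hnd
      have ih' := ih hnd.2
      simp only [List.map_cons, List.prod_cons, List.mem_cons]
      by_cases ha : a = i₀
      · subst ha
        rw [if_neg hnd.1] at ih'
        rw [if_pos (Or.inl rfl)]
        calc x * (U a * (l.map U).prod) = (x * U a) * (l.map U).prod := by noncomm_ring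
          _ = -(U a * (x * (l.map U).prod)) := by rw [h₀]; noncomm_ring
          _ = -(U a * (l.map U).prod * x) := by rw [ih']; noncomm_ring
      · have hx : x * (U a * (l.map U).prod) = U a * (x * (l.map U).prod) := by
          rw [← mul_assoc, h₁ a ha, mul_assoc]
        rw [hx, ih']
        by_cases hi : i₀ ∈ l
        · rw [if_pos hi, if_pos (Or.inr hi)]; noncomm_ring
        · rw [if_neg hi, if_neg (by rintro (h | h); exact ha h.symm; exact hi h)]; noncomm_ring
  refine ⟨list_sq _, fun j => ?_⟩
  obtain ⟨p, rfl⟩ := φ.surjective j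
  have hEp : e (φ p) = E p := rfl
  rw [hEp]
  have h₀ : E p * U p.1 = -(U p.1 * E p) := by
    obtain ⟨i, t⟩ := p
    fin_cases t
    · exact hself0 i
    · exact hself1 i
  have h₁ : ∀ i ≠ p.1, E p * U i = U i * E p := by
    intro i hi
    exact hcommU (E p) i (hfar _ _ (Ne.symm hi)) (hfar _ _ (Ne.symm hi))
  have := list_anti (E p) p.1 h₀ h₁ (List.finRange m) (List.nodup_finRange m)
  rw [if_pos (List.mem_finRange _)] at this
  exact this

end Groth.Agent.S17016
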