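import Groth.Statements.S17065
import Mathlib.RingTheory.Nakayama
import Mathlib.RingTheory.AdicCompletion.Algebra
import Mathlib.RingTheory.Spectrum.Prime.Topology
import Mathlib.RingTheory.Ideal.Quotient.Noetherian
-- import your own Groth.Agent.* helpers here

set_option autoImplicit false
universe u
open CAlg

namespace Groth.Agent.S17065

/-- The local algebraic statement its proof establishes: let A be a Noetherian ring, I ≤ J radical
ideals and Â the J-adic completion of A. If J^n Â ⊆ I Â for some n, then the closed set V(J) is open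
inside V(I) ⊆ Spec A. (Globally: if X₂ ⊆ X₁ are the completions of a locally Noetherian scheme along
nested closed subsets Z₂ ⊆ Z₁ and the ideal of Z₁ generates an ideal of definition of X₂, then X₂ is
a union of connected components of X₁.) -/
theorem result (A : Type u) [CommRing A] [IsNoetherianRing A]
    (I J : Ideal A) (hIJ : I ≤ J) (hI : I.IsRadical) (hJ : J.IsRadical) (n : ℕ)
    (h : (J ^ n).map (algebraMap A (AdicCompletion J A)) ≤ I.map (algebraMap A (AdicCompletion J A))) :
    IsOpen ((fun x : PrimeSpectrum.zeroLocus (I : Set A) => (x : PrimeSpectrum A)) ⁻¹'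
      PrimeSpectrum.zeroLocus (J : Set A)) := by
  have hk : ∀ k : ℕ, J ^ n ≤ I ⊔ J ^ k := by
    intro k x hx
    have h1 : algebraMap A (AdicCompletion J A) x ∈ I.map (algebraMap A (AdicCompletion J A)) :=
      h (Ideal.mem_map_of_mem _ hx)
    have h2 := Ideal.mem_map_of_mem (AdicCompletion.evalₐ J k).toRingHom h1
    rw [Ideal.map_map] at h2
    have hcomp : (AdicCompletion.evalₐ J k).toRingHom.comp (algebraMap A (AdicCompletion J A)) =
        Ideal.Quotient.mk (J ^ k) := by
      refine RingHom.ext fun y => ?_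
      simp
    have h3 : (Ideal.Quotient.mk (J ^ k)) x ∈ I.map (Ideal.Quotient.mk (J ^ k)) := by
      rw [← hcomp]; exact h2
    exact Ideal.mem_quotient_iff_mem_sup.mp h3
  let π := Ideal.Quotient.mk I
  have hN : (J ^ n).map π ≤ J.map π • (J ^ n).map π := by
    have hle : (J ^ n).map π ≤ (J ^ (n + 1)).map π := by
      calc (J ^ n).map π ≤ (I ⊔ J ^ (n + 1)).map π := Ideal.map_mono (hk (n + 1))
        _ = I.map π ⊔ (J ^ (n + 1)).map π := Ideal.map_sup _ _ _
        _ = (J ^ (n + 1)).map π := by rw [Ideal.map_quotient_self, bot_sup_eq]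
    intro y hy
    have h' := hle hy
    rw [pow_succ', Ideal.map_mul] at h'
    rw [Ideal.smul_eq_mul]
    exact h'
  obtain ⟨r', hr'J, hr'⟩ := Submodule.exists_mem_and_smul_eq_self_of_fg_of_le_smul (J.map π)
    ((J ^ n).map π) (IsNoetherian.noetherian _) hN
  obtain ⟨r, hrJ, hrr⟩ := (Ideal.mem_map_iff_of_surjective π Ideal.Quotient.mk_surjective).mp hr'J
  have hkey : ∀ x ∈ J ^ n, (1 - r) * x ∈ I := by
    intro x hx
    have := hr' (π x) (Ideal.mem_map_of_mem π hx)
    rw [← hrr, smul_eq_mul, ← map_mul] at this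
    rw [← Ideal.Quotient.eq_zero_iff_mem, sub_mul, one_mul, map_sub]
    change π x - π (r * x) = 0
    rw [this, sub_self]
  have hset : ((fun x : PrimeSpectrum.zeroLocus (I : Set A) => (x : PrimeSpectrum A)) ⁻¹'
      PrimeSpectrum.zeroLocus (J : Set A)) =
      (fun x : PrimeSpectrum.zeroLocus (I : Set A) => (x : PrimeSpectrum A)) ⁻¹'
      (PrimeSpectrum.basicOpen (1 - r) : Set (PrimeSpectrum A)) := by
    ext ⟨P, hP⟩
    simp only [Set.mem_preimage, PrimeSpectrum.mem_zeroLocus, SetLike.coe_subset_coe,
      SetLike.mem_coe, PrimeSpectrum.mem_basicOpen]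
    rw [PrimeSpectrum.mem_zeroLocus, SetLike.coe_subset_coe] at hP
    constructor
    · intro hJP h1r
      have hr : r ∈ P.asIdeal := hJP hrJ
      have h1 : (1 : A) ∈ P.asIdeal := by
        have := add_mem h1r hr
        rwa [sub_add_cancel] at this
      exact P.isPrime.ne_top ((Ideal.eq_top_iff_one _).mpr h1)
    · intro h1r x hx
      have hxn : x ^ n ∈ J ^ n := Ideal.pow_mem_pow hx n
      have hm : (1 - r) * x ^ n ∈ P.asIdeal := hP (hkey _ hxn)
      rcases P.isPrime.mem_or_mem hm with h' | h'
      · exact absurd h' h1r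
      · exact P.isPrime.mem_of_pow_mem n h'
  rw [hset]
  exact (PrimeSpectrum.isOpen_basicOpen).preimage continuous_subtype_val

end Groth.Agent.S17065
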