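import Groth.Statements.S17139
import Groth.Agent.IsocDet
import Mathlib.Analysis.SpecificLimits.Basic
import Mathlib.Analysis.Normed.Group.Continuity
import Mathlib.Analysis.Normed.Group.Real
-- import your own Groth.Agent.* helpers here

set_option autoImplicit false
universe u v
open Isoc

namespace Groth.Agent.S17139

/-- Let k be a perfect field of characteristic p, a ∈ ℤ, and (N, F) a non-zero σ^a-F-isocrystal over k
of height h, with b an L-basis of N indexed by Fin h and d the p-adic order of the determinant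
coefficient of F in the basis b. If M is a W(k)-lattice in N and r ∈ ℤ, s > 0 satisfy F^s(M) = p^r ·
M, then the first Newton slope λ₁(N, F) equals r/s, and r · h = s · d. (The published statement adds
that F^h(M) = p^d · M for the same lattice M; that clause is not established by the published proof
and fails when gcd(r, s) ≠ 1 — for a = 0, N = L², M = W², F with matrix rows (p, 1), (0, p) and p
odd one has F^p(M) = p^p · M, h = d = 2, but F²(M) ≠ p² · M — so it is omitted here; the converse
direction is a separate statement.) -/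
theorem result (p : ℕ) [Fact p.Prime] (k : Type u) [Field k] [CharP k p] [PerfectRing k p] (a : ℤ)
    (N : Type v) [AddCommGroup N] [Module (WittVector p k) N] [Module (FractionRing (WittVector p k)) N]
    [IsScalarTower (WittVector p k) (FractionRing (WittVector p k)) N]
    [Nontrivial N] (F : N →ₛₗ[Isoc.frob p k a] N) (hF : Isoc.IsIsoc F)
    (h : ℕ) (b : Module.Basis (Fin h) (FractionRing (WittVector p k)) N)
    (d : ℤ) (hd : Isoc.IsOrdP (Isoc.detCoeff b F) d)
    (M : Submodule (WittVector p k) N) (hM : M.IsLattice (FractionRing (WittVector p k)))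
    (r : ℤ) (s : ℕ) (hs : 0 < s) (hFM : Isoc.latImg F s M = Isoc.pPow r M) :
    Isoc.IsFirstSlope F ((r : ℝ) / s) ∧ r * h = s * d := by
  classical
  refine ⟨?_, Groth.Agent.IsocDet.det_eq a F b hd M hM s r hFM⟩
  -- the orders of all iterates
  have hord : ∀ t : ℕ, ∃ c : ℤ, Isoc.IsOrd M F t c := by
    intro t
    obtain ⟨c, hc1, hc2⟩ := Groth.Agent.IsocLib.exists_greatest_le_pPow M hM (Isoc.latImg F t M)
      (Groth.Agent.IsocLib.latImg_fg a F t hM.fg)
      (Groth.Agent.IsocLib.latImg_ne_bot F hF.bijective.1 t (Groth.Agent.IsocLib.lattice_ne_bot M hM))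
    exact ⟨c, Groth.Agent.IsocLib.isOrd_of_greatest F t M c hc1 hc2⟩
  choose c hc using hord
  refine ⟨M, hM, fun n => ((n / s : ℕ) : ℤ) * r + c (n % s), ?_, ?_⟩
  · intro n _
    have hsplit : Isoc.latImg F n M =
        Isoc.pPow (r * ((n / s : ℕ) : ℤ)) (Isoc.latImg F (n % s) M) := by
      conv_lhs => rw [← Nat.mod_add_div n s]
      rw [Groth.Agent.IsocLib.latImg_add a F (n % s) (s * (n / s)),
        Groth.Agent.IsocLib.latImg_mul_eq a F s r M hFM (n / s), Groth.Agent.IsocLib.latImg_pPow]
    obtain ⟨h1, h2⟩ := hc (n % s)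
    show Isoc.latImg F n M ≤ Isoc.pPow (((n / s : ℕ) : ℤ) * r + c (n % s)) M ∧
      ¬ Isoc.latImg F n M ≤ Isoc.pPow (((n / s : ℕ) : ℤ) * r + c (n % s) + 1) M
    refine ⟨?_, ?_⟩
    · rw [hsplit, show ((n / s : ℕ) : ℤ) * r + c (n % s) = r * ((n / s : ℕ) : ℤ) + c (n % s) by ring,
        ← Groth.Agent.IsocLib.pPow_pPow, Groth.Agent.IsocLib.pPow_le_pPow_iff]
      exact h1
    · rw [hsplit, show ((n / s : ℕ) : ℤ) * r + c (n % s) + 1 = r * ((n / s : ℕ) : ℤ) + (c (n % s) + 1)
        by ring, ← Groth.Agent.IsocLib.pPow_pPow, Groth.Agent.IsocLib.pPow_le_pPow_iff]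
      exact h2
  · -- the limit
    have hs' : (s : ℝ) ≠ 0 := by exact_mod_cast hs.ne'
    set g : ℕ → ℝ := fun n => (c (n % s) : ℝ) - r * ((n % s : ℕ) : ℝ) / s with hg
    set B : ℝ := ∑ t ∈ Finset.range s, |(c t : ℝ) - r * (t : ℝ) / s| with hB
    have hgB : ∀ n, |g n| ≤ B := by
      intro n
      have hmem : n % s ∈ Finset.range s := Finset.mem_range.2 (Nat.mod_lt n hs)
      exact Finset.single_le_sum (f := fun t => |(c t : ℝ) - r * (t : ℝ) / s|)
        (fun t _ => abs_nonneg _) hmem
    have key : ∀ n : ℕ, 1 ≤ n →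
        ((((n / s : ℕ) : ℤ) * r + c (n % s) : ℤ) : ℝ) / n = r / s + g n / n := by
      intro n hn
      have hn' : (n : ℝ) ≠ 0 := by exact_mod_cast (show n ≠ 0 by omega)
      have hdiv : ((n / s : ℕ) : ℝ) * s = n - ((n % s : ℕ) : ℝ) := by
        have := Nat.div_add_mod n s
        have h2 : ((s * (n / s) + n % s : ℕ) : ℝ) = n := by exact_mod_cast this
        push_cast at h2
        linarith
      simp only [hg]
      rw [Int.cast_add, Int.cast_mul, Int.cast_natCast]
      field_simp
      linear_combination (r : ℝ) * hdiv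
    have hlim : Filter.Tendsto (fun n : ℕ => g n / n) Filter.atTop (nhds 0) := by
      refine squeeze_zero_norm' (f := fun n : ℕ => g n / n) (a := fun n : ℕ => B / n) ?_
        (tendsto_const_div_atTop_nhds_zero_nat B)
      filter_upwards [Filter.eventually_ge_atTop 1] with n hn
      rw [Real.norm_eq_abs, abs_div, Nat.abs_cast]
      exact div_le_div_of_nonneg_right (hgB n) (Nat.cast_nonneg n)
    have h2 := (tendsto_const_nhds (x := (r : ℝ) / s)).add hlim
    rw [add_zero] at h2
    refine h2.congr' ?_
    filter_upwards [Filter.eventually_ge_atTop 1] with n hn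
    exact (key n hn).symm

end Groth.Agent.S17139
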