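import Groth.Statements.S17141
import Groth.Agent.IsocLib
import Mathlib.Analysis.Subadditive
-- import your own Groth.Agent.* helpers here

set_option autoImplicit false
universe u v
open Isoc

namespace Groth.Agent.S17141

/-- Let k be a perfect field of characteristic p, a ∈ ℤ, W = W(k) with fraction field L, and (N, F) a
σ^a-F-isocrystal over k (N finite-dimensional over L, F a bijective σ^a-semilinear endomorphism),
with N ≠ 0, and let M be any W-lattice in N. Then for every n ≥ 1 the order ord_M(F^n) (the largest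
r with F^n(M) ⊆ p^r M) is defined, say o(n), and the limit of o(n)/n as n → ∞ exists in ℝ. -/
theorem result (p : ℕ) [Fact p.Prime] (k : Type u) [Field k] [CharP k p] [PerfectRing k p] (a : ℤ)
    (N : Type v) [AddCommGroup N] [Module (WittVector p k) N] [Module (FractionRing (WittVector p k)) N]
    [IsScalarTower (WittVector p k) (FractionRing (WittVector p k)) N]
    [Nontrivial N] (F : N →ₛₗ[Isoc.frob p k a] N) (hF : Isoc.IsIsoc F)
    (M : Submodule (WittVector p k) N) (hM : M.IsLattice (FractionRing (WittVector p k))) :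
    ∃ o : ℕ → ℤ, (∀ n : ℕ, 1 ≤ n → Isoc.IsOrd M F n (o n)) ∧
      ∃ lam : ℝ, Filter.Tendsto (fun n : ℕ => (o n : ℝ) / n) Filter.atTop (nhds lam) := by
  classical
  open Groth.Agent.IsocLib in
  have hM0 : M ≠ ⊥ := lattice_ne_bot M hM
  have hinj : Function.Injective F := hF.bijective.1
  have hsurj : Function.Surjective F := hF.bijective.2
  have hex : ∀ n : ℕ, ∃ r : ℤ, Isoc.latImg F n M ≤ Isoc.pPow r M ∧
      ∀ z, Isoc.latImg F n M ≤ Isoc.pPow z M → z ≤ r :=
    fun n => exists_greatest_le_pPow M hM _ (latImg_fg a F n hM.fg) (latImg_ne_bot F hinj n hM0)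
  choose o ho hmax using hex
  have hord : ∀ n, Isoc.IsOrd M F n (o n) := fun n => isOrd_of_greatest F n M (o n) (ho n) (hmax n)
  have hsup : ∀ m n, o m + o n ≤ o (m + n) := by
    intro m n
    apply hmax
    calc Isoc.latImg F (m + n) M = Isoc.latImg F m (Isoc.latImg F n M) := latImg_add a F m n M
      _ ≤ Isoc.latImg F m (Isoc.pPow (o n) M) := latImg_mono F m (ho n)
      _ = Isoc.pPow (o n) (Isoc.latImg F m M) := latImg_pPow a F m _ M
      _ ≤ Isoc.pPow (o n) (Isoc.pPow (o m) M) := pPow_mono _ (ho m)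
      _ = Isoc.pPow (o m + o n) M := by rw [pPow_pPow, add_comm]
  obtain ⟨c, hc⟩ := exists_pPow_le_latImg_one a F hsurj M hM
  have hub : ∀ n : ℕ, o n ≤ c * n := by
    intro n
    have h1 := (pPow_mul_le_latImg a F M c hc n).trans (ho n)
    have h2 : M ≤ Isoc.pPow (o n - c * n) M := by
      have := pPow_mono (-((c : ℤ) * n)) h1
      rwa [pPow_pPow, pPow_pPow, neg_add_cancel, pPow_zero,
        show -((c : ℤ) * n) + o n = o n - c * n by ring] at this
    by_contra hcon
    exact not_le_pPow_of_pos M hM.fg hM0 (show 0 < o n - c * n by omega) h2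
  have hsub : Subadditive (fun n : ℕ => -((o n : ℤ) : ℝ)) := by
    intro m n
    have h := hsup m n
    have : ((o m : ℤ) : ℝ) + o n ≤ o (m + n) := by exact_mod_cast h
    simp only
    linarith
  have hbdd : BddBelow (Set.range fun n : ℕ => -((o n : ℤ) : ℝ) / n) := by
    refine ⟨-(c : ℝ), ?_⟩
    rintro _ ⟨n, rfl⟩
    rcases Nat.eq_zero_or_pos n with rfl | hn
    · simp
    · have hn' : (0 : ℝ) < n := by exact_mod_cast hn
      have : ((o n : ℤ) : ℝ) ≤ c * n := by exact_mod_cast hub n
      simp only
      rw [le_div_iff₀ hn']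
      linarith
  refine ⟨o, fun n _ => hord n, -hsub.lim, ?_⟩
  have := (hsub.tendsto_lim hbdd).neg
  refine this.congr' (Filter.Eventually.of_forall fun n => ?_)
  simp [neg_div]

end Groth.Agent.S17141
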