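import Groth.Statements.S17142
import Groth.Agent.IsocLib
import Mathlib.Analysis.SpecificLimits.Basic
-- import your own Groth.Agent.* helpers here

set_option autoImplicit false
universe u v
open Isoc

namespace Groth.Agent.S17142

/-- Let k be a perfect field of characteristic p, a ∈ ℤ, W = W(k) with fraction field L, and (N, F) a
σ^a-F-isocrystal over k (N finite-dimensional over L, F a bijective σ^a-semilinear endomorphism).
Let M₁, M₂ be W-lattices in N and let o₁(n) = ord_{M₁}(F^n), o₂(n) = ord_{M₂}(F^n) for n ≥ 1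
(largest r with F^n(M_i) ⊆ p^r M_i). If o₁(n)/n → lam₁ and o₂(n)/n → lam₂ then lam₁ = lam₂; so the
limit defining the first Newton slope is independent of the chosen lattice. -/
theorem result (p : ℕ) [Fact p.Prime] (k : Type u) [Field k] [CharP k p] [PerfectRing k p] (a : ℤ)
    (N : Type v) [AddCommGroup N] [Module (WittVector p k) N] [Module (FractionRing (WittVector p k)) N]
    [IsScalarTower (WittVector p k) (FractionRing (WittVector p k)) N]
    (F : N →ₛₗ[Isoc.frob p k a] N) (hF : Isoc.IsIsoc F)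
    (M₁ M₂ : Submodule (WittVector p k) N) (hM₁ : M₁.IsLattice (FractionRing (WittVector p k))) (hM₂ : M₂.IsLattice (FractionRing (WittVector p k)))
    (o₁ o₂ : ℕ → ℤ) (ho₁ : ∀ n : ℕ, 1 ≤ n → Isoc.IsOrd M₁ F n (o₁ n))
    (ho₂ : ∀ n : ℕ, 1 ≤ n → Isoc.IsOrd M₂ F n (o₂ n)) (lam₁ lam₂ : ℝ)
    (h₁ : Filter.Tendsto (fun n : ℕ => (o₁ n : ℝ) / n) Filter.atTop (nhds lam₁))
    (h₂ : Filter.Tendsto (fun n : ℕ => (o₂ n : ℝ) / n) Filter.atTop (nhds lam₂)) :
    lam₁ = lam₂ := by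
  classical
  open Groth.Agent.IsocLib in
  -- comparison constants
  obtain ⟨c₁, hc₁⟩ := exists_le_pPow_neg M₂ hM₂ M₁ hM₁.fg
  obtain ⟨c₂, hc₂⟩ := exists_le_pPow_neg M₁ hM₁ M₂ hM₂.fg
  have cmp : ∀ (A B : Submodule (WittVector p k) N) (oA oB : ℕ → ℤ) (cA cB : ℕ),
      A ≤ Isoc.pPow (-(cA : ℤ)) B → B ≤ Isoc.pPow (-(cB : ℤ)) A →
      (∀ n : ℕ, 1 ≤ n → Isoc.IsOrd A F n (oA n)) → (∀ n : ℕ, 1 ≤ n → Isoc.IsOrd B F n (oB n)) →
      ∀ n : ℕ, 1 ≤ n → oA n - cA - cB ≤ oB n := by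
    intro A B oA oB cA cB hAB hBA hoA hoB n hn
    by_contra hcon
    apply (hoB n hn).2
    calc Isoc.latImg F n B ≤ Isoc.latImg F n (Isoc.pPow (-(cB : ℤ)) A) := latImg_mono F n hBA
      _ = Isoc.pPow (-(cB : ℤ)) (Isoc.latImg F n A) := latImg_pPow a F n _ A
      _ ≤ Isoc.pPow (-(cB : ℤ)) (Isoc.pPow (oA n) A) := pPow_mono _ (hoA n hn).1
      _ ≤ Isoc.pPow (-(cB : ℤ)) (Isoc.pPow (oA n) (Isoc.pPow (-(cA : ℤ)) B)) :=
          pPow_mono _ (pPow_mono _ hAB)
      _ = Isoc.pPow (oA n - cA - cB) B := by rw [pPow_pPow, pPow_pPow]; congr 1; ring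
      _ ≤ Isoc.pPow (oB n + 1) B := pPow_antitone (by omega) B
  have b1 := cmp M₁ M₂ o₁ o₂ c₁ c₂ hc₁ hc₂ ho₁ ho₂
  have b2 := cmp M₂ M₁ o₂ o₁ c₂ c₁ hc₂ hc₁ ho₂ ho₁
  -- the difference of the normalised orders tends to zero
  have hdiff : Filter.Tendsto (fun n : ℕ => (o₁ n : ℝ) / n - (o₂ n : ℝ) / n) Filter.atTop (nhds 0) := by
    have hC : Filter.Tendsto (fun n : ℕ => ((c₁ + c₂ : ℕ) : ℝ) / n) Filter.atTop (nhds 0) :=
      tendsto_const_div_atTop_nhds_zero_nat _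
    have hC' : Filter.Tendsto (fun n : ℕ => -(((c₁ + c₂ : ℕ) : ℝ) / n)) Filter.atTop (nhds 0) := by
      simpa using hC.neg
    refine tendsto_of_tendsto_of_tendsto_of_le_of_le' hC' hC ?_ ?_
    · filter_upwards [Filter.eventually_ge_atTop 1] with n hn
      have h1 := b2 n hn
      have hn' : (0 : ℝ) < n := by exact_mod_cast hn
      rw [← sub_div, neg_div', div_le_div_iff_of_pos_right hn']
      have : ((o₂ n : ℤ) : ℝ) - c₂ - c₁ ≤ (o₁ n : ℝ) := by exact_mod_cast h1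
      push_cast
      linarith
    · filter_upwards [Filter.eventually_ge_atTop 1] with n hn
      have h1 := b1 n hn
      have hn' : (0 : ℝ) < n := by exact_mod_cast hn
      rw [← sub_div, div_le_div_iff_of_pos_right hn']
      have : ((o₁ n : ℤ) : ℝ) - c₁ - c₂ ≤ (o₂ n : ℝ) := by exact_mod_cast h1
      push_cast
      linarith
  have := tendsto_nhds_unique (h₁.sub h₂) hdiff
  linarith

end Groth.Agent.S17142
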