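import Groth.Statements.S17143
import Groth.Agent.IsocLib
import Mathlib.Analysis.SpecificLimits.Basic
-- import your own Groth.Agent.* helpers here

set_option autoImplicit false
universe u v
open Isoc

namespace Groth.Agent.S17143

/-- Let k be a perfect field of characteristic p, a ∈ ℤ, W = W(k) with fraction field L, and (N, F) a
σ^a-F-isocrystal over k (N finite-dimensional over L, F a bijective σ^a-semilinear endomorphism)
with first Newton slope λ₁(N, F) = lam. Then for m ∈ ℤ and n ∈ ℕ the twisted iterate (N, p^m F^n), a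
σ^(an)-F-isocrystal, has first Newton slope n · lam + m. (The published statement allows every n ∈
ℤ, with F^n the inverse iterate for n < 0; that case is false in general, since the first slope of
(N, F⁻¹) is minus the LARGEST slope of (N, F): for N = N_0 ⊕ N_1, the sum of the standard
isocrystals of slopes 0 and 1, λ₁(N, F) = 0 while λ₁(N, F⁻¹) = −1. Only n ≥ 0 is stated here.) -/
theorem result (p : ℕ) [Fact p.Prime] (k : Type u) [Field k] [CharP k p] [PerfectRing k p] (a : ℤ)
    (N : Type v) [AddCommGroup N] [Module (WittVector p k) N] [Module (FractionRing (WittVector p k)) N]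
    [IsScalarTower (WittVector p k) (FractionRing (WittVector p k)) N]
    (F : N →ₛₗ[Isoc.frob p k a] N) (hF : Isoc.IsIsoc F) (lam : ℝ) (hlam : Isoc.IsFirstSlope F lam) (m : ℤ) (n : ℕ) :
    Isoc.IsFirstSlope ((p : (FractionRing (WittVector p k))) ^ m • Isoc.iter F n) (n * lam + m) := by
  classical
  open Groth.Agent.IsocLib in
  obtain ⟨M, hM, o, ho, hlim⟩ := hlam
  have hiter : ∀ (j : ℕ) (x : N),
      (⇑((p : FractionRing (WittVector p k)) ^ m • Isoc.iter F n))^[j] x =
        ((p : FractionRing (WittVector p k)) ^ (m * j)) • (⇑F)^[n * j] x := by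
    intro j
    induction j with
    | zero => intro x; simp
    | succ j ih =>
      intro x
      rw [Function.iterate_succ_apply', ih, LinearMap.smul_apply, Isoc.iter_apply, iterate_pzpow_smul a F n,
        smul_smul, ← zpow_add₀ p_ne_zero, ← Function.iterate_add_apply]
      congr 2
      · push_cast; ring
      · ring
  have hlat : ∀ j : ℕ, Isoc.latImg ((p : FractionRing (WittVector p k)) ^ m • Isoc.iter F n) j M =
      Isoc.pPow (m * j) (Isoc.latImg F (n * j) M) := by
    intro j
    unfold Isoc.latImg Isoc.pPow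
    rw [Submodule.smul_span]
    congr 1
    ext y
    simp only [Set.mem_image, Set.mem_smul_set, hiter]
    constructor
    · rintro ⟨x, hx, rfl⟩; exact ⟨_, ⟨x, hx, rfl⟩, rfl⟩
    · rintro ⟨_, ⟨x, hx, rfl⟩, rfl⟩; exact ⟨x, hx, rfl⟩
  have hne : M ≠ ⊥ := by
    rintro rfl
    apply (ho 1 le_rfl).2
    rw [latImg_le_iff]
    intro x hx
    rw [(Submodule.mem_bot _).mp hx, iterate_map_zero']
    exact Submodule.zero_mem _
  refine ⟨M, hM, ?_⟩
  rcases Nat.eq_zero_or_pos n with rfl | hn
  · refine ⟨fun j => m * j, fun j _ => ⟨?_, ?_⟩, ?_⟩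
    · rw [hlat, Nat.zero_mul, latImg_zero]
    · rw [hlat, Nat.zero_mul, latImg_zero, ← pPow_pPow, pPow_le_pPow_iff]
      exact not_le_pPow_of_pos M hM.fg hne (by norm_num)
    · have : (fun j : ℕ => (((m * j : ℤ)) : ℝ) / j) =ᶠ[Filter.atTop] fun _ => ((0 : ℕ) : ℝ) * lam + m := by
        filter_upwards [Filter.eventually_ge_atTop 1] with j hj
        have hj' : (j : ℝ) ≠ 0 := by exact_mod_cast (show j ≠ 0 by omega)
        push_cast
        field_simp
        ring
      exact (tendsto_const_nhds).congr' this.symm
  · refine ⟨fun j => m * j + o (n * j), fun j hj => ⟨?_, ?_⟩, ?_⟩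
    · have hnj : 1 ≤ n * j := Nat.one_le_iff_ne_zero.mpr (by positivity)
      rw [hlat, ← pPow_pPow]
      exact pPow_mono _ (ho (n * j) hnj).1
    · have hnj : 1 ≤ n * j := Nat.one_le_iff_ne_zero.mpr (by positivity)
      rw [hlat, add_assoc, ← pPow_pPow, pPow_le_pPow_iff]
      exact (ho (n * j) hnj).2
    · have hnt : Filter.Tendsto (fun j : ℕ => n * j) Filter.atTop Filter.atTop :=
        Filter.tendsto_atTop_mono (fun j => Nat.le_mul_of_pos_left j hn) Filter.tendsto_id
      have h2 := ((hlim.comp hnt).const_mul (n : ℝ)).add_const (m : ℝ)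
      refine h2.congr' ?_
      filter_upwards [Filter.eventually_ge_atTop 1] with j hj
      have hj' : (j : ℝ) ≠ 0 := by exact_mod_cast (show j ≠ 0 by omega)
      have hn' : (n : ℝ) ≠ 0 := by exact_mod_cast (show n ≠ 0 by omega)
      simp only [Function.comp_apply]
      push_cast
      field_simp
      ring

end Groth.Agent.S17143
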