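import Groth.Statements.S17148
import Groth.Agent.IsocLib
-- import your own Groth.Agent.* helpers here

set_option autoImplicit false
universe u v
open Isoc

namespace Groth.Agent.S17148

/-- Let k be a perfect field of characteristic p, a ∈ ℤ, W = W(k) with fraction field L, and (N, F) a
σ^a-F-isocrystal over k (N finite-dimensional over L, F a bijective σ^a-semilinear endomorphism)
that is isoclinic of slope μ, i.e. there are a W-lattice M, r ∈ ℤ and s > 0 with r/s = μ and F^s(M)
= p^r · M. Then for every F-stable L-subspace P of N, the sub-isocrystal (P, F|P) is again isoclinic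
of slope μ. -/
theorem result (p : ℕ) [Fact p.Prime] (k : Type u) [Field k] [CharP k p] [PerfectRing k p] (a : ℤ)
    (N : Type v) [AddCommGroup N] [Module (WittVector p k) N] [Module (FractionRing (WittVector p k)) N]
    [IsScalarTower (WittVector p k) (FractionRing (WittVector p k)) N]
    (F : N →ₛₗ[Isoc.frob p k a] N) (hF : Isoc.IsIsoc F) (μ : ℚ) (hμ : Isoc.IsIsoclinic F μ)
    (P : Submodule (FractionRing (WittVector p k)) N) (hP : ∀ x ∈ P, F x ∈ P) :
    Isoc.IsIsoclinic (F.restrict hP) μ := by
  classical
  open Groth.Agent.IsocLib in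
  obtain ⟨M, hM, r, s, hs, hrs, hFM⟩ := hμ
  have hit : ∀ (j : ℕ) (x : P), (((⇑(F.restrict hP))^[j] x : P) : N) = (⇑F)^[j] (x : N) := by
    intro j
    induction j with
    | zero => intro x; rfl
    | succ j ih =>
      intro x
      rw [Function.iterate_succ_apply', LinearMap.restrict_apply]
      change F (((⇑(F.restrict hP))^[j] x : P) : N) = _
      rw [ih, Function.iterate_succ_apply']
  have hτ : Function.Surjective (Isoc.frob p k a) := by
    unfold Isoc.frob; exact RingEquiv.surjective _
  have hinjP : Function.Injective (F.restrict hP) := fun x y hxy =>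
    Subtype.ext (hF.bijective.1 (congrArg Subtype.val hxy))
  have hsurjP : ∀ y ∈ P, ∃ x ∈ P, F x = y := by
    have : Module.Finite (FractionRing (WittVector p k)) N := hF.finite
    let b := Module.finBasis (FractionRing (WittVector p k)) P
    have hli : LinearIndependent (FractionRing (WittVector p k)) (fun i => F.restrict hP (b i)) := by
      rw [Fintype.linearIndependent_iff]
      intro g hg i
      choose g' hg' using fun i => hτ (g i)
      have h0 : F.restrict hP (∑ i, g' i • b i) = 0 := by
        rw [map_sum]
        simp only [LinearMap.map_smulₛₗ, hg']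
        exact hg
      have h1 : ∑ i, g' i • b i = 0 := hinjP (by rw [h0, map_zero])
      have := (Fintype.linearIndependent_iff.mp b.linearIndependent) g' h1 i
      rw [← hg' i, this, map_zero]
    have hspan := hli.span_eq_top_of_card_eq_finrank' (by simp)
    intro y hy
    have hyspan : (⟨y, hy⟩ : P) ∈ Submodule.span (FractionRing (WittVector p k))
        (Set.range fun i => F.restrict hP (b i)) := by rw [hspan]; trivial
    have hrange : ∀ z ∈ Submodule.span (FractionRing (WittVector p k))
        (Set.range fun i => F.restrict hP (b i)), ∃ x : P, F.restrict hP x = z := by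
      intro z hz
      induction hz using Submodule.span_induction with
      | mem z hz => obtain ⟨i, rfl⟩ := hz; exact ⟨b i, rfl⟩
      | zero => exact ⟨0, map_zero _⟩
      | add z z' _ _ hz hz' =>
        obtain ⟨x, rfl⟩ := hz
        obtain ⟨x', rfl⟩ := hz'
        exact ⟨x + x', map_add _ _ _⟩
      | smul c z _ hz =>
        obtain ⟨x, rfl⟩ := hz
        obtain ⟨c', rfl⟩ := hτ c
        exact ⟨c' • x, LinearMap.map_smulₛₗ _ _ _⟩
    obtain ⟨x, hx⟩ := hrange _ hyspan
    exact ⟨x, x.2, congrArg Subtype.val hx⟩
  have hsurjPit : ∀ (j : ℕ), ∀ y ∈ P, ∃ x ∈ P, (⇑F)^[j] x = y := by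
    intro j
    induction j with
    | zero => intro y hy; exact ⟨y, hy, rfl⟩
    | succ j ih =>
      intro y hy
      obtain ⟨x, hx, rfl⟩ := hsurjP y hy
      obtain ⟨x', hx', rfl⟩ := ih x hx
      exact ⟨x', hx', by rw [Function.iterate_succ_apply']⟩
  refine ⟨M.comap (P.subtype.restrictScalars (WittVector p k)), ⟨?_, ?_⟩, r, s, hs, hrs, ?_⟩
  · apply Submodule.fg_of_fg_map_injective (P.subtype.restrictScalars (WittVector p k))
      (fun x y h => Subtype.ext h)
    exact Submodule.FG.of_le hM.fg (Submodule.map_comap_le _ _)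
  · rw [eq_top_iff]
    rintro x -
    obtain ⟨c, hc⟩ := exists_ppow_smul_mem M hM (x : N)
    have hmem : ((p : FractionRing (WittVector p k)) ^ (c : ℤ)) • x ∈
        M.comap (P.subtype.restrictScalars (WittVector p k)) := hc
    have hx : x = ((p : FractionRing (WittVector p k)) ^ (-(c : ℤ))) •
        (((p : FractionRing (WittVector p k)) ^ (c : ℤ)) • x) := by
      rw [smul_smul, ← zpow_add₀ p_ne_zero, neg_add_cancel, zpow_zero, one_smul]
    rw [hx]
    exact Submodule.smul_mem _ _ (Submodule.subset_span hmem)
  · ext y
    rw [mem_latImg_iff a _ s _ y, mem_pPow_iff]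
    constructor
    · rintro ⟨m, hm, rfl⟩
      have h1 : (⇑F)^[s] (m : N) ∈ Isoc.pPow r M := hFM ▸ mem_latImg F s M hm
      rw [mem_pPow_iff] at h1
      change ((((p : FractionRing (WittVector p k)) ^ (-r)) • (⇑(F.restrict hP))^[s] m : P) : N) ∈ M
      rw [Submodule.coe_smul, hit]
      exact h1
    · intro hy
      have hy' : ((p : FractionRing (WittVector p k)) ^ (-r)) • (y : N) ∈ M := by
        have := hy
        change (((((p : FractionRing (WittVector p k)) ^ (-r)) • y : P)) : N) ∈ M at this
        rwa [Submodule.coe_smul] at this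
      have h1 : (y : N) ∈ Isoc.latImg F s M := by
        rw [hFM, mem_pPow_iff]; exact hy'
      obtain ⟨m, hm, hmy⟩ := (mem_latImg_iff a F s M _).mp h1
      obtain ⟨x, hx, hxy⟩ := hsurjPit s y y.2
      have hmx : m = x := (hF.bijective.1.iterate s) (hmy.trans hxy.symm)
      subst hmx
      refine ⟨⟨m, hx⟩, hm, ?_⟩
      apply Subtype.ext
      rw [hit]
      exact hxy

end Groth.Agent.S17148
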