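import Groth.Statements.S17149
import Groth.Agent.IsocLib
-- import your own Groth.Agent.* helpers here

set_option autoImplicit false
universe u v
open Isoc

namespace Groth.Agent.S17149

/-- Let k be a perfect field of characteristic p, a ∈ ℤ, W = W(k) with fraction field L, and (N, F) a
σ^a-F-isocrystal over k (N finite-dimensional over L, F a bijective σ^a-semilinear endomorphism)
that is isoclinic of slope μ (some W-lattice M, r ∈ ℤ, s > 0 with r/s = μ and F^s(M) = p^r · M).
Then for every L-subspace P of N with F(P) ⊆ P, the quotient N/P with the σ^a-semilinear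
endomorphism induced by F is again isoclinic of slope μ. -/
theorem result (p : ℕ) [Fact p.Prime] (k : Type u) [Field k] [CharP k p] [PerfectRing k p] (a : ℤ)
    (N : Type v) [AddCommGroup N] [Module (WittVector p k) N] [Module (FractionRing (WittVector p k)) N]
    [IsScalarTower (WittVector p k) (FractionRing (WittVector p k)) N]
    (F : N →ₛₗ[Isoc.frob p k a] N) (hF : Isoc.IsIsoc F) (μ : ℚ) (hμ : Isoc.IsIsoclinic F μ)
    (P : Submodule (FractionRing (WittVector p k)) N) (hP : P ≤ P.comap F) :
    Isoc.IsIsoclinic (P.mapQ P F hP) μ := by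
  classical
  open Groth.Agent.IsocLib in
  obtain ⟨M, hM, r, s, hs, hrs, hFM⟩ := hμ
  have hit : ∀ (j : ℕ) (x : N), (⇑(P.mapQ P F hP))^[j] (Submodule.Quotient.mk x) =
      Submodule.Quotient.mk ((⇑F)^[j] x) := by
    intro j
    induction j with
    | zero => intro x; rfl
    | succ j ih =>
      intro x
      rw [Function.iterate_succ_apply', ih, Submodule.mapQ_apply, Function.iterate_succ_apply']
  refine ⟨M.map (P.mkQ.restrictScalars (WittVector p k)), ⟨hM.fg.map _, ?_⟩, r, s, hs, hrs, ?_⟩
  · have : ((M.map (P.mkQ.restrictScalars (WittVector p k)) : Submodule (WittVector p k) (N ⧸ P)) :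
        Set (N ⧸ P)) = P.mkQ '' (M : Set N) := by
      rw [Submodule.map_coe]; rfl
    rw [this, Submodule.span_image, hM.span_eq_top, Submodule.map_top, Submodule.range_mkQ]
  · ext y
    rw [mem_latImg_iff a _ s _ y, mem_pPow_iff]
    constructor
    · rintro ⟨_, ⟨m, hm, rfl⟩, rfl⟩
      have h1 : (⇑F)^[s] m ∈ Isoc.pPow r M := hFM ▸ mem_latImg F s M hm
      rw [mem_pPow_iff] at h1
      refine ⟨_, h1, ?_⟩
      change Submodule.Quotient.mk (_ • _) = _ • (⇑(P.mapQ P F hP))^[s] (Submodule.Quotient.mk m)
      rw [hit, Submodule.Quotient.mk_smul]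
    · rintro ⟨m, hm, hmy⟩
      have h1 : ((p : FractionRing (WittVector p k)) ^ r) • m ∈ Isoc.latImg F s M :=
        hFM ▸ smul_mem_pPow r M hm
      obtain ⟨m', hm', hm'eq⟩ := (mem_latImg_iff a F s M _).mp h1
      refine ⟨(P.mkQ.restrictScalars (WittVector p k)) m', ⟨m', hm', rfl⟩, ?_⟩
      change (⇑(P.mapQ P F hP))^[s] (Submodule.Quotient.mk m') = y
      rw [hit, hm'eq, Submodule.Quotient.mk_smul]
      change ((p : FractionRing (WittVector p k)) ^ r) • (P.mkQ.restrictScalars (WittVector p k)) m = y
      rw [hmy, smul_smul, ← zpow_add₀ p_ne_zero, add_neg_cancel, zpow_zero, one_smul]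

end Groth.Agent.S17149
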