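import Groth.Statements.S17150
import Groth.Agent.IsocLib
-- import your own Groth.Agent.* helpers here

set_option autoImplicit false
universe u v w
open Isoc

namespace Groth.Agent.S17150

/-- Let k be a perfect field of characteristic p and a ∈ ℤ; let (N₁, F₁) and (N₂, F₂) be
σ^a-F-isocrystals over k that are isoclinic of slopes μ₁ and μ₂ respectively (in the lattice sense:
F_i^{s_i}(M_i) = p^{r_i} · M_i with r_i/s_i = μ_i), with μ₁ ≠ μ₂. Then every morphism of isocrystals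
f : (N₁, F₁) → (N₂, F₂), i.e. every L-linear map with f ∘ F₁ = F₂ ∘ f, is zero. -/
theorem result (p : ℕ) [Fact p.Prime] (k : Type u) [Field k] [CharP k p] [PerfectRing k p] (a : ℤ)
    (N₁ : Type v) [AddCommGroup N₁] [Module (WittVector p k) N₁] [Module (FractionRing (WittVector p k)) N₁]
    [IsScalarTower (WittVector p k) (FractionRing (WittVector p k)) N₁]
    (N₂ : Type w) [AddCommGroup N₂] [Module (WittVector p k) N₂] [Module (FractionRing (WittVector p k)) N₂]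
    [IsScalarTower (WittVector p k) (FractionRing (WittVector p k)) N₂]
    (F₁ : N₁ →ₛₗ[Isoc.frob p k a] N₁) (F₂ : N₂ →ₛₗ[Isoc.frob p k a] N₂)
    (h₁ : Isoc.IsIsoc F₁) (h₂ : Isoc.IsIsoc F₂)
    (μ₁ μ₂ : ℚ) (hμ₁ : Isoc.IsIsoclinic F₁ μ₁) (hμ₂ : Isoc.IsIsoclinic F₂ μ₂) (hne : μ₁ ≠ μ₂)
    (f : N₁ →ₗ[(FractionRing (WittVector p k))] N₂) (hf : ∀ x : N₁, f (F₁ x) = F₂ (f x)) : f = 0 := by
  classical
  open Groth.Agent.IsocLib in
  obtain ⟨M₁, hM₁, r₁, s₁, hs₁, hrs₁, hF₁⟩ := hμ₁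
  obtain ⟨M₂, hM₂, r₂, s₂, hs₂, hrs₂, hF₂⟩ := hμ₂
  have e₁ : Isoc.latImg F₁ (s₁ * s₂) M₁ = Isoc.pPow (r₁ * s₂) M₁ := latImg_mul_eq a F₁ s₁ r₁ M₁ hF₁ s₂
  have e₂ : Isoc.latImg F₂ (s₁ * s₂) M₂ = Isoc.pPow (r₂ * s₁) M₂ := by
    rw [mul_comm s₁]; exact latImg_mul_eq a F₂ s₂ r₂ M₂ hF₂ s₁
  have hR : r₁ * s₂ ≠ r₂ * s₁ := by
    intro h
    apply hne
    rw [← hrs₁, ← hrs₂]
    have hs₁' : (s₁ : ℚ) ≠ 0 := by exact_mod_cast hs₁.ne'
    have hs₂' : (s₂ : ℚ) ≠ 0 := by exact_mod_cast hs₂.ne'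
    rw [div_eq_div_iff hs₁' hs₂']
    exact_mod_cast h
  have hfit : ∀ (n : ℕ) (x : N₁), f ((⇑F₁)^[n] x) = (⇑F₂)^[n] (f x) := by
    intro n
    induction n with
    | zero => intro x; rfl
    | succ n ih => intro x; rw [Function.iterate_succ_apply', Function.iterate_succ_apply', hf, ih]
  have hXfg : (M₁.map (f.restrictScalars (WittVector p k))).FG := hM₁.fg.map _
  by_contra hf0
  have hX0 : M₁.map (f.restrictScalars (WittVector p k)) ≠ ⊥ := by
    intro hXb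
    apply hf0
    have hker : (M₁ : Set N₁) ⊆ (LinearMap.ker f : Set N₁) := by
      intro x hx
      have : (f.restrictScalars (WittVector p k)) x ∈ M₁.map (f.restrictScalars (WittVector p k)) :=
        ⟨x, hx, rfl⟩
      rw [hXb, Submodule.mem_bot] at this
      exact this
    have := Submodule.span_le.mpr hker
    rw [hM₁.span_eq_top] at this
    ext x
    exact this Submodule.mem_top
  obtain ⟨e, he, hemax⟩ := exists_greatest_le_pPow M₂ hM₂ _ hXfg hX0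
  have hXS : Isoc.latImg F₂ (s₁ * s₂) (M₁.map (f.restrictScalars (WittVector p k))) =
      Isoc.pPow (r₁ * s₂) (M₁.map (f.restrictScalars (WittVector p k))) := by
    ext y
    rw [mem_latImg_iff a F₂ _ _ y, mem_pPow_iff]
    constructor
    · rintro ⟨x, ⟨m, hm, rfl⟩, rfl⟩
      have hmem : (⇑F₁)^[s₁ * s₂] m ∈ Isoc.pPow (r₁ * s₂) M₁ := e₁ ▸ mem_latImg F₁ _ M₁ hm
      rw [mem_pPow_iff] at hmem
      refine ⟨_, hmem, ?_⟩
      rw [LinearMap.restrictScalars_apply, LinearMap.restrictScalars_apply, map_smul, hfit]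
    · rintro ⟨m, hm, hmy⟩
      have hmem : ((p : FractionRing (WittVector p k)) ^ (r₁ * s₂)) • m ∈ Isoc.latImg F₁ (s₁ * s₂) M₁ :=
        e₁ ▸ smul_mem_pPow _ M₁ hm
      obtain ⟨m', hm', hm'eq⟩ := (mem_latImg_iff a F₁ _ M₁ _).mp hmem
      refine ⟨f m', ⟨m', hm', rfl⟩, ?_⟩
      rw [← hfit, hm'eq, map_smul]
      rw [LinearMap.restrictScalars_apply] at hmy
      rw [hmy, smul_smul, ← zpow_add₀ p_ne_zero, add_neg_cancel, zpow_zero, one_smul]
  rcases lt_or_gt_of_ne hR with hlt | hgt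
  · have hle : M₁.map (f.restrictScalars (WittVector p k)) ≤ Isoc.pPow (e + (r₂ * s₁ - r₁ * s₂)) M₂ := by
      have h1 : Isoc.pPow (r₁ * s₂) (M₁.map (f.restrictScalars (WittVector p k))) ≤
          Isoc.pPow (e + r₂ * s₁) M₂ := by
        rw [← hXS]
        calc Isoc.latImg F₂ (s₁ * s₂) (M₁.map (f.restrictScalars (WittVector p k))) ≤
              Isoc.latImg F₂ (s₁ * s₂) (Isoc.pPow e M₂) := latImg_mono F₂ _ he
          _ = Isoc.pPow e (Isoc.latImg F₂ (s₁ * s₂) M₂) := latImg_pPow a F₂ _ e M₂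
          _ = Isoc.pPow (e + r₂ * s₁) M₂ := by rw [e₂, pPow_pPow]
      rw [show e + r₂ * s₁ = r₁ * s₂ + (e + (r₂ * s₁ - r₁ * s₂)) by ring, ← pPow_pPow,
        pPow_le_pPow_iff] at h1
      exact h1
    have := hemax _ hle
    omega
  · have hle : M₁.map (f.restrictScalars (WittVector p k)) ≤ Isoc.pPow (e + (r₁ * s₂ - r₂ * s₁)) M₂ := by
      apply le_of_latImg_le a F₂ h₂.bijective.1 (s₁ * s₂)
      rw [hXS, latImg_pPow, e₂, pPow_pPow]
      calc Isoc.pPow (r₁ * s₂) (M₁.map (f.restrictScalars (WittVector p k))) ≤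
            Isoc.pPow (r₁ * s₂) (Isoc.pPow e M₂) := pPow_mono _ he
        _ = _ := by rw [pPow_pPow]; congr 1; ring
    have := hemax _ hle
    omega

end Groth.Agent.S17150
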