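import Groth.Statements.S17151
import Groth.Agent.IsocLib
-- import your own Groth.Agent.* helpers here

set_option autoImplicit false
universe u v
open Isoc

namespace Groth.Agent.S17151

open Groth.Agent.IsocLib

section Aux

variable {p : ℕ} [Fact p.Prime] {k : Type u} [Field k] [CharP k p] [PerfectRing k p] {a : ℤ}
variable {N : Type v} [AddCommGroup N] [Module (WittVector p k) N]
  [Module (FractionRing (WittVector p k)) N] [IsScalarTower (WittVector p k) (FractionRing (WittVector p k)) N]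

/-- Isoclinic of slope `μ` on the subspace `P`, with the lattice taken inside `N`. -/
def AmbIso (F : N →ₛₗ[Isoc.frob p k a] N) (μ : ℚ) (P : Submodule (FractionRing (WittVector p k)) N) : Prop :=
  ∃ (M : Submodule (WittVector p k) N) (r : ℤ) (s : ℕ), 0 < s ∧ (r : ℚ) / s = μ ∧ M.FG ∧
    (M : Set N) ⊆ P ∧ Submodule.span (FractionRing (WittVector p k)) (M : Set N) = P ∧
    Isoc.latImg F s M = Isoc.pPow r M

theorem pPow_sup (r : ℤ) (M₁ M₂ : Submodule (WittVector p k) N) :
    Isoc.pPow r (M₁ ⊔ M₂) = Isoc.pPow r M₁ ⊔ Isoc.pPow r M₂ := by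
  ext x
  rw [mem_pPow_iff, Submodule.mem_sup, Submodule.mem_sup]
  constructor
  · rintro ⟨y, hy, z, hz, hyz⟩
    refine ⟨((p : FractionRing (WittVector p k)) ^ r) • y, smul_mem_pPow r M₁ hy,
      ((p : FractionRing (WittVector p k)) ^ r) • z, smul_mem_pPow r M₂ hz, ?_⟩
    rw [← smul_add, hyz, smul_smul, ← zpow_add₀ p_ne_zero, add_neg_cancel, zpow_zero, one_smul]
  · rintro ⟨y, hy, z, hz, rfl⟩
    rw [mem_pPow_iff] at hy hz
    exact ⟨_, hy, _, hz, by rw [smul_add]⟩

theorem latImg_sup (F : N →ₛₗ[Isoc.frob p k a] N) (s : ℕ) (M₁ M₂ : Submodule (WittVector p k) N) :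
    Isoc.latImg F s (M₁ ⊔ M₂) = Isoc.latImg F s M₁ ⊔ Isoc.latImg F s M₂ := by
  ext y
  rw [mem_latImg_iff a F s _ y, Submodule.mem_sup]
  constructor
  · rintro ⟨m, hm, rfl⟩
    obtain ⟨x, hx, z, hz, rfl⟩ := Submodule.mem_sup.mp hm
    exact ⟨_, mem_latImg F s M₁ hx, _, mem_latImg F s M₂ hz, (iterate_map_add' F s x z).symm⟩
  · rintro ⟨x, hx, z, hz, rfl⟩
    obtain ⟨x', hx', rfl⟩ := (mem_latImg_iff a F s M₁ x).mp hx
    obtain ⟨z', hz', rfl⟩ := (mem_latImg_iff a F s M₂ z).mp hz
    exact ⟨x' + z', Submodule.add_mem_sup hx' hz', iterate_map_add' F s x' z'⟩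

theorem ambIso_bot (F : N →ₛₗ[Isoc.frob p k a] N) (μ : ℚ) : AmbIso F μ ⊥ := by
  refine ⟨⊥, μ.num, μ.den, μ.den_pos, Rat.num_div_den μ, Submodule.fg_bot, ?_, ?_, ?_⟩
  · intro x hx; exact hx
  · rw [Submodule.bot_coe, Submodule.span_zero_singleton]
  · ext y
    rw [mem_latImg_iff a F _ ⊥ y, mem_pPow_iff, Submodule.mem_bot]
    constructor
    · rintro ⟨m, hm, rfl⟩
      rw [(Submodule.mem_bot _).mp hm, iterate_map_zero', smul_zero]
    · intro hy
      refine ⟨0, Submodule.zero_mem _, ?_⟩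
      rw [iterate_map_zero']
      have := congrArg (fun z => ((p : FractionRing (WittVector p k)) ^ (μ.num : ℤ)) • z) hy
      rw [smul_zero, smul_smul, ← zpow_add₀ (p_ne_zero (p := p) (k := k)), add_neg_cancel, zpow_zero,
        one_smul] at this
      exact this.symm

theorem ambIso_sup (F : N →ₛₗ[Isoc.frob p k a] N) (μ : ℚ) {P₁ P₂ : Submodule (FractionRing (WittVector p k)) N}
    (h₁ : AmbIso F μ P₁) (h₂ : AmbIso F μ P₂) : AmbIso F μ (P₁ ⊔ P₂) := by
  obtain ⟨M₁, r₁, s₁, hs₁, hrs₁, hfg₁, hsub₁, hspan₁, he₁⟩ := h₁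
  obtain ⟨M₂, r₂, s₂, hs₂, hrs₂, hfg₂, hsub₂, hspan₂, he₂⟩ := h₂
  have hR : r₂ * s₁ = r₁ * s₂ := by
    have hs₁' : (s₁ : ℚ) ≠ 0 := by exact_mod_cast hs₁.ne'
    have hs₂' : (s₂ : ℚ) ≠ 0 := by exact_mod_cast hs₂.ne'
    have := hrs₂.trans hrs₁.symm
    rw [div_eq_div_iff hs₂' hs₁'] at this
    exact_mod_cast this
  have e₁ : Isoc.latImg F (s₁ * s₂) M₁ = Isoc.pPow (r₁ * s₂) M₁ := latImg_mul_eq a F s₁ r₁ M₁ he₁ s₂
  have e₂ : Isoc.latImg F (s₁ * s₂) M₂ = Isoc.pPow (r₁ * s₂) M₂ := by
    rw [mul_comm s₁, ← hR]; exact latImg_mul_eq a F s₂ r₂ M₂ he₂ s₁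
  refine ⟨M₁ ⊔ M₂, r₁ * s₂, s₁ * s₂, Nat.mul_pos hs₁ hs₂, ?_, hfg₁.sup hfg₂, ?_, ?_, ?_⟩
  · rw [← hrs₁]
    have hs₁' : (s₁ : ℚ) ≠ 0 := by exact_mod_cast hs₁.ne'
    have hs₂' : (s₂ : ℚ) ≠ 0 := by exact_mod_cast hs₂.ne'
    push_cast
    field_simp
  · intro x hx
    obtain ⟨y, hy, z, hz, rfl⟩ := Submodule.mem_sup.mp hx
    exact Submodule.add_mem_sup (hsub₁ hy) (hsub₂ hz)
  · apply le_antisymm
    · rw [Submodule.span_le]
      intro x hx
      obtain ⟨y, hy, z, hz, rfl⟩ := Submodule.mem_sup.mp hx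
      exact Submodule.add_mem_sup (hsub₁ hy) (hsub₂ hz)
    · rw [← hspan₁, ← hspan₂, sup_le_iff]
      exact ⟨Submodule.span_mono (fun x hx => Submodule.mem_sup_left hx),
        Submodule.span_mono (fun x hx => Submodule.mem_sup_right hx)⟩
  · rw [latImg_sup, e₁, e₂, pPow_sup]

/-- From the subtype formulation to the ambient one. -/
theorem ambIso_of_isIsoclinic (F : N →ₛₗ[Isoc.frob p k a] N) (μ : ℚ)
    (P : Submodule (FractionRing (WittVector p k)) N) (hP : ∀ x ∈ P, F x ∈ P)
    (h : Isoc.IsIsoclinic (F.restrict hP) μ) : AmbIso F μ P := by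
  obtain ⟨M', hM', r, s, hs, hrs, he⟩ := h
  have hit : ∀ (j : ℕ) (x : P), (((⇑(F.restrict hP))^[j] x : P) : N) = (⇑F)^[j] (x : N) := by
    intro j
    induction j with
    | zero => intro x; rfl
    | succ j ih =>
      intro x
      rw [Function.iterate_succ_apply', LinearMap.restrict_apply]
      change F (((⇑(F.restrict hP))^[j] x : P) : N) = _
      rw [ih, Function.iterate_succ_apply']
  refine ⟨M'.map (P.subtype.restrictScalars (WittVector p k)), r, s, hs, hrs, hM'.fg.map _, ?_, ?_, ?_⟩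
  · rintro _ ⟨x, -, rfl⟩; exact x.2
  · have hc : ((M'.map (P.subtype.restrictScalars (WittVector p k)) : Submodule (WittVector p k) N) : Set N) =
        P.subtype '' (M' : Set P) := by rw [Submodule.map_coe]; rfl
    rw [hc, Submodule.span_image, hM'.span_eq_top, Submodule.map_top, Submodule.range_subtype]
  · ext y
    rw [mem_latImg_iff a F s _ y, mem_pPow_iff]
    constructor
    · rintro ⟨_, ⟨m, hm, rfl⟩, rfl⟩
      have h1 : (⇑(F.restrict hP))^[s] m ∈ Isoc.pPow r M' := he ▸ mem_latImg _ s M' hm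
      rw [mem_pPow_iff] at h1
      refine ⟨_, h1, ?_⟩
      change (((((p : FractionRing (WittVector p k)) ^ (-r)) • (⇑(F.restrict hP))^[s] m : P)) : N) = _
      rw [Submodule.coe_smul, hit]
      rfl
    · rintro ⟨m, hm, hmy⟩
      have h1 : ((p : FractionRing (WittVector p k)) ^ r) • m ∈ Isoc.latImg (F.restrict hP) s M' :=
        he ▸ smul_mem_pPow r M' hm
      obtain ⟨m', hm', hm'eq⟩ := (mem_latImg_iff a (F.restrict hP) s M' _).mp h1
      refine ⟨m', ⟨m', hm', rfl⟩, ?_⟩
      rw [← hit, hm'eq, Submodule.coe_smul]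
      change ((p : FractionRing (WittVector p k)) ^ r) • (m : N) = y
      change (m : N) = _ at hmy
      rw [hmy, smul_smul, ← zpow_add₀ p_ne_zero, add_neg_cancel, zpow_zero, one_smul]

/-- From the ambient formulation to the subtype one. -/
theorem isIsoclinic_of_ambIso (F : N →ₛₗ[Isoc.frob p k a] N) (μ : ℚ)
    (P : Submodule (FractionRing (WittVector p k)) N) (hP : ∀ x ∈ P, F x ∈ P)
    (h : AmbIso F μ P) : Isoc.IsIsoclinic (F.restrict hP) μ := by
  obtain ⟨M, r, s, hs, hrs, hfg, hsub, hspan, he⟩ := h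
  have hit : ∀ (j : ℕ) (x : P), (((⇑(F.restrict hP))^[j] x : P) : N) = (⇑F)^[j] (x : N) := by
    intro j
    induction j with
    | zero => intro x; rfl
    | succ j ih =>
      intro x
      rw [Function.iterate_succ_apply', LinearMap.restrict_apply]
      change F (((⇑(F.restrict hP))^[j] x : P) : N) = _
      rw [ih, Function.iterate_succ_apply']
  have hmap : (M.comap (P.subtype.restrictScalars (WittVector p k))).map
      (P.subtype.restrictScalars (WittVector p k)) = M := by
    apply le_antisymm (Submodule.map_comap_le _ _)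
    intro x hx
    exact ⟨⟨x, hsub hx⟩, hx, rfl⟩
  refine ⟨M.comap (P.subtype.restrictScalars (WittVector p k)), ⟨?_, ?_⟩, r, s, hs, hrs, ?_⟩
  · apply Submodule.fg_of_fg_map_injective (P.subtype.restrictScalars (WittVector p k))
      (fun x y h => Subtype.ext h)
    rw [hmap]; exact hfg
  · apply Submodule.map_injective_of_injective P.injective_subtype
    rw [← Submodule.span_image, Submodule.map_top, Submodule.range_subtype]
    have : P.subtype '' ((M.comap (P.subtype.restrictScalars (WittVector p k)) : Submodule (WittVector p k) P) :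
        Set P) = (M : Set N) := by
      conv_rhs => rw [← hmap]
      rw [Submodule.map_coe]; rfl
    rw [this, hspan]
  · ext y
    rw [mem_latImg_iff a _ s _ y, mem_pPow_iff]
    constructor
    · rintro ⟨m, hm, rfl⟩
      have h1 : (⇑F)^[s] (m : N) ∈ Isoc.pPow r M := he ▸ mem_latImg F s M hm
      rw [mem_pPow_iff] at h1
      change ((((p : FractionRing (WittVector p k)) ^ (-r)) • (⇑(F.restrict hP))^[s] m : P) : N) ∈ M
      rw [Submodule.coe_smul, hit]
      exact h1
    · intro hy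
      have hy' : ((p : FractionRing (WittVector p k)) ^ (-r)) • (y : N) ∈ M := by
        have := hy
        change (((((p : FractionRing (WittVector p k)) ^ (-r)) • y : P)) : N) ∈ M at this
        rwa [Submodule.coe_smul] at this
      have h1 : (y : N) ∈ Isoc.latImg F s M := by
        rw [he, mem_pPow_iff]; exact hy'
      obtain ⟨m, hm, hmy⟩ := (mem_latImg_iff a F s M _).mp h1
      refine ⟨⟨m, hsub hm⟩, hm, ?_⟩
      apply Subtype.ext
      rw [hit]
      exact hmy

end Aux


/-- Let k be a perfect field of characteristic p, a ∈ ℤ, W = W(k) with fraction field L, and (N, F) a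
σ^a-F-isocrystal over k (N finite-dimensional over L, F a bijective σ^a-semilinear endomorphism),
and let μ ∈ ℚ. The slope-μ part N_μ of N — the sum of all F-stable L-subspaces P such that (P, F|P)
is isoclinic of slope μ — is F-stable and is itself isoclinic of slope μ; so it is the largest
F-stable subspace on which F is isoclinic of slope μ. -/
theorem result (p : ℕ) [Fact p.Prime] (k : Type u) [Field k] [CharP k p] [PerfectRing k p] (a : ℤ)
    (N : Type v) [AddCommGroup N] [Module (WittVector p k) N] [Module (FractionRing (WittVector p k)) N]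
    [IsScalarTower (WittVector p k) (FractionRing (WittVector p k)) N]
    (F : N →ₛₗ[Isoc.frob p k a] N) (hF : Isoc.IsIsoc F) (μ : ℚ) :
    ∃ hP : ∀ x ∈ Isoc.slopePart F μ, F x ∈ Isoc.slopePart F μ,
      Isoc.IsIsoclinic (F.restrict hP) μ := by
  classical
  -- the slope part is a finite supremum of members
  have hfin : Module.Finite (FractionRing (WittVector p k)) N := hF.finite
  obtain ⟨t, ht, hteq⟩ := CompleteLattice.WellFoundedGT.isSupFiniteCompact
    (Submodule (FractionRing (WittVector p k)) N)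
    {P : Submodule (FractionRing (WittVector p k)) N | ∃ hP : ∀ x ∈ P, F x ∈ P, Isoc.IsIsoclinic (F.restrict hP) μ}
  -- stability
  have hstab : ∀ x ∈ Isoc.slopePart F μ, F x ∈ Isoc.slopePart F μ := by
    have : Isoc.slopePart F μ ≤ (Isoc.slopePart F μ).comap F := by
      change sSup _ ≤ _
      refine sSup_le fun P hP' => ?_
      obtain ⟨hP, hPi⟩ := hP'
      intro x hx
      have hle : P ≤ Isoc.slopePart F μ := le_sSup (show P ∈ {P : Submodule (FractionRing (WittVector p k)) N |
        ∃ hP : ∀ x ∈ P, F x ∈ P, Isoc.IsIsoclinic (F.restrict hP) μ} from ⟨hP, hPi⟩)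
      exact hle (hP x hx)
    exact fun x hx => this hx
  refine ⟨hstab, isIsoclinic_of_ambIso F μ _ hstab ?_⟩
  have hsp : Isoc.slopePart F μ = t.sup id := hteq
  rw [hsp]
  clear hsp hteq hstab
  induction t using Finset.induction_on with
  | empty => exact ambIso_bot F μ
  | insert P t hPt ih =>
    rw [Finset.sup_insert]
    have hP := ht (Finset.mem_insert_self P t)
    obtain ⟨hPs, hPi⟩ := hP
    exact ambIso_sup F μ (ambIso_of_isIsoclinic F μ P hPs hPi)
      (ih (fun x hx => ht (Finset.mem_insert_of_mem hx)))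

end Groth.Agent.S17151
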