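import Groth.Statements.S17157
import Groth.Agent.IsocLib
-- import your own Groth.Agent.* helpers here

set_option autoImplicit false
universe u
open Isoc

namespace Groth.Agent.S17157

/-- Let k be a finite field of characteristic p, W = W(k), L its fraction field with Frobenius σ, and
let U be the σ-semilinear endomorphism of L² = (Fin 2 → L) determined by U(e₀) = e₀ and U(e₁) = e₀ +
e₁ on the standard basis. Then (L², U) is an F-isocrystal in which the sub-isocrystal L · e₀ admits
no U-stable complementary L-subspace; in particular the category of F-isocrystals over a finite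
field is not semisimple. (Over an algebraically closed field a complement exists.) -/
theorem result
    (p : ℕ) [Fact p.Prime] (k : Type u) [Field k] [CharP k p] [PerfectRing k p] [Finite k]
    (U : (Fin 2 → (FractionRing (WittVector p k))) →ₛₗ[Isoc.frob p k 1] (Fin 2 → (FractionRing (WittVector p k))))
    (hU0 : U (Pi.single 0 1) = Pi.single 0 1)
    (hU1 : U (Pi.single 1 1) = Pi.single 0 1 + Pi.single 1 1)
    (Q : Submodule (FractionRing (WittVector p k)) (Fin 2 → (FractionRing (WittVector p k)))) (hQ : ∀ x ∈ Q, U x ∈ Q) :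
    ¬ IsCompl (Submodule.span (FractionRing (WittVector p k)) {(Pi.single 0 1 : Fin 2 → (FractionRing (WittVector p k)))}) Q := by
  classical
  open Groth.Agent.IsocLib in
  intro hc
  -- a vector of `Q` with second coordinate one
  have he1 : (Pi.single 1 1 : Fin 2 → FractionRing (WittVector p k)) ∈
      Submodule.span (FractionRing (WittVector p k)) {(Pi.single 0 1 : Fin 2 → FractionRing (WittVector p k))} ⊔ Q := by
    rw [hc.sup_eq_top]; trivial
  obtain ⟨x, hx, y, hy, hxy⟩ := Submodule.mem_sup.mp he1
  obtain ⟨c, rfl⟩ := Submodule.mem_span_singleton.mp hx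
  have hy' : y = Pi.single 1 1 - c • Pi.single 0 1 := by rw [← hxy]; abel
  have hdiff' : U y - y = (1 - Isoc.frob p k 1 c + c) • (Pi.single 0 1 : Fin 2 → FractionRing (WittVector p k)) := by
    rw [hy', map_sub, LinearMap.map_smulₛₗ, hU0, hU1, add_smul, sub_smul, one_smul]
    abel
  have hmem : U y - y ∈ Submodule.span (FractionRing (WittVector p k))
      {(Pi.single 0 1 : Fin 2 → FractionRing (WittVector p k))} := by
    rw [hdiff']; exact Submodule.smul_mem _ _ (Submodule.mem_span_singleton_self _)
  have h0 : U y - y = 0 := (Submodule.disjoint_def.mp hc.disjoint) _ hmem (Q.sub_mem (hQ y hy) hy)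
  have hcoef : Isoc.frob p k 1 c = c + 1 := by
    have := congrFun (hdiff'.symm.trans h0) 0
    simp only [Pi.smul_apply, Pi.single_eq_same, smul_eq_mul, mul_one, Pi.zero_apply] at this
    linear_combination -this
  -- iterating
  have hiter : ∀ n : ℕ, (⇑(Isoc.frob p k 1))^[n] c = c + n := by
    intro n
    induction n with
    | zero => simp
    | succ n ih => rw [Function.iterate_succ_apply', ih, map_add, hcoef, map_natCast]; push_cast; ring
  -- the Frobenius has finite order
  have : Fintype k := Fintype.ofFinite k
  obtain ⟨f, -, hf⟩ := FiniteField.card k p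
  have hcoeff : ∀ (j : ℕ) (w : WittVector p k) (n : ℕ),
      ((⇑(WittVector.frobenius : WittVector p k →+* WittVector p k))^[j] w).coeff n = (w.coeff n) ^ (p ^ j) := by
    intro j
    induction j with
    | zero => intro w n; simp
    | succ j ih =>
      intro w n
      rw [Function.iterate_succ_apply', WittVector.coeff_frobenius_charP, ih, ← pow_mul, pow_succ]
  have hWf : ∀ w : WittVector p k, (⇑(WittVector.frobeniusEquiv p k))^[(f : ℕ)] w = w := by
    intro w
    rw [WittVector.frobeniusEquiv_apply]
    ext n
    rw [hcoeff, ← hf, FiniteField.pow_card]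
  have hLf : (Isoc.frob p k 1) ^ (f : ℕ) = RingHom.id _ := by
    apply IsLocalization.ringHom_ext (nonZeroDivisors (WittVector p k))
    ext w
    rw [RingHom.comp_apply, frob_pow_algebraMap, RingHom.comp_apply, RingHom.id_apply, sig, zpow_one, hWf]
  have hfix : (⇑(Isoc.frob p k 1))^[(f : ℕ)] c = c := by
    rw [← RingHom.coe_pow, hLf, RingHom.id_apply]
  rw [hiter] at hfix
  have hf0 : ((f : ℕ) : FractionRing (WittVector p k)) = 0 := by linear_combination hfix
  -- but `W(k)` has characteristic zero
  have hfW : ((f : ℕ) : WittVector p k) = 0 := by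
    have : algebraMap (WittVector p k) (FractionRing (WittVector p k)) ((f : ℕ) : WittVector p k) = 0 := by
      rw [map_natCast]; exact hf0
    exact (IsFractionRing.to_map_eq_zero_iff).mp this
  obtain ⟨v, m, hm, hfm⟩ : ∃ v m : ℕ, ¬ p ∣ m ∧ (f : ℕ) = p ^ v * m :=
    ⟨(f : ℕ).factorization p, (f : ℕ) / p ^ (f : ℕ).factorization p,
      Nat.not_dvd_ordCompl (Fact.out : p.Prime) f.pos.ne',
      (Nat.ordProj_mul_ordCompl_eq_self (f : ℕ) p).symm⟩
  have hmunit : IsUnit ((m : ℕ) : WittVector p k) := by
    apply WittVector.isUnit_of_coeff_zero_ne_zero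
    have : ((m : ℕ) : WittVector p k).coeff 0 = (m : k) := by
      rw [← WittVector.constantCoeff_apply, map_natCast]
    rw [this]
    intro hm0
    exact hm ((CharP.cast_eq_zero_iff k p m).mp hm0)
  rw [hfm, Nat.cast_mul, Nat.cast_pow] at hfW
  have hp0 : ((p : ℕ) : WittVector p k) ^ v ≠ 0 := pow_ne_zero _ (WittVector.irreducible p).ne_zero
  exact hp0 ((hmunit.mul_left_eq_zero).mp hfW)

end Groth.Agent.S17157
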