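import Groth.Statements.S17335
import Mathlib.RingTheory.Artinian.Module
import Mathlib.RingTheory.Artinian.Ring
-- import your own Groth.Agent.* helpers here

set_option autoImplicit false
universe u v
open CAlg

namespace Groth.Agent.S17335

section Aux

variable {k : Type u} [Field k] {A : Type v} [CommRing A] [Algebra k A]

theorem algHom_surj (f : A →ₐ[k] k) : Function.Surjective f :=
  fun c => ⟨algebraMap k A c, by simp⟩

theorem ker_isMaximal (f : A →ₐ[k] k) : (RingHom.ker f).IsMaximal :=
  RingHom.ker_isMaximal_of_surjective (f : A →+* k) (algHom_surj f)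

theorem sub_mem_ker (f : A →ₐ[k] k) (a : A) : a - algebraMap k A (f a) ∈ RingHom.ker f := by
  simp [RingHom.mem_ker]

theorem algHom_eq_of_ker_eq (f g : A →ₐ[k] k) (h : RingHom.ker f = RingHom.ker g) : f = g := by
  ext a
  have h1 := sub_mem_ker f a
  rw [h, RingHom.mem_ker, map_sub, AlgHom.commutes, sub_eq_zero] at h1
  exact h1.symm

theorem exists_algHom_ker_eq [IsAlgClosed k] [Module.Finite k A] (m : Ideal A) [m.IsMaximal] :
    ∃ f : A →ₐ[k] k, RingHom.ker f = m := by
  have : Module.Finite k (A ⧸ m) :=
    Module.Finite.of_surjective (Ideal.Quotient.mkₐ k m).toLinearMap Ideal.Quotient.mk_surjective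
  have : Algebra.IsIntegral k (A ⧸ m) := Algebra.IsIntegral.of_finite _ _
  have hb := IsAlgClosed.algebraMap_bijective_of_isIntegral (k := k) (K := A ⧸ m)
  let e : k ≃ₐ[k] (A ⧸ m) := AlgEquiv.ofBijective (Algebra.ofId k (A ⧸ m)) hb
  refine ⟨e.symm.toAlgHom.comp (Ideal.Quotient.mkₐ k m), ?_⟩
  ext a
  simp only [RingHom.mem_ker]
  change e.symm (Ideal.Quotient.mk m a) = 0 ↔ a ∈ m
  rw [← Ideal.Quotient.eq_zero_iff_mem]
  constructor
  · intro h
    have := congrArg e h
    simpa using this
  · intro h
    rw [h, map_zero]

theorem finite_algHom [Module.Finite k A] : Finite (A →ₐ[k] k) := by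
  have : IsArtinianRing A := IsArtinianRing.of_finite k A
  let Φ : (A →ₐ[k] k) → MaximalSpectrum A := fun f => ⟨RingHom.ker f, ker_isMaximal f⟩
  refine Finite.of_injective Φ ?_
  intro f g hfg
  apply algHom_eq_of_ker_eq
  exact congrArg MaximalSpectrum.asIdeal hfg

theorem mem_nilradical_iff [IsAlgClosed k] [Module.Finite k A] (a : A) :
    a ∈ nilradical A ↔ ∀ f : A →ₐ[k] k, f a = 0 := by
  have : IsArtinianRing A := IsArtinianRing.of_finite k A
  constructor
  · intro ha f
    exact (IsNilpotent.map ha f).eq_zero
  · intro h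
    rw [IsArtinianRing.nilradical_eq_iInf, Submodule.mem_iInf]
    intro m
    have := m.isMaximal
    obtain ⟨f, hf⟩ := exists_algHom_ker_eq (k := k) m.asIdeal
    rw [← hf, RingHom.mem_ker]
    exact h f

end Aux


/-- Let k be an algebraically closed field and A a commutative k-algebra which is finite-dimensional as
a k-vector space, and let E be the set of k-algebra homomorphisms A → k. Then E is finite, and the
evaluation homomorphism A → O(E) = (E → k), a ↦ (f ↦ f(a)), is surjective with kernel the nilradical
of A; it therefore induces an isomorphism of A_red = A/nilradical(A) onto O(E). -/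
theorem result (k : Type u) [Field k]
    [IsAlgClosed k] (A : Type v) [CommRing A] [Algebra k A] [Module.Finite k A] :
    Finite (A →ₐ[k] k) ∧
      Function.Surjective (AlgHom.pi (R := k) (fun f : A →ₐ[k] k => f)) ∧
      RingHom.ker (AlgHom.pi (R := k) (fun f : A →ₐ[k] k => f)) = nilradical A := by
  classical
  have hfin : Finite (A →ₐ[k] k) := finite_algHom
  refine ⟨hfin, ?_, ?_⟩
  · intro t
    let I : (A →ₐ[k] k) → Ideal A := fun f => RingHom.ker f
    have hI : Pairwise (Function.onFun IsCoprime I) := by
      intro f g hfg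
      have := ker_isMaximal f
      have := ker_isMaximal g
      apply Ideal.isCoprime_of_isMaximal
      intro h
      exact hfg (algHom_eq_of_ker_eq f g h)
    obtain ⟨y, hy⟩ := Ideal.quotientInfToPiQuotient_surj hI
      (fun f => Ideal.Quotient.mk (I f) (algebraMap k A (t f)))
    obtain ⟨a, rfl⟩ := Ideal.Quotient.mk_surjective y
    refine ⟨a, ?_⟩
    funext f
    have := congrFun hy f
    rw [Ideal.quotientInfToPiQuotient_mk', Ideal.Quotient.eq] at this
    have h2 : f (a - algebraMap k A (t f)) = 0 := this
    rw [map_sub, AlgHom.commutes, sub_eq_zero] at h2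
    exact h2
  · ext a
    rw [RingHom.mem_ker, mem_nilradical_iff (k := k)]
    constructor
    · intro h f
      exact congrFun h f
    · intro h
      funext f
      exact h f

end Groth.Agent.S17335
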