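import Groth.Statements.S17321
import Groth.Agent.S17335
import Mathlib.RingTheory.Idempotents
import Mathlib.LinearAlgebra.Dual.Lemmas
-- import your own Groth.Agent.* helpers here

set_option autoImplicit false
universe u v
open CAlg

namespace Groth.Agent.S17321

/-- Let k be an algebraically closed field and A a commutative k-algebra which is finite-dimensional as
a k-vector space (the coordinate ring of a finite k-scheme). Then the space Der(A) of k-derivations
A → A is zero if and only if A is reduced. -/
theorem result (k : Type u) [Field k] [IsAlgClosed k]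
    (A : Type v) [CommRing A] [Algebra k A] [Module.Finite k A] :
    Subsingleton (Derivation k A A) ↔ IsReduced A := by
  classical
  obtain ⟨hfin, hsurj, hker⟩ := Groth.Agent.S17335.result k A
  have : Fintype (A →ₐ[k] k) := Fintype.ofFinite _
  have hart : IsArtinianRing A := IsArtinianRing.of_finite k A
  let π : A →ₐ[k] ((A →ₐ[k] k) → k) := AlgHom.pi (R := k) (fun f : A →ₐ[k] k => f)
  have hπ : ∀ a (f : A →ₐ[k] k), π a f = f a := fun a f => rfl
  have hkerπ : ∀ x, π x = 0 ↔ x ∈ nilradical A := by
    intro x
    rw [← hker]; rfl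
  have hnil : ∀ x ∈ RingHom.ker (π : A →+* ((A →ₐ[k] k) → k)), IsNilpotent x := by
    intro x hx
    exact (hkerπ x).1 hx
  have hsingle : CompleteOrthogonalIdempotents
      (fun f : A →ₐ[k] k => (Pi.single f 1 : (A →ₐ[k] k) → k)) :=
    CompleteOrthogonalIdempotents.single (fun _ : A →ₐ[k] k => k)
  obtain ⟨e, he, hπe⟩ := CompleteOrthogonalIdempotents.lift_of_isNilpotent_ker
    (π : A →+* ((A →ₐ[k] k) → k)) hnil hsingle (fun f => RingHom.mem_range.2 (hsurj _))
  have hπe' : ∀ f, π (e f) = Pi.single f 1 := fun f => congrFun hπe f
  -- decomposition of elements modulo the nilradical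
  have hdec : ∀ a : A, a - ∑ f, f a • e f ∈ nilradical A := by
    intro a
    rw [← hkerπ, map_sub, map_sum]
    simp only [map_smul, hπe']
    funext g
    simp [Finset.sum_apply, Pi.single_apply, hπ]
  constructor
  · -- no derivations ⇒ reduced
    intro hsub
    by_contra hred
    have hN : nilradical A ≠ ⊥ := by
      intro h
      apply hred
      refine ⟨fun x hx => ?_⟩
      have : x ∈ nilradical A := hx
      rw [h] at this
      exact this
    obtain ⟨K, hK⟩ := IsArtinianRing.isNilpotent_nilradical (R := A)
    set N := nilradical A with hNdef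
    have hex : ∃ j, N ^ j = 0 := ⟨K, hK⟩
    set j₀ := Nat.find hex with hj₀
    have hj₀spec : N ^ j₀ = 0 := Nat.find_spec hex
    have hj₀ge : 2 ≤ j₀ := by
      by_contra hlt
      push Not at hlt
      interval_cases h : j₀
      · rw [pow_zero] at hj₀spec
        have : (1 : A) ∈ (0 : Ideal A) := by
          rw [← hj₀spec, Ideal.one_eq_top]; exact Submodule.mem_top
        have hA : Nontrivial A := by
          by_contra hnt
          rw [not_nontrivial_iff_subsingleton] at hnt
          exact hN (Subsingleton.elim _ _)
        simp at this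
      · rw [pow_one] at hj₀spec
        exact hN hj₀spec
    have hprev : N ^ (j₀ - 1) ≠ 0 := Nat.find_min hex (by omega)
    have hprev' : N ^ (j₀ - 1) ≠ ⊥ := by rwa [← Ideal.zero_eq_bot]
    obtain ⟨z', hz'mem, hz'ne⟩ := Submodule.exists_mem_ne_zero_of_ne_bot hprev'
    have hz'N : z' ∈ N := by
      have : N ^ (j₀ - 1) ≤ N ^ 1 := Ideal.pow_le_pow_right (by omega)
      rw [pow_one] at this; exact this hz'mem
    have hNz' : ∀ a ∈ N, a * z' = 0 := by
      intro a ha
      have : a * z' ∈ N ^ j₀ := by
        have h1 : a * z' ∈ N ^ 1 * N ^ (j₀ - 1) := Ideal.mul_mem_mul (by rwa [pow_one]) hz'mem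
        rw [← pow_add] at h1
        have : 1 + (j₀ - 1) = j₀ := by omega
        rwa [this] at h1
      rw [hj₀spec] at this
      exact this
    -- choose a component
    obtain ⟨f₀, hf₀⟩ : ∃ f₀, e f₀ * z' ≠ 0 := by
      by_contra hall
      push Not at hall
      apply hz'ne
      calc z' = (∑ f, e f) * z' := by rw [he.complete, one_mul]
        _ = ∑ f, e f * z' := Finset.sum_mul _ _ _
        _ = 0 := Finset.sum_eq_zero fun f _ => hall f
    set e₀ := e f₀ with he₀
    set z := e₀ * z' with hz
    have hzne : z ≠ 0 := hf₀
    have hzN : z ∈ N := Ideal.mul_mem_left _ _ hz'N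
    have he₀z : e₀ * z = z := by rw [hz, ← mul_assoc, (he.idem f₀).eq]
    set m₀ := RingHom.ker (f₀ : A →+* k) with hm₀
    have he₀m : ∀ a ∈ m₀, e₀ * a ∈ N := by
      intro a ha
      rw [← hkerπ, map_mul, hπe']
      funext g
      simp only [Pi.mul_apply, Pi.zero_apply, Pi.single_apply, hπ]
      split_ifs with hg
      · subst hg
        rw [RingHom.mem_ker] at ha
        simpa using ha
      · rw [zero_mul]
    have hm₀z : ∀ a ∈ m₀, a * z = 0 := by
      intro a ha
      calc a * z = a * (e₀ * z) := by rw [he₀z]
        _ = (e₀ * a) * z' * e₀ := by rw [hz]; ring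
        _ = 0 := by rw [hNz' _ (he₀m a ha), zero_mul]
    have haz : ∀ a : A, a * z = f₀ a • z := by
      intro a
      have h1 : a - algebraMap k A (f₀ a) ∈ m₀ := by
        rw [RingHom.mem_ker]; simp
      have := hm₀z _ h1
      rw [sub_mul, sub_eq_zero] at this
      rw [this, Algebra.smul_def]
    -- the subspace W
    set W : Submodule k A := Submodule.span k {1} ⊔ (m₀ ^ 2).restrictScalars k with hW
    have hWne : ∃ x, x ∉ W := by
      by_contra hall
      push Not at hall
      have hmm : ∀ a ∈ m₀, a ∈ m₀ ^ 2 := by
        intro a ha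
        obtain ⟨y, hy, w, hw, hyw⟩ := Submodule.mem_sup.1 (hall a)
        obtain ⟨c, rfl⟩ := Submodule.mem_span_singleton.1 hy
        have hw' : w ∈ m₀ := Ideal.pow_le_self (by norm_num) hw
        have hfa : f₀ a = 0 := ha
        have hfw : f₀ w = 0 := hw'
        rw [← hyw, map_add, map_smul, map_one, hfw, add_zero, smul_eq_mul, mul_one] at hfa
        rw [← hyw, hfa, zero_smul, zero_add]
        exact hw
      have hpow : ∀ i, ∀ a ∈ m₀ ^ i, e₀ * a ∈ N ^ i := by
        intro i
        induction i with
        | zero => intro a _; rw [pow_zero, Ideal.one_eq_top]; exact Submodule.mem_top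
        | succ i ih =>
          intro a ha
          rw [pow_succ] at ha ⊢
          refine Submodule.mul_induction_on ha ?_ ?_
          · intro b hb c hc
            have : e₀ * (b * c) = (e₀ * b) * (e₀ * c) := by
              rw [show (e₀ * b) * (e₀ * c) = (e₀ * e₀) * (b * c) by ring, (he.idem f₀).eq]
            rw [this]
            exact Ideal.mul_mem_mul (ih b hb) (he₀m c hc)
          · intro x y hx hy
            rw [mul_add]; exact add_mem hx hy
      have hle : m₀ ≤ m₀ ^ 2 := fun a ha => hmm a ha
      have hmpow : ∀ i, m₀ ≤ m₀ ^ (i + 1) := by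
        intro i
        induction i with
        | zero => rw [zero_add, pow_one]
        | succ i ih =>
          calc m₀ ≤ m₀ ^ 2 := hle
            _ = m₀ * m₀ := pow_two _
            _ ≤ m₀ ^ (i + 1) * m₀ := Ideal.mul_mono_left ih
            _ = m₀ ^ (i + 1 + 1) := (pow_succ _ _).symm
      have hzm : z ∈ m₀ := by
        rw [hm₀, RingHom.mem_ker]
        exact (IsNilpotent.map (mem_nilradical.1 hzN) (f₀ : A →+* k)).eq_zero
      have hzj : z ∈ m₀ ^ j₀ := by
        have := hmpow (j₀ - 1) hzm
        rwa [show j₀ - 1 + 1 = j₀ by omega] at this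
      have := hpow j₀ z hzj
      rw [he₀z, hj₀spec] at this
      exact hzne this
    obtain ⟨x, hx⟩ := hWne
    obtain ⟨lam, hlamx, hlamW⟩ := Submodule.exists_dual_map_eq_bot_of_notMem hx inferInstance
    have hlamW' : ∀ w ∈ W, lam w = 0 := by
      intro w hw
      have : lam w ∈ W.map lam := ⟨w, hw, rfl⟩
      rw [hlamW] at this
      exact this
    have hlam1 : lam 1 = 0 := hlamW' 1 (Submodule.mem_sup_left (Submodule.mem_span_singleton_self 1))
    have hlamm : ∀ w ∈ m₀ ^ 2, lam w = 0 := fun w hw => hlamW' w (Submodule.mem_sup_right hw)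
    have hleib : ∀ a b : A, lam (a * b) = f₀ a * lam b + f₀ b * lam a := by
      intro a b
      set α := f₀ a
      set β := f₀ b
      have ha' : a - algebraMap k A α ∈ m₀ := by rw [hm₀, RingHom.mem_ker]; simp [α]
      have hb' : b - algebraMap k A β ∈ m₀ := by rw [hm₀, RingHom.mem_ker]; simp [β]
      have hab : a * b = (a - algebraMap k A α) * (b - algebraMap k A β) + α • b + β • a
          - (α * β) • (1 : A) := by
        simp only [Algebra.smul_def, map_mul, mul_one]; ring
      rw [hab, map_sub, map_add, map_add, hlamm _ (by rw [pow_two]; exact Ideal.mul_mem_mul ha' hb'),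
        map_smul, map_smul, map_smul, hlam1]
      simp only [smul_eq_mul, mul_zero, sub_zero, zero_add]
    let D : Derivation k A A := Derivation.mk' (lam.smulRight z) (by
      intro a b
      simp only [LinearMap.smulRight_apply]
      rw [smul_eq_mul, smul_eq_mul, mul_smul_comm, mul_smul_comm, haz a, haz b, smul_smul,
        smul_smul, ← add_smul, hleib a b]
      congr 1
      ring)
    have hD : D = 0 := Subsingleton.elim _ _
    have := congrArg (fun F : Derivation k A A => F x) hD
    simp only [D, Derivation.coe_mk', LinearMap.smulRight_apply, Derivation.zero_apply] at this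
    rcases smul_eq_zero.1 this with h | h
    · exact hlamx h
    · exact hzne h
  · -- reduced ⇒ no derivations
    intro hred
    refine ⟨fun D₁ D₂ => ?_⟩
    have hzero : ∀ D : Derivation k A A, D = 0 := by
      intro D
      have hidem : ∀ f, D (e f) = 0 := by
        intro f
        have h1 : D (e f) = e f * D (e f) + e f * D (e f) := by
          have := D.leibniz (e f) (e f)
          rw [(he.idem f).eq, smul_eq_mul] at this
          exact this
        have h2 : e f * D (e f) = 0 := by
          have h3 : e f * D (e f) = e f * D (e f) + e f * D (e f) := by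
            conv_lhs => rw [h1]
            rw [mul_add, ← mul_assoc, (he.idem f).eq]
          exact (left_eq_add.1 h3)
        rw [h1, h2, add_zero]
      ext a
      have ha := hdec a
      have ha0 : a = ∑ f, f a • e f := by
        have := (mem_nilradical.1 ha).eq_zero
        rwa [sub_eq_zero] at this
      rw [ha0, map_sum]
      simp [hidem]
    rw [hzero D₁, hzero D₂]

end Groth.Agent.S17321
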