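import Groth.Statements.S17336
import Groth.Agent.S17335
import Mathlib.RingTheory.Idempotents
-- import your own Groth.Agent.* helpers here

set_option autoImplicit false
universe u v
open CAlg

namespace Groth.Agent.S17336

/-- Let k be an algebraically closed field and A a commutative k-algebra which is finite-dimensional as
a k-vector space (a finite scheme X = Spec A with largest reduced subscheme X_red = Spec
(A/nilradical A) and immersion i : X_red → X). Then there is a unique morphism r : X → X_red with r
∘ i = id; on rings: the projection A → A/nilradical(A) admits exactly one section that is a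
k-algebra homomorphism. -/
theorem result (k : Type u) [Field k]
    [IsAlgClosed k] (A : Type v) [CommRing A] [Algebra k A] [Module.Finite k A] :
    ∃! s : (A ⧸ nilradical A) →ₐ[k] A,
      (Ideal.Quotient.mkₐ k (nilradical A)).comp s = AlgHom.id k (A ⧸ nilradical A) := by
  classical
  obtain ⟨hfin, hsurj, hker⟩ := Groth.Agent.S17335.result k A
  have : Fintype (A →ₐ[k] k) := Fintype.ofFinite _
  let π : A →ₐ[k] ((A →ₐ[k] k) → k) := AlgHom.pi (R := k) (fun f : A →ₐ[k] k => f)
  have hnil : ∀ x ∈ RingHom.ker (π : A →+* ((A →ₐ[k] k) → k)), IsNilpotent x := by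
    intro x hx
    have hx' : x ∈ RingHom.ker π := hx
    rw [hker] at hx'
    exact hx'
  have hsingle : CompleteOrthogonalIdempotents
      (fun f : A →ₐ[k] k => (Pi.single f 1 : (A →ₐ[k] k) → k)) :=
    CompleteOrthogonalIdempotents.single (fun _ : A →ₐ[k] k => k)
  obtain ⟨e, he, hπe⟩ := CompleteOrthogonalIdempotents.lift_of_isNilpotent_ker
    (π : A →+* ((A →ₐ[k] k) → k)) hnil hsingle (fun f => RingHom.mem_range.2 (hsurj _))
  have hπe' : ∀ f, π (e f) = Pi.single f 1 := fun f => congrFun hπe f
  let σ : ((A →ₐ[k] k) → k) →ₐ[k] A :=
    { toFun := fun t => ∑ f, algebraMap k A (t f) * e f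
      map_one' := by simp [he.complete]
      map_mul' := by
        intro t u
        simp only [Pi.mul_apply, map_mul]
        rw [Finset.sum_mul_sum]
        refine Finset.sum_congr rfl fun f _ => ?_
        rw [Finset.sum_eq_single f]
        · have := (he.idem f).eq
          calc algebraMap k A (t f) * algebraMap k A (u f) * e f
              = algebraMap k A (t f) * algebraMap k A (u f) * (e f * e f) := by rw [this]
            _ = _ := by ring
        · intro g _ hgf
          have := he.ortho (Ne.symm hgf)
          calc algebraMap k A (t f) * e f * (algebraMap k A (u g) * e g)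
              = algebraMap k A (t f) * algebraMap k A (u g) * (e f * e g) := by ring
            _ = 0 := by rw [this, mul_zero]
        · intro h; exact absurd (Finset.mem_univ f) h
      map_zero' := by simp
      map_add' := by
        intro t u
        simp [add_mul, Finset.sum_add_distrib]
      commutes' := by
        intro c
        simp [← Finset.mul_sum, he.complete] }
  have hσ : ∀ t, π (σ t) = t := by
    intro t
    change π (∑ f, algebraMap k A (t f) * e f) = t
    rw [map_sum]
    funext g
    simp only [map_mul, AlgHom.commutes, hπe', Finset.sum_apply, Pi.mul_apply,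
      Pi.algebraMap_apply, Pi.single_apply, Algebra.algebraMap_self, RingHom.id_apply]
    simp
  have hker' : nilradical A = RingHom.ker π := hker.symm
  let ψ : (A ⧸ nilradical A) ≃ₐ[k] ((A →ₐ[k] k) → k) :=
    (Ideal.quotientEquivAlgOfEq k hker').trans (Ideal.quotientKerAlgEquivOfSurjective hsurj)
  have hψ : ∀ a : A, ψ (Ideal.Quotient.mk _ a) = π a := fun a => rfl
  refine ⟨σ.comp ψ.toAlgHom, ?_, ?_⟩
  · apply Ideal.Quotient.algHom_ext
    ext a
    simp only [AlgHom.coe_comp, Function.comp_apply, Ideal.Quotient.mkₐ_eq_mk,
      AlgHom.id_apply, AlgEquiv.coe_toAlgHom]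
    rw [hψ, Ideal.Quotient.eq, hker']
    rw [RingHom.mem_ker, map_sub, hσ, sub_self]
  · intro s hs
    have hs' : ∀ x, Ideal.Quotient.mk (nilradical A) (s x) = x := fun x => by
      simpa using congrArg (fun F => F x) hs
    -- idempotents ε f
    let ε : (A →ₐ[k] k) → A ⧸ nilradical A := fun f => ψ.symm (Pi.single f 1)
    have hεidem : ∀ f, IsIdempotentElem (ε f) := fun f =>
      (hsingle.idem f).map ψ.symm
    have hmk : ∀ x ∈ RingHom.ker (Ideal.Quotient.mk (nilradical A)), IsNilpotent x := by
      intro x hx
      rw [Ideal.mk_ker] at hx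
      exact hx
    have key : ∀ f, s (ε f) = (σ.comp ψ.toAlgHom) (ε f) := by
      intro f
      have hu := existsUnique_isIdempotentElem_eq_of_ker_isNilpotent
        (Ideal.Quotient.mk (nilradical A)) hmk (ε f) (RingHom.mem_range.2
          (Ideal.Quotient.mk_surjective _)) (hεidem f)
      apply hu.unique
      · exact ⟨(hεidem f).map s, hs' _⟩
      · refine ⟨(hεidem f).map _, ?_⟩
        simp only [AlgHom.coe_comp, Function.comp_apply, AlgEquiv.coe_toAlgHom]
        obtain ⟨a, ha⟩ := Ideal.Quotient.mk_surjective (ε f)
        rw [← ha, hψ, Ideal.Quotient.eq, hker', RingHom.mem_ker, map_sub, hσ, sub_self]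
    have hdecomp : ∀ x : A ⧸ nilradical A, x = ∑ f, (ψ x f) • ε f := by
      intro x
      apply ψ.injective
      rw [map_sum]
      simp only [map_smul, ε, AlgEquiv.apply_symm_apply]
      funext g
      simp [Finset.sum_apply, Pi.single_apply]
    apply AlgHom.ext
    intro x
    rw [hdecomp x, map_sum, map_sum]
    refine Finset.sum_congr rfl fun f _ => ?_
    rw [map_smul, map_smul, key f]

end Groth.Agent.S17336
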