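import Groth.Statements.S17323
import Groth.Agent.S17336
-- import your own Groth.Agent.* helpers here

set_option autoImplicit false
universe u v
open CAlg

namespace Groth.Agent.S17323

/-- Let k be an algebraically closed field and A a commutative k-algebra which is finite-dimensional as
a k-vector space. Then A has a largest reduced subalgebra: a k-subalgebra B which is reduced and
contains every reduced k-subalgebra of A; moreover the composite of the inclusion B → A with the
projection A → A/nilradical(A) is bijective. -/
theorem result (k : Type u) [Field k] [IsAlgClosed k]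
    (A : Type v) [CommRing A] [Algebra k A] [Module.Finite k A] :
    ∃ B : Subalgebra k A, IsReduced ↥B ∧ (∀ C : Subalgebra k A, IsReduced ↥C → C ≤ B) ∧
      Function.Bijective ((Ideal.Quotient.mkₐ k (nilradical A)).comp B.val) := by
  classical
  obtain ⟨s, hs, -⟩ := Groth.Agent.S17336.result k A
  have hs' : ∀ x, Ideal.Quotient.mk (nilradical A) (s x) = x := fun x => by
    simpa using congrArg (fun F => F x) hs
  have hmk : ∀ x ∈ RingHom.ker (Ideal.Quotient.mk (nilradical A)), IsNilpotent x := by
    intro x hx
    rw [Ideal.mk_ker] at hx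
    exact hx
  -- every idempotent of A lies in the range of s
  have hidem : ∀ a : A, IsIdempotentElem a → a ∈ s.range := by
    intro a ha
    have hu := existsUnique_isIdempotentElem_eq_of_ker_isNilpotent
      (Ideal.Quotient.mk (nilradical A)) hmk (Ideal.Quotient.mk (nilradical A) a)
      (RingHom.mem_range.2 ⟨a, rfl⟩) (ha.map _)
    have : s (Ideal.Quotient.mk (nilradical A) a) = a :=
      hu.unique ⟨(ha.map (Ideal.Quotient.mk (nilradical A))).map s, hs' _⟩ ⟨ha, rfl⟩
    exact ⟨_, this⟩
  refine ⟨s.range, ?_, ?_, ?_⟩
  · refine ⟨fun b hb => ?_⟩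
    obtain ⟨x, hx⟩ := b.2
    have hx : s x = b := hx
    have h1 : IsNilpotent (b : A) := hb.map (s.range.val)
    have h2 : Ideal.Quotient.mk (nilradical A) (b : A) = 0 := by
      rw [Ideal.Quotient.eq_zero_iff_mem, mem_nilradical]; exact h1
    rw [← hx, hs'] at h2
    apply Subtype.ext
    change (b : A) = 0
    rw [← hx, h2, map_zero]
  · intro C hC c hc
    have : Module.Finite k C :=
      Module.Finite.of_injective (C.val.toLinearMap) Subtype.val_injective
    obtain ⟨hfin, hsurj, hker⟩ := Groth.Agent.S17335.result k C
    have : Fintype (C →ₐ[k] k) := Fintype.ofFinite _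
    let π : C →ₐ[k] ((C →ₐ[k] k) → k) := AlgHom.pi (R := k) (fun f : C →ₐ[k] k => f)
    have hinj : Function.Injective π := by
      rw [injective_iff_map_eq_zero]
      intro x hx
      have hx' : x ∈ RingHom.ker π := hx
      rw [hker] at hx'
      exact (mem_nilradical.1 hx').eq_zero
    choose ε hε using fun f : C →ₐ[k] k => hsurj (Pi.single f 1)
    have hε' : ∀ f, π (ε f) = Pi.single f 1 := hε
    have hεi : ∀ f, IsIdempotentElem (ε f) := by
      intro f
      apply hinj
      rw [map_mul, hε' f]
      exact (CompleteOrthogonalIdempotents.single (fun _ : C →ₐ[k] k => k)).idem f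
    have hdec : (⟨c, hc⟩ : C) = ∑ f, (π ⟨c, hc⟩ f) • ε f := by
      apply hinj
      rw [map_sum]
      simp only [map_smul, hε']
      funext g
      simp [Finset.sum_apply, Pi.single_apply]
    have hc' : c = ∑ f, (π ⟨c, hc⟩ f) • (ε f : A) := by
      have := congrArg (fun x : C => (x : A)) hdec
      simpa using this
    rw [hc']
    refine Subalgebra.sum_mem _ fun f _ => Subalgebra.smul_mem _ ?_ _
    exact hidem _ ((hεi f).map C.val)
  · constructor
    · intro b₁ b₂ h
      obtain ⟨x₁, hx₁⟩ := b₁.2
      obtain ⟨x₂, hx₂⟩ := b₂.2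
      have hx₁ : s x₁ = b₁ := hx₁
      have hx₂ : s x₂ = b₂ := hx₂
      have h' : Ideal.Quotient.mk (nilradical A) (b₁ : A) =
          Ideal.Quotient.mk (nilradical A) (b₂ : A) := h
      rw [← hx₁, ← hx₂, hs', hs'] at h'
      apply Subtype.ext
      rw [← hx₁, ← hx₂, h']
    · intro x
      exact ⟨⟨s x, x, rfl⟩, hs' x⟩

end Groth.Agent.S17323
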