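import Groth.Statements.S17324
import Mathlib.FieldTheory.IsAlgClosed.Basic
import Mathlib.RingTheory.Artinian.Ring
import Mathlib.RingTheory.LocalRing.ResidueField.Basic
-- import your own Groth.Agent.* helpers here

set_option autoImplicit false
universe u v
open CAlg

namespace Groth.Agent.S17324

/-- (i) ⟺ (ii): let k be an algebraically closed field, A a commutative k-algebra which is
finite-dimensional as a k-vector space and is a local ring with maximal ideal m, and a_1, …, a_m ∈
m. Then A is generated as a k-algebra by a_1, …, a_m if and only if m is generated as an ideal by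
a_1, …, a_m. (The printed lemma has a third equivalent condition, that the images of the a_i span
m/m²; its equivalence with (ii) is Nakayama's lemma.) -/
theorem result (k : Type u) [Field k] [IsAlgClosed k]
    (A : Type v) [CommRing A] [Algebra k A] [Module.Finite k A] [IsLocalRing A]
    (m : ℕ) (a : Fin m → A) (ha : ∀ i, a i ∈ IsLocalRing.maximalIdeal A) :
    Algebra.adjoin k (Set.range a) = ⊤ ↔ Ideal.span (Set.range a) = IsLocalRing.maximalIdeal A := by
  classical
  set 𝔪 := IsLocalRing.maximalIdeal A with h𝔪
  -- every element is a scalar modulo 𝔪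
  have hres : ∀ x : A, ∃ c : k, x - algebraMap k A c ∈ 𝔪 := by
    intro x
    have : Algebra.IsIntegral k (IsLocalRing.ResidueField A) := Algebra.IsIntegral.of_finite _ _
    obtain ⟨c, hc⟩ := (IsAlgClosed.algebraMap_bijective_of_isIntegral (k := k)
      (K := IsLocalRing.ResidueField A)).2 (IsLocalRing.residue A x)
    refine ⟨c, ?_⟩
    rw [← IsLocalRing.residue_eq_zero_iff, map_sub]
    rw [IsScalarTower.algebraMap_apply k A (IsLocalRing.ResidueField A),
      IsLocalRing.ResidueField.algebraMap_eq] at hc
    rw [hc, sub_self]
  have hscal : ∀ c : k, algebraMap k A c ∈ 𝔪 → c = 0 := by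
    intro c hc
    by_contra hne
    have hu : IsUnit (algebraMap k A c) := (IsUnit.mk0 c hne).map _
    exact (IsLocalRing.maximalIdeal.isMaximal A).ne_top (Ideal.eq_top_of_isUnit_mem _ hc hu)
  have hspan_le : Ideal.span (Set.range a) ≤ 𝔪 := by
    rw [Ideal.span_le]
    rintro _ ⟨i, rfl⟩
    exact ha i
  constructor
  · intro hadj
    refine le_antisymm hspan_le ?_
    have key : ∀ y ∈ Algebra.adjoin k (Set.range a),
        ∃ c : k, y - algebraMap k A c ∈ Ideal.span (Set.range a) := by
      intro y hy
      induction hy using Algebra.adjoin_induction with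
      | mem x hx => exact ⟨0, by rw [map_zero, sub_zero]; exact Ideal.subset_span hx⟩
      | algebraMap r => exact ⟨r, by rw [sub_self]; exact zero_mem _⟩
      | add x y _ _ hx hy =>
        obtain ⟨c₁, h₁⟩ := hx
        obtain ⟨c₂, h₂⟩ := hy
        refine ⟨c₁ + c₂, ?_⟩
        have : x + y - algebraMap k A (c₁ + c₂) =
            (x - algebraMap k A c₁) + (y - algebraMap k A c₂) := by
          rw [map_add]; ring
        rw [this]; exact add_mem h₁ h₂
      | mul x y _ _ hx hy =>
        obtain ⟨c₁, h₁⟩ := hx
        obtain ⟨c₂, h₂⟩ := hy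
        refine ⟨c₁ * c₂, ?_⟩
        have : x * y - algebraMap k A (c₁ * c₂) =
            (x - algebraMap k A c₁) * y + algebraMap k A c₁ * (y - algebraMap k A c₂) := by
          rw [map_mul]; ring
        rw [this]
        exact add_mem (Ideal.mul_mem_right _ _ h₁) (Ideal.mul_mem_left _ _ h₂)
    intro x hx
    obtain ⟨c, hc⟩ := key x (by rw [hadj]; exact Algebra.mem_top)
    have hcm : algebraMap k A c ∈ 𝔪 := by
      have h1 : x - algebraMap k A c ∈ 𝔪 := hspan_le hc
      have : algebraMap k A c = x - (x - algebraMap k A c) := by ring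
      rw [this]; exact sub_mem hx h1
    have hc0 := hscal c hcm
    rw [hc0, map_zero, sub_zero] at hc
    exact hc
  · intro hspan
    set B := Algebra.adjoin k (Set.range a) with hB
    have haB : ∀ i, a i ∈ B := fun i => Algebra.subset_adjoin ⟨i, rfl⟩
    have P : ∀ n : ℕ, ∀ x : A, ∃ b ∈ B, x - b ∈ 𝔪 ^ (n + 1) := by
      intro n
      induction n with
      | zero =>
        intro x
        obtain ⟨c, hc⟩ := hres x
        exact ⟨algebraMap k A c, B.algebraMap_mem c, by rw [zero_add, pow_one]; exact hc⟩
      | succ n ih =>
        intro x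
        obtain ⟨c, hc⟩ := hres x
        have hy : x - algebraMap k A c ∈ Ideal.span (Set.range a) := by rw [hspan]; exact hc
        obtain ⟨r, hr⟩ := (Submodule.mem_span_range_iff_exists_fun A).1 hy
        choose b hbB hbz using fun i => ih (r i)
        refine ⟨algebraMap k A c + ∑ i, b i * a i, ?_, ?_⟩
        · exact add_mem (B.algebraMap_mem c)
            (Subalgebra.sum_mem _ fun i _ => Subalgebra.mul_mem _ (hbB i) (haB i))
        · have : x - (algebraMap k A c + ∑ i, b i * a i) = ∑ i, (r i - b i) * a i := by
            have e : x = algebraMap k A c + ∑ i, r i • a i := by rw [hr]; ring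
            rw [e]
            simp only [smul_eq_mul, sub_mul, Finset.sum_sub_distrib]
            ring
          rw [this]
          refine Ideal.sum_mem _ fun i _ => ?_
          rw [pow_succ]
          exact Ideal.mul_mem_mul (hbz i) (ha i)
    have : IsArtinianRing A := IsArtinianRing.of_finite k A
    obtain ⟨N, hN⟩ := IsArtinianRing.isNilpotent_jacobson_bot (R := A)
    rw [IsLocalRing.jacobson_eq_maximalIdeal _ bot_ne_top] at hN
    rw [eq_top_iff]
    intro x _
    obtain ⟨b, hb, hxb⟩ := P N x
    have : x - b ∈ 𝔪 ^ N := Ideal.pow_le_pow_right (Nat.le_succ N) hxb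
    rw [hN, Ideal.zero_eq_bot, Ideal.mem_bot, sub_eq_zero] at this
    rw [this]; exact hb

end Groth.Agent.S17324
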