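import Groth.Statements.S17325
import Groth.Agent.S17335
-- import your own Groth.Agent.* helpers here

set_option autoImplicit false
universe u v
open LieAlg

open scoped IsMulCommutative

namespace Groth.Agent.S17325

/-- Let k be an algebraically closed field of characteristic p > 0, V a finite-dimensional k-vector
space and g a nonzero k-linear subspace of End_k(V) closed under the p-th power map u ↦ u^p. Then g
contains a nonzero u with u^p = c u for some c ∈ k, i.e. a line k u closed under p-th powers. (The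
published lemma concerns an abstract nonzero finite-dimensional restricted Lie algebra; this row
concerns subspaces of End_k(V) closed under p-th powers, a class that contains every restricted Lie
subalgebra of gl(V).) -/
theorem result (k : Type u) [Field k] [IsAlgClosed k]
    (p : ℕ) [Fact p.Prime] [CharP k p] (V : Type v) [AddCommGroup V] [Module k V] [FiniteDimensional k V]
    (g : Submodule k (Module.End k V)) (hg : ∀ u ∈ g, u ^ p ∈ g) (hne : g ≠ ⊥) :
    ∃ u ∈ g, u ≠ 0 ∧ ∃ c : k, u ^ p = c • u := by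
  obtain ⟨x, hxg, hx0⟩ := Submodule.exists_mem_ne_zero_of_ne_bot hne
  let B := Algebra.adjoin k ({x} : Set (Module.End k V))
  let W : Submodule k B := g.comap B.val.toLinearMap
  have hmemW : ∀ b : B, b ∈ W ↔ (b : Module.End k V) ∈ g := fun b => Iff.rfl
  have hWp : ∀ b ∈ W, b ^ p ∈ W := by
    intro b hb
    rw [hmemW] at hb ⊢
    have := hg _ hb
    simpa using this
  have hWpow : ∀ b ∈ W, ∀ j : ℕ, b ^ (p ^ j) ∈ W := by
    intro b hb j
    induction j with
    | zero => simpa using hb
    | succ j ih =>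
      rw [pow_succ, pow_mul]
      exact hWp _ ih
  let x' : B := ⟨x, Algebra.subset_adjoin rfl⟩
  have hx'W : x' ∈ W := hxg
  have hx'0 : x' ≠ 0 := fun h => hx0 (congrArg Subtype.val h)
  have hp := (Fact.out : p.Prime)
  by_cases hnil : ∃ b ∈ W, b ≠ 0 ∧ IsNilpotent b
  · obtain ⟨b, hbW, hb0, hbn⟩ := hnil
    have hex : ∃ j, b ^ (p ^ j) = 0 := by
      obtain ⟨N, hN⟩ := hbn
      exact ⟨N, pow_eq_zero_of_le (Nat.lt_pow_self hp.one_lt).le hN⟩
    classical
    have hj0 : b ^ (p ^ Nat.find hex) = 0 := Nat.find_spec hex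
    have hj0pos : Nat.find hex ≠ 0 := by
      intro h
      rw [h, pow_zero, pow_one] at hj0
      exact hb0 hj0
    obtain ⟨j, hj⟩ : ∃ j, Nat.find hex = j + 1 := Nat.exists_eq_succ_of_ne_zero hj0pos
    have hmin : ¬ b ^ (p ^ j) = 0 := Nat.find_min hex (by omega)
    refine ⟨((b ^ (p ^ j) : B) : Module.End k V), hWpow b hbW j, ?_, 0, ?_⟩
    · intro h
      apply hmin
      exact Subtype.ext h
    · rw [zero_smul, ← SubmonoidClass.coe_pow, ← pow_mul, ← pow_succ, ← hj, hj0]
      rfl
  · push Not at hnil
    have hsupp : ∀ b ∈ W, b ≠ 0 → ∃ χ : B →ₐ[k] k, χ b ≠ 0 := by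
      intro b hb hb0
      by_contra hcon
      push Not at hcon
      have := (Groth.Agent.S17335.mem_nilradical_iff (k := k) b).mpr hcon
      exact hnil b hb hb0 (mem_nilradical.mp this)
    have := Groth.Agent.S17335.finite_algHom (k := k) (A := B)
    let supp : B → Set (B →ₐ[k] k) := fun b => {χ | χ b ≠ 0}
    have hfin : ∀ b, (supp b).Finite := fun b => Set.toFinite _
    have hex : ∃ n, ∃ b ∈ W, b ≠ 0 ∧ (supp b).ncard = n := ⟨_, x', hx'W, hx'0, rfl⟩
    classical
    obtain ⟨u, huW, hu0, hun⟩ := Nat.find_spec hex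
    have hmin : ∀ b ∈ W, b ≠ 0 → (supp u).ncard ≤ (supp b).ncard := by
      intro b hb hb0
      rw [hun]
      exact Nat.find_min' hex ⟨b, hb, hb0, rfl⟩
    obtain ⟨χ0, hχ0⟩ := hsupp u huW hu0
    set u' := (χ0 u)⁻¹ • u with hu'
    have hu'W : u' ∈ W := W.smul_mem _ huW
    have hu'0 : u' ≠ 0 := smul_ne_zero (inv_ne_zero hχ0) hu0
    have hχ0u' : χ0 u' = 1 := by rw [hu', map_smul, smul_eq_mul, inv_mul_cancel₀ hχ0]
    have hsupp_u' : supp u' = supp u := by
      ext χ
      simp only [supp, Set.mem_ofPred_eq, hu', map_smul, smul_eq_mul, mul_ne_zero_iff,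
        ne_eq, inv_eq_zero, hχ0, not_false_eq_true, true_and]
    set v := u' ^ p - u' with hv
    have hvW : v ∈ W := W.sub_mem (hWp _ hu'W) hu'W
    have hv0 : v = 0 := by
      by_contra hv0
      have h1 := hmin v hvW hv0
      have h2 : supp v ⊂ supp u := by
        rw [← hsupp_u']
        refine ⟨fun χ hχ => ?_, fun h => ?_⟩
        · simp only [supp, Set.mem_ofPred_eq] at hχ ⊢
          intro h0
          apply hχ
          rw [hv, map_sub, map_pow, h0, zero_pow hp.ne_zero, sub_zero]
        · have h4 := h (show χ0 ∈ supp u' by simp [supp, hχ0u'])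
          simp only [supp, Set.mem_ofPred_eq] at h4
          apply h4
          rw [hv, map_sub, map_pow, hχ0u', one_pow, sub_self]
      have h3 := Set.ncard_lt_ncard h2 (hfin u)
      omega
    refine ⟨(u' : Module.End k V), hu'W, fun h => hu'0 (Subtype.ext h), 1, ?_⟩
    rw [one_smul, ← SubmonoidClass.coe_pow]
    have : u' ^ p = u' := by rw [← sub_eq_zero]; exact hv0
    rw [this]

end Groth.Agent.S17325
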