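import Groth.Statements.S17326
import Groth.Agent.S17335
import Mathlib.RingTheory.Nilpotent.Basic
import Mathlib.Algebra.CharP.Lemmas
-- import your own Groth.Agent.* helpers here

set_option autoImplicit false
universe u v
open CAlg

namespace Groth.Agent.S17326

/-- Let k be an algebraically closed field of characteristic p > 0, A a commutative k-algebra which is
finite-dimensional as a k-vector space (a finite k-scheme X), and n ≥ 1. The n-th iterated relative
Frobenius morphism X → X^(p^n) is an isomorphism if and only if X is reduced; on rings: the map a ↦
a^(p^n) of A to itself (which is the ring homomorphism underlying the relative Frobenius, the twist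
A^(p^n) having the same underlying ring as A) is bijective if and only if A is reduced. -/
theorem result (k : Type u) [Field k] [IsAlgClosed k]
    (p : ℕ) [Fact p.Prime] [CharP k p] (A : Type v) [CommRing A] [Algebra k A] [Module.Finite k A]
    (n : ℕ) (hn : 1 ≤ n) :
    Function.Bijective (fun a : A => a ^ p ^ n) ↔ IsReduced A := by
  classical
  have hp : 1 < p := (Fact.out : p.Prime).one_lt
  have hpn : 1 < p ^ n := Nat.one_lt_pow (by omega) hp
  constructor
  · intro hbij
    rw [isReduced_iff_pow_one_lt (p ^ n) hpn]
    intro a ha
    apply hbij.1
    change a ^ p ^ n = (0 : A) ^ p ^ n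
    rw [ha, zero_pow (by omega)]
  · intro hred
    obtain ⟨hfin, hsurj, hker⟩ := Groth.Agent.S17335.result k A
    let π : A →ₐ[k] ((A →ₐ[k] k) → k) := AlgHom.pi (R := k) (fun f : A →ₐ[k] k => f)
    have hinj : Function.Injective π := by
      rw [injective_iff_map_eq_zero]
      intro x hx
      have hx' : x ∈ RingHom.ker π := hx
      rw [hker] at hx'
      exact (mem_nilradical.1 hx').eq_zero
    have hπ : ∀ a (f : A →ₐ[k] k), π a f = f a := fun a f => rfl
    constructor
    · intro a b hab
      have hab' : a ^ p ^ n = b ^ p ^ n := hab
      apply hinj
      funext f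
      rw [hπ, hπ]
      have h1 : (f a - f b) ^ p ^ n = 0 := by
        rw [sub_pow_char_pow, ← map_pow, ← map_pow, hab', sub_self]
      have := pow_eq_zero_iff (n := p ^ n) (a := f a - f b) (by omega) |>.1 h1
      exact sub_eq_zero.1 this
    · intro b
      choose c hc using fun f : A →ₐ[k] k => IsAlgClosed.exists_pow_nat_eq (f b)
        (show 0 < p ^ n by omega)
      obtain ⟨a, ha⟩ := hsurj c
      refine ⟨a, ?_⟩
      apply hinj
      change π (a ^ p ^ n) = π b
      rw [map_pow]
      funext f
      rw [Pi.pow_apply, hπ b]
      have : π a f = c f := congrFun ha f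
      rw [this, hc]

end Groth.Agent.S17326
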