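import Groth.Statements.S17327
import Groth.Agent.S17335
import Mathlib.RingTheory.HopfAlgebra.Convolution
import Mathlib.RingTheory.Ideal.IdempotentFG
import Mathlib.LinearAlgebra.FiniteDimensional.Defs
-- import your own Groth.Agent.* helpers here

set_option autoImplicit false
universe u v
open Hopf

namespace Groth.Agent.S17327

open WithConv

section translation

variable {k : Type u} [Field k] {A : Type v} [CommRing A] [HopfAlgebra k A]

/-- Translation by a character `χ`: `a ↦ (χ ⊗ id) (Δ a)`. -/
noncomputable def τ (χ : A →ₐ[k] k) : A →ₐ[k] A :=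
  ofConv (toConv ((Algebra.ofId k A).comp χ) * toConv (AlgHom.id k A))

lemma ofId_comp_mul (χ ψ : A →ₐ[k] k) :
    toConv ((Algebra.ofId k A).comp χ) * toConv ((Algebra.ofId k A).comp ψ) =
      toConv ((Algebra.ofId k A).comp (ofConv (toConv χ * toConv ψ))) := by
  rw [AlgHom.comp_convMul_distrib]

lemma τ_comp (χ ψ : A →ₐ[k] k) : (τ ψ).comp (τ χ) = τ (ofConv (toConv χ * toConv ψ)) := by
  have h1 : (τ ψ).comp ((Algebra.ofId k A).comp χ) = (Algebra.ofId k A).comp χ := by
    ext a
    simp [Algebra.ofId_apply]
  have h2 : (τ ψ).comp (AlgHom.id k A) = τ ψ := AlgHom.comp_id _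
  unfold τ at h1 h2 ⊢
  rw [AlgHom.comp_convMul_distrib]
  simp only at h1 h2 ⊢
  rw [h1, h2, toConv_ofConv, ← mul_assoc, ofId_comp_mul]

lemma τ_one : τ (ofConv (1 : WithConv (A →ₐ[k] k))) = AlgHom.id k A := by
  unfold τ
  have : toConv ((Algebra.ofId k A).comp (ofConv (1 : WithConv (A →ₐ[k] k)))) =
      (1 : WithConv (A →ₐ[k] A)) := by
    apply WithConv.ext
    ext a
    simp [AlgHom.convOne_apply, Algebra.ofId_apply]
  rw [this, one_mul]

lemma counit_τ (χ : A →ₐ[k] k) : (Bialgebra.counitAlgHom k A).comp (τ χ) = χ := by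
  unfold τ
  rw [AlgHom.comp_convMul_distrib]
  have h1 : (Bialgebra.counitAlgHom k A).comp ((Algebra.ofId k A).comp χ) = χ := by
    ext a
    simp [Algebra.ofId_apply]
  have h2 : toConv ((Bialgebra.counitAlgHom k A).comp (AlgHom.id k A)) =
      (1 : WithConv (A →ₐ[k] k)) := by
    apply WithConv.ext
    ext a
    simp [AlgHom.convOne_apply]
  simp only
  rw [h1, h2, mul_one]

end translation


/-- Let k be an algebraically closed field of characteristic p > 0, A a commutative Hopf algebra over k
which is finite-dimensional as a k-vector space (a finite group scheme G = Spec A), I the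
augmentation ideal (kernel of the counit) and n ≥ 1. The n-th Frobenius kernel G_n is the closed
subgroup scheme cut out by the ideal generated by the p^n-th powers f^(p^n), f ∈ I; it is trivial,
i.e. that ideal equals I, if and only if G is reduced. -/
theorem result (k : Type u) [Field k] [IsAlgClosed k]
    (p : ℕ) [Fact p.Prime] [CharP k p] (A : Type v) [CommRing A] [HopfAlgebra k A] [Module.Finite k A]
    (n : ℕ) (hn : 1 ≤ n) :
    Ideal.span ((fun f : A => f ^ p ^ n) '' (RingHom.ker (Bialgebra.counitAlgHom k A) : Set A)) =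
      RingHom.ker (Bialgebra.counitAlgHom k A) ↔ IsReduced A := by
  set ε := Bialgebra.counitAlgHom k A with hε
  set I := RingHom.ker ε with hI
  have hp := (Fact.out : p.Prime)
  have hpn : 2 ≤ p ^ n := le_trans hp.two_le (by
    calc p = p ^ 1 := (pow_one p).symm
      _ ≤ p ^ n := Nat.pow_le_pow_right hp.pos hn)
  have hspan_le : Ideal.span ((fun f : A => f ^ p ^ n) '' (I : Set A)) ≤ I := by
    rw [Ideal.span_le]
    rintro _ ⟨f, hf, rfl⟩
    exact I.pow_mem_of_mem hf _ (by omega)
  constructor
  · intro h
    have hI2 : I ≤ I ^ 2 := by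
      calc I = Ideal.span ((fun f : A => f ^ p ^ n) '' (I : Set A)) := h.symm
        _ ≤ I ^ 2 := by
          rw [Ideal.span_le]
          rintro _ ⟨f, hf, rfl⟩
          exact Ideal.pow_le_pow_right hpn (Ideal.pow_mem_pow hf _)
    have hχ : ∀ χ : A →ₐ[k] k, RingHom.ker χ ≤ RingHom.ker χ ^ 2 := by
      intro χ a ha
      set χi := ofConv (toConv χ)⁻¹ with hχi
      have hinv1 : (τ χi).comp (τ χ) = AlgHom.id k A := by
        rw [τ_comp, hχi, toConv_ofConv, mul_inv_cancel, τ_one]
      have hinv2 : (τ χ).comp (τ χi) = AlgHom.id k A := by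
        rw [τ_comp, hχi, toConv_ofConv, inv_mul_cancel, τ_one]
      have h1 : τ χ a ∈ I := by
        rw [hI, RingHom.mem_ker]
        have := congrArg (fun φ => φ a) (counit_τ χ)
        simp only [AlgHom.comp_apply] at this
        rw [this]
        exact ha
      have h2 : Ideal.map (τ χi) I ≤ RingHom.ker χ := by
        rw [Ideal.map_le_iff_le_comap]
        intro b hb
        rw [Ideal.mem_comap, RingHom.mem_ker]
        have e1 := congrArg (fun φ => φ ((τ χi) b)) (counit_τ χ)
        simp only [AlgHom.comp_apply] at e1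
        rw [← e1]
        have e2 := congrArg (fun φ => φ b) hinv2
        simp only [AlgHom.comp_apply, AlgHom.id_apply] at e2
        rw [e2]
        exact hb
      have h3 : a = τ χi (τ χ a) := by
        have := congrArg (fun φ => φ a) hinv1
        simp only [AlgHom.comp_apply, AlgHom.id_apply] at this
        exact this.symm
      rw [h3]
      have h4 : τ χi (τ χ a) ∈ Ideal.map (τ χi) (I ^ 2) := Ideal.mem_map_of_mem _ (hI2 h1)
      rw [Ideal.map_pow] at h4
      exact Ideal.pow_right_mono h2 2 h4
    have hnoeth : IsNoetherianRing A := by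
      have : IsNoetherian k A := inferInstance
      exact isNoetherian_of_tower k this
    have he : ∀ χ : A →ₐ[k] k, ∃ e : A, IsIdempotentElem e ∧ RingHom.ker χ = A ∙ e := by
      intro χ
      have hidem : IsIdempotentElem (RingHom.ker χ) := by
        unfold IsIdempotentElem
        rw [← pow_two]
        exact le_antisymm (Ideal.pow_le_self two_ne_zero) (hχ χ)
      exact (Ideal.isIdempotentElem_iff_of_fg _ (IsNoetherian.noetherian _)).mp hidem
    choose e he_idem he_span using he
    have := Groth.Agent.S17335.finite_algHom (k := k) (A := A)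
    have := Fintype.ofFinite (A →ₐ[k] k)
    have hF_idem : IsIdempotentElem (∏ χ, e χ) :=
      Finset.prod_induction _ IsIdempotentElem (fun a b ha hb => ha.mul hb)
        IsIdempotentElem.one (fun χ _ => he_idem χ)
    have hF_mem : ∀ χ, (∏ χ', e χ') ∈ RingHom.ker χ := fun χ => by
      rw [he_span χ]
      exact Ideal.mem_span_singleton.mpr (Finset.dvd_prod_of_mem _ (Finset.mem_univ χ))
    have hF_zero : (∏ χ, e χ) = 0 := by
      have hunit : IsUnit (1 - ∏ χ, e χ) := by
        by_contra hnu
        obtain ⟨m, hm, hFm⟩ := exists_max_ideal_of_mem_nonunits (mem_nonunits_iff.mpr hnu)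
        obtain ⟨χ, hχm⟩ := Groth.Agent.S17335.exists_algHom_ker_eq (k := k) m
        rw [← hχm] at hFm
        have h1 := Ideal.add_mem _ hFm (hF_mem χ)
        rw [sub_add_cancel, RingHom.mem_ker, map_one] at h1
        exact one_ne_zero h1
      have h0 : (1 - ∏ χ, e χ) * (∏ χ, e χ) = 0 := by
        rw [sub_mul, one_mul, hF_idem.eq, sub_self]
      exact hunit.mul_right_eq_zero.mp h0
    constructor
    intro x hx
    have hxe : ∀ χ, x * e χ = x := by
      intro χ
      have hxχ : x ∈ RingHom.ker χ := by
        rw [RingHom.mem_ker]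
        exact (hx.map χ).eq_zero
      rw [he_span χ, Ideal.mem_span_singleton'] at hxχ
      obtain ⟨c, hc⟩ := hxχ
      rw [← hc, mul_assoc, (he_idem χ).eq]
    have hxF : x * ∏ χ, e χ = x :=
      Finset.prod_induction _ (fun y => x * y = x)
        (fun a b ha hb => by rw [← mul_assoc, ha, hb]) (mul_one x) (fun χ _ => hxe χ)
    rw [← hxF, hF_zero, mul_zero]
  · intro hred
    apply le_antisymm hspan_le
    intro f hf
    obtain ⟨_, hsurj, hker⟩ := Groth.Agent.S17335.result k A
    have hroot : ∀ χ : A →ₐ[k] k, ∃ z : k, z ^ (p ^ n) = χ f := fun χ =>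
      IsAlgClosed.exists_pow_nat_eq _ (pow_pos hp.pos n)
    choose z hz using hroot
    obtain ⟨g, hg⟩ := hsurj z
    have hgχ : ∀ χ : A →ₐ[k] k, χ g = z χ := fun χ => congrFun hg χ
    have hgf : g ^ (p ^ n) = f := by
      have hmem : g ^ (p ^ n) - f ∈ RingHom.ker (AlgHom.pi (R := k) (fun χ : A →ₐ[k] k => χ)) := by
        rw [RingHom.mem_ker]
        funext χ
        simp [hgχ, hz]
      rw [hker, nilradical_eq_zero] at hmem
      exact sub_eq_zero.mp hmem
    have hgI : g ∈ I := by
      rw [hI, RingHom.mem_ker]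
      have h2 : (ε g) ^ (p ^ n) = 0 := by
        rw [← map_pow, hgf]
        exact hf
      exact (pow_eq_zero_iff (pow_ne_zero _ hp.ne_zero)).mp h2
    rw [← hgf]
    exact Ideal.subset_span ⟨g, hgI, rfl⟩

end Groth.Agent.S17327
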