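import Groth.Statements.S17332
import Mathlib.Algebra.BigOperators.Pi
-- import your own Groth.Agent.* helpers here

set_option autoImplicit false
universe u v w
open CAlg

namespace Groth.Agent.S17332

/-- Let k be a field, E and F finite sets, and O(E), O(F) the k-algebras of k-valued functions with
pointwise operations. Then every k-algebra homomorphism u : O(F) → O(E) is pull-back along a unique
map φ : E → F, i.e. u(g) = g ∘ φ for all g. (In the source k is algebraically closed; the printed
argument only uses that k is a field.) -/
theorem exists_point_of_algHom (k : Type u) [Field k] (F : Type w) [Finite F]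
    (χ : (F → k) →ₐ[k] k) : ∃ f : F, ∀ g : F → k, χ g = g f := by
  classical
  have := Fintype.ofFinite F
  have hsum : ∑ f : F, (Pi.single f (1 : k) : F → k) = 1 := by
    funext x
    simp [Finset.sum_apply, Pi.single_apply]
  have h1 : ∑ f : F, χ (Pi.single f (1 : k)) = 1 := by
    rw [← map_sum, hsum, map_one]
  obtain ⟨f, -, hf⟩ : ∃ f ∈ Finset.univ, χ (Pi.single f (1 : k)) ≠ 0 := by
    by_contra hcon
    push Not at hcon
    rw [Finset.sum_eq_zero hcon] at h1
    exact zero_ne_one h1
  have hidem : ∀ f' : F, χ (Pi.single f' (1 : k)) * χ (Pi.single f' (1 : k)) =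
      χ (Pi.single f' (1 : k)) := by
    intro f'
    rw [← map_mul]
    congr 1
    funext x
    simp [Pi.single_apply]
  have hf1 : χ (Pi.single f (1 : k)) = 1 := by
    have := hidem f
    have h' : χ (Pi.single f (1 : k)) * (χ (Pi.single f (1 : k)) - 1) = 0 := by
      rw [mul_sub, this, mul_one, sub_self]
    rcases mul_eq_zero.mp h' with h'' | h''
    · exact absurd h'' hf
    · exact sub_eq_zero.mp h''
  have hother : ∀ f' : F, f' ≠ f → χ (Pi.single f' (1 : k)) = 0 := by
    intro f' hne
    have hprod : (Pi.single f' (1 : k) : F → k) * Pi.single f (1 : k) = 0 := by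
      funext x
      by_cases hx : x = f
      · subst hx; simp [Pi.single_apply, hne]
      · simp [Pi.single_apply, hx]
    have := congrArg χ hprod
    rw [map_mul, map_zero, hf1, mul_one] at this
    exact this
  refine ⟨f, fun g => ?_⟩
  have hg : g = ∑ f' : F, g f' • (Pi.single f' (1 : k) : F → k) := by
    funext x
    simp [Finset.sum_apply, Pi.single_apply]
  rw [hg, map_sum]
  simp only [map_smul, smul_eq_mul]
  rw [Finset.sum_eq_single f]
  · rw [hf1, mul_one]
    simp [Finset.sum_apply, Pi.single_apply]
  · intro f' _ hne
    rw [hother f' hne, mul_zero]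
  · intro h
    exact absurd (Finset.mem_univ f) h

theorem result (k : Type u) [Field k] (E : Type v) [Finite E]
    (F : Type w) [Finite F] (u : (F → k) →ₐ[k] (E → k)) :
    ∃! φ : E → F, ∀ g : F → k, u g = g ∘ φ := by
  classical
  have hex : ∀ e : E, ∃ f : F, ∀ g : F → k, u g e = g f := fun e =>
    exists_point_of_algHom k F ((Pi.evalAlgHom k (fun _ : E => k) e).comp u)
  choose φ hφ using hex
  refine ⟨φ, fun g => funext fun e => hφ e g, ?_⟩
  intro ψ hψ
  funext e
  have h1 := congrFun (hψ (Pi.single (φ e) (1 : k))) e
  rw [hφ e] at h1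
  simp only [Function.comp_apply, Pi.single_eq_same] at h1
  by_contra hne
  rw [Pi.single_eq_of_ne hne] at h1
  exact one_ne_zero h1

end Groth.Agent.S17332
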