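import Groth.Statements.S17333
import Mathlib.LinearAlgebra.Prod
-- import your own Groth.Agent.* helpers here

set_option autoImplicit false
universe u v w
open CAlg

namespace Groth.Agent.S17333

/-- Let k be a field and A = B × C a decomposable commutative k-algebra. Then the natural map Der(B) ×
Der(C) → Der(A) is bijective: every k-derivation D : A → A is (b, c) ↦ (D₁ b, D₂ c) for a unique
pair of k-derivations D₁ : B → B, D₂ : C → C. Compatibility with brackets is not stated. (The
published statement takes k algebraically closed; this row takes any field.) -/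
theorem result (k : Type u) [Field k] (B : Type v) [CommRing B] [Algebra k B]
    (C : Type w) [CommRing C] [Algebra k C] (D : Derivation k (B × C) (B × C)) :
    ∃! P : Derivation k B B × Derivation k C C, ∀ (b : B) (c : C), D (b, c) = (P.1 b, P.2 c) := by
  have he : D ((1 : B), (0 : C)) = 0 := by
    have h := D.leibniz ((1 : B), (0 : C)) ((1 : B), (0 : C))
    have hee : ((1 : B), (0 : C)) * ((1 : B), (0 : C)) = ((1 : B), (0 : C)) := by
      ext <;> simp
    rw [hee] at h
    have h1 := congrArg Prod.fst h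
    have h2 := congrArg Prod.snd h
    simp only [smul_eq_mul, Prod.fst_add, Prod.snd_add, Prod.fst_mul, Prod.snd_mul, one_mul,
      zero_mul, add_zero] at h1 h2
    ext
    · simpa using h1
    · simpa using h2
  have he' : D ((0 : B), (1 : C)) = 0 := by
    have : ((0 : B), (1 : C)) = 1 - ((1 : B), (0 : C)) := by ext <;> simp
    rw [this, D.map_sub, D.map_one_eq_zero, he, sub_zero]
  have hb : ∀ b : B, (D (b, (0 : C))).2 = 0 := by
    intro b
    have h := D.leibniz (b, (0 : C)) ((1 : B), (0 : C))
    have hmul : (b, (0 : C)) * ((1 : B), (0 : C)) = (b, (0 : C)) := by ext <;> simp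
    rw [hmul, he, smul_zero, zero_add] at h
    have h2 := congrArg Prod.snd h
    simpa [smul_eq_mul] using h2
  have hc : ∀ c : C, (D ((0 : B), c)).1 = 0 := by
    intro c
    have h := D.leibniz ((0 : B), c) ((0 : B), (1 : C))
    have hmul : ((0 : B), c) * ((0 : B), (1 : C)) = ((0 : B), c) := by ext <;> simp
    rw [hmul, he', smul_zero, zero_add] at h
    have h1 := congrArg Prod.fst h
    simpa [smul_eq_mul] using h1
  let L₁ : B →ₗ[k] B := (LinearMap.fst k B C) ∘ₗ (D : (B × C) →ₗ[k] (B × C)) ∘ₗ (LinearMap.inl k B C)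
  let L₂ : C →ₗ[k] C := (LinearMap.snd k B C) ∘ₗ (D : (B × C) →ₗ[k] (B × C)) ∘ₗ (LinearMap.inr k B C)
  have hL₁ : ∀ b, L₁ b = (D (b, (0 : C))).1 := fun b => rfl
  have hL₂ : ∀ c, L₂ c = (D ((0 : B), c)).2 := fun c => rfl
  let D₁ : Derivation k B B := Derivation.mk' L₁ (by
    intro a b
    rw [hL₁, hL₁, hL₁]
    have hmul : (a * b, (0 : C)) = (a, (0 : C)) * (b, (0 : C)) := by ext <;> simp
    rw [hmul, D.leibniz]
    simp [smul_eq_mul])
  let D₂ : Derivation k C C := Derivation.mk' L₂ (by
    intro a b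
    rw [hL₂, hL₂, hL₂]
    have hmul : ((0 : B), a * b) = ((0 : B), a) * ((0 : B), b) := by ext <;> simp
    rw [hmul, D.leibniz]
    simp [smul_eq_mul])
  have hD₁ : ∀ b, D₁ b = (D (b, (0 : C))).1 := fun b => rfl
  have hD₂ : ∀ c, D₂ c = (D ((0 : B), c)).2 := fun c => rfl
  refine ⟨(D₁, D₂), ?_, ?_⟩
  · intro b c
    have : (b, c) = (b, (0 : C)) + ((0 : B), c) := by ext <;> simp
    rw [this, D.map_add]
    ext
    · simp [hD₁, hc c]
    · simp [hD₂, hb b]
  · rintro ⟨P₁, P₂⟩ hP
    have h1 : P₁ = D₁ := by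
      ext b
      rw [hD₁, hP b 0]
    have h2 : P₂ = D₂ := by
      ext c
      rw [hD₂, hP 0 c]
    rw [h1, h2]

end Groth.Agent.S17333
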