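import Groth.Statements.S17500
import Mathlib.RingTheory.Flat.EquationalCriterion
import Mathlib.RingTheory.Flat.Tensor
import Mathlib.RingTheory.PrincipalIdealDomain
import Mathlib.Data.ZMod.Basic
import Mathlib.Tactic.Ring
-- import your own Groth.Agent.* helpers here

set_option autoImplicit false
universe u
open TorsMod

namespace Groth.Agent.S17500

open TensorProduct

lemma pow_n_eq_zero (p n : ℕ) : (p : ZMod (p ^ n)) ^ n = 0 := by
  rw [← Nat.cast_pow, ZMod.natCast_self]

lemma ann_lemma (p n : ℕ) [hp : Fact p.Prime] (i : ℕ) (hi : i ≤ n) (A : ZMod (p ^ n))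
    (hA : (p : ZMod (p ^ n)) ^ i * A = 0) :
    ∃ c : ZMod (p ^ n), A = (p : ZMod (p ^ n)) ^ (n - i) * c := by
  have : NeZero (p ^ n) := ⟨pow_ne_zero n hp.out.ne_zero⟩
  rw [← ZMod.natCast_zmod_val A] at hA ⊢
  have h1 : p ^ n ∣ p ^ i * A.val := by
    rw [← ZMod.natCast_eq_zero_iff]
    push_cast
    exact hA
  have h2 : p ^ n = p ^ i * p ^ (n - i) := by rw [← pow_add, Nat.add_sub_cancel' hi]
  have h1' : p ^ i * p ^ (n - i) ∣ p ^ i * A.val := by rwa [← h2]
  have h3 : p ^ (n - i) ∣ A.val := Nat.dvd_of_mul_dvd_mul_left (pow_pos hp.out.pos i) h1'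
  obtain ⟨c, hc⟩ := h3
  refine ⟨(c : ZMod (p ^ n)), ?_⟩
  rw [hc]
  push_cast
  ring

lemma ideal_eq (p n : ℕ) [hp : Fact p.Prime] (I : Ideal (ZMod (p ^ n))) :
    ∃ j ≤ n, I = Ideal.span {(p : ZMod (p ^ n)) ^ j} := by
  have : NeZero (p ^ n) := ⟨pow_ne_zero n hp.out.ne_zero⟩
  have : IsPrincipalIdealRing (ZMod (p ^ n)) :=
    IsPrincipalIdealRing.of_surjective (Int.castRingHom (ZMod (p ^ n))) ZMod.intCast_surjective
  obtain ⟨⟨a, ha⟩⟩ := IsPrincipalIdealRing.principal I
  change I = Ideal.span {a} at ha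
  subst ha
  obtain ⟨j, hj, hg⟩ := (Nat.dvd_prime_pow hp.out).mp (Nat.gcd_dvd_right a.val (p ^ n))
  refine ⟨j, hj, ?_⟩
  rw [← ZMod.natCast_zmod_val a]
  apply le_antisymm
  · rw [Ideal.span_singleton_le_span_singleton]
    have : p ^ j ∣ a.val := hg ▸ Nat.gcd_dvd_left a.val (p ^ n)
    obtain ⟨c, hc⟩ := this
    exact ⟨c, by rw [hc]; push_cast; ring⟩
  · rw [Ideal.span_singleton_le_span_singleton]
    have hb := Nat.gcd_eq_gcd_ab a.val (p ^ n)
    refine ⟨(Nat.gcdA a.val (p ^ n) : ZMod (p ^ n)), ?_⟩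
    have := congrArg (Int.cast : ℤ → ZMod (p ^ n)) hb
    push_cast at this
    rw [hg, pow_n_eq_zero, zero_mul, add_zero] at this
    push_cast at this
    exact this


/-- Let p be a prime number, n a natural number and H a module over ℤ/p^nℤ. Then H is flat over ℤ/p^nℤ
if and only if, for every i with 0 ≤ i ≤ n, the kernel of multiplication by p^i on H coincides with
the image of multiplication by p^(n-i) on H. (The published item is phrased for an fppf sheaf of
ℤ/p^nℤ-modules on a scheme; this is the case of a single module, which is the case the argument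
treats.) -/
theorem result (p n : ℕ) [Fact p.Prime]
    (H : Type u) [AddCommGroup H] [Module (ZMod (p ^ n)) H] :
    Module.Flat (ZMod (p ^ n)) H ↔
      ∀ i : ℕ, i ≤ n →
        LinearMap.ker ((p ^ i : ZMod (p ^ n)) • (LinearMap.id : H →ₗ[ZMod (p ^ n)] H)) =
          LinearMap.range ((p ^ (n - i) : ZMod (p ^ n)) • (LinearMap.id : H →ₗ[ZMod (p ^ n)] H)) := by
  constructor
  · intro hflat i hi
    apply le_antisymm
    · intro x hx
      rw [LinearMap.mem_ker, LinearMap.smul_apply, LinearMap.id_apply] at hx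
      have hrel : ∑ _u : Unit, (fun _ : Unit => (p : ZMod (p ^ n)) ^ i) _u • (fun _ : Unit => x) _u = 0 := by
        simpa using hx
      obtain ⟨k, a, y, hxy, hay⟩ := Module.Flat.isTrivialRelation_of_sum_smul_eq_zero hrel
      choose c hc using fun j => ann_lemma p n i hi (a () j) (by simpa using hay j)
      refine ⟨∑ j, c j • y j, ?_⟩
      simp only [LinearMap.smul_apply, LinearMap.id_apply, Finset.smul_sum, smul_smul]
      have hx' : x = ∑ j, a () j • y j := hxy ()
      rw [hx']
      refine Finset.sum_congr rfl (fun j _ => ?_)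
      rw [hc j]
    · rintro x ⟨z, rfl⟩
      simp only [LinearMap.mem_ker, LinearMap.smul_apply, LinearMap.id_apply, smul_smul,
        ← pow_add, Nat.add_sub_cancel' hi]
      rw [pow_n_eq_zero, zero_smul]
  · intro h
    rw [Module.Flat.iff_lift_lsmul_comp_subtype_injective]
    intro I _
    obtain ⟨j, hj, rfl⟩ := ideal_eq p n I
    set g := (p : ZMod (p ^ n)) ^ j with hgdef
    have hgmem : g ∈ Ideal.span {g} := Ideal.mem_span_singleton_self g
    have hform : ∀ t : (Ideal.span {g}) ⊗[ZMod (p ^ n)] H,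
        ∃ m : H, t = (⟨g, hgmem⟩ : Ideal.span {g}) ⊗ₜ m := by
      intro t
      induction t using TensorProduct.induction_on with
      | zero => exact ⟨0, by rw [tmul_zero]⟩
      | tmul x m =>
        obtain ⟨r, hr⟩ := Ideal.mem_span_singleton'.mp x.2
        refine ⟨r • m, ?_⟩
        rw [← smul_tmul]
        congr 1
        ext
        simp [hr]
      | add x y hx hy =>
        obtain ⟨m1, rfl⟩ := hx
        obtain ⟨m2, rfl⟩ := hy
        exact ⟨m1 + m2, (tmul_add _ _ _).symm⟩
    rw [injective_iff_map_eq_zero]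
    intro t ht
    obtain ⟨m, rfl⟩ := hform t
    rw [TensorProduct.lift.tmul] at ht
    have hm : m ∈ LinearMap.ker (g • (LinearMap.id : H →ₗ[ZMod (p ^ n)] H)) := by
      simpa using ht
    rw [hgdef, h j hj] at hm
    obtain ⟨m', rfl⟩ := hm
    simp only [LinearMap.smul_apply, LinearMap.id_apply]
    rw [← smul_tmul]
    have h0 : (p : ZMod (p ^ n)) ^ (n - j) • (⟨g, hgmem⟩ : Ideal.span {g}) = 0 := by
      ext
      simp only [Submodule.coe_smul, smul_eq_mul, Submodule.coe_zero, hgdef, ← pow_add,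
        Nat.sub_add_cancel hj, pow_n_eq_zero]
    rw [h0, zero_tmul]

end Groth.Agent.S17500
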