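import Groth.Statements.S17536
-- import your own Groth.Agent.* helpers here

set_option autoImplicit false
universe u v w
open W4c5adicflatcompl
open CAlg

namespace Groth.Agent.S17536

/-- If the A-module M is I-adically separated then so is the module of I-adically decaying functions
from a set Z to M. -/
theorem result {A : Type u} [CommRing A] (I : Ideal A) (Z : Type v)
    (M : Type w) [AddCommGroup M] [Module A M] [IsHausdorff I M] :
    IsHausdorff I (decaying I Z M) := by
  refine ⟨fun f hf => ?_⟩
  apply Subtype.ext
  funext z
  set φ : decaying I Z M →ₗ[A] M := (LinearMap.proj z).comp (decaying I Z M).subtype with hφ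
  have key : ∀ n : ℕ, φ f ∈ (I ^ n • ⊤ : Submodule A M) := by
    intro n
    have hfn : f ∈ (I ^ n • ⊤ : Submodule A (decaying I Z M)) := (SModEq.zero).mp (hf n)
    have hle : (I ^ n • ⊤ : Submodule A (decaying I Z M)) ≤
        (I ^ n • ⊤ : Submodule A M).comap φ := by
      rw [Submodule.smul_le]
      intro r hr m _
      rw [Submodule.mem_comap, map_smul]
      exact Submodule.smul_mem_smul hr Submodule.mem_top
    exact hle hfn
  have : φ f = 0 := IsHausdorff.haus ‹IsHausdorff I M› (φ f) (fun n => (SModEq.zero).mpr (key n))
  simpa [hφ] using this

end Groth.Agent.S17536
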