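import Groth.Statements.S17537
-- import your own Groth.Agent.* helpers here

set_option autoImplicit false
universe u v
open CAlg

namespace Groth.Agent.S17537

open Submodule

lemma of_mem_pow_smul {A : Type u} [CommRing A] (I : Ideal A)
    (M : Type v) [AddCommGroup M] [Module A M] (n : ℕ) {y : M}
    (hy : y ∈ (I ^ n • ⊤ : Submodule A M)) :
    AdicCompletion.of I M y ∈ (I ^ n • ⊤ : Submodule A (AdicCompletion I M)) := by
  refine Submodule.smul_induction_on hy (fun r hr m _ => ?_) (fun a b ha hb => ?_)
  · rw [map_smul]
    exact Submodule.smul_mem_smul hr Submodule.mem_top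
  · rw [map_add]
    exact Submodule.add_mem _ ha hb

lemma ker_le {A : Type u} [CommRing A] (I : Ideal A)
    (M : Type v) [AddCommGroup M] [Module A M]
    (h : ∀ (n : ℕ) (x : AdicCompletion I M), ∃ y : M,
        x - AdicCompletion.of I M y ∈ (I ^ n • ⊤ : Submodule A (AdicCompletion I M)))
    (n : ℕ) :
    LinearMap.ker (AdicCompletion.eval I M n) ≤ (I ^ n • ⊤ : Submodule A (AdicCompletion I M)) := by
  intro w hw
  obtain ⟨y, hy⟩ := h n w
  have h1 : AdicCompletion.eval I M n (w - AdicCompletion.of I M y) = 0 :=
    AdicCompletion.pow_smul_top_le_ker_eval I n hy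
  rw [LinearMap.mem_ker] at hw
  rw [map_sub, hw, zero_sub, neg_eq_zero, AdicCompletion.eval_of] at h1
  have hy' : y ∈ (I ^ n • ⊤ : Submodule A M) := by
    rwa [Submodule.mkQ_apply, Submodule.Quotient.mk_eq_zero] at h1
  have h2 := of_mem_pow_smul I M n hy'
  have := Submodule.add_mem _ hy h2
  simpa using this


/-- For a commutative ring A, an ideal I and an A-module M, the I-adic completion M^ of M is itself
I-adically complete if and only if, for every n, every element of M^ is congruent modulo I^n M^ to
the image of an element of M (the maps M/I^n M → M^/I^n M^ are surjective). -/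
theorem result {A : Type u} [CommRing A] (I : Ideal A)
    (M : Type v) [AddCommGroup M] [Module A M] :
    IsAdicComplete I (AdicCompletion I M) ↔
      ∀ (n : ℕ) (x : AdicCompletion I M), ∃ y : M,
        x - AdicCompletion.of I M y ∈ (I ^ n • ⊤ : Submodule A (AdicCompletion I M)) := by
  constructor
  · intro hc n x
    choose u hu using fun m => Submodule.Quotient.mk_surjective (I ^ m • ⊤ : Submodule A M) (x.val m)
    have hcauchy : ∀ {m k : ℕ}, m ≤ k → AdicCompletion.of I M (u m) ≡ AdicCompletion.of I M (u k)
        [SMOD (I ^ m • ⊤ : Submodule A (AdicCompletion I M))] := by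
      intro m k hmk
      rw [SModEq.sub_mem, ← map_sub]
      apply of_mem_pow_smul
      rw [← Submodule.Quotient.eq]
      rw [hu m]
      have := x.property hmk
      rw [← hu k] at this
      rw [← this]
      rfl
    obtain ⟨L, hL⟩ := hc.toIsPrecomplete.prec' (fun m => AdicCompletion.of I M (u m)) hcauchy
    have hLx : L = x := by
      ext m
      have h1 := hL m
      rw [SModEq.sub_mem] at h1
      have h2 : AdicCompletion.eval I M m (AdicCompletion.of I M (u m) - L) = 0 :=
        AdicCompletion.pow_smul_top_le_ker_eval I m h1
      rw [map_sub, sub_eq_zero, AdicCompletion.eval_of, Submodule.mkQ_apply, hu m,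
        AdicCompletion.eval_apply] at h2
      exact h2.symm
    refine ⟨u n, ?_⟩
    have h1 := hL n
    rw [SModEq.sub_mem, hLx] at h1
    have := Submodule.neg_mem _ h1
    simpa using this
  · intro h
    have heq : ∀ n : ℕ, (I ^ n • ⊤ : Submodule A (AdicCompletion I M)) =
        LinearMap.ker (AdicCompletion.eval I M n) := fun n =>
      le_antisymm (AdicCompletion.pow_smul_top_le_ker_eval I n) (ker_le I M h n)
    exact
    { toIsHausdorff := inferInstance
      toIsPrecomplete := ⟨fun x hx => by
        let L : AdicCompletion I M := {
          val := fun i => (x i).val i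
          property := fun {m n} h' => by
            simp only [AdicCompletion.transitionMap_comp_eval_apply]
            specialize hx h'
            rwa [SModEq.sub_mem, heq, LinearMap.mem_ker, _root_.map_sub,
              sub_eq_zero, AdicCompletion.eval_apply, AdicCompletion.eval_apply, eq_comm] at hx }
        refine ⟨L, fun i => ?_⟩
        rw [SModEq.sub_mem, heq, LinearMap.mem_ker, map_sub, sub_eq_zero]
        rfl⟩ }

end Groth.Agent.S17537
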