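import Groth.Statements.S17540
import Groth.Agent.Lib.Helper26.Decay
-- import your own Groth.Agent.* helpers here

set_option autoImplicit false
universe u v w
open W4c5adicflatcompl
open CAlg

namespace Groth.Agent.S17540

open Groth.Agent.Lib.Helper26.Decay

lemma step_exists {A : Type u} [CommRing A] (I : Ideal A)
    {M : Type v} [AddCommGroup M] [Module A M] {Z : Type w} (m : Z → M)
    (hgen : Submodule.span A (Set.range m) ⊔ I • ⊤ = ⊤) (n : ℕ) (y : M)
    (hy : y ∈ (I ^ n • ⊤ : Submodule A M)) :
    ∃ c : Z →₀ A, (∀ z, c z ∈ I ^ n) ∧
      y - c.sum (fun z a => a • m z) ∈ (I ^ (n + 1) • ⊤ : Submodule A M) := by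
  have hle : (I ^ n • ⊤ : Submodule A M) =
      I ^ n • Submodule.span A (Set.range m) ⊔ I ^ (n + 1) • ⊤ := by
    conv_lhs => rw [← hgen]
    rw [Submodule.smul_sup, ← Submodule.mul_smul, ← pow_succ]
  rw [hle] at hy
  obtain ⟨a, ha, b, hb, hab⟩ := Submodule.mem_sup.1 hy
  obtain ⟨c, hc, hca⟩ := (Submodule.mem_ideal_smul_span_iff_exists_sum (I ^ n) m a).1 ha
  refine ⟨c, hc, ?_⟩
  rw [hca, ← hab, add_sub_cancel_left]
  exact hb


/-- Let A be I-adically complete, M an I-adically complete A-module and m : Z → M a family. The images
of the m z generate M/IM (the span of the family together with IM is all of M) if and only if the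
family I-adically generates M: every x in M is the I-adically convergent sum of g z • m z for some
I-adically decaying function g : Z → A. -/
theorem result {A : Type u} [CommRing A] (I : Ideal A) [IsAdicComplete I A]
    (M : Type v) [AddCommGroup M] [Module A M] [IsAdicComplete I M] (Z : Type w) (m : Z → M) :
    Submodule.span A (Set.range m) ⊔ I • ⊤ = ⊤ ↔
      ∀ x : M, ∃ g : Z → A, g ∈ decaying I Z A ∧
        ∀ n : ℕ, ∃ S : Finset Z,
          (∀ z, z ∉ S → g z • m z ∈ (I ^ n • ⊤ : Submodule A M)) ∧
          x - (∑ z ∈ S, g z • m z) ∈ (I ^ n • ⊤ : Submodule A M) := by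
  classical
  constructor
  · intro hgen x
    -- the recursion
    let step : ℕ → M → (Z →₀ A) := fun n y =>
      if h : y ∈ (I ^ n • ⊤ : Submodule A M) then (step_exists I m hgen n y h).choose else 0
    let rem : ℕ → M := fun n => Nat.rec x (fun k r => r - (step k r).sum (fun z a => a • m z)) n
    have rem_zero : rem 0 = x := rfl
    have rem_succ : ∀ k, rem (k + 1) = rem k - (step k (rem k)).sum (fun z a => a • m z) :=
      fun k => rfl
    have rem_mem : ∀ n, rem n ∈ (I ^ n • ⊤ : Submodule A M) := by
      intro n
      induction n with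
      | zero => simp [rem_zero]
      | succ k ih =>
        rw [rem_succ]
        have := (step_exists I m hgen k (rem k) ih).choose_spec.2
        simp only [step, dif_pos ih]
        exact this
    let c : ℕ → Z →₀ A := fun k => step k (rem k)
    have hc : ∀ k z, c k z ∈ I ^ k := by
      intro k z
      simp only [c, step, dif_pos (rem_mem k)]
      exact (step_exists I m hgen k (rem k) (rem_mem k)).choose_spec.1 z
    -- telescoping
    have htel : ∀ n, rem n = x - ∑ k ∈ Finset.range n, (c k).sum (fun z a => a • m z) := by
      intro n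
      induction n with
      | zero => simp [rem_zero]
      | succ k ih =>
        rw [rem_succ]
        show rem k - (c k).sum (fun z a => a • m z) = _
        rw [ih, Finset.sum_range_succ]
        abel
    -- partial sums of coefficients
    let G : ℕ → Z → A := fun N z => ∑ k ∈ Finset.range N, c k z
    have hG : ∀ z, ∀ {a b : ℕ}, a ≤ b → G a z ≡ G b z [SMOD (I ^ a • ⊤ : Submodule A A)] := by
      intro z a b hab
      rw [SModEq.sub_mem, ← neg_mem_iff, neg_sub]
      simp only [G]
      rw [← Finset.sum_range_add_sum_Ico _ hab, add_sub_cancel_left]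
      refine Submodule.sum_mem _ fun k hk => ?_
      have hk' : a ≤ k := (Finset.mem_Ico.1 hk).1
      have : c k z ∈ I ^ a := Ideal.pow_le_pow_right hk' (hc k z)
      simpa using this
    choose g hg using fun z => IsPrecomplete.prec (inferInstance : IsPrecomplete I A) (hG z)
    have hg' : ∀ z N, g z - G N z ∈ I ^ N := by
      intro z N
      have := SModEq.sub_mem.1 (hg z N)
      rw [← neg_mem_iff, neg_sub] at this
      simpa using this
    let S : ℕ → Finset Z := fun N => (Finset.range N).biUnion fun k => (c k).support
    have hGS : ∀ N z, z ∉ S N → G N z = 0 := by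
      intro N z hz
      simp only [S, Finset.mem_biUnion, Finset.mem_range, Finsupp.mem_support_iff, not_exists,
        not_and, not_not] at hz
      exact Finset.sum_eq_zero fun k hk => hz k (Finset.mem_range.1 hk)
    have hgS : ∀ N z, z ∉ S N → g z ∈ I ^ N := by
      intro N z hz
      have := hg' z N
      rwa [hGS N z hz, sub_zero] at this
    refine ⟨g, fun N => (S N).finite_toSet.subset fun z hz => ?_, fun n => ⟨S n, fun z hz => ?_, ?_⟩⟩
    · by_contra hzS
      exact hz (by simpa using hgS N z hzS)
    · exact Submodule.smul_mem_smul (hgS n z hz) Submodule.mem_top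
    · have hsplit : x - ∑ z ∈ S n, g z • m z = rem n - ∑ z ∈ S n, (g z - G n z) • m z := by
        rw [htel n]
        have : ∑ k ∈ Finset.range n, (c k).sum (fun z a => a • m z) =
            ∑ z ∈ S n, G n z • m z := by
          simp only [G, Finset.sum_smul]
          rw [Finset.sum_comm]
          refine Finset.sum_congr rfl fun k hk => ?_
          apply Finsupp.sum_of_support_subset
          · intro z hz
            simp only [S, Finset.mem_biUnion]
            exact ⟨k, hk, hz⟩
          · intro z _
            simp
        rw [this]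
        simp only [sub_smul, Finset.sum_sub_distrib]
        abel
      rw [hsplit]
      refine Submodule.sub_mem _ (rem_mem n) (Submodule.sum_mem _ fun z _ => ?_)
      exact Submodule.smul_mem_smul (hg' z n) Submodule.mem_top
  · intro h
    rw [eq_top_iff]
    intro x _
    obtain ⟨g, _, hg⟩ := h x
    obtain ⟨S, _, hS⟩ := hg 1
    rw [pow_one] at hS
    have : x = ∑ z ∈ S, g z • m z + (x - ∑ z ∈ S, g z • m z) := by abel
    rw [this]
    refine Submodule.add_mem_sup (Submodule.sum_mem _ fun z _ => ?_) hS
    exact Submodule.smul_mem _ _ (Submodule.subset_span ⟨z, rfl⟩)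

end Groth.Agent.S17540
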