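import Groth.Statements.S17543
import Groth.Agent.Lib.Helper26.Decay
-- import your own Groth.Agent.* helpers here

set_option autoImplicit false
universe u v w
open W4c5adicflatcompl
open CAlg

namespace Groth.Agent.S17543

open Groth.Agent.Lib.Helper26.Decay


/-- Over a Noetherian ring A which is I-adically complete, for a finitely generated A-module M and a set
Z, the canonical map from M ⊗ (decaying functions Z → A) to functions Z → M is injective and its
image is the module of decaying functions Z → M. -/
theorem result {A : Type u} [CommRing A] [IsNoetherianRing A] (I : Ideal A)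
    [IsAdicComplete I A] (Z : Type v) (M : Type w) [AddCommGroup M] [Module A M]
    [Module.Finite A M] :
    Function.Injective
        ((TensorProduct.piScalarRightHom A A M Z) ∘ₗ ((decaying I Z A).subtype.lTensor M)) ∧
      LinearMap.range
        ((TensorProduct.piScalarRightHom A A M Z) ∘ₗ ((decaying I Z A).subtype.lTensor M)) =
        decaying I Z M := by
  refine ⟨Ψ_injective I M, ?_⟩
  apply le_antisymm
  · rintro _ ⟨t, rfl⟩
    exact Ψ_mem I M t
  · intro h hh
    obtain ⟨t, ht⟩ := exists_Ψ_eq I M h hh
    exact ⟨t, ht⟩

end Groth.Agent.S17543
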