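import Groth.Statements.S17545
import Groth.Agent.Lib.Helper26.Decay
-- import your own Groth.Agent.* helpers here

set_option autoImplicit false
universe u v w
open W4c5adicflatcompl
open CAlg

namespace Groth.Agent.S17545

open Groth.Agent.Lib.Helper26.Decay


/-- For a Noetherian ring A which is I-adically complete and any set Z, the A-module of I-adically
decaying functions Z → A is flat. -/
theorem result {A : Type u} [CommRing A] [IsNoetherianRing A]
    (I : Ideal A) [IsAdicComplete I A] (Z : Type v) :
    Module.Flat A (decaying I Z A) := by
  rw [Module.Flat.iff_rTensor_injective']
  intro J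
  have hJ : Module.Finite A J := inferInstance
  have hinj := Ψ_injective I (Z := Z) J
  intro a b hab
  apply hinj
  have h1 := Ψ_natural I J.subtype a
  have h2 := Ψ_natural I J.subtype b
  funext z
  apply Subtype.ext
  have := congr_fun (h1.symm.trans ((congrArg _ hab).trans h2)) z
  exact this

end Groth.Agent.S17545
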