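import Groth.Statements.S17549
import Groth.Agent.Lib.Helper26.Decay
-- import your own Groth.Agent.* helpers here

set_option autoImplicit false
universe u
open W4c5adicflatcompl
open CAlg

namespace Groth.Agent.S17549

open Groth.Agent.Lib.Helper26.Decay


/-- Over a Noetherian ring A with I-adic completion Â, an A-module P is I-adically projective
(I-adically complete, and every A-linear map from P to the target of a surjection between I-adically
complete modules lifts along that surjection) exactly when P is a retract of some module of
I-adically decaying functions Z → Â: there are a set Z, an A-linear map i from P to the decaying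
functions Z → Â and an A-linear map r back with r ∘ i the identity of P. Test modules, P and Z live
in the universe of A. -/
theorem result {A : Type u} [CommRing A] [IsNoetherianRing A]
    (I : Ideal A) (P : Type u) [AddCommGroup P] [Module A P] :
    IsAdicProjective I P ↔
      ∃ (Z : Type u) (i : P →ₗ[A] decaying I Z (AdicCompletion I A))
        (r : decaying I Z (AdicCompletion I A) →ₗ[A] P), r ∘ₗ i = LinearMap.id := by
  classical
  have hfg : I.FG := IsNoetherian.noetherian I
  have hÂ : IsAdicComplete I (AdicCompletion I A) := AdicCompletion.isAdicComplete hfg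
  constructor
  · rintro ⟨hP, hlift⟩
    have : IsAdicComplete I P := hP
    have hD : IsAdicComplete I (decaying I P (AdicCompletion I A)) :=
      isAdicComplete_decaying_of_noetherian I
    obtain ⟨π, hπ⟩ := exists_hatLift I (Z := P) P id
    have hπs : Function.Surjective π := fun x => ⟨single I x 1, hπ x⟩
    obtain ⟨χ, hχ⟩ := hlift (decaying I P (AdicCompletion I A)) P hD hP π hπs LinearMap.id
    exact ⟨P, χ, π, hχ⟩
  · rintro ⟨Z, i, r, hri⟩
    have hD : IsAdicComplete I (decaying I Z (AdicCompletion I A)) :=
      isAdicComplete_decaying_of_noetherian I
    refine ⟨isAdicComplete_of_retract I i r (fun q => by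
      simpa using LinearMap.congr_fun hri q), ?_⟩
    intro M N _ _ _ _ hM hN φ hφ ψ
    choose f hf using fun z => hφ (ψ (r (single I z (1 : AdicCompletion I A))))
    obtain ⟨χ', hχ'⟩ := exists_hatLift I M f
    have hcomp : φ ∘ₗ χ' = ψ ∘ₗ r :=
      hat_ext I N _ _ (fun z => by simp [hχ' z, hf z])
    refine ⟨χ' ∘ₗ i, ?_⟩
    rw [← LinearMap.comp_assoc, hcomp, LinearMap.comp_assoc, hri, LinearMap.comp_id]

end Groth.Agent.S17549
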