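import Groth.Statements.S17552
import Groth.Agent.Lib.Helper26.Decay
-- import your own Groth.Agent.* helpers here

set_option autoImplicit false
universe u
open W4c5adicflatcompl
open CAlg

namespace Groth.Agent.S17552

open Groth.Agent.Lib.Helper26.Decay


/-- For a complete Noetherian local ring A (maximal ideal m, m-adic completion Â), an A-module M is
isomorphic to the module of m-adically decaying functions Z → Â for some set Z (m-adically free)
exactly when M is flat and m-adically complete. M and Z live in the universe of A. -/
theorem result {A : Type u} [CommRing A] [IsNoetherianRing A] [IsLocalRing A]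
    [IsAdicComplete (IsLocalRing.maximalIdeal A) A]
    (M : Type u) [AddCommGroup M] [Module A M] :
    IsAdicFree (IsLocalRing.maximalIdeal A) M ↔
      Module.Flat A M ∧ IsAdicComplete (IsLocalRing.maximalIdeal A) M := by
  have hfg : (IsLocalRing.maximalIdeal A).FG := IsNoetherian.noetherian _
  have hÂ : IsAdicComplete (IsLocalRing.maximalIdeal A)
      (AdicCompletion (IsLocalRing.maximalIdeal A) A) := AdicCompletion.isAdicComplete hfg
  constructor
  · rintro ⟨Z, ⟨e⟩⟩
    let e' := e.trans (decayingCongr (IsLocalRing.maximalIdeal A) (Z := Z)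
      (AdicCompletion.ofLinearEquiv (IsLocalRing.maximalIdeal A) A)).symm
    have : Module.Flat A (decaying (IsLocalRing.maximalIdeal A) Z A) :=
      flat_decaying (IsLocalRing.maximalIdeal A) Z
    have hD : IsAdicComplete (IsLocalRing.maximalIdeal A)
        (decaying (IsLocalRing.maximalIdeal A) Z A) :=
      isAdicComplete_decaying_of_noetherian (IsLocalRing.maximalIdeal A)
    exact ⟨Module.Flat.of_linearEquiv e',
      isAdicComplete_of_retract (IsLocalRing.maximalIdeal A) e'.toLinearMap e'.symm.toLinearMap
        (fun q => by simp)⟩
  · rintro ⟨hflat, hcomp⟩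
    obtain ⟨ι, ⟨e⟩⟩ := exists_equiv_decaying_of_flat (A := A) M
    exact ⟨ι, ⟨e.trans (decayingCongr (IsLocalRing.maximalIdeal A)
      (AdicCompletion.ofLinearEquiv (IsLocalRing.maximalIdeal A) A))⟩⟩

end Groth.Agent.S17552
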