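import Groth.Statements.S17605
-- import your own Groth.Agent.* helpers here

set_option autoImplicit false
universe u
open Hensel

namespace Groth.Agent.S17605

/-- Let A be a ring with an ideal I and let f₁, f₂ be elements of A such that D(f₂) ∩ V(I) ⊆ D(f₁) ∩
V(I) in Spec A. If H₁ is a Henselization of the pair (A_{f₁}, IA_{f₁}) and H₂ a Henselization of the
pair (A_{f₂}, IA_{f₂}), with their induced A-algebra structures, then there is exactly one A-algebra
map H₁ → H₂. -/
theorem result (A : Type u) [CommRing A]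
    (I : Ideal A) (f₁ f₂ : A)
    (h : (PrimeSpectrum.basicOpen f₂ : Set (PrimeSpectrum A)) ∩ PrimeSpectrum.zeroLocus (I : Set A) ⊆
      (PrimeSpectrum.basicOpen f₁ : Set (PrimeSpectrum A)) ∩ PrimeSpectrum.zeroLocus (I : Set A))
    (H₁ : Type u) [CommRing H₁] [Algebra (Localization.Away f₁) H₁] [Algebra A H₁]
    [IsScalarTower A (Localization.Away f₁) H₁]
    (hH₁ : Hens2.IsPairHenselization (Localization.Away f₁)
      (I.map (algebraMap A (Localization.Away f₁))) H₁)
    (H₂ : Type u) [CommRing H₂] [Algebra (Localization.Away f₂) H₂] [Algebra A H₂]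
    [IsScalarTower A (Localization.Away f₂) H₂]
    (hH₂ : Hens2.IsPairHenselization (Localization.Away f₂)
      (I.map (algebraMap A (Localization.Away f₂))) H₂) :
    Nonempty (H₁ →ₐ[A] H₂) ∧ Subsingleton (H₁ →ₐ[A] H₂) := by
  classical
  set J₂ : Ideal H₂ := (I.map (algebraMap A (Localization.Away f₂))).map
    (algebraMap (Localization.Away f₂) H₂) with hJ₂
  have hHen : HenselianRing H₂ J₂ := hH₂.1
  have hJ₂eq : I.map (algebraMap A H₂) = J₂ := by
    rw [hJ₂, Ideal.map_map, ← IsScalarTower.algebraMap_eq]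
  have hunit : IsUnit (algebraMap A H₂ f₁) := by
    by_contra hne
    obtain ⟨M, hM, hxM⟩ := exists_max_ideal_of_mem_nonunits (a := algebraMap A H₂ f₁) hne
    have hjac : J₂ ≤ M := le_trans hHen.jac (sInf_le ⟨bot_le, hM⟩)
    let p : PrimeSpectrum A := ⟨M.comap (algebraMap A H₂), Ideal.comap_isPrime _ _⟩
    have hp2 : p ∈ (PrimeSpectrum.basicOpen f₂ : Set (PrimeSpectrum A)) ∩
        PrimeSpectrum.zeroLocus (I : Set A) := by
      refine ⟨?_, ?_⟩
      · rw [SetLike.mem_coe, PrimeSpectrum.mem_basicOpen]
        intro hf2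
        change algebraMap A H₂ f₂ ∈ M at hf2
        rw [IsScalarTower.algebraMap_apply A (Localization.Away f₂) H₂] at hf2
        have hu : IsUnit (algebraMap (Localization.Away f₂) H₂
            (algebraMap A (Localization.Away f₂) f₂)) :=
          (IsLocalization.Away.algebraMap_isUnit f₂).map _
        exact hM.ne_top (Ideal.eq_top_of_isUnit_mem _ hf2 hu)
      · rw [PrimeSpectrum.mem_zeroLocus]
        intro i hi
        change algebraMap A H₂ i ∈ M
        apply hjac
        rw [← hJ₂eq]
        exact Ideal.mem_map_of_mem _ hi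
    have hp1 := (h hp2).1
    rw [SetLike.mem_coe, PrimeSpectrum.mem_basicOpen] at hp1
    exact hp1 hxM
  let φ : Localization.Away f₁ →+* H₂ := IsLocalization.Away.lift f₁ hunit
  have hφ : φ.comp (algebraMap A (Localization.Away f₁)) = algebraMap A H₂ := by
    ext a
    exact IsLocalization.Away.lift_eq f₁ hunit a
  have hle : ∀ ψ : Localization.Away f₁ →+* H₂,
      ψ.comp (algebraMap A (Localization.Away f₁)) = algebraMap A H₂ →
      (I.map (algebraMap A (Localization.Away f₁))).map ψ ≤ J₂ := by
    intro ψ hψ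
    rw [Ideal.map_map, hψ, hJ₂eq]
  obtain ⟨g, hg, hguniq⟩ := hH₁.2 H₂ J₂ φ hHen (hle φ hφ)
  have hgA : ∀ a : A, g (algebraMap A H₁ a) = algebraMap A H₂ a := by
    intro a
    rw [IsScalarTower.algebraMap_apply A (Localization.Away f₁) H₁]
    have := congrArg (fun F => F a) hφ
    simp only [RingHom.comp_apply] at this
    rw [← this]
    exact congrArg (fun F => F (algebraMap A (Localization.Away f₁) a)) hg
  refine ⟨⟨{ g with commutes' := hgA }⟩, ⟨fun a b => ?_⟩⟩
  have key : ∀ c : H₁ →ₐ[A] H₂, (c : H₁ →+* H₂) = g := by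
    intro c
    apply hguniq
    apply IsLocalization.ringHom_ext (Submonoid.powers f₁)
    rw [hφ]
    ext x
    simp only [RingHom.comp_apply, RingHom.coe_coe]
    rw [← IsScalarTower.algebraMap_apply A (Localization.Away f₁) H₁]
    exact c.commutes x
  apply AlgHom.coe_ringHom_injective
  rw [key a, key b]

end Groth.Agent.S17605
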