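import Groth.Statements.S17721
-- import your own Groth.Agent.* helpers here

set_option autoImplicit false
universe u
open CAlg

namespace Groth.Agent.S17721

section Ultra

variable {R : Type u} [CommRing R] [IsDomain R] [IsDiscreteValuationRing R]

theorem addVal_neg' (b : R) : IsDiscreteValuationRing.addVal R (-b) =
    IsDiscreteValuationRing.addVal R b :=
  AddValuation.map_neg _ b

theorem addVal_add_eq_of_lt (a b : R) (V : ℕ) (ha : IsDiscreteValuationRing.addVal R a = V)
    (hb : ((V : ℕ∞) + 1) ≤ IsDiscreteValuationRing.addVal R b) :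
    IsDiscreteValuationRing.addVal R (a + b) = V := by
  apply le_antisymm
  · by_contra hcon
    push Not at hcon
    have h1 := IsDiscreteValuationRing.addVal_add (a := a + b) (b := -b)
    rw [add_neg_cancel_right, addVal_neg', ha] at h1
    have h2 : (V : ℕ∞) < min (IsDiscreteValuationRing.addVal R (a + b))
        (IsDiscreteValuationRing.addVal R b) := by
      rw [lt_min_iff]
      refine ⟨hcon, lt_of_lt_of_le ?_ hb⟩
      exact ENat.lt_add_one_iff (ENat.natCast_ne_top V) |>.2 le_rfl
    exact absurd h1 (not_le.2 h2)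
  · have h1 := IsDiscreteValuationRing.addVal_add (a := a) (b := b)
    refine le_trans ?_ h1
    rw [ha, le_min_iff]
    exact ⟨le_rfl, le_trans le_self_add hb⟩

theorem addVal_sum_eq {ι : Type*} [DecidableEq ι] (S : Finset ι) (x : ι → R) (p₀ : ι)
    (hp₀ : p₀ ∈ S) (V : ℕ) (h0 : IsDiscreteValuationRing.addVal R (x p₀) = V)
    (hlt : ∀ p ∈ S, p ≠ p₀ → (V : ℕ∞) < IsDiscreteValuationRing.addVal R (x p)) :
    IsDiscreteValuationRing.addVal R (∑ p ∈ S, x p) = V := by
  rw [← Finset.add_sum_erase S x hp₀]
  apply addVal_add_eq_of_lt _ _ V h0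
  apply Finset.sum_induction _ (fun y => ((V : ℕ∞) + 1) ≤ IsDiscreteValuationRing.addVal R y)
  · intro a b ha hb
    exact le_trans (le_min ha hb) IsDiscreteValuationRing.addVal_add
  · rw [IsDiscreteValuationRing.addVal_zero]; exact le_top
  · intro p hp
    have := hlt p (Finset.mem_of_mem_erase hp) (Finset.ne_of_mem_erase hp)
    exact Order.add_one_le_of_lt this

end Ultra


open Polynomial IsLocalRing in
/-- Let R be a complete discrete valuation ring with fraction field K, and f a polynomial over R with
non-zero constant term a₀ such that a₀ does not divide some coefficient of f of positive degree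
(equivalently, the Newton polygon of f has a side of negative slope). Let b be the power series over
K with b · f = a₀, the expansion of the geometric series in 1 − f/a₀. Then the valuations of the
coefficients b_j are not bounded below: for every non-zero c in R there is an index j with c · b_j
outside R. -/
theorem result
    (R : Type u) [CommRing R] [IsDomain R] [IsDiscreteValuationRing R]
    [IsAdicComplete (maximalIdeal R) R]
    (K : Type u) [Field K] [Algebra R K] [IsFractionRing R K]
    (f : R[X]) (h0 : f.coeff 0 ≠ 0) (hslope : ∃ i : ℕ, 0 < i ∧ ¬ (f.coeff 0 ∣ f.coeff i))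
    (b : PowerSeries K)
    (hb : b * ((f.map (algebraMap R K) : K[X]) : PowerSeries K) = PowerSeries.C (algebraMap R K (f.coeff 0))) :
    ∀ c : R, c ≠ 0 → ∃ j : ℕ, algebraMap R K c * PowerSeries.coeff j b ∉ (algebraMap R K).range := by
  classical
  intro c hc
  by_contra hcon
  push Not at hcon
  choose g hg using hcon
  set φ := algebraMap R K with hφ
  have hinj : Function.Injective φ := IsFractionRing.injective R K
  set a₀ := f.coeff 0 with ha₀
  -- key identity
  have key : ∀ n, ∑ p ∈ Finset.antidiagonal n, g p.1 * f.coeff p.2 =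
      if n = 0 then c * a₀ else 0 := by
    intro n
    apply hinj
    have := congrArg (PowerSeries.coeff n) hb
    rw [PowerSeries.coeff_mul, PowerSeries.coeff_C] at this
    simp only [Polynomial.coeff_coe, Polynomial.coeff_map] at this
    rw [map_sum]
    simp only [map_mul, hg]
    have h2 := congrArg (fun y => φ c * y) this
    simp only [Finset.mul_sum] at h2
    rw [show (∑ p ∈ Finset.antidiagonal n, φ c * PowerSeries.coeff p.1 b * φ (f.coeff p.2)) =
      ∑ p ∈ Finset.antidiagonal n, φ c * (PowerSeries.coeff p.1 b * φ (f.coeff p.2)) from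
      Finset.sum_congr rfl fun p _ => by ring, h2]
    split_ifs <;> simp
  have hg0 : g 0 = c := by
    have := key 0
    simp only [Finset.Nat.antidiagonal_zero, Finset.sum_singleton, if_true] at this
    exact mul_right_cancel₀ h0 this
  set v := IsDiscreteValuationRing.addVal R with hv
  have hfin : ∀ r : R, r ≠ 0 → ∃ k : ℕ, v r = k := by
    intro r hr
    have : v r ≠ ⊤ := by
      rw [hv, Ne, IsDiscreteValuationRing.addVal_eq_top_iff]; exact hr
    exact ⟨(v r).toNat, (ENat.natCast_toNat this).symm⟩
  have hs : ∃ k : ℕ, ∃ i, v (f.coeff i) = k := by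
    obtain ⟨k, hk⟩ := hfin _ h0
    exact ⟨k, 0, hk⟩
  have ht : ∃ k : ℕ, ∃ j, v (g j) = k := by
    obtain ⟨k, hk⟩ := hfin c hc
    exact ⟨k, 0, by rw [hg0]; exact hk⟩
  set s := Nat.find hs with hs_def
  set t := Nat.find ht with ht_def
  have hi₀ : ∃ i, v (f.coeff i) = s := Nat.find_spec hs
  have hj₀ : ∃ j, v (g j) = t := Nat.find_spec ht
  set i₀ := Nat.find hi₀ with hi₀_def
  set j₀ := Nat.find hj₀ with hj₀_def
  have hvi₀ : v (f.coeff i₀) = s := Nat.find_spec hi₀
  have hvj₀ : v (g j₀) = t := Nat.find_spec hj₀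
  have hsle : ∀ i, (s : ℕ∞) ≤ v (f.coeff i) := by
    intro i
    by_cases hi : f.coeff i = 0
    · rw [hi, hv, IsDiscreteValuationRing.addVal_zero]; exact le_top
    · obtain ⟨k, hk⟩ := hfin _ hi
      rw [hk]
      exact_mod_cast Nat.find_min' hs ⟨i, hk⟩
  have htle : ∀ j, (t : ℕ∞) ≤ v (g j) := by
    intro j
    by_cases hj : g j = 0
    · rw [hj, hv, IsDiscreteValuationRing.addVal_zero]; exact le_top
    · obtain ⟨k, hk⟩ := hfin _ hj
      rw [hk]
      exact_mod_cast Nat.find_min' ht ⟨j, hk⟩
  have hslt : ∀ i < i₀, (s : ℕ∞) < v (f.coeff i) := by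
    intro i hi
    exact lt_of_le_of_ne (hsle i) (fun h => Nat.find_min hi₀ hi h.symm)
  have htlt : ∀ j < j₀, (t : ℕ∞) < v (g j) := by
    intro j hj
    exact lt_of_le_of_ne (htle j) (fun h => Nat.find_min hj₀ hj h.symm)
  -- the coefficient of index j₀ + i₀
  have hval : v (∑ p ∈ Finset.antidiagonal (j₀ + i₀), g p.1 * f.coeff p.2) = (t + s : ℕ) := by
    apply addVal_sum_eq _ _ (j₀, i₀) (Finset.mem_antidiagonal.2 rfl)
    · show IsDiscreteValuationRing.addVal R (g j₀ * f.coeff i₀) = ((t + s : ℕ) : ℕ∞)
      rw [IsDiscreteValuationRing.addVal_mul, ← hv, hvj₀, hvi₀]; push_cast; rfl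
    · rintro ⟨j, i⟩ hp hne
      rw [Finset.mem_antidiagonal] at hp
      show ((t + s : ℕ) : ℕ∞) < IsDiscreteValuationRing.addVal R (g j * f.coeff i)
      rw [IsDiscreteValuationRing.addVal_mul, ← hv]
      push_cast
      rcases lt_trichotomy j j₀ with hj | hj | hj
      · have h1 := htlt j hj
        have h2 := hsle i
        calc (t : ℕ∞) + s < v (g j) + s := by
              exact (ENat.add_lt_add_iff_right (ENat.natCast_ne_top s)).2 h1
          _ ≤ v (g j) + v (f.coeff i) := add_le_add_right h2 _
      · exfalso; apply hne; simp only at hp ⊢; subst hj; congr 1; omega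
      · have hi : i < i₀ := by simp only at hp; omega
        have h1 := htle j
        have h2 := hslt i hi
        calc (t : ℕ∞) + s < t + v (f.coeff i) := by
              exact (ENat.add_lt_add_iff_left (ENat.natCast_ne_top t)).2 h2
          _ ≤ v (g j) + v (f.coeff i) := add_le_add_left h1 _
  have hne0 : (∑ p ∈ Finset.antidiagonal (j₀ + i₀), g p.1 * f.coeff p.2) ≠ 0 := by
    intro h
    rw [h, hv, IsDiscreteValuationRing.addVal_zero] at hval
    exact ENat.natCast_ne_top _ hval.symm
  rw [key] at hne0
  have hn0 : j₀ + i₀ = 0 := by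
    by_contra hn
    rw [if_neg hn] at hne0
    exact hne0 rfl
  have hi0 : i₀ = 0 := by omega
  obtain ⟨i, -, hi⟩ := hslope
  apply hi
  rw [← IsDiscreteValuationRing.addVal_le_iff_dvd, ← hv]
  have := hsle i
  rw [← hvi₀, hi0] at this
  exact this

end Groth.Agent.S17721
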