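import Groth.Statements.S17725
-- import your own Groth.Agent.* helpers here

set_option autoImplicit false
universe u
open SpecSp

namespace Groth.Agent.S17725

open AlgebraicGeometry in
/-- In a connected Noetherian scheme any two points p, q are linked by a finite chain of points p = x₁,
…, xₙ = q such that for each i one of x_i, x_{i+1} is a specialization of the other; equivalently, p
and q are related by the equivalence relation generated by the specialization relation. -/
theorem result
    (X : Scheme.{u}) [IsNoetherian X] [ConnectedSpace X] (p q : X) :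
    Relation.EqvGen (fun x y : X => x ⤳ y) p q := by
  classical
  set S : Set X := {x | Relation.EqvGen (fun x y : X => x ⤳ y) p x} with hS
  have key : ∀ Z ∈ irreducibleComponents X, ∀ z ∈ Z, ∀ w ∈ Z,
      Relation.EqvGen (fun x y : X => x ⤳ y) z w := by
    intro Z hZ z hz w hw
    have hirr : IsIrreducible Z := hZ.1
    have hcl := isClosed_of_mem_irreducibleComponents Z hZ
    have hη : closure ({hirr.genericPoint} : Set X) = Z := hirr.closure_genericPoint hcl
    have h1 : hirr.genericPoint ⤳ z := by rw [specializes_iff_mem_closure, hη]; exact hz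
    have h2 : hirr.genericPoint ⤳ w := by rw [specializes_iff_mem_closure, hη]; exact hw
    exact Relation.EqvGen.trans _ _ _ (Relation.EqvGen.symm _ _ (Relation.EqvGen.rel _ _ h1))
      (Relation.EqvGen.rel _ _ h2)
  have hfin := TopologicalSpace.NoetherianSpace.finite_irreducibleComponents (α := X)
  have hSeq : S = ⋃ Z ∈ {Z | Z ∈ irreducibleComponents X ∧ (Z ∩ S).Nonempty}, Z := by
    ext x
    simp only [Set.mem_iUnion, exists_prop]
    constructor
    · intro hx
      exact ⟨irreducibleComponent x, ⟨irreducibleComponent_mem_irreducibleComponents x, x,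
        mem_irreducibleComponent, hx⟩, mem_irreducibleComponent⟩
    · rintro ⟨Z, ⟨hZ, y, hyZ, hyS⟩, hxZ⟩
      exact Relation.EqvGen.trans _ _ _ hyS (key Z hZ y hyZ x hxZ)
  have hScomp : Sᶜ = ⋃ Z ∈ {Z | Z ∈ irreducibleComponents X ∧ (Z ∩ Sᶜ).Nonempty}, Z := by
    ext x
    simp only [Set.mem_iUnion, exists_prop]
    constructor
    · intro hx
      exact ⟨irreducibleComponent x, ⟨irreducibleComponent_mem_irreducibleComponents x, x,
        mem_irreducibleComponent, hx⟩, mem_irreducibleComponent⟩
    · rintro ⟨Z, ⟨hZ, y, hyZ, hyS⟩, hxZ⟩ hxS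
      exact hyS (Relation.EqvGen.trans _ _ _ hxS (key Z hZ x hxZ y hyZ))
  have hSclosed : IsClosed S := by
    rw [hSeq]
    exact Set.Finite.isClosed_biUnion (hfin.subset (fun Z hZ => hZ.1))
      (fun Z hZ => isClosed_of_mem_irreducibleComponents Z hZ.1)
  have hScclosed : IsClosed Sᶜ := by
    rw [hScomp]
    exact Set.Finite.isClosed_biUnion (hfin.subset (fun Z hZ => hZ.1))
      (fun Z hZ => isClosed_of_mem_irreducibleComponents Z hZ.1)
  have hclopen : IsClopen S := ⟨hSclosed, isClosed_compl_iff.1 hScclosed⟩
  have hpS : p ∈ S := Relation.EqvGen.refl p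
  rcases isClopen_iff.1 hclopen with h | h
  · rw [h] at hpS; exact hpS.elim
  · have : q ∈ S := by rw [h]; trivial
    exact this

end Groth.Agent.S17725
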