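import Groth.Statements.S17726
import Mathlib.Algebra.Ring.NonZeroDivisors
import Mathlib.Algebra.Group.Units.Basic
-- import your own Groth.Agent.* helpers here

set_option autoImplicit false
universe u
open CAlg

namespace Groth.Agent.S17726

/-- Let f and g be non-zero-divisors of a commutative ring A, not both units; think of them as local
equations, at a point of the union of the supports, of two effective Cartier divisors E and D. If
the ideals generated by g^{m₁} and f^{n₁} coincide, and likewise for g^{m₂} and f^{n₂}, then m₁ n₂ =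
m₂ n₁. So all pairs (m, n) with m D = n E locally at the point are proportional, and the saturation
of the monoid they form is generated by a single element. -/
theorem isUnit_of_pow_dvd_pow_lt {A : Type*} [CommRing A] (x : A) (hx : x ∈ nonZeroDivisors A)
    (a b : ℕ) (hab : a < b) (h : x ^ b ∣ x ^ a) : IsUnit x := by
  obtain ⟨c, hc⟩ := h
  have hxa : x ^ a ∈ nonZeroDivisors A := pow_mem hx a
  have h2 : x ^ a * (x ^ (b - a) * c) = x ^ a * 1 := by
    rw [mul_one, ← mul_assoc, ← pow_add, Nat.add_sub_cancel' hab.le, ← hc]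
  have h1 : x ^ (b - a) * c = 1 := (mul_cancel_left_mem_nonZeroDivisors hxa).mp h2
  have : IsUnit (x ^ (b - a)) := IsUnit.of_mul_eq_one _ h1
  exact (isUnit_pow_iff (by omega)).mp this

theorem isUnit_of_pow_dvd_pow_ne {A : Type*} [CommRing A] (x : A) (hx : x ∈ nonZeroDivisors A)
    (a b : ℕ) (hab : a ≠ b) (h1 : x ^ b ∣ x ^ a) (h2 : x ^ a ∣ x ^ b) : IsUnit x := by
  rcases Nat.lt_or_gt_of_ne hab with h | h
  · exact isUnit_of_pow_dvd_pow_lt x hx a b h h1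
  · exact isUnit_of_pow_dvd_pow_lt x hx b a h h2

theorem result
    (A : Type u) [CommRing A] (f g : A)
    (hf : f ∈ nonZeroDivisors A) (hg : g ∈ nonZeroDivisors A) (hfg : ¬ (IsUnit f ∧ IsUnit g))
    (m₁ n₁ m₂ n₂ : ℕ)
    (h₁ : Ideal.span {g ^ m₁} = Ideal.span {f ^ n₁})
    (h₂ : Ideal.span {g ^ m₂} = Ideal.span {f ^ n₂}) :
    m₁ * n₂ = m₂ * n₁ := by
  have e1 := Ideal.span_singleton_le_span_singleton.mp h₁.le
  have e1' := Ideal.span_singleton_le_span_singleton.mp h₁.ge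
  have e2 := Ideal.span_singleton_le_span_singleton.mp h₂.le
  have e2' := Ideal.span_singleton_le_span_singleton.mp h₂.ge
  -- e1 : f ^ n₁ ∣ g ^ m₁, e1' : g ^ m₁ ∣ f ^ n₁
  by_contra hne
  apply hfg
  constructor
  · apply isUnit_of_pow_dvd_pow_ne f hf (m₁ * n₂) (m₂ * n₁) hne
    · -- f ^ (m₂ n₁) ∣ f ^ (m₁ n₂)
      calc f ^ (m₂ * n₁) = (f ^ n₁) ^ m₂ := by rw [← pow_mul, mul_comm]
        _ ∣ (g ^ m₁) ^ m₂ := pow_dvd_pow_of_dvd e1 _
        _ = (g ^ m₂) ^ m₁ := by rw [← pow_mul, ← pow_mul, mul_comm]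
        _ ∣ (f ^ n₂) ^ m₁ := pow_dvd_pow_of_dvd e2' _
        _ = f ^ (m₁ * n₂) := by rw [← pow_mul, mul_comm]
    · calc f ^ (m₁ * n₂) = (f ^ n₂) ^ m₁ := by rw [← pow_mul, mul_comm]
        _ ∣ (g ^ m₂) ^ m₁ := pow_dvd_pow_of_dvd e2 _
        _ = (g ^ m₁) ^ m₂ := by rw [← pow_mul, ← pow_mul, mul_comm]
        _ ∣ (f ^ n₁) ^ m₂ := pow_dvd_pow_of_dvd e1' _
        _ = f ^ (m₂ * n₁) := by rw [← pow_mul, mul_comm]
  · apply isUnit_of_pow_dvd_pow_ne g hg (m₁ * n₂) (m₂ * n₁) hne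
    · calc g ^ (m₂ * n₁) = (g ^ m₂) ^ n₁ := by rw [← pow_mul]
        _ ∣ (f ^ n₂) ^ n₁ := pow_dvd_pow_of_dvd e2' _
        _ = (f ^ n₁) ^ n₂ := by rw [← pow_mul, ← pow_mul, mul_comm]
        _ ∣ (g ^ m₁) ^ n₂ := pow_dvd_pow_of_dvd e1 _
        _ = g ^ (m₁ * n₂) := by rw [← pow_mul]
    · calc g ^ (m₁ * n₂) = (g ^ m₁) ^ n₂ := by rw [← pow_mul]
        _ ∣ (f ^ n₁) ^ n₂ := pow_dvd_pow_of_dvd e1' _
        _ = (f ^ n₂) ^ n₁ := by rw [← pow_mul, ← pow_mul, mul_comm]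
        _ ∣ (g ^ m₂) ^ n₁ := pow_dvd_pow_of_dvd e2 _
        _ = g ^ (m₂ * n₁) := by rw [← pow_mul]

end Groth.Agent.S17726
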