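import Groth.Statements.S17753
import Groth.Agent.Lib.Helper26.ArithRank
-- import your own Groth.Agent.* helpers here

set_option autoImplicit false
universe u
open LocCoh

namespace Groth.Agent.S17753

/-- Let R be a Noetherian local ring of Krull dimension d and I a proper ideal of R. Then there are d
elements f_1, …, f_d of I such that I and the ideal they generate have the same radical, so the
arithmetic rank of I is at most d. (The published statement has no properness hypothesis; for the
unit ideal of a field, d = 0 and no empty family generates the unit ideal up to radical, and the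
published proof uses that the maximal ideal contains I.) -/
theorem result (R : Type u) [CommRing R] [IsNoetherianRing R] [IsLocalRing R] (d : ℕ) (hd : ringKrullDim R = d) (I : Ideal R) (hI : I ≠ ⊤) : ∃ f : Fin d → R, (∀ i, f i ∈ I) ∧ I.radical = (Ideal.span (Set.range f)).radical := by
  obtain ⟨f, hfI, hf⟩ := Groth.Agent.Lib.Helper26.ArithRank.exists_family I d
  refine ⟨f, hfI, ?_⟩
  have hm : (IsLocalRing.maximalIdeal R).height = d := by
    have := IsLocalRing.maximalIdeal_height_eq_ringKrullDim (R := R)
    rw [hd] at this
    exact_mod_cast this
  rw [Ideal.radical_eq_sInf, Ideal.radical_eq_sInf]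
  congr 1
  ext p
  simp only [Set.mem_ofPred_eq]
  constructor
  · rintro ⟨hIp, hp⟩
    exact ⟨Ideal.span_le.2 (by rintro _ ⟨i, rfl⟩; exact hIp (hfI i)), hp⟩
  · rintro ⟨hfp, hp⟩
    refine ⟨?_, hp⟩
    by_contra hIp
    have h1 := hf p hfp hIp
    have hpm : p ≠ IsLocalRing.maximalIdeal R := fun h => hIp (h ▸ IsLocalRing.le_maximalIdeal hI)
    have hlt : p < IsLocalRing.maximalIdeal R :=
      lt_of_le_of_ne (IsLocalRing.le_maximalIdeal hp.ne_top) hpm
    have h2 := Ideal.height_add_one_le_of_lt_of_isPrime hlt
    rw [hm] at h2
    have := (add_le_add_left h1 1).trans h2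
    norm_cast at this
    omega

end Groth.Agent.S17753
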