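import Groth.Statements.S17754
import Mathlib
-- import your own Groth.Agent.* helpers here

set_option autoImplicit false
universe u
open CAlg

namespace Groth.Agent.S17754

/-- Let R be a complete Noetherian local ring with maximal ideal m, and let I_0 ⊇ I_1 ⊇ I_2 ⊇ ⋯ be a
descending sequence of ideals of R whose intersection is zero. Then for every natural number n there
is an index s with I_s contained in m^n; that is, the filtration by the I_s is at least as fine as
the m-adic one. -/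
theorem result (R : Type u) [CommRing R] [IsNoetherianRing R] [IsLocalRing R] [IsAdicComplete (IsLocalRing.maximalIdeal R) R] (I : ℕ → Ideal R) (hI : Antitone I) (hinf : ⨅ s, I s = ⊥) (n : ℕ) : ∃ s : ℕ, I s ≤ IsLocalRing.maximalIdeal R ^ n := by
  classical
  set m := IsLocalRing.maximalIdeal R with hmdef
  -- Artinian stabilization modulo `m ^ k`
  have stab : ∀ k, 1 ≤ k → ∃ σ, ∀ s, σ ≤ s → I s ⊔ m ^ k = I σ ⊔ m ^ k := by
    intro k hk
    have hmin : m ∈ (m ^ k).minimalPrimes := by
      refine ⟨⟨(IsLocalRing.maximalIdeal.isMaximal R).isPrime, Ideal.pow_le_self (by omega)⟩,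
        fun q hq _ => ?_⟩
      have := hq.1
      exact Ideal.IsPrime.le_of_pow_le hq.2
    have : IsArtinianRing (R ⧸ m ^ k) :=
      IsLocalRing.quotient_artinian_of_mem_minimalPrimes_of_isLocalRing _ hmin
    let f : ℕ →o (Ideal (R ⧸ m ^ k))ᵒᵈ :=
      ⟨fun s => (I s).map (Ideal.Quotient.mk _), fun a b hab => Ideal.map_mono (hI hab)⟩
    obtain ⟨σ, hσ⟩ := IsArtinian.monotone_stabilizes f
    refine ⟨σ, fun s hs => ?_⟩
    have h2 := congrArg (Ideal.comap (Ideal.Quotient.mk (m ^ k))) (hσ s hs)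
    change Ideal.comap _ ((I σ).map _) = Ideal.comap _ ((I s).map _) at h2
    rw [Ideal.comap_map_of_surjective _ Ideal.Quotient.mk_surjective,
      Ideal.comap_map_of_surjective _ Ideal.Quotient.mk_surjective] at h2
    have hk : Ideal.comap (Ideal.Quotient.mk (m ^ k)) ⊥ = m ^ k := by
      rw [← RingHom.ker_eq_comap_bot, Ideal.mk_ker]
    rw [hk] at h2
    exact h2.symm
  -- Krull: ideals are closed
  have krull : ∀ (J : Ideal R) (x : R), (∀ k, x ∈ J ⊔ m ^ k) → x ∈ J := by
    intro J x hx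
    have hH : IsHausdorff m (R ⧸ J) :=
      IsHausdorff.of_le_jacobson m (R ⧸ J) (IsLocalRing.maximalIdeal_le_jacobson _)
    have h0 : Ideal.Quotient.mk J x = 0 := IsHausdorff.haus hH _ fun k => by
      rw [SModEq.zero]
      obtain ⟨a, ha, b, hb, rfl⟩ := Submodule.mem_sup.1 (hx k)
      rw [map_add, Ideal.Quotient.eq_zero_iff_mem.2 ha, zero_add]
      have : Ideal.Quotient.mk J b = b • (1 : R ⧸ J) := by
        rw [Algebra.smul_def, mul_one]
        rfl
      rw [this]
      exact Submodule.smul_mem_smul hb Submodule.mem_top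
    exact Ideal.Quotient.eq_zero_iff_mem.1 h0
  by_contra hcon
  push Not at hcon
  rcases Nat.eq_zero_or_pos n with hn0 | hn
  · exact hcon 0 (by simp [hn0])
  choose σ hσ using fun k => stab (n + k) (by omega)
  let J : ℕ → Ideal R := fun k => I (σ k) ⊔ m ^ (n + k)
  have hJle : ∀ k s, J k ≤ I s ⊔ m ^ (n + k) := by
    intro k s
    by_cases hs : σ k ≤ s
    · rw [hσ k s hs]
    · exact sup_le_sup_right (hI (by omega)) _
  have hJsucc : ∀ k, J k ≤ J (k + 1) ⊔ m ^ (n + k) := by
    intro k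
    have e1 := hσ k (max (σ k) (σ (k + 1))) (le_max_left _ _)
    have e2 := hσ (k + 1) (max (σ k) (σ (k + 1))) (le_max_right _ _)
    show I (σ k) ⊔ m ^ (n + k) ≤ (I (σ (k + 1)) ⊔ m ^ (n + (k + 1))) ⊔ m ^ (n + k)
    rw [← e1, ← e2]
    exact sup_le (le_sup_left.trans le_sup_left) le_sup_right
  have hJ0 : ¬ (J 0 : Set R) ⊆ (m ^ n : Ideal R) := fun h =>
    hcon (σ 0) (le_sup_left.trans (show J 0 ≤ m ^ n from h))
  obtain ⟨x0, hx0J, hx0m⟩ := Set.not_subset.1 hJ0
  have step : ∀ k y, y ∈ J k → ∃ z ∈ J (k + 1), z - y ∈ m ^ (n + k) := by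
    intro k y hy
    obtain ⟨z, hz, w, hw, rfl⟩ := Submodule.mem_sup.1 (hJsucc k hy)
    exact ⟨z, hz, by rw [show z - (z + w) = -w by ring]; exact neg_mem hw⟩
  choose nxt hnxtJ hnxtm using step
  let xs : (k : ℕ) → {y : R // y ∈ J k} := fun k =>
    Nat.rec ⟨x0, hx0J⟩ (fun k p => ⟨nxt k p.1 p.2, hnxtJ k p.1 p.2⟩) k
  let x : ℕ → R := fun k => (xs k).1
  have hxJ : ∀ k, x k ∈ J k := fun k => (xs k).2
  have hxsucc : ∀ k, x (k + 1) - x k ∈ m ^ (n + k) := fun k => hnxtm k _ (xs k).2
  have hx0 : x 0 = x0 := rfl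
  have hcauchy : ∀ a b, a ≤ b → x b - x a ∈ m ^ (n + a) := by
    intro a b hab
    induction b, hab using Nat.le_induction with
    | base => simp
    | succ b hab ih =>
      have h1 := hxsucc b
      have h2 : x (b + 1) - x b ∈ m ^ (n + a) := Ideal.pow_le_pow_right (by omega) h1
      have := Ideal.add_mem _ h2 ih
      rwa [sub_add_sub_cancel] at this
  obtain ⟨L, hL⟩ := IsPrecomplete.prec (inferInstance : IsPrecomplete m R) (f := x)
    (fun {a b} hab => by
      rw [SModEq.sub_mem, ← neg_mem_iff, neg_sub]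
      have := Ideal.pow_le_pow_right (by omega : a ≤ n + a) (hcauchy a b hab)
      simpa using this)
  have hL' : ∀ k, x k - L ∈ m ^ k := fun k => by
    have := SModEq.sub_mem.1 (hL k)
    simpa using this
  have hLI : ∀ s, L ∈ I s := by
    intro s
    apply krull
    intro k
    have hle : m ^ (n + k) ≤ m ^ k := Ideal.pow_le_pow_right (by omega)
    have h1 : x k ∈ I s ⊔ m ^ k := (sup_le_sup_left hle (I s)) (hJle k s (hxJ k))
    have h2 : x k - L ∈ I s ⊔ m ^ k := Submodule.mem_sup_right (hL' k)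
    have := Submodule.sub_mem _ h1 h2
    rwa [sub_sub_cancel] at this
  have hL0 : L = 0 := by
    have : L ∈ ⨅ s, I s := Submodule.mem_iInf _ |>.2 hLI
    rw [hinf] at this
    exact this
  apply hx0m
  have h1 := hL' n
  have h2 := hcauchy 0 n (Nat.zero_le n)
  rw [hL0, sub_zero] at h1
  rw [add_zero] at h2
  have := Ideal.sub_mem _ h1 h2
  rw [sub_sub_cancel, hx0] at this
  exact this

end Groth.Agent.S17754
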