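import Groth.Statements.S17781
import Mathlib.Data.Nat.Choose.Lucas
import Mathlib.Data.Nat.Factorization.Basic
import Mathlib.Tactic.Ring
-- import your own Groth.Agent.* helpers here

set_option autoImplicit false
open Variety

namespace Groth.Agent.S17781

/-- Lucas: `choose (p^j * m - 1) (p^j - 1) ≡ 1 [MOD p]` for `m ≥ 1`. -/
lemma choose_pow_sub_one_modEq (p : ℕ) [hp : Fact p.Prime] :
    ∀ (j m : ℕ), 1 ≤ m → (p ^ j * m - 1).choose (p ^ j - 1) ≡ 1 [MOD p]
  | 0, m, _ => by simpa using Nat.ModEq.refl 1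
  | j + 1, m, hm => by
    have hp1 : 1 ≤ p := hp.out.one_lt.le
    have hpos : 0 < p := hp.out.pos
    have ha : 1 ≤ p ^ j * m := Nat.one_le_iff_ne_zero.mpr
      (Nat.mul_ne_zero (pow_ne_zero _ hp.out.ne_zero) (by omega))
    have hb : 1 ≤ p ^ j := Nat.one_le_pow _ _ hpos
    have key : ∀ a : ℕ, 1 ≤ a → (p * a - 1) % p = p - 1 ∧ (p * a - 1) / p = a - 1 := by
      intro a ha'
      obtain ⟨a', rfl⟩ : ∃ a', a = a' + 1 := ⟨a - 1, by omega⟩
      have e : p * (a' + 1) - 1 = p * a' + (p - 1) := by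
        rw [Nat.mul_succ]
        generalize p * a' = t
        omega
      rw [e, Nat.mul_add_mod, Nat.mod_eq_of_lt (by omega), Nat.mul_add_div hpos,
        Nat.div_eq_of_lt (by omega)]
      simp
    have e1 : p ^ (j + 1) * m - 1 = p * (p ^ j * m) - 1 := by rw [pow_succ]; ring_nf
    have e2 : p ^ (j + 1) - 1 = p * p ^ j - 1 := by rw [pow_succ, mul_comm]
    have h := Choose.choose_modEq_choose_mod_mul_choose_div_nat (p := p)
      (n := p ^ (j + 1) * m - 1) (k := p ^ (j + 1) - 1)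
    rw [e1, e2] at h ⊢
    rw [(key _ ha).1, (key _ ha).2, (key _ hb).1, (key _ hb).2, Nat.choose_self,
      one_mul] at h
    exact h.trans (choose_pow_sub_one_modEq p j m hm)

lemma not_dvd_choose (p : ℕ) [hp : Fact p.Prime] (j d : ℕ) (hd : 1 ≤ d) (hpd : p ^ j ∣ d) :
    ¬ p ∣ (d - 1).choose (p ^ j - 1) := by
  obtain ⟨m, rfl⟩ := hpd
  have hm : 1 ≤ m := by
    rcases Nat.eq_zero_or_pos m with h | h
    · subst h; simp at hd
    · exact h
  have h := choose_pow_sub_one_modEq p j m hm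
  intro hdvd
  have h0 : (p ^ j * m - 1).choose (p ^ j - 1) % p = 0 := Nat.mod_eq_zero_of_dvd hdvd
  rw [Nat.ModEq, h0, Nat.mod_eq_of_lt hp.out.one_lt] at h
  exact zero_ne_one h


/-- Let d ≥ 1 and N ≥ 1 be integers and let I(d, N) be the greatest common divisor of the quotients d/δ
over the divisors δ of d with 1 ≤ δ ≤ N. Then I(d, N) equals the greatest common divisor of the
integers χ(d, n) = 1 − (−1)^n C(d − 1, n) for 1 ≤ n ≤ N (χ(d, n) is the Euler characteristic of O_H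
for a degree-d hypersurface H in projective n-space). Both greatest common divisors are taken in ℤ,
normalised to be non-negative. -/
theorem result (d N : ℕ) (hd : 1 ≤ d) (hN : 1 ≤ N) :
    (Finset.Icc 1 N).gcd (fun n => 1 - (-1 : ℤ) ^ n * ((d - 1).choose n : ℤ)) =
      ((Finset.Icc 1 N).filter (fun δ => δ ∣ d)).gcd (fun δ => ((d / δ : ℕ) : ℤ)) := by
  classical
  set χ : ℕ → ℤ := fun n => 1 - (-1 : ℤ) ^ n * ((d - 1).choose n : ℤ) with hχ
  have hχ0 : χ 0 = 0 := by simp [hχ]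
  have hχstep : ∀ i : ℕ, χ (i + 1) - χ i = (-1 : ℤ) ^ i * (d.choose (i + 1) : ℤ) := by
    intro i
    obtain ⟨d', rfl⟩ : ∃ d', d = d' + 1 := ⟨d - 1, by omega⟩
    simp only [hχ, Nat.add_sub_cancel, Nat.choose_succ_succ, Nat.cast_add, pow_succ]
    ring
  set G : ℤ := (Finset.Icc 1 N).gcd (fun i => (d.choose i : ℤ)) with hG
  set L : ℤ := (Finset.Icc 1 N).gcd χ with hL
  set Rr : ℤ := ((Finset.Icc 1 N).filter (fun δ => δ ∣ d)).gcd (fun δ => ((d / δ : ℕ) : ℤ))
    with hRr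
  -- (a) L ∣ G
  have hLG : L ∣ G := by
    apply Finset.dvd_gcd
    intro i hi
    rw [Finset.mem_Icc] at hi
    obtain ⟨i', rfl⟩ : ∃ i', i = i' + 1 := ⟨i - 1, by omega⟩
    have h1 : L ∣ χ (i' + 1) := Finset.gcd_dvd (Finset.mem_Icc.mpr hi)
    have h2 : L ∣ χ i' := by
      rcases Nat.eq_zero_or_pos i' with h | h
      · rw [h, hχ0]; exact dvd_zero _
      · exact Finset.gcd_dvd (Finset.mem_Icc.mpr ⟨h, by omega⟩)
    have h3 := dvd_sub h1 h2
    rw [hχstep] at h3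
    have h4 : (d.choose (i' + 1) : ℤ) = (-1 : ℤ) ^ i' * ((-1 : ℤ) ^ i' * (d.choose (i' + 1) : ℤ)) := by
      rw [← mul_assoc, ← pow_add, ← two_mul, pow_mul]
      simp
    rw [h4]
    exact Dvd.dvd.mul_left h3 _
  -- (b) G ∣ L
  have hGL : G ∣ L := by
    apply Finset.dvd_gcd
    have : ∀ n : ℕ, n ≤ N → G ∣ χ n := by
      intro n
      induction n with
      | zero => intro _; rw [hχ0]; exact dvd_zero _
      | succ n ih =>
        intro hn
        have h1 := ih (by omega)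
        have h2 : G ∣ (d.choose (n + 1) : ℤ) := Finset.gcd_dvd (Finset.mem_Icc.mpr ⟨by omega, hn⟩)
        have h3 : χ (n + 1) = χ n + (-1 : ℤ) ^ n * (d.choose (n + 1) : ℤ) := by
          rw [← hχstep]; ring
        rw [h3]
        exact dvd_add h1 (Dvd.dvd.mul_left h2 _)
    intro n hn
    exact this n (Finset.mem_Icc.mp hn).2
  -- (c) Rr ∣ G
  have hRG : Rr ∣ G := by
    apply Finset.dvd_gcd
    intro i hi
    rw [Finset.mem_Icc] at hi
    set δ := Nat.gcd d i with hδ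
    have hδpos : 0 < δ := Nat.gcd_pos_of_pos_right _ (by omega)
    have hδmem : δ ∈ (Finset.Icc 1 N).filter (fun δ => δ ∣ d) := by
      rw [Finset.mem_filter, Finset.mem_Icc]
      exact ⟨⟨hδpos, le_trans (Nat.gcd_le_right _ (by omega)) hi.2⟩, Nat.gcd_dvd_left _ _⟩
    have h1 : Rr ∣ ((d / δ : ℕ) : ℤ) := Finset.gcd_dvd hδmem
    refine h1.trans (Int.natCast_dvd_natCast.mpr ?_)
    -- (d/δ) ∣ choose d i
    obtain ⟨i', rfl⟩ : ∃ i', i = i' + 1 := ⟨i - 1, by omega⟩
    obtain ⟨d', rfl⟩ : ∃ d', d = d' + 1 := ⟨d - 1, by omega⟩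
    have hid := Nat.add_one_mul_choose_eq d' i'
    have hcop : Nat.Coprime ((d' + 1) / δ) ((i' + 1) / δ) :=
      Nat.coprime_div_gcd_div_gcd hδpos
    have hdδ : (d' + 1) / δ * δ = d' + 1 := Nat.div_mul_cancel (Nat.gcd_dvd_left _ _)
    have hiδ : (i' + 1) / δ * δ = i' + 1 := Nat.div_mul_cancel (Nat.gcd_dvd_right _ _)
    have h2 : (d' + 1) / δ * d'.choose i' = (d' + 1).choose (i' + 1) * ((i' + 1) / δ) := by
      apply Nat.eq_of_mul_eq_mul_right hδpos
      calc (d' + 1) / δ * d'.choose i' * δ = ((d' + 1) / δ * δ) * d'.choose i' := by ring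
        _ = (d' + 1).choose (i' + 1) * (i' + 1) := by rw [hdδ, hid]
        _ = (d' + 1).choose (i' + 1) * ((i' + 1) / δ * δ) := by rw [hiδ]
        _ = (d' + 1).choose (i' + 1) * ((i' + 1) / δ) * δ := by ring
    exact hcop.dvd_of_dvd_mul_right ⟨d'.choose i', by rw [h2]⟩
  -- (d) G ∣ Rr
  have hGR : G ∣ Rr := by
    apply Finset.dvd_gcd
    intro δ hδ
    rw [Finset.mem_filter, Finset.mem_Icc] at hδ
    obtain ⟨⟨hδ1, hδN⟩, hδd⟩ := hδ
    rw [← Int.natAbs_dvd_natAbs, Int.natAbs_natCast]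
    rw [Nat.dvd_iff_prime_pow_dvd_dvd]
    intro p k hp hpk
    have : Fact p.Prime := ⟨hp⟩
    set j := δ.factorization p with hj
    have hpjδ : p ^ j ∣ δ := Nat.ordProj_dvd δ p
    have hpjd : p ^ j ∣ d := hpjδ.trans hδd
    have hpj1 : 1 ≤ p ^ j := Nat.one_le_pow _ _ hp.pos
    have hpjN : p ^ j ≤ N := le_trans (Nat.le_of_dvd (by omega) hpjδ) hδN
    have h1 : G ∣ (d.choose (p ^ j) : ℤ) := Finset.gcd_dvd (Finset.mem_Icc.mpr ⟨hpj1, hpjN⟩)
    have h2 : p ^ k ∣ d.choose (p ^ j) := by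
      have := (Int.natAbs_dvd_natAbs.mpr h1)
      rw [Int.natAbs_natCast] at this
      exact hpk.trans this
    -- p^j * choose d (p^j) = d * choose (d-1) (p^j - 1)
    have hid : d * (d - 1).choose (p ^ j - 1) = d.choose (p ^ j) * p ^ j := by
      have := Nat.add_one_mul_choose_eq (d - 1) (p ^ j - 1)
      rwa [Nat.sub_add_cancel hd, Nat.sub_add_cancel hpj1] at this
    have h3 : p ^ (k + j) ∣ d * (d - 1).choose (p ^ j - 1) := by
      rw [hid, pow_add]
      exact Nat.mul_dvd_mul h2 dvd_rfl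
    have hcop : Nat.Coprime (p ^ (k + j)) ((d - 1).choose (p ^ j - 1)) :=
      Nat.Coprime.pow_left _ ((Nat.Prime.coprime_iff_not_dvd hp).mpr (not_dvd_choose p j d hd hpjd))
    have h4 : p ^ (k + j) ∣ d := hcop.dvd_of_dvd_mul_right h3
    -- d = p^j * δ' * (d/δ)
    set δ' := δ / p ^ j with hδ'
    have hδ'cop : Nat.Coprime p δ' := Nat.coprime_ordCompl hp (by omega)
    have hδeq : δ = p ^ j * δ' := (Nat.mul_div_cancel' hpjδ).symm
    have hd_eq : p ^ j * (δ' * (d / δ)) = d := by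
      rw [← mul_assoc, ← hδeq]
      exact Nat.mul_div_cancel' hδd
    have h4' : p ^ j * p ^ k ∣ p ^ j * (δ' * (d / δ)) := by
      rw [hd_eq, ← pow_add, add_comm]
      exact h4
    have h5 : p ^ k ∣ δ' * (d / δ) := Nat.dvd_of_mul_dvd_mul_left (pow_pos hp.pos j) h4'
    exact (Nat.Coprime.pow_left k hδ'cop).dvd_of_dvd_mul_left h5
  exact dvd_antisymm_of_normalize_eq Finset.normalize_gcd Finset.normalize_gcd
    (hLG.trans hGR) (hRG.trans hGL)

end Groth.Agent.S17781
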