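import Groth.Statements.S17859
import Mathlib.LinearAlgebra.Contraction
import Mathlib.RingTheory.Finiteness.Projective
-- import your own Groth.Agent.* helpers here

set_option autoImplicit false
open CategoryTheory MonoidalCategory
universe u
open Algz

namespace Groth.Agent.S17859

open TensorProduct

section LinAlg

variable {R : Type u} [CommRing R] {M : Type u} [AddCommGroup M] [Module R M]
  {n : ℕ} (x : Fin n → M) (φ : Fin n → Module.Dual R M)

/-- coevaluation attached to a finite dual basis -/
noncomputable def coevDB : R →ₗ[R] M ⊗[R] Module.Dual R M :=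
  LinearMap.toSpanSingleton R _ (∑ i, x i ⊗ₜ[R] φ i)

theorem coevDB_apply (r : R) : coevDB x φ r = ∑ i, (r • x i) ⊗ₜ[R] φ i := by
  simp [coevDB, Finset.smul_sum, TensorProduct.smul_tmul']

variable (hdb : ∀ m : M, ∑ i, φ i m • x i = m)
include hdb

theorem dualDB_sum (ψ : Module.Dual R M) : ∑ i, ψ (x i) • φ i = ψ := by
  ext m
  simp only [LinearMap.sum_apply, LinearMap.smul_apply, smul_eq_mul]
  conv_rhs => rw [← hdb m]
  simp only [map_sum, map_smul, smul_eq_mul]
  exact Finset.sum_congr rfl fun i _ => mul_comm _ _

theorem triangle1 :
    (contractLeft R M).rTensor _ ∘ₗ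
        (TensorProduct.assoc R _ _ _).symm.toLinearMap ∘ₗ
          (coevDB x φ).lTensor (Module.Dual R M) =
      (TensorProduct.lid R _).symm.toLinearMap ∘ₗ (TensorProduct.rid R _).toLinearMap := by
  apply TensorProduct.ext'
  intro ψ r
  simp only [LinearMap.coe_comp, Function.comp_apply, LinearEquiv.coe_toLinearMap,
    LinearMap.lTensor_tmul, coevDB_apply, TensorProduct.tmul_sum, map_sum,
    TensorProduct.assoc_symm_tmul, LinearMap.rTensor_tmul, contractLeft_apply,
    TensorProduct.rid_tmul, TensorProduct.lid_symm_apply]
  have : ∀ i, (ψ (r • x i)) ⊗ₜ[R] φ i = (1 : R) ⊗ₜ[R] ((r * ψ (x i)) • φ i) := by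
    intro i
    rw [TensorProduct.tmul_smul, TensorProduct.smul_tmul', smul_eq_mul, mul_one, map_smul,
      smul_eq_mul]
  simp only [this, ← TensorProduct.tmul_sum]
  congr 1
  simp only [mul_smul, ← Finset.smul_sum, dualDB_sum x φ hdb]

theorem triangle2 :
    (contractLeft R M).lTensor _ ∘ₗ
        (TensorProduct.assoc R _ _ _).toLinearMap ∘ₗ (coevDB x φ).rTensor M =
      (TensorProduct.rid R _).symm.toLinearMap ∘ₗ (TensorProduct.lid R _).toLinearMap := by
  apply TensorProduct.ext'
  intro r m
  simp only [LinearMap.coe_comp, Function.comp_apply, LinearEquiv.coe_toLinearMap,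
    LinearMap.rTensor_tmul, coevDB_apply, TensorProduct.sum_tmul, map_sum,
    TensorProduct.assoc_tmul, LinearMap.lTensor_tmul, contractLeft_apply,
    TensorProduct.lid_tmul, TensorProduct.rid_symm_apply]
  have : ∀ i, (r • x i) ⊗ₜ[R] (φ i m) = (φ i m • r • x i) ⊗ₜ[R] (1 : R) := by
    intro i
    rw [TensorProduct.smul_tmul (φ i m) (r • x i) (1 : R), smul_eq_mul, mul_one]
  simp only [this, ← TensorProduct.sum_tmul]
  congr 1
  rw [← hdb m, Finset.smul_sum]
  refine Finset.sum_congr rfl fun i _ => ?_
  rw [hdb m, smul_comm]

end LinAlg


/-- Over an affine scheme, that is for modules over a commutative ring `R`, a finitely generated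
projective `R`-module `M`, viewed as an object of the monoidal category of `R`-modules (tensor
product over `R`), has a right dual. (The published statement is the equivalence, for quasi-coherent
sheaves on a quasi-compact quasi-separated scheme, between being dualizable and being a vector
bundle; stated here is the affine case of the implication from vector bundle to dualizable. The
converse implication, that a module admitting a dual is finitely generated projective, is stated
separately and is not repeated here.) -/
theorem result (R : Type u) [CommRing R] (M : ModuleCat.{u} R)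
    [Module.Finite R M] [Module.Projective R M] : Nonempty (HasRightDual M) := by
  obtain ⟨n, f, g, -, -, hfg⟩ := Module.Finite.exists_comp_eq_id_of_projective R M
  let x : Fin n → M := fun i => f (Pi.single i 1)
  let φ : Fin n → Module.Dual R M := fun i => (LinearMap.proj i).comp g
  have hdb : ∀ m : M, ∑ i, φ i m • x i = m := by
    intro m
    have h1 : f (g m) = m := by simpa using congrArg (fun F => F m) hfg
    conv_rhs => rw [← h1]
    have h2 : g m = ∑ i, (g m i) • (Pi.single i (1 : R) : Fin n → R) := by
      ext j
      simp [Finset.sum_apply, Pi.single_apply]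
    rw [h2, map_sum]
    refine Finset.sum_congr rfl fun i _ => ?_
    simp [x, φ]
  let D : ModuleCat.{u} R := ModuleCat.of R (Module.Dual R M)
  let E : ExactPairing M D :=
    { coevaluation' := ModuleCat.ofHom (coevDB x φ)
      evaluation' := ModuleCat.ofHom (contractLeft R M)
      coevaluation_evaluation' := by
        ext : 1
        exact triangle1 x φ hdb
      evaluation_coevaluation' := by
        ext : 1
        exact triangle2 x φ hdb }
  exact ⟨⟨D⟩⟩

end Groth.Agent.S17859
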