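import Groth.Statements.S17863
import Mathlib.RingTheory.AdicCompletion.RingHom
import Mathlib.RingTheory.Spectrum.Prime.RingHom
-- import your own Groth.Agent.* helpers here

set_option autoImplicit false
open CategoryTheory AlgebraicGeometry
universe u
open Algz

namespace Groth.Agent.S17863

/-- Let `A` be a commutative ring which is `I`-adically complete for an ideal `I` and let `X` be a
quasi-affine scheme. Then the natural map from `X(A)` to compatible systems in the `X(A/I^n)` is
bijective: two morphisms `Spec A ⟶ X` with the same restriction to every `Spec (A/I^n)` are equal,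
and every family of morphisms `Spec (A/I^n) ⟶ X` compatible with the transition maps `Spec (A/I^n) ⟶
Spec (A/I^(n+1))` is the family of restrictions of a morphism `Spec A ⟶ X`. -/
theorem result (A : Type u) [CommRing A] (I : Ideal A) [IsAdicComplete I A]
    (X : Scheme.{u}) [X.IsQuasiAffine] :
    (∀ f g : Spec (CommRingCat.of A) ⟶ X,
      (∀ n : ℕ, Spec.map (CommRingCat.ofHom (Ideal.Quotient.mk (I ^ n))) ≫ f =
        Spec.map (CommRingCat.ofHom (Ideal.Quotient.mk (I ^ n))) ≫ g) → f = g) ∧
    (∀ e : ∀ n : ℕ, Spec (CommRingCat.of (A ⧸ I ^ n)) ⟶ X,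
      (∀ n : ℕ, Spec.map (CommRingCat.ofHom (Ideal.Quotient.factorPowSucc I n)) ≫ e (n + 1) = e n) →
      ∃ f : Spec (CommRingCat.of A) ⟶ X,
        ∀ n : ℕ, Spec.map (CommRingCat.ofHom (Ideal.Quotient.mk (I ^ n))) ≫ f = e n) := by
  set j := X.toSpecΓ with hj
  constructor
  · intro f g hfg
    let φ := Spec.preimage (f ≫ j)
    let ψ := Spec.preimage (g ≫ j)
    have hφ : Spec.map φ = f ≫ j := Spec.map_preimage _
    have hψ : Spec.map ψ = g ≫ j := Spec.map_preimage _
    have hn : ∀ n : ℕ, φ ≫ CommRingCat.ofHom (Ideal.Quotient.mk (I ^ n)) =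
        ψ ≫ CommRingCat.ofHom (Ideal.Quotient.mk (I ^ n)) := by
      intro n
      apply Spec.map_injective
      rw [Spec.map_comp, Spec.map_comp, hφ, hψ, ← Category.assoc, ← Category.assoc, hfg n]
    have hφψ : φ = ψ := by
      ext1
      apply RingHom.coe_inj
      apply IsHausdorff.funext' I
      intro n r
      have := congrArg (fun t => t.hom r) (hn n)
      simpa using this
    have : f ≫ j = g ≫ j := by rw [← hφ, ← hψ, hφψ]
    exact (cancel_mono j).mp this
  · intro e he
    let φ : ∀ n : ℕ, Γ(X, ⊤) ⟶ CommRingCat.of (A ⧸ I ^ n) := fun n => Spec.preimage (e n ≫ j)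
    have hφ : ∀ n, Spec.map (φ n) = e n ≫ j := fun n => Spec.map_preimage _
    have hcomp : ∀ n : ℕ, φ (n + 1) ≫ CommRingCat.ofHom (Ideal.Quotient.factorPowSucc I n) =
        φ n := by
      intro n
      apply Spec.map_injective
      rw [Spec.map_comp, hφ, hφ, ← Category.assoc, he n]
    let Φ : Γ(X, ⊤) →+* A := IsAdicComplete.StrictMono.liftRingHom I (a := id) strictMono_id
      (fun n => (φ n).hom) (fun {m} => by
        have := congrArg CommRingCat.Hom.hom (hcomp m)
        simpa using this)
    have hΦ : ∀ n : ℕ, (Ideal.Quotient.mk (I ^ n)).comp Φ = (φ n).hom := fun n =>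
      IsAdicComplete.StrictMono.mk_comp_liftRingHom I (a := id) strictMono_id _ _ (n := n)
    let F : Spec (CommRingCat.of A) ⟶ Spec Γ(X, ⊤) := Spec.map (CommRingCat.ofHom Φ)
    have hF : ∀ n : ℕ, Spec.map (CommRingCat.ofHom (Ideal.Quotient.mk (I ^ n))) ≫ F = e n ≫ j := by
      intro n
      rw [← hφ, ← Spec.map_comp]
      congr 1
      ext1
      exact hΦ n
    have hrange : Set.range F ⊆ Set.range j := by
      rintro _ ⟨p, rfl⟩
      obtain ⟨m, hm, hpm⟩ := Ideal.exists_le_maximal p.asIdeal p.isPrime.ne_top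
      have hIm : I ^ 1 ≤ m := by
        rw [pow_one]
        exact (IsAdicComplete.le_jacobson_bot I).trans
          (show (⊥ : Ideal A).jacobson ≤ m from sInf_le ⟨bot_le, hm⟩)
      have hmrange : (⟨m, hm.isPrime⟩ : PrimeSpectrum A) ∈ Set.range
          (PrimeSpectrum.comap (Ideal.Quotient.mk (I ^ 1))) := by
        rw [range_comap_of_surjective _ _ Ideal.Quotient.mk_surjective,
          Ideal.mk_ker]
        exact hIm
      obtain ⟨q, hq⟩ := hmrange
      let q' : Spec (CommRingCat.of (A ⧸ I ^ 1)) := q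
      have h2 : Spec.map (CommRingCat.ofHom (Ideal.Quotient.mk (I ^ 1))) q' =
          (⟨m, hm.isPrime⟩ : PrimeSpectrum A) := hq
      have h1 : F (Spec.map (CommRingCat.ofHom (Ideal.Quotient.mk (I ^ 1))) q') = j (e 1 q') := by
        rw [← Scheme.Hom.comp_apply, hF 1, Scheme.Hom.comp_apply]
      rw [h2] at h1
      have hFm : F ⟨m, hm.isPrime⟩ ∈ Set.range j := ⟨_, h1.symm⟩
      have hspec : p ⤳ (⟨m, hm.isPrime⟩ : PrimeSpectrum A) :=
        (PrimeSpectrum.le_iff_specializes p ⟨m, hm.isPrime⟩).mp hpm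
      exact (hspec.map F.continuous).mem_open (IsOpenImmersion.isOpen_range j) hFm
    refine ⟨IsOpenImmersion.lift j F hrange, fun n => ?_⟩
    apply (cancel_mono j).mp
    rw [Category.assoc, IsOpenImmersion.lift_fac, hF n]

end Groth.Agent.S17863
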