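import Groth.Statements.S17864
import Mathlib.RingTheory.Finiteness.Cardinality
-- import your own Groth.Agent.* helpers here

set_option autoImplicit false
universe u
open Algz

namespace Groth.Agent.S17864

lemma map_mem_smul_top {A : Type u} [CommRing A] (J : Ideal A) {M N : Type*} [AddCommGroup M]
    [Module A M] [AddCommGroup N] [Module A N] (φ : M →ₗ[A] N) {x : M}
    (hx : x ∈ (J • ⊤ : Submodule A M)) : φ x ∈ (J • ⊤ : Submodule A N) := by
  refine Submodule.smul_induction_on hx (fun r hr m _ => ?_) (fun a b ha hb => ?_)
  · rw [map_smul]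
    exact Submodule.smul_mem_smul hr Submodule.mem_top
  · rw [map_add]
    exact Submodule.add_mem _ ha hb

lemma isAdicComplete_of_retract {A : Type u} [CommRing A] (I : Ideal A) {F Q : Type*}
    [AddCommGroup F] [Module A F] [AddCommGroup Q] [Module A Q] [IsAdicComplete I F]
    (i : Q →ₗ[A] F) (r : F →ₗ[A] Q) (h : ∀ q, r (i q) = q) : IsAdicComplete I Q where
  haus' q hq := by
    have h0 : i q = 0 := IsHausdorff.haus (inferInstance : IsHausdorff I F) (i q) (fun n => by
      have := hq n
      rw [SModEq.zero] at this ⊢
      exact map_mem_smul_top _ i this)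
    rw [← h q, h0, map_zero]
  prec' f hf := by
    obtain ⟨L, hL⟩ := IsPrecomplete.prec' (I := I) (fun n => i (f n)) (fun {m n} hmn => by
      have := hf hmn
      rw [SModEq.sub_mem] at this ⊢
      rw [← map_sub]
      exact map_mem_smul_top _ i this)
    refine ⟨r L, fun n => ?_⟩
    have h1 := hL n
    rw [SModEq.sub_mem] at h1 ⊢
    have h2 := map_mem_smul_top _ r h1
    rwa [map_sub, h] at h2

lemma pi_isAdicComplete {A : Type u} [CommRing A] (I : Ideal A) [IsAdicComplete I A] (k : ℕ) :
    IsAdicComplete I (Fin k → A) where
  haus' v hv := by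
    funext j
    apply IsHausdorff.haus (inferInstance : IsHausdorff I A) (v j)
    intro n
    have := hv n
    rw [SModEq.zero] at this ⊢
    exact map_mem_smul_top _ (LinearMap.proj j) this
  prec' f hf := by
    have hc : ∀ j, ∃ L : A, ∀ n, f n j ≡ L [SMOD (I ^ n • ⊤ : Submodule A A)] := fun j =>
      IsPrecomplete.prec' (I := I) (fun n => f n j) (fun {m n} hmn => by
        have := hf hmn
        rw [SModEq.sub_mem] at this ⊢
        exact map_mem_smul_top _ (LinearMap.proj j) this)
    choose L hL using hc
    refine ⟨L, fun n => ?_⟩
    rw [SModEq.sub_mem]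
    have hv : f n - L = ∑ j, Pi.single j ((f n - L) j) := (Finset.univ_sum_single _).symm
    rw [hv]
    refine Submodule.sum_mem _ (fun j _ => ?_)
    have h1 := hL j n
    rw [SModEq.sub_mem] at h1
    have h2 := map_mem_smul_top _ (LinearMap.single A (fun _ => A) j) h1
    simpa using h2

lemma finite_projective_isAdicComplete (A : Type u) [CommRing A] (I : Ideal A)
    [IsAdicComplete I A] (Q : Type u) [AddCommGroup Q] [Module A Q] [Module.Finite A Q]
    [Module.Projective A Q] : IsAdicComplete I Q := by
  obtain ⟨k, π, hπ⟩ := Module.Finite.exists_fin' A Q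
  obtain ⟨s, hs⟩ := Module.projective_lifting_property π LinearMap.id hπ
  have := pi_isAdicComplete I (A := A) k
  exact isAdicComplete_of_retract I s π (fun q => by simpa using LinearMap.congr_fun hs q)


/-- The full-faithfulness assertion. Let `A` be a commutative ring which is `I`-adically complete for an
ideal `I`, and `P`, `Q` finitely generated projective `A`-modules. An `A`-linear map `P → Q` is
determined by its reductions modulo the powers `I^n`, and every family of `A`-linear maps `P/I^n P →
Q/I^n Q` compatible with the transition maps is the family of reductions of an `A`-linear map `P →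
Q`. (The companion assertion, that compatible systems of finite projective modules over the rings
`A/I^n` lift to `A`, is not restated here.) -/
theorem result (A : Type u) [CommRing A] (I : Ideal A)
    [IsAdicComplete I A] (P Q : Type u) [AddCommGroup P] [Module A P] [Module.Finite A P]
    [Module.Projective A P] [AddCommGroup Q] [Module A Q] [Module.Finite A Q] [Module.Projective A Q] :
    (∀ f f' : P →ₗ[A] Q, (∀ n : ℕ, f.reduceModIdeal (I ^ n) = f'.reduceModIdeal (I ^ n)) → f = f') ∧
    (∀ g : ∀ n : ℕ, P ⧸ (I ^ n • ⊤ : Submodule A P) →ₗ[A] Q ⧸ (I ^ n • ⊤ : Submodule A Q),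
      (∀ n : ℕ, AdicCompletion.transitionMap I Q (Nat.le_succ n) ∘ₗ g (n + 1) =
        g n ∘ₗ AdicCompletion.transitionMap I P (Nat.le_succ n)) →
      ∃ f : P →ₗ[A] Q, ∀ n : ℕ, f.reduceModIdeal (I ^ n) = g n) := by
  have hQ : IsAdicComplete I Q := finite_projective_isAdicComplete A I Q
  constructor
  · intro f f' hff'
    ext x
    have : f x - f' x = 0 := by
      apply IsHausdorff.haus (inferInstance : IsHausdorff I Q)
      intro n
      rw [SModEq.zero, ← Submodule.Quotient.eq]
      have := LinearMap.congr_fun (hff' n) (Submodule.Quotient.mk x)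
      simpa using this
    exact sub_eq_zero.mp this
  · intro g hg
    let φ : ∀ n : ℕ, P →ₗ[A] Q ⧸ (I ^ (id n) • ⊤ : Submodule A Q) := fun n =>
      g n ∘ₗ (I ^ n • ⊤ : Submodule A P).mkQ
    have hφ : ∀ {m : ℕ}, Submodule.factorPow I Q (strictMono_id.monotone m.le_succ) ∘ₗ φ (m + 1)
        = φ m := by
      intro m
      ext x
      have := LinearMap.congr_fun (hg m) (Submodule.Quotient.mk x)
      simp only [LinearMap.coe_comp, Function.comp_apply] at this
      simp only [φ, LinearMap.coe_comp, Function.comp_apply, Submodule.mkQ_apply]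
      rw [show Submodule.factorPow I Q (strictMono_id.monotone m.le_succ) =
        AdicCompletion.transitionMap I Q (Nat.le_succ m) from rfl, this]
      rfl
    refine ⟨IsAdicComplete.StrictMono.lift I strictMono_id φ hφ, fun n => ?_⟩
    apply LinearMap.ext
    intro x
    induction x using Submodule.Quotient.induction_on with
    | H x =>
      have := IsAdicComplete.StrictMono.mk_lift I strictMono_id φ hφ (n := n) x
      simp only [φ, LinearMap.coe_comp, Function.comp_apply, Submodule.mkQ_apply, id] at this
      rw [← this]
      rfl

end Groth.Agent.S17864
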