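import Groth.Statements.S17881
-- import your own Groth.Agent.* helpers here

set_option autoImplicit false
universe u
open CAlg

namespace Groth.Agent.S17881

theorem aux_unit {A : Type*} [CommRing A] (O : Subring A)
    (h2 : ∀ a : A, ¬ IsUnit a → a ∈ O) (h3 : ∀ u : Aˣ, (u : A) ∈ O ∨ ((u⁻¹ : Aˣ) : A) ∈ O)
    (f g : A) (hg : IsUnit g) :
    (∃ o ∈ O, f = g * o) ∨ (∃ o ∈ O, g = f * o) := by
  obtain ⟨v, rfl⟩ := hg
  by_cases hf : IsUnit f
  · obtain ⟨w, rfl⟩ := hf
    rcases h3 (v⁻¹ * w) with h | h
    · left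
      refine ⟨_, h, ?_⟩
      simp [Units.val_mul, ← mul_assoc]
    · right
      refine ⟨_, h, ?_⟩
      simp [Units.val_mul, mul_inv_rev, ← mul_assoc]
  · left
    refine ⟨(↑v⁻¹ : A) * f, h2 _ ?_, ?_⟩
    · intro hu
      apply hf
      have : f = (v : A) * ((↑v⁻¹ : A) * f) := by simp [← mul_assoc]
      rw [this]
      exact (Units.isUnit v).mul hu
    · simp [← mul_assoc]


/-- Let O be a subring of a nontrivial commutative ring A. The following are equivalent: (i) A is a
local ring, every non-unit of A belongs to O, and for every unit u of A one of u, u⁻¹ belongs to O —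
equivalently O is the preimage in the local ring A of a valuation ring of the residue field of A,
which makes O a semi-valuation ring with semi-fraction ring A; (ii) for all f, g in A generating the
unit ideal, either f ∈ gO or g ∈ fO. (A is taken nontrivial: over the zero ring (ii) holds and (i)
fails.) -/
theorem result (A : Type u) [CommRing A] [Nontrivial A]
    (O : Subring A) :
    (IsLocalRing A ∧ (∀ a : A, ¬ IsUnit a → a ∈ O) ∧ (∀ u : Aˣ, (u : A) ∈ O ∨ ((u⁻¹ : Aˣ) : A) ∈ O)) ↔
      ∀ f g : A, IsCoprime f g → (∃ o ∈ O, f = g * o) ∨ (∃ o ∈ O, g = f * o) := by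
  constructor
  · rintro ⟨hloc, h2, h3⟩ f g ⟨a, b, hab⟩
    have hu : IsUnit (a * f + b * g) := by rw [hab]; exact isUnit_one
    rcases IsLocalRing.isUnit_or_isUnit_of_isUnit_add hu with h | h
    · have hf : IsUnit f := isUnit_of_mul_isUnit_right h
      exact (aux_unit O h2 h3 g f hf).symm
    · have hg : IsUnit g := isUnit_of_mul_isUnit_right h
      exact aux_unit O h2 h3 f g hg
  · intro H
    refine ⟨?_, ?_, ?_⟩
    · refine IsLocalRing.of_isUnit_or_isUnit_one_sub_self fun a => ?_
      rcases H a (1 - a) ⟨1, 1, by ring⟩ with ⟨o, _, ho⟩ | ⟨o, _, ho⟩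
      · right
        refine IsUnit.of_mul_eq_one (a := 1 - a) (o + 1) ?_
        calc (1 - a) * (o + 1) = (1 - a) * o + (1 - a) := by ring
          _ = a + (1 - a) := by rw [← ho]
          _ = 1 := by ring
      · left
        refine IsUnit.of_mul_eq_one (a := a) (1 + o) ?_
        calc a * (1 + o) = a + a * o := by ring
          _ = a + (1 - a) := by rw [← ho]
          _ = 1 := by ring
    · intro a ha
      rcases H a 1 ⟨0, 1, by ring⟩ with ⟨o, ho, hao⟩ | ⟨o, _, hao⟩
      · rw [one_mul] at hao; rw [hao]; exact ho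
      · exact absurd (IsUnit.of_mul_eq_one (a := a) o hao.symm) ha
    · intro u
      rcases H u 1 ⟨0, 1, by ring⟩ with ⟨o, ho, huo⟩ | ⟨o, ho, huo⟩
      · left; rw [one_mul] at huo; rw [huo]; exact ho
      · right
        have : ((u⁻¹ : Aˣ) : A) = o := by
          calc ((u⁻¹ : Aˣ) : A) = ((u⁻¹ : Aˣ) : A) * ((u : A) * o) := by rw [← huo, mul_one]
            _ = o := by rw [← mul_assoc, Units.inv_mul, one_mul]
        rw [this]; exact ho

end Groth.Agent.S17881
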