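import Groth.Statements.S17882
import Mathlib.LinearAlgebra.Matrix.Adjugate
-- import your own Groth.Agent.* helpers here

set_option autoImplicit false
universe u
open CAlg

namespace Groth.Agent.S17882

/-- Let B be a commutative ring, r ≥ 1, N a finitely generated submodule of B^r, and n_1, …, n_r ∈ N.
Suppose the determinant of the matrix with rows n_1, …, n_r is a nonzerodivisor of B and that the
determinant of every matrix whose rows lie in N is a multiple of it (the image of the top exterior
power of N in that of B^r ≅ B is the principal ideal generated by n_1 ∧ ⋯ ∧ n_r, a nonzerodivisor).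
Then n_1, …, n_r are linearly independent over B and span N: N is free of rank r with this basis. -/
theorem result (B : Type u) [CommRing B] (r : ℕ) (hr : 0 < r)
    (N : Submodule B (Fin r → B)) (hN : N.FG) (n : Fin r → (Fin r → B)) (hn : ∀ i, n i ∈ N)
    (hgen : ∀ m : Fin r → (Fin r → B), (∀ i, m i ∈ N) →
      Matrix.det (Matrix.of m) ∈ Ideal.span {Matrix.det (Matrix.of n)})
    (hnzd : Matrix.det (Matrix.of n) ∈ nonZeroDivisors B) :
    LinearIndependent B n ∧ Submodule.span B (Set.range n) = N := by
  classical
  set M : Matrix (Fin r) (Fin r) B := Matrix.of n with hM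
  set d := M.det with hd
  have hmv : ∀ v : Fin r → B, Matrix.mulVec M.transpose v = ∑ i, v i • n i := by
    intro v
    funext j
    simp [Matrix.mulVec, dotProduct, Finset.sum_apply, hM, mul_comm]
  have hcancel : ∀ y : Fin r → B, d • y = 0 → y = 0 := by
    intro y hy
    funext j
    have := congrFun hy j
    simp only [Pi.smul_apply, smul_eq_mul, Pi.zero_apply] at this
    exact (mem_nonZeroDivisors_iff.1 hnzd).1 _ this
  constructor
  · rw [Fintype.linearIndependent_iff]
    intro g hg
    have h1 : Matrix.mulVec M.transpose g = 0 := by rw [hmv]; exact hg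
    have h2 : Matrix.mulVec (M.transpose.adjugate * M.transpose) g = 0 := by
      rw [← Matrix.mulVec_mulVec, h1, Matrix.mulVec_zero]
    rw [Matrix.adjugate_mul, Matrix.det_transpose, Matrix.smul_mulVec, Matrix.one_mulVec] at h2
    intro i
    exact congrFun (hcancel g h2) i
  · apply le_antisymm
    · rw [Submodule.span_le]
      rintro _ ⟨i, rfl⟩
      exact hn i
    · intro x hx
      have hrows : ∀ i, ∀ k, (M.updateRow i x) k ∈ N := by
        intro i k
        by_cases hk : k = i
        · subst hk; rw [Matrix.updateRow_self]; exact hx
        · rw [Matrix.updateRow_ne hk]; exact hn k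
      have hc : ∀ i, ∃ a : B, a * d = (M.updateRow i x).det := by
        intro i
        have := hgen (fun k => (M.updateRow i x) k) (hrows i)
        rw [Ideal.mem_span_singleton'] at this
        obtain ⟨a, ha⟩ := this
        refine ⟨a, ?_⟩
        rw [ha]
        rfl
      choose a ha using hc
      have hcr : Matrix.mulVec M.transpose (Matrix.cramer M.transpose x) = d • x := by
        rw [Matrix.mulVec_cramer, Matrix.det_transpose]
      rw [hmv] at hcr
      have hcr' : d • (x - ∑ i, a i • n i) = 0 := by
        rw [smul_sub, ← hcr, Finset.smul_sum]
        rw [sub_eq_zero]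
        refine Finset.sum_congr rfl fun i _ => ?_
        rw [Matrix.cramer_transpose_apply, ← ha i, smul_smul, mul_comm]
      have := hcancel _ hcr'
      rw [sub_eq_zero] at this
      rw [this]
      exact Submodule.sum_mem _ fun i _ => Submodule.smul_mem _ _ (Submodule.subset_span ⟨i, rfl⟩)

end Groth.Agent.S17882
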