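import Groth.Statements.S17962
-- import your own Groth.Agent.* helpers here

set_option autoImplicit false
open CategoryTheory CategoryTheory.Limits AlgebraicGeometry
universe u
open Hensel

namespace Groth.Agent.S17962

/-- Let i : X₀ ⟶ X be a closed immersion such that (X, X₀) is a henselian couple, i.e. for every finite
morphism g : Y ⟶ X every open-closed subset of Y ×_X X₀ is the inverse image under the first
projection of exactly one open-closed subset of Y. Then for every finite morphism h : Y ⟶ X the
couple (Y, Y ×_X X₀), with the first projection as closed immersion, is again henselian. -/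
theorem result {X X₀ : Scheme.{u}}
    (i : X₀ ⟶ X) [IsClosedImmersion i]
    (hX : ∀ (Y : Scheme.{u}) (g : Y ⟶ X), IsFinite g →
      ∀ V : Set ↥(pullback g (i)), IsClopen V →
        ∃! U : Set ↥Y, IsClopen U ∧ (pullback.fst g (i)).base ⁻¹' U = V)
    {Y : Scheme.{u}} (h : Y ⟶ X) [IsFinite h] :
    ∀ (Z : Scheme.{u}) (g : Z ⟶ Y), IsFinite g →
      ∀ V : Set ↥(pullback g (pullback.fst h i)), IsClopen V →
        ∃! U : Set ↥Z, IsClopen U ∧ (pullback.fst g (pullback.fst h i)).base ⁻¹' U = V := by
  intro Z g hg V hV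
  have hgh : IsFinite (g ≫ h) := by have := hg; infer_instance
  let e := pullbackRightPullbackFstIso h i g
  have key : ∀ U : Set Z, (pullback.fst g (pullback.fst h i)).base ⁻¹' U = V ↔
      (pullback.fst (g ≫ h) i).base ⁻¹' U = e.inv.base ⁻¹' V := by
    intro U
    rw [← pullbackRightPullbackFstIso_hom_fst h i g]
    constructor
    · rintro rfl
      ext x
      simp only [Set.mem_preimage, Scheme.Hom.comp_base, TopCat.comp_app]
      change _ ↔ (pullback.fst (g ≫ h) i) (e.hom (e.inv x)) ∈ U
      rw [Scheme.inv_hom_apply]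
    · intro hU
      ext x
      simp only [Set.mem_preimage, Scheme.Hom.comp_base, TopCat.comp_app]
      have := congrArg (fun S => e.hom x ∈ S) hU
      simp only [Set.mem_preimage, eq_iff_iff] at this
      change (pullback.fst (g ≫ h) i) (e.hom x) ∈ U ↔ _
      rw [this]
      change e.inv (e.hom x) ∈ V ↔ _
      rw [Scheme.hom_inv_apply]
  obtain ⟨U, ⟨hU1, hU2⟩, huniq⟩ := hX Z (g ≫ h) hgh (e.inv.base ⁻¹' V)
    (hV.preimage e.inv.continuous)
  exact ⟨U, ⟨hU1, (key U).2 hU2⟩, fun U' hU' => huniq U' ⟨hU'.1, (key U').1 hU'.2⟩⟩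

end Groth.Agent.S17962
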