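import Groth.Statements.S17969
import Mathlib.Tactic
import Mathlib.RingTheory.Polynomial.GaussLemma
import Mathlib.RingTheory.Adjoin.PowerBasis
import Mathlib.LinearAlgebra.Matrix.Charpoly.Minpoly
import Mathlib.RingTheory.Localization.BaseChange
import Mathlib.LinearAlgebra.Charpoly.ToMatrix
-- import your own Groth.Agent.* helpers here

set_option autoImplicit false
universe u
open scoped TensorProduct
open CAlg

namespace Groth.Agent.S17969

/-- Let A be an integrally closed domain with fraction field K and B a commutative A-algebra which is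
finite and torsion-free as an A-module and generated as an A-algebra by a single element x. Let P be
the characteristic polynomial of multiplication by 1 ⊗ x on the finite free K-module K ⊗_A B. Then P
has coefficients in A, namely P is the image of a monic polynomial over A, and the kernel of the
A-algebra map A[T] → B sending T to x is generated by that polynomial, so that B is A[T]/(P). -/
theorem result
    (A : Type u) [CommRing A] [IsDomain A] [IsIntegrallyClosed A]
    (B : Type u) [CommRing B] [Algebra A B] [Module.Finite A B] [NoZeroSMulDivisors A B]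
    (x : B) (hx : Algebra.adjoin A {x} = ⊤) :
    ∃ P : Polynomial A, P.Monic ∧
      Polynomial.map (algebraMap A (FractionRing A)) P =
        (LinearMap.mulLeft (FractionRing A) ((1 : FractionRing A) ⊗ₜ[A] x)).charpoly ∧
      RingHom.ker (Polynomial.aeval x).toRingHom = Ideal.span {P} := by
  set K := FractionRing A
  set y : K ⊗[A] B := (1 : K) ⊗ₜ[A] x with hy
  have hyint : IsIntegral K y := Algebra.IsIntegral.isIntegral y
  have hadj : Algebra.adjoin K {y} = ⊤ := by
    have := Algebra.TensorProduct.adjoin_one_tmul_image_eq_top (A := K) {x} hx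
    simpa using this
  set pb := PowerBasis.ofAdjoinEqTop hyint hadj
  have hchar : (LinearMap.mulLeft K y).charpoly = minpoly K y := by
    rw [← LinearMap.charpoly_toMatrix (LinearMap.mulLeft K y) pb.basis]
    have := charpoly_leftMulMatrix pb
    rw [PowerBasis.ofAdjoinEqTop_gen] at this
    rw [← this, Algebra.leftMulMatrix_apply]
    rfl
  have hxint : IsIntegral A x := Algebra.IsIntegral.isIntegral x
  set f := minpoly A x
  have hfm : f.Monic := minpoly.monic hxint
  have hfx : Polynomial.aeval x f = 0 := minpoly.aeval A x
  have hinj : Function.Injective (fun b : B => (1 : K) ⊗ₜ[A] b) := by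
    intro b1 b2 h
    have h' : TensorProduct.mk A K B 1 (b1 - b2) = 0 := by
      simp only [TensorProduct.mk_apply, TensorProduct.tmul_sub]
      exact sub_eq_zero.mpr h
    rw [IsLocalizedModule.eq_zero_iff (nonZeroDivisors A)] at h'
    obtain ⟨⟨s, hs⟩, hs0⟩ := h'
    have hs' : s ≠ 0 := nonZeroDivisors.ne_zero hs
    have := (smul_eq_zero.mp hs0).resolve_left hs'
    exact sub_eq_zero.mp this
  have haeval : ∀ g : Polynomial A, Polynomial.aeval y (g.map (algebraMap A K)) =
      (1 : K) ⊗ₜ[A] Polynomial.aeval x g := by
    intro g
    rw [Polynomial.aeval_map_algebraMap]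
    have : y = Algebra.TensorProduct.includeRight x := rfl
    rw [this, Polynomial.aeval_algHom_apply]
    rfl
  have hdvd : minpoly K y ∣ f.map (algebraMap A K) := by
    apply minpoly.dvd
    rw [haeval, hfx, TensorProduct.tmul_zero]
  obtain ⟨P, hP⟩ := IsIntegrallyClosed.eq_map_mul_C_of_dvd K hfm hdvd
  rw [(minpoly.monic hyint).leadingCoeff, Polynomial.C_1, mul_one] at hP
  have hPm : P.Monic := Polynomial.monic_of_injective (IsFractionRing.injective A K)
    (by rw [hP]; exact minpoly.monic hyint)
  refine ⟨P, hPm, by rw [hP, ← hchar], ?_⟩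
  ext g
  simp only [RingHom.mem_ker, AlgHom.toRingHom_eq_coe, AlgHom.coe_toRingHom,
    Ideal.mem_span_singleton]
  constructor
  · intro hg
    have h1 : minpoly K y ∣ g.map (algebraMap A K) := by
      apply minpoly.dvd
      rw [haeval, hg, TensorProduct.tmul_zero]
    rw [← hP] at h1
    rw [← Polynomial.modByMonic_eq_zero_iff_dvd hPm]
    have h2 : P.map (algebraMap A K) ∣ (g %ₘ P).map (algebraMap A K) := by
      rw [Polynomial.map_modByMonic _ hPm, Polynomial.modByMonic_eq_sub_mul_div]
      exact dvd_sub h1 (dvd_mul_right _ _)
    have h3 : (g %ₘ P).map (algebraMap A K) = 0 := by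
      apply Polynomial.eq_zero_of_dvd_of_degree_lt h2
      rw [Polynomial.degree_map_eq_of_injective (IsFractionRing.injective A K),
        Polynomial.degree_map_eq_of_injective (IsFractionRing.injective A K)]
      exact Polynomial.degree_modByMonic_lt _ hPm
    exact (Polynomial.map_eq_zero_iff (IsFractionRing.injective A K)).mp h3
  · rintro ⟨q, rfl⟩
    rw [map_mul]
    have : Polynomial.aeval x P = 0 := by
      apply hinj
      show (1:K) ⊗ₜ[A] Polynomial.aeval x P = (1:K) ⊗ₜ[A] 0
      rw [← haeval, hP, minpoly.aeval, TensorProduct.tmul_zero]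
    rw [this, zero_mul]

end Groth.Agent.S17969
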