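import Groth.Statements.S17974
import Mathlib.Tactic
import Mathlib.RingTheory.Unramified.Basic
import Mathlib.RingTheory.Ideal.IdempotentFG
-- import your own Groth.Agent.* helpers here

set_option autoImplicit false
universe u
open Unram
open scoped TensorProduct

namespace Groth.Agent.S17974

/-- Let A be a commutative ring, B an unramified A-algebra (formally unramified and of finite type), C
an A-algebra, p a prime ideal of C, and u, v : B → C two A-algebra homomorphisms which agree after
composition with C → C/p. Then there is an element f of C not in p such that u and v agree after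
composition with the localization map C → C[1/f]. -/
theorem result
    (A : Type u) [CommRing A] (B : Type u) [CommRing B] [Algebra A B]
    [Algebra.FormallyUnramified A B] [Algebra.FiniteType A B]
    (C : Type u) [CommRing C] [Algebra A C] (p : Ideal C) [p.IsPrime]
    (u v : B →ₐ[A] C)
    (huv : (Ideal.Quotient.mk p).comp u.toRingHom = (Ideal.Quotient.mk p).comp v.toRingHom) :
    ∃ f : C, f ∉ p ∧
      (algebraMap C (Localization.Away f)).comp u.toRingHom =
        (algebraMap C (Localization.Away f)).comp v.toRingHom := by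
  classical
  obtain ⟨e, he, hsp⟩ : ∃ e, IsIdempotentElem e ∧ KaehlerDifferential.ideal A B = (B ⊗[A] B) ∙ e :=
    (Ideal.isIdempotentElem_iff_of_fg _ (KaehlerDifferential.ideal_fg A B)).mp <|
      (Ideal.cotangent_subsingleton_iff _).mp <| inferInstanceAs <| Subsingleton (KaehlerDifferential A B)
  let φ : B ⊗[A] B →ₐ[A] C := Algebra.TensorProduct.lift u v (fun _ _ => Commute.all _ _)
  have hφ : ∀ b b' : B, φ (b ⊗ₜ b') = u b * v b' := fun b b' => rfl
  have huv' : ∀ s : B, v s - u s ∈ p := by
    intro s
    have := congrArg (fun g => g s) huv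
    simp only [RingHom.comp_apply, AlgHom.toRingHom_eq_coe, RingHom.coe_coe] at this
    exact (Ideal.Quotient.eq).1 this.symm
  have hker : ∀ t ∈ KaehlerDifferential.ideal A B, φ t ∈ p := by
    intro t ht
    rw [← KaehlerDifferential.span_range_eq_ideal] at ht
    have hle : Ideal.span (Set.range fun s : B => (1 : B) ⊗ₜ[A] s - s ⊗ₜ[A] (1 : B)) ≤
        p.comap φ.toRingHom := by
      rw [Ideal.span_le]
      rintro _ ⟨s, rfl⟩
      show φ (1 ⊗ₜ s - s ⊗ₜ 1) ∈ p
      rw [map_sub, hφ, hφ, map_one, map_one, one_mul, mul_one]
      exact huv' s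
    exact hle ht
  have heφ : φ e ∈ p := hker e (by rw [hsp]; exact Submodule.mem_span_singleton_self e)
  refine ⟨1 - φ e, ?_, ?_⟩
  · intro h
    apply (Ideal.IsPrime.ne_top ‹_›)
    rw [Ideal.eq_top_iff_one]
    have := p.add_mem h heφ
    simpa using this
  · ext b
    simp only [RingHom.comp_apply, AlgHom.toRingHom_eq_coe, RingHom.coe_coe]
    have hmem : b ⊗ₜ[A] (1 : B) - (1 : B) ⊗ₜ[A] b ∈ KaehlerDifferential.ideal A B := by
      rw [RingHom.mem_ker]
      simp
    rw [hsp] at hmem
    obtain ⟨t, ht⟩ := Submodule.mem_span_singleton.1 hmem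
    have h1 : u b - v b = φ t * φ e := by
      rw [← map_mul, ← smul_eq_mul, ht, map_sub, hφ, hφ, map_one, map_one, mul_one, one_mul]
    have h2 : algebraMap C (Localization.Away (1 - φ e)) (φ e) = 0 := by
      have hu : IsUnit (algebraMap C (Localization.Away (1 - φ e)) (1 - φ e)) :=
        IsLocalization.Away.algebraMap_isUnit _
      have h3 : φ e * (1 - φ e) = 0 := by
        rw [mul_sub, mul_one, (he.map φ).eq, sub_self]
      have h4 := congrArg (algebraMap C (Localization.Away (1 - φ e))) h3
      rw [map_mul, map_zero] at h4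
      exact (hu.mul_left_eq_zero).1 h4
    rw [← sub_eq_zero, ← map_sub, h1, map_mul, h2, mul_zero]

end Groth.Agent.S17974
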