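import Groth.Statements.S17975
import Mathlib.Tactic
import Mathlib.RingTheory.Nakayama
import Mathlib.RingTheory.Polynomial.Tower
-- import your own Groth.Agent.* helpers here

set_option autoImplicit false
universe u
open Hensel

namespace Groth.Agent.S17975

/-- Let A be a local ring with maximal ideal m and residue field k, C a commutative A-algebra which is
finitely generated as an A-module, Q₀ a monic polynomial of degree n over k, e an A-algebra
isomorphism from C/mC to k[T]/(Q₀), and x an element of C whose class is sent by e to the class of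
T. Then x generates C as an A-algebra, and x is a root of a monic polynomial Q over A of degree n
whose reduction modulo m equals Q₀. -/
theorem result
    (A : Type u) [CommRing A] [IsLocalRing A] (C : Type u) [CommRing C] [Algebra A C] [Module.Finite A C]
    (Q₀ : Polynomial (IsLocalRing.ResidueField A)) (hQ₀ : Q₀.Monic)
    (e : (C ⧸ Ideal.map (algebraMap A C) (IsLocalRing.maximalIdeal A)) ≃ₐ[A] AdjoinRoot Q₀)
    (x : C) (hx : e (Ideal.Quotient.mk (Ideal.map (algebraMap A C) (IsLocalRing.maximalIdeal A)) x) = AdjoinRoot.root Q₀) :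
    Algebra.adjoin A {x} = ⊤ ∧
      ∃ Q : Polynomial A, Q.Monic ∧ Q.natDegree = Q₀.natDegree ∧
        Polynomial.map (IsLocalRing.residue A) Q = Q₀ ∧ Polynomial.aeval x Q = 0 := by
  classical
  set pb := AdjoinRoot.powerBasis' hQ₀ with hpb
  have hdim : pb.dim = Q₀.natDegree := rfl
  set φ : C →ₐ[A] AdjoinRoot Q₀ :=
    e.toAlgHom.comp (Ideal.Quotient.mkₐ A _) with hφ
  have hφx : φ x = AdjoinRoot.root Q₀ := hx
  have hφker : ∀ c, φ c = 0 →
      c ∈ Ideal.map (algebraMap A C) (IsLocalRing.maximalIdeal A) := by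
    intro c hc
    have : Ideal.Quotient.mk (Ideal.map (algebraMap A C) (IsLocalRing.maximalIdeal A)) c = 0 := by
      apply e.injective; rw [map_zero]; exact hc
    exact (Ideal.Quotient.eq_zero_iff_mem).1 this
  have hA : ∀ c : C, ∃ a : Fin pb.dim → A, c - ∑ i, a i • x ^ (i : ℕ) ∈
      Ideal.map (algebraMap A C) (IsLocalRing.maximalIdeal A) := by
    intro c
    choose a ha using fun i : Fin pb.dim => IsLocalRing.residue_surjective (pb.basis.repr (φ c) i)
    refine ⟨a, hφker _ ?_⟩
    rw [map_sub, map_sum]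
    simp_rw [map_smul, map_pow, hφx]
    have : ∑ i, a i • (AdjoinRoot.root Q₀) ^ (i : ℕ) = φ c := by
      conv_rhs => rw [← pb.basis.sum_repr (φ c)]
      apply Finset.sum_congr rfl
      intro i _
      rw [pb.basis_eq_pow, ← ha i, ← IsScalarTower.algebraMap_smul (IsLocalRing.ResidueField A) (a i),
        IsLocalRing.ResidueField.algebraMap_eq]
      rfl
    rw [this, sub_self]
  have hM' : Submodule.span A (Set.range (fun i : Fin pb.dim => x ^ (i : ℕ))) = ⊤ := by
    have hfg : (⊤ : Submodule A C).FG := Module.Finite.fg_top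
    have hle : (⊤ : Submodule A C) ≤ Submodule.span A (Set.range (fun i : Fin pb.dim => x ^ (i : ℕ)))
        ⊔ (IsLocalRing.maximalIdeal A) • ⊤ := by
      intro c _
      obtain ⟨a, ha⟩ := hA c
      have h1 : ∑ i, a i • x ^ (i : ℕ) ∈
          Submodule.span A (Set.range (fun i : Fin pb.dim => x ^ (i : ℕ))) :=
        Submodule.sum_mem _ (fun i _ => Submodule.smul_mem _ _ (Submodule.subset_span ⟨i, rfl⟩))
      have h2 : c - ∑ i, a i • x ^ (i : ℕ) ∈ (IsLocalRing.maximalIdeal A) • (⊤ : Submodule A C) := by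
        rw [Ideal.smul_top_eq_map]; exact ha
      have : c = ∑ i, a i • x ^ (i : ℕ) + (c - ∑ i, a i • x ^ (i : ℕ)) := by abel
      rw [this]; exact Submodule.add_mem_sup h1 h2
    exact top_le_iff.1 (Submodule.le_of_le_smul_of_le_jacobson_bot hfg
      (IsLocalRing.maximalIdeal_le_jacobson _) hle)
  refine ⟨?_, ?_⟩
  · rw [eq_top_iff]
    intro c _
    have hc : c ∈ Submodule.span A (Set.range (fun i : Fin pb.dim => x ^ (i : ℕ))) :=
      hM' ▸ Submodule.mem_top
    have hle : Submodule.span A (Set.range (fun i : Fin pb.dim => x ^ (i : ℕ))) ≤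
        Subalgebra.toSubmodule (Algebra.adjoin A {x}) := by
      rw [Submodule.span_le]
      rintro _ ⟨i, rfl⟩
      show x ^ (i : ℕ) ∈ Algebra.adjoin A {x}
      exact Subalgebra.pow_mem _ (Algebra.subset_adjoin (Set.mem_singleton x)) _
    exact hle hc
  · have hxn : x ^ pb.dim ∈ Submodule.span A (Set.range (fun i : Fin pb.dim => x ^ (i : ℕ))) :=
      hM' ▸ Submodule.mem_top
    obtain ⟨a, ha⟩ := (Submodule.mem_span_range_iff_exists_fun (R := A)).1 hxn
    have hPdeg : (∑ i : Fin pb.dim, Polynomial.C (a i) * Polynomial.X ^ (i : ℕ)).degree < (pb.dim : WithBot ℕ) :=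
      Polynomial.degree_sum_fin_lt a
    set Q : Polynomial A :=
      Polynomial.X ^ pb.dim - ∑ i : Fin pb.dim, Polynomial.C (a i) * Polynomial.X ^ (i : ℕ) with hQ
    have hQm : Q.Monic := Polynomial.monic_X_pow_sub hPdeg
    have hQdeg : Q.natDegree = Q₀.natDegree := by
      apply Polynomial.natDegree_eq_of_degree_eq_some
      rw [hQ, Polynomial.degree_sub_eq_left_of_degree_lt (by rw [Polynomial.degree_X_pow]; exact hPdeg),
        Polynomial.degree_X_pow]
      rfl
    have hQx : Polynomial.aeval x Q = 0 := by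
      rw [hQ, map_sub, map_sum, map_pow, Polynomial.aeval_X]
      simp only [map_mul, Polynomial.aeval_C, map_pow, Polynomial.aeval_X]
      rw [← ha]
      simp only [Algebra.smul_def]
      exact sub_self _
    refine ⟨Q, hQm, hQdeg, ?_, hQx⟩
    have hmq : (Q.map (IsLocalRing.residue A)).Monic := hQm.map _
    have hdvd : Q₀ ∣ Q.map (IsLocalRing.residue A) := by
      rw [← AdjoinRoot.mk_eq_zero, ← AdjoinRoot.aeval_eq]
      have h1 : Polynomial.aeval (AdjoinRoot.root Q₀) (Q.map (IsLocalRing.residue A))
          = Polynomial.aeval (AdjoinRoot.root Q₀) Q := by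
        rw [← IsLocalRing.ResidueField.algebraMap_eq, Polynomial.aeval_map_algebraMap]
      rw [h1, ← hφx, Polynomial.aeval_algHom_apply, hQx, map_zero]
    exact Polynomial.eq_of_monic_of_dvd_of_natDegree_le hQ₀ hmq hdvd
      (by rw [hQm.natDegree_map, hQdeg])

end Groth.Agent.S17975
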