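import Groth.Statements.S17980
import Groth.Agent.S17979
-- import your own Groth.Agent.* helpers here

set_option autoImplicit false
universe u
open Hensel

namespace Groth.Agent.S17980

/-- Let A be a local ring with residue field k, and let Q R = U V be two factorizations of one
polynomial over A with Q and U monic, such that Q and U have the same image in k[T], R and V have
the same image in k[T], and the images of Q and R in k[T] generate the unit ideal. Then Q = U and R
= V. -/
theorem result (A : Type u) [CommRing A] [IsLocalRing A]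
    (Q R U V : Polynomial A) (hQ : Q.Monic) (hU : U.Monic)
    (hQU : Polynomial.map (IsLocalRing.residue A) Q = Polynomial.map (IsLocalRing.residue A) U)
    (hRV : Polynomial.map (IsLocalRing.residue A) R = Polynomial.map (IsLocalRing.residue A) V)
    (hcop : IsCoprime (Polynomial.map (IsLocalRing.residue A) Q) (Polynomial.map (IsLocalRing.residue A) R))
    (h : Q * R = U * V) : Q = U ∧ R = V := by
  have hQV : IsCoprime Q V := Groth.Agent.S17979.result A Q V hQ (hRV ▸ hcop)
  have hUR : IsCoprime U R := Groth.Agent.S17979.result A U R hU (hQU ▸ hcop)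
  have hQdvdU : Q ∣ U := hQV.dvd_of_dvd_mul_right ⟨R, h.symm⟩
  have hUdvdQ : U ∣ Q := hUR.dvd_of_dvd_mul_right ⟨V, h⟩
  obtain ⟨a, ha⟩ := hQdvdU
  obtain ⟨b, hb⟩ := hUdvdQ
  have hab : a * b = 1 := by
    apply hQ.isRegular.left
    change Q * (a * b) = Q * 1
    rw [mul_one, ← mul_assoc, ← ha, ← hb]
  have hQU' : Q = U := by
    apply Polynomial.eq_of_monic_of_associated hQ hU
    exact ⟨⟨a, b, hab, by rw [mul_comm]; exact hab⟩, ha.symm⟩
  refine ⟨hQU', ?_⟩
  apply hQ.isRegular.left
  change Q * R = Q * V
  rw [h, hQU']

end Groth.Agent.S17980
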