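import Groth.Statements.S17981
import Mathlib.Tactic
import Mathlib.RingTheory.Nakayama

set_option autoImplicit false
universe u
open Hensel

namespace Groth.Agent.S17981

/-- Let A be a commutative ring, I an ideal contained in the Jacobson radical of A, and B a commutative
A-algebra which is finitely generated as an A-module. Then two idempotents of B with the same image
in B/IB are equal. -/
theorem result (A : Type u) [CommRing A] (I : Ideal A)
    (hI : I ≤ Ideal.jacobson ⊥) (B : Type u) [CommRing B] [Algebra A B] [Module.Finite A B] :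
    Set.InjOn (Ideal.Quotient.mk (Ideal.map (algebraMap A B) I)) {e : B | IsIdempotentElem e} := by
  intro e he f hf hef
  have hmem : e - f ∈ Ideal.map (algebraMap A B) I := Ideal.Quotient.eq.mp hef
  have he' : e * e = e := he
  have hf' : f * f = f := hf
  have hx3 : (e - f) * (e - f) * (e - f) = e - f := by
    linear_combination (1 + e - 3 * f) * he' + (3 * e - 1 - f) * hf'
  set x := e - f with hx
  let N : Submodule A B := LinearMap.range (LinearMap.mulLeft A x)
  have hNfg : N.FG := by
    have : N = Submodule.map (LinearMap.mulLeft A x) ⊤ := LinearMap.range_eq_map _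
    rw [this]
    exact (Module.Finite.fg_top).map _
  have hxx : x * x ∈ I • (⊤ : Submodule A B) := by
    rw [Ideal.smul_top_eq_map]
    exact Ideal.mul_mem_left _ x hmem
  have hmulN : ∀ (c z : B), z ∈ N → c * z ∈ N := by
    rintro c z ⟨b, rfl⟩
    refine ⟨c * b, ?_⟩
    simp only [LinearMap.mulLeft_apply]
    ring
  have hle : N ≤ I • N := by
    rintro y ⟨b, rfl⟩
    have hy : (LinearMap.mulLeft A x) b = (x * x) * (x * b) := by
      simp only [LinearMap.mulLeft_apply]
      rw [← mul_assoc, hx3]
    rw [hy]
    have hz : x * b ∈ N := ⟨b, rfl⟩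
    refine Submodule.smul_induction_on hxx ?_ ?_
    · intro a ha m _
      rw [smul_mul_assoc]
      exact Submodule.smul_mem_smul ha (hmulN m _ hz)
    · intro w1 w2 h1 h2
      rw [add_mul]
      exact add_mem h1 h2
  have hbot := Submodule.eq_bot_of_le_smul_of_le_jacobson_bot I N hNfg hle hI
  have hx0 : x ∈ N := ⟨1, by simp⟩
  rw [hbot, Submodule.mem_bot] at hx0
  exact sub_eq_zero.mp hx0

end Groth.Agent.S17981
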