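import Groth.Statements.S18015
import Mathlib.Tactic
import Mathlib.RingTheory.Ideal.AssociatedPrime.Finiteness
import Mathlib.Algebra.Homology.ShortComplex.ModuleCat
-- import your own Groth.Agent.* helpers here

set_option autoImplicit false
universe u
open CategoryTheory
open Coh

namespace Groth.Agent.S18015

set_option backward.isDefEq.respectTransparency false in
/-- Let A be a Noetherian commutative ring and F an additive functor from A-modules to A-modules which
is half-exact, i.e. for every short exact sequence 0 → M' → M → M'' → 0 the sequence F(M') → F(M) →
F(M'') is exact at F(M). Then F(M) is a finitely generated A-module for every finitely generated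
A-module M if and only if F(A/p) is a finitely generated A-module for every prime ideal p of A. (The
published statement takes F from quasi-coherent sheaves on Spec A to abelian groups, with A acting
on each F(M) through F; this row allows any additive functor between A-module categories, A-linear
or not, and the same argument applies, since it uses only that each map F(f) is A-linear.) -/
theorem result {A : Type u} [CommRing A] [IsNoetherianRing A]
    (F : ModuleCat.{u} A ⥤ ModuleCat.{u} A) [F.Additive]
    (hF : ∀ S : ShortComplex (ModuleCat.{u} A), S.ShortExact → (S.map F).Exact) :
    (∀ M : ModuleCat.{u} A, Module.Finite A M → Module.Finite A (F.obj M)) ↔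
      ∀ p : PrimeSpectrum A, Module.Finite A (F.obj (ModuleCat.of A (A ⧸ p.asIdeal))) := by
  constructor
  · intro h p
    exact h _ (by change Module.Finite A (A ⧸ p.asIdeal); infer_instance)
  · intro h M hM
    have key : ∀ (N : Type u) [AddCommGroup N] [Module A N] [Module.Finite A N],
        Module.Finite A (F.obj (ModuleCat.of A N)) := by
      intro N _ _ hN
      induction hN using IsNoetherianRing.induction_on_isQuotientEquivQuotientPrime A with
      | subsingleton N =>
        have h1 : Limits.IsZero (ModuleCat.of A N) := ModuleCat.isZero_of_subsingleton _
        have h2 : Limits.IsZero (F.obj (ModuleCat.of A N)) := F.map_isZero h1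
        have := ModuleCat.subsingleton_of_isZero h2
        rw [Module.finite_def, Subsingleton.elim (⊤ : Submodule A (F.obj (ModuleCat.of A N))) ⊥]
        exact Submodule.fg_bot
      | quotient N p e =>
        have iso : F.obj (ModuleCat.of A N) ≅ F.obj (ModuleCat.of A (A ⧸ p.asIdeal)) :=
          F.mapIso (LinearEquiv.toModuleIso e)
        have := h p
        exact Module.Finite.equiv iso.symm.toLinearEquiv
      | exact N₁ N₂ N₃ f g hf hg hfg h₁ h₃ =>
        let S : ShortComplex (ModuleCat.{u} A) := ShortComplex.moduleCatMk f g
          (by ext x; exact hfg.apply_apply_eq_zero x)
        have hSex : S.Exact := (ShortComplex.ShortExact.moduleCat_exact_iff_function_exact S).2 hfg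
        have hmono : Mono S.f := (ModuleCat.mono_iff_injective _).2 hf
        have hepi : Epi S.g := (ModuleCat.epi_iff_surjective _).2 hg
        have hSE : S.ShortExact := ShortComplex.ShortExact.mk' hSex hmono hepi
        have hFS := (hF S hSE).moduleCat_range_eq_ker
        set φ := (F.map S.g).hom
        set ψ := (F.map S.f).hom
        rw [Module.finite_def]
        apply Submodule.fg_of_fg_map_of_fg_inf_ker φ
        · have : Module.Finite A (F.obj S.X₃) := h₃
          have : IsNoetherian A (F.obj S.X₃) := isNoetherian_of_isNoetherianRing_of_finite A _
          exact IsNoetherian.noetherian _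
        · have e : (⊤ : Submodule A (F.obj S.X₂)) ⊓ LinearMap.ker φ = LinearMap.ker φ :=
            top_inf_eq _
          rw [e]
          change (LinearMap.ker (S.map F).g.hom).FG
          rw [← hFS]
          change (LinearMap.range ψ).FG
          rw [LinearMap.range_eq_map]
          have : Module.Finite A (F.obj S.X₁) := h₁
          exact (Module.Finite.fg_top).map ψ
    exact key M

end Groth.Agent.S18015
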