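import Groth.Statements.S18019
import Mathlib.Tactic
import Mathlib.Algebra.CharP.Two
-- import your own Groth.Agent.* helpers here

set_option autoImplicit false
universe u
open ClassStk

namespace Groth.Agent.S18019

open Polynomial in
/-- Let R be an integral domain of characteristic 2 and let a be a nonzero element of R, so that x ↦ x +
a defines an R-algebra involution of the polynomial ring R[x] (an action of the group of order two).
A polynomial f is invariant, f(x + a) = f(x), if and only if f belongs to the R-subalgebra generated
by u = x (x + a); in other words the ring of invariants is the polynomial ring R[u]. -/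
theorem result (R : Type u) [CommRing R] [IsDomain R]
    [CharP R 2] (a : R) (ha : a ≠ 0) (f : Polynomial R) :
    f.comp (X + C a) = f ↔ f ∈ Algebra.adjoin R ({X * (X + C a)} : Set (Polynomial R)) := by
  set u : Polynomial R := X * (X + C a) with hu_def
  have hu : u.Monic := monic_X.mul (monic_X_add_C a)
  have h2a : (C a + C a : Polynomial R) = 0 := by rw [← C_add, CharTwo.add_self_eq_zero, C_0]
  have hucomp : u.comp (X + C a) = u := by
    simp only [hu_def, mul_comp, X_comp, add_comp, C_comp]
    rw [add_assoc, h2a, add_zero, mul_comm]
  have hunat : u.natDegree = 2 := by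
    rw [hu_def, natDegree_mul X_ne_zero (X_add_C_ne_zero a), natDegree_X, natDegree_X_add_C]
  have hudeg : u.degree = 2 := by rw [degree_eq_natDegree hu.ne_zero, hunat]; rfl
  constructor
  · intro hf
    induction hn : f.natDegree using Nat.strong_induction_on generalizing f with
    | _ n ih =>
    have hfr : f %ₘ u + u * (f /ₘ u) = f := modByMonic_add_div f u
    have hr1 : (f %ₘ u).natDegree ≤ 1 := by
      have := natDegree_modByMonic_lt f hu (by intro h; rw [h] at hunat; simp at hunat)
      omega
    have hr : f %ₘ u = C ((f %ₘ u).coeff 1) * X + C ((f %ₘ u).coeff 0) :=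
      eq_X_add_C_of_natDegree_le_one hr1
    set r := f %ₘ u with hr_def
    set q := f /ₘ u with hq_def
    set c1 := r.coeff 1
    set c0 := r.coeff 0
    have hr' : r.comp (X + C a) = C c1 * (X + C a) + C c0 := by
      rw [hr]; simp only [add_comp, mul_comp, C_comp, X_comp]
    have hcomp : r.comp (X + C a) + u * q.comp (X + C a) = f := by
      conv_rhs => rw [← hf, ← hfr]
      rw [add_comp, mul_comp, hucomp]
    have hdeg' : (r.comp (X + C a)).degree < u.degree := by
      rw [hr', hudeg]
      have : (C c1 * (X + C a) + C c0).degree ≤ 1 := by compute_degree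
      exact lt_of_le_of_lt this (by decide)
    obtain ⟨hq, hrr⟩ := div_modByMonic_unique (q.comp (X + C a)) (r.comp (X + C a)) hu ⟨hcomp, hdeg'⟩
    have hc1 : c1 = 0 := by
      have h3 : C c1 * (X + C a) + C c0 = C c1 * X + C c0 := by rw [← hr', ← hr]; exact hrr.symm
      have h4 := congrArg (fun p => p.coeff 0) h3
      simp only [coeff_add, coeff_C_mul, coeff_X_zero, coeff_C_zero, mul_zero, zero_add] at h4
      have h5 : c1 * a = 0 := by
        linear_combination h4
      rcases mul_eq_zero.1 h5 with h | h
      · exact h
      · exact absurd h ha
    have hrmem : r ∈ Algebra.adjoin R ({X * (X + C a)} : Set (Polynomial R)) := by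
      rw [hr, hc1, C_0, zero_mul, zero_add]
      exact Subalgebra.algebraMap_mem _ c0
    have hqmem : q ∈ Algebra.adjoin R ({X * (X + C a)} : Set (Polynomial R)) := by
      by_cases hn0 : n = 0
      · have : q = 0 := by
          rw [hq_def, divByMonic_eq_zero_iff hu, hudeg]
          calc f.degree ≤ f.natDegree := degree_le_natDegree
            _ = 0 := by rw [hn, hn0]; rfl
            _ < 2 := by decide
        rw [this]; exact zero_mem _
      · apply ih (n - 2) (by omega) q hq.symm
        rw [hq_def, natDegree_divByMonic f hu, hn, hunat]
    rw [← hfr]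
    exact add_mem hrmem (mul_mem (Algebra.subset_adjoin rfl) hqmem)
  · intro hf
    induction hf using Algebra.adjoin_induction with
    | mem x hx => rw [Set.mem_singleton_iff.1 hx]; exact hucomp
    | algebraMap r => rw [Polynomial.algebraMap_apply, C_comp]
    | add x y _ _ hx hy => rw [add_comp, hx, hy]
    | mul x y _ _ hx hy => rw [mul_comp, hx, hy]

end Groth.Agent.S18019
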