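import Groth.Statements.S18125
import Mathlib.Tactic
import Mathlib.RingTheory.MvPolynomial.Ideal

set_option autoImplicit false
universe u
open Pinch

namespace Groth.Agent.S18125

/-- Let K be a field in which 2 ≠ 0, n ≥ 0, S = K[u, v, w, t_1, …, t_n] (u, v, w the first three
variables), h = u^2 - v^2 w the equation of the pinch-point model, and Jac the ideal generated by h
and its three partial derivatives 2u, -2vw, -v^2, which cuts out the scheme-theoretic singular locus
of {h = 0}. Then the ideal (u, v) of the double locus is Jac + (v), and the colon ideal of Jac by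
(v) is (u, v, w). Consequently (u, v)/Jac, the ideal of the double locus restricted to the singular
locus, is an invertible sheaf on the pinch locus u = v = w = 0: it is free of rank one over K[t_1,
…, t_n] on the class of v. (The text states this for every semi-smooth variety and reduces to this
model; K algebraically closed is not needed for the model computation.) -/
theorem result
    (K : Type u) [Field K] [NeZero (2 : K)] (n : ℕ) :
    letI u : MvPolynomial (Fin (n + 3)) K := MvPolynomial.X 0
    letI v : MvPolynomial (Fin (n + 3)) K := MvPolynomial.X 1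
    letI w : MvPolynomial (Fin (n + 3)) K := MvPolynomial.X 2
    letI Jac : Ideal (MvPolynomial (Fin (n + 3)) K) :=
      Ideal.span {u ^ 2 - v ^ 2 * w, 2 * u, -(2 * v * w), -(v ^ 2)}
    Ideal.span {u, v} = Jac ⊔ Ideal.span {v} ∧ Jac.colon (Ideal.span {v}) = Ideal.span {u, v, w} := by
  set u : MvPolynomial (Fin (n + 3)) K := MvPolynomial.X 0 with hu_def
  set v : MvPolynomial (Fin (n + 3)) K := MvPolynomial.X 1 with hv_def
  set w : MvPolynomial (Fin (n + 3)) K := MvPolynomial.X 2 with hw_def
  set Jac : Ideal (MvPolynomial (Fin (n + 3)) K) :=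
    Ideal.span {u ^ 2 - v ^ 2 * w, 2 * u, -(2 * v * w), -(v ^ 2)} with hJac
  have ht2' : MvPolynomial.C (2⁻¹ : K) * (2 : MvPolynomial (Fin (n + 3)) K) = 1 := by
    rw [show (2 : MvPolynomial (Fin (n + 3)) K) = MvPolynomial.C 2 from
      (map_ofNat MvPolynomial.C 2).symm, ← map_mul, inv_mul_cancel₀ (NeZero.ne 2), map_one]
  obtain ⟨t2, ht2⟩ : ∃ t2 : MvPolynomial (Fin (n + 3)) K, t2 * 2 = 1 := ⟨_, ht2'⟩
  have hJu : u ∈ Jac := by
    have : u = t2 * (2 * u) := by rw [← mul_assoc, ht2, one_mul]
    rw [this]
    exact Ideal.mul_mem_left _ _ (Ideal.subset_span (by simp))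
  have hJvw : v * w ∈ Jac := by
    have : v * w = (-t2) * (-(2 * v * w)) := by
      rw [neg_mul_neg, ← mul_assoc, ← mul_assoc, ht2, one_mul]
    rw [this]
    exact Ideal.mul_mem_left _ _ (Ideal.subset_span (by simp))
  have hJvv : v ^ 2 ∈ Jac := by
    have : v ^ 2 = -(-(v ^ 2)) := by ring
    rw [this]
    exact Jac.neg_mem (Ideal.subset_span (by simp))
  refine ⟨le_antisymm ?_ ?_, le_antisymm ?_ ?_⟩
  · rw [Ideal.span_le, Set.insert_subset_iff, Set.singleton_subset_iff]
    exact ⟨Ideal.mem_sup_left hJu, Ideal.mem_sup_right (Ideal.subset_span (by simp))⟩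
  · apply sup_le
    · rw [Ideal.span_le]
      intro z hz
      simp only [Set.mem_insert_iff, Set.mem_singleton_iff] at hz
      rw [SetLike.mem_coe, Ideal.mem_span_pair]
      rcases hz with rfl | rfl | rfl | rfl
      · exact ⟨u, -(v * w), by ring⟩
      · exact ⟨2, 0, by ring⟩
      · exact ⟨0, -(2 * w), by ring⟩
      · exact ⟨0, -v, by ring⟩
    · rw [Ideal.span_le, Set.singleton_subset_iff]
      exact Ideal.subset_span (by simp)
  · -- colon ⊆ (u, v, w)
    intro x hx
    rw [Ideal.colon_span, Submodule.mem_colon_singleton, smul_eq_mul] at hx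
    -- Jac is contained in a monomial ideal
    let S : Set (Fin (n + 3) →₀ ℕ) :=
      {Finsupp.single 0 1, Finsupp.single 1 1 + Finsupp.single 2 1, Finsupp.single 1 2}
    let M : Ideal (MvPolynomial (Fin (n + 3)) K) :=
      Ideal.span ((fun s => MvPolynomial.monomial s (1 : K)) '' S)
    have hu : u ∈ M := Ideal.subset_span ⟨Finsupp.single 0 1, by simp [S], rfl⟩
    have hvw : v * w ∈ M := by
      refine Ideal.subset_span ⟨Finsupp.single 1 1 + Finsupp.single 2 1, by simp [S], ?_⟩
      simp only [hv_def, hw_def, MvPolynomial.X, MvPolynomial.monomial_mul, mul_one]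
    have hvv : v ^ 2 ∈ M := by
      refine Ideal.subset_span ⟨Finsupp.single 1 2, by simp [S], ?_⟩
      simp only [hv_def, MvPolynomial.X_pow_eq_monomial]
    have hJM : Jac ≤ M := by
      rw [Ideal.span_le]
      intro z hz
      simp only [Set.mem_insert_iff, Set.mem_singleton_iff] at hz
      rcases hz with rfl | rfl | rfl | rfl
      · have : u ^ 2 - v ^ 2 * w = u * u - v * (v * w) := by ring
        rw [SetLike.mem_coe, this]
        exact M.sub_mem (M.mul_mem_left _ hu) (M.mul_mem_left _ hvw)
      · exact M.mul_mem_left _ hu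
      · have : -(2 * v * w) = (-2) * (v * w) := by ring
        rw [SetLike.mem_coe, this]
        exact M.mul_mem_left _ hvw
      · exact M.neg_mem hvv
    have hxM := hJM hx
    rw [MvPolynomial.mem_ideal_span_monomial_image] at hxM
    have hgoal : x ∈ Ideal.span (MvPolynomial.X '' ({0, 1, 2} : Set (Fin (n + 3)))) := by
      rw [MvPolynomial.mem_ideal_span_X_image]
      intro m hm
      have hm' : m + Finsupp.single 1 1 ∈ (x * v).support := by
        simp only [hv_def, MvPolynomial.support_mul_X, Finset.mem_map, addRightEmbedding_apply]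
        exact ⟨m, hm, rfl⟩
      obtain ⟨si, hsi, hle⟩ := hxM _ hm'
      simp only [S, Set.mem_insert_iff, Set.mem_singleton_iff] at hsi
      rcases hsi with rfl | rfl | rfl
      · refine ⟨0, by simp, ?_⟩
        have := hle 0
        simp at this
        omega
      · refine ⟨2, by simp, ?_⟩
        have := hle 2
        simp at this
        omega
      · refine ⟨1, by simp, ?_⟩
        have := hle 1
        simp at this
        omega
    simpa [Set.image_insert_eq, Set.image_singleton, hu_def, hv_def, hw_def] using hgoal
  · rw [Ideal.span_le]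
    intro z hz
    simp only [Set.mem_insert_iff, Set.mem_singleton_iff] at hz
    rw [SetLike.mem_coe, Ideal.colon_span, Submodule.mem_colon_singleton, smul_eq_mul]
    rcases hz with rfl | rfl | rfl
    · exact Ideal.mul_mem_right _ _ hJu
    · rw [← pow_two]; exact hJvv
    · rw [mul_comm]; exact hJvw

end Groth.Agent.S18125
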