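import Groth.Statements.S18387
import Mathlib.Tactic
import Mathlib.RingTheory.Artinian.Ring
import Mathlib.RingTheory.Artinian.Module

set_option autoImplicit false
universe u
open LVCorr

namespace Groth.Agent.S18387

/-- In the affine form which its proof establishes. Let A be a commutative algebra over a field F which
is finite-dimensional of dimension d over F. Then the d-th power of the nilradical of A vanishes.
(Applied to the fibre algebra A = B/mB of a quasi-finite morphism over a closed point with maximal
ideal m, this says that the d-th power of the radical of mB lies in mB, i.e. the ramification of the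
morphism at that point is at most the degree d of the fibre.) -/
theorem result (F A : Type u) [Field F] [CommRing A] [Algebra F A]
    [FiniteDimensional F A] : nilradical A ^ Module.finrank F A = ⊥ := by
  have : IsArtinianRing A := IsArtinianRing.of_finite F A
  set N := nilradical A with hN
  obtain ⟨m, hm⟩ := IsArtinianRing.isNilpotent_nilradical (R := A)
  have hstat : ∀ k, N ^ (k + 1) = N ^ k → N ^ k = ⊥ := by
    intro k hk
    have hj : ∀ j, N ^ (k + j) = N ^ k := by
      intro j
      induction j with
      | zero => rfl
      | succ j ih => rw [← add_assoc, pow_succ, ih, ← pow_succ, hk]
    have hm' : N ^ m = ⊥ := by rw [hN, hm, Ideal.zero_eq_bot]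
    rw [← hj m, pow_add, hm', Ideal.mul_bot]
  let f : ℕ → ℕ := fun k => Module.finrank F ((N ^ k).restrictScalars F)
  have key : ∀ k, N ^ k = ⊥ ∨ f k + k ≤ Module.finrank F A := by
    intro k
    induction k with
    | zero =>
      right
      show Module.finrank F ((N ^ 0).restrictScalars F) + 0 ≤ Module.finrank F A
      rw [pow_zero, Ideal.one_eq_top, Submodule.restrictScalars_top, finrank_top, add_zero]
    | succ k ih =>
      rcases ih with h | h
      · left
        rw [pow_succ, h, Ideal.bot_mul]
      · by_cases h0 : N ^ (k + 1) = ⊥
        · left; exact h0
        · right
          have hlt : N ^ (k + 1) < N ^ k := by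
            refine lt_of_le_of_ne (Ideal.pow_le_pow_right (Nat.le_succ k)) ?_
            intro heq
            exact h0 (by rw [heq]; exact hstat k heq)
          have hlt' : (N ^ (k + 1)).restrictScalars F < (N ^ k).restrictScalars F :=
            (Submodule.restrictScalarsEmbedding F A A).lt_iff_lt.mpr hlt
          have := Submodule.finrank_lt_finrank_of_lt hlt'
          simp only [f] at h ⊢
          omega
  rcases key (Module.finrank F A) with h | h
  · exact h
  · have h0 : f (Module.finrank F A) = 0 := by omega
    have h2 : (N ^ Module.finrank F A).restrictScalars F = ⊥ := Submodule.finrank_eq_zero.mp h0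
    apply Submodule.restrictScalars_injective F A A
    rw [h2, Submodule.restrictScalars_bot]

end Groth.Agent.S18387
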