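import Groth.Statements.S18390
import Mathlib.Tactic
-- import your own Groth.Agent.* helpers here

set_option autoImplicit false
universe u
open LVCorr

namespace Groth.Agent.S18390

theorem pow_map_le {A' A : Type u} [CommRing A'] [CommRing A] (φ : A' →+* A) (I : Ideal A)
    (J : Ideal A') (hJ : J.map φ ≤ I) (m : ℕ) : (J ^ m).map φ ≤ I ^ m := by
  rw [Ideal.map_pow]; exact Ideal.pow_right_mono hJ m

theorem mono_aux {A' A : Type u} [CommRing A'] [CommRing A] (φ : A' →+* A) (I : Ideal A)
    (J : Ideal A') (hJ : J.map φ ≤ I) (N : ℕ) (hN : (J ^ N).map φ ≤ I ^ (N + 1)) (M : ℕ)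
    (hM : N ≤ M) : (J ^ M).map φ ≤ I ^ (M + 1) := by
  obtain ⟨c, rfl⟩ := Nat.exists_eq_add_of_le hM
  rw [pow_add, Ideal.map_mul]
  calc (J ^ N).map φ * (J ^ c).map φ ≤ I ^ (N + 1) * I ^ c :=
        Ideal.mul_mono hN (pow_map_le φ I J hJ c)
    _ = I ^ (N + c + 1) := by rw [← pow_add]; congr 1; omega

theorem sup_aux {A' A : Type u} [CommRing A'] [CommRing A] (φ : A' →+* A) (I : Ideal A)
    (J K : Ideal A') (hJ : J.map φ ≤ I) (hK : K.map φ ≤ I) (a b : ℕ)
    (ha : (J ^ a).map φ ≤ I ^ (a + 1)) (hb : (K ^ b).map φ ≤ I ^ (b + 1)) :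
    ((J ⊔ K) ^ (a + b)).map φ ≤ I ^ (a + b + 1) := by
  rw [← Ideal.add_eq_sup, add_pow, Ideal.sum_eq_sup]
  rw [Ideal.map_le_iff_le_comap]
  apply Finset.sup_le
  intro m hm
  rw [← Ideal.map_le_iff_le_comap]
  refine le_trans (Ideal.map_mono Ideal.mul_le_left) ?_
  rw [Ideal.map_mul]
  have hm' : m ≤ a + b := by simpa [Nat.lt_succ_iff] using hm
  by_cases hma : a ≤ m
  · calc (J ^ m).map φ * (K ^ (a + b - m)).map φ ≤ I ^ (m + 1) * I ^ (a + b - m) :=
          Ideal.mul_mono (mono_aux φ I J hJ a ha m hma) (pow_map_le φ I K hK _)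
      _ = I ^ (a + b + 1) := by rw [← pow_add]; congr 1; omega
  · calc (J ^ m).map φ * (K ^ (a + b - m)).map φ ≤ I ^ m * I ^ (a + b - m + 1) :=
          Ideal.mul_mono (pow_map_le φ I J hJ _) (mono_aux φ I K hK b hb _ (by omega))
      _ = I ^ (a + b + 1) := by rw [← pow_add]; congr 1; omega

theorem single_aux {A' A : Type u} [CommRing A'] [CommRing A] (φ : A' →+* A) (I : Ideal A)
    (x : A') (k : ℕ) (hk : φ x ^ k ∈ I ^ (k + 1)) :
    ((Ideal.span {x}) ^ k).map φ ≤ I ^ (k + 1) := by
  rw [Ideal.span_singleton_pow, Ideal.map_span, Set.image_singleton, Ideal.span_le,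
    Set.singleton_subset_iff, map_pow]
  exact hk


/-- In the affine, ring-theoretic form which its proof establishes. Let φ : A' → A be a ring
homomorphism, I' a finitely generated ideal of A' and I an ideal of A containing the image of I'.
Then some power I'^k is mapped into I^(k+1) if and only if for every n ≥ 1 and every a ∈ I'^n there
is a k with φ(a)^k ∈ I^(nk+1). (Geometrically, for a morphism f : (X, Z) → (X', Z') of pairs with Z
a closed subscheme of the preimage of Z', the normal cone of Z in X is the spectrum of the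
associated graded algebra of I, and the second condition says that the induced map of normal cones
sends the normal cone of Z set-theoretically into the zero section Z'; the source states the
equivalence in that language.) -/
theorem result (A' A : Type u) [CommRing A'] [CommRing A]
    (φ : A' →+* A) (I' : Ideal A') (hI' : I'.FG) (I : Ideal A) (hle : I'.map φ ≤ I) :
    (∃ k : ℕ, (I' ^ k).map φ ≤ I ^ (k + 1)) ↔
      ∀ n : ℕ, 1 ≤ n → ∀ a ∈ I' ^ n, ∃ k : ℕ, 1 ≤ k ∧ φ a ^ k ∈ I ^ (n * k + 1) := by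
  constructor
  · rintro ⟨k₀, hk₀⟩ n hn a ha
    refine ⟨k₀ + 1, by omega, ?_⟩
    have h1 : a ^ (k₀ + 1) ∈ I' ^ (n * (k₀ + 1)) := by
      rw [pow_mul]; exact Ideal.pow_mem_pow ha _
    have h2 := mono_aux φ I I' hle k₀ hk₀ (n * (k₀ + 1)) (by nlinarith)
    rw [← map_pow]
    exact h2 (Ideal.mem_map_of_mem φ h1)
  · intro H
    obtain ⟨s, hs⟩ := hI'
    have key : ∀ t : Finset A', (↑t : Set A') ⊆ I' →
        ∃ N : ℕ, ((Ideal.span (↑t : Set A')) ^ N).map φ ≤ I ^ (N + 1) := by
      classical
      intro t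
      induction t using Finset.induction_on with
      | empty =>
        intro _
        refine ⟨1, ?_⟩
        simp
      | insert x t hxt ih =>
        intro hsub
        rw [Finset.coe_insert, Set.insert_subset_iff] at hsub
        obtain ⟨N, hN⟩ := ih hsub.2
        obtain ⟨k, hk1, hk⟩ := H 1 le_rfl x (by rw [pow_one]; exact hsub.1)
        rw [one_mul] at hk
        refine ⟨k + N, ?_⟩
        rw [Finset.coe_insert, Ideal.span_insert]
        apply sup_aux φ I _ _ _ _ k N (single_aux φ I x k hk) hN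
        · exact le_trans (Ideal.map_mono ((Ideal.span_singleton_le_iff_mem _).2 hsub.1)) hle
        · exact le_trans (Ideal.map_mono (Ideal.span_le.2 hsub.2)) hle
    obtain ⟨N, hN⟩ := key s (by rw [← hs]; exact Ideal.subset_span)
    exact ⟨N, by rw [← hs]; exact hN⟩

end Groth.Agent.S18390
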