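import Groth.Statements.S18392
import Mathlib.Tactic
import Mathlib.RingTheory.Ideal.KrullsHeightTheorem
import Mathlib.RingTheory.Ideal.MinimalPrime.Noetherian
-- import your own Groth.Agent.* helpers here

set_option autoImplicit false
universe u
open LVCorr

namespace Groth.Agent.S18392

/-- Let A be a normal (integrally closed) Noetherian domain and z an element of A such that the radical
of (z) is prime. Then for every non-empty open subset V of Spec A contained in the basic open set
D(z) (that is, every non-empty open subset of Spec A[1/z]) there is an element x of A, not in the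
radical of (z), such that the basic open set D(xz) = Spec A[1/xz] is contained in V. -/
theorem result (A : Type u) [CommRing A]
    [IsDomain A] [IsNoetherianRing A] [IsIntegrallyClosed A] (z : A)
    (hz : (Ideal.span {z}).radical.IsPrime) (V : Set (PrimeSpectrum A)) (hV : IsOpen V)
    (hVz : V ⊆ (PrimeSpectrum.basicOpen z : Set (PrimeSpectrum A))) (hne : V.Nonempty) :
    ∃ x : A, x ∉ (Ideal.span {z}).radical ∧
      ((PrimeSpectrum.basicOpen (x * z) : TopologicalSpace.Opens (PrimeSpectrum A)) :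
        Set (PrimeSpectrum A)) ⊆ V := by
  classical
  have hPprime := hz
  have hz0 : z ≠ 0 := by
    rintro rfl
    obtain ⟨v, hv⟩ := hne
    have := hVz hv
    simp at this
  have hPmin : (Ideal.span {z}).radical ∈ (Ideal.span {z}).minimalPrimes := by
    refine ⟨⟨hz, Ideal.le_radical⟩, ?_⟩
    intro Q ⟨hQ, hzQ⟩ _
    exact (Ideal.IsPrime.radical_le_iff hQ).2 hzQ
  have hPh : (Ideal.span {z}).radical.height ≤ 1 :=
    Ideal.height_le_one_of_isPrincipal_of_mem_minimalPrimes _ _ hPmin
  have key : ∀ Q : Ideal A, Q.IsPrime → Q ≠ ⊥ → Q ≤ (Ideal.span {z}).radical →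
      Q = (Ideal.span {z}).radical := by
    intro Q hQ hQ0 hQP
    by_contra hne'
    have hlt : Q < (Ideal.span {z}).radical := lt_of_le_of_ne hQP hne'
    have h1 := Ideal.height_add_one_le_of_lt_of_isPrime hlt
    have h2 : Q.height = 0 := by
      by_contra h
      have h3 : 1 ≤ Q.height := Order.one_le_iff_ne_zero.2 h
      have h4 : (1 : ℕ∞) + 1 ≤ 1 := (add_le_add_left h3 1).trans (h1.trans hPh)
      exact absurd h4 (by decide)
    exact hQ0 (Ideal.height_eq_zero_iff_eq_bot.1 h2)
  obtain ⟨J, hJ⟩ := (PrimeSpectrum.isClosed_iff_zeroLocus_ideal (Vᶜ)).1 hV.isClosed_compl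
  have hJ0 : J ≠ ⊥ := by
    rintro rfl
    obtain ⟨v, hv⟩ := hne
    have : v ∈ Vᶜ := by rw [hJ]; simp
    exact this hv
  set S := {Q ∈ J.minimalPrimes | z ∉ Q} with hS
  have hSfin : S.Finite :=
    (Ideal.finite_minimalPrimes_of_isNoetherianRing A J).subset (fun Q hQ => hQ.1)
  have hSnot : ∀ Q ∈ S, ∃ y ∈ Q, y ∉ (Ideal.span {z}).radical := by
    intro Q ⟨hQmin, hzQ⟩
    by_contra hcon
    push Not at hcon
    have hQP : Q ≤ (Ideal.span {z}).radical := hcon
    have hQprime := hQmin.1.1
    have hQ0 : Q ≠ ⊥ := fun h => hJ0 (le_bot_iff.1 (h ▸ hQmin.1.2))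
    have := key Q hQprime hQ0 hQP
    apply hzQ; rw [this]; exact Ideal.le_radical (Ideal.mem_span_singleton_self z)
  choose! y hyQ hyP using hSnot
  refine ⟨∏ Q ∈ hSfin.toFinset, y Q, ?_, ?_⟩
  · intro hx
    obtain ⟨Q, hQ, hQP⟩ := (Ideal.IsPrime.prod_mem_iff (p := (Ideal.span {z}).radical)).1 hx
    exact hyP Q (hSfin.mem_toFinset.1 hQ) hQP
  · intro R hR
    by_contra hRV
    have hRJ : R ∈ PrimeSpectrum.zeroLocus (J : Set A) := by rw [← hJ]; exact hRV
    have hJR : J ≤ R.asIdeal := (PrimeSpectrum.mem_zeroLocus _ _).1 hRJ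
    obtain ⟨Q, hQmin, hQR⟩ := Ideal.exists_minimalPrimes_le hJR
    apply hR
    apply hQR
    by_cases hzQ : z ∈ Q
    · exact Q.mul_mem_left _ hzQ
    · have hQS : Q ∈ S := ⟨hQmin, hzQ⟩
      apply Q.mul_mem_right z
      exact Ideal.mem_of_dvd _ (Finset.dvd_prod_of_mem y (hSfin.mem_toFinset.2 hQS)) (hyQ Q hQS)

end Groth.Agent.S18392
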