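import Groth.Statements.S18404
import Mathlib.Tactic
import Mathlib.LinearAlgebra.CrossProduct
-- import your own Groth.Agent.* helpers here

set_option autoImplicit false
universe u
open Cubic

namespace Groth.Agent.S18404

open MvPolynomial in
/-- Let k ∈ ℂ with k³ ≠ 1 and let h = X₀³ + X₁³ + X₂³ − 3k·X₀X₁X₂ be the Hesse cubic. For a nonzero
vector v with h(v) = 0, the corresponding point is a flex of the plane curve of h — some line
through it meets the curve there with multiplicity three, i.e. there is a vector w linearly
independent from v with h(v + t·w) = t³·h(w) for every t — exactly when v is a scalar multiple of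
one of the nine vectors (0, 1, −γ), (−γ, 0, 1), (1, −γ, 0) with γ³ = 1. -/
theorem result (k : ℂ) (hk : k ^ 3 ≠ 1) (v : Fin 3 → ℂ) (hv : v ≠ 0)
    (hCv : eval v (HesseCubic.form k) = 0) :
    (∃ w : Fin 3 → ℂ, LinearIndependent ℂ ![v, w] ∧
        ∀ t : ℂ, eval (v + t • w) (HesseCubic.form k) = t ^ 3 * eval w (HesseCubic.form k)) ↔
      ∃ γ c : ℂ, γ ^ 3 = 1 ∧ (v = c • ![0, 1, -γ] ∨ v = c • ![-γ, 0, 1] ∨ v = c • ![1, -γ, 0]) := by
  have hform : ∀ x : Fin 3 → ℂ, eval x (HesseCubic.form k) =
      x 0 ^ 3 + x 1 ^ 3 + x 2 ^ 3 - 3 * k * (x 0 * x 1 * x 2) := by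
    intro x
    simp [HesseCubic.form]
  rw [hform] at hCv
  constructor
  · rintro ⟨w, hlin, hflex⟩
    have e1 := hflex 1
    have e2 := hflex (-1)
    rw [hform, hform] at e1 e2
    simp only [Pi.add_apply, Pi.smul_apply, smul_eq_mul] at e1 e2
    -- first and second order conditions
    have hL : (v 0 ^ 2 - k * v 1 * v 2) * w 0 + (v 1 ^ 2 - k * v 0 * v 2) * w 1 +
        (v 2 ^ 2 - k * v 0 * v 1) * w 2 = 0 := by linear_combination (e1 - e2) / 6
    have hQ : v 0 * w 0 ^ 2 + v 1 * w 1 ^ 2 + v 2 * w 2 ^ 2 -
        k * (v 0 * w 1 * w 2 + v 1 * w 0 * w 2 + v 2 * w 0 * w 1) = 0 := by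
      linear_combination (e1 + e2) / 6 - (1 / 3 : ℂ) * hCv
    set M : Matrix (Fin 3) (Fin 3) ℂ := !![v 0, -k * v 2 / 2, -k * v 1 / 2;
      -k * v 2 / 2, v 1, -k * v 0 / 2; -k * v 1 / 2, -k * v 0 / 2, v 2] with hM
    set a := Matrix.mulVec M v with ha
    set b := Matrix.mulVec M w with hb
    have hav : dotProduct v a = 0 := by
      simp only [ha, hM, Matrix.mulVec, dotProduct, Fin.sum_univ_three, Matrix.of_apply,
        Matrix.cons_val', Matrix.cons_val_zero, Matrix.cons_val_one, Matrix.cons_val_two,
        Matrix.empty_val', Matrix.cons_val_fin_one, Matrix.head_cons, Matrix.head_fin_const,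
        Matrix.vecHead, Matrix.vecTail, Function.comp_apply, Fin.succ_zero_eq_one,
        Fin.succ_one_eq_two]
      linear_combination hCv
    have haw : dotProduct a w = 0 := by
      simp only [ha, hM, Matrix.mulVec, dotProduct, Fin.sum_univ_three, Matrix.of_apply,
        Matrix.cons_val', Matrix.cons_val_zero, Matrix.cons_val_one, Matrix.cons_val_two,
        Matrix.empty_val', Matrix.cons_val_fin_one, Matrix.head_cons, Matrix.head_fin_const,
        Matrix.vecHead, Matrix.vecTail, Function.comp_apply, Fin.succ_zero_eq_one,
        Fin.succ_one_eq_two]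
      linear_combination hL
    have hbv : dotProduct v b = 0 := by
      simp only [hb, hM, Matrix.mulVec, dotProduct, Fin.sum_univ_three, Matrix.of_apply,
        Matrix.cons_val', Matrix.cons_val_zero, Matrix.cons_val_one, Matrix.cons_val_two,
        Matrix.empty_val', Matrix.cons_val_fin_one, Matrix.head_cons, Matrix.head_fin_const,
        Matrix.vecHead, Matrix.vecTail, Function.comp_apply, Fin.succ_zero_eq_one,
        Fin.succ_one_eq_two]
      linear_combination hL
    have hbw : dotProduct b w = 0 := by
      simp only [hb, hM, Matrix.mulVec, dotProduct, Fin.sum_univ_three, Matrix.of_apply,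
        Matrix.cons_val', Matrix.cons_val_zero, Matrix.cons_val_one, Matrix.cons_val_two,
        Matrix.empty_val', Matrix.cons_val_fin_one, Matrix.head_cons, Matrix.head_fin_const,
        Matrix.vecHead, Matrix.vecTail, Function.comp_apply, Fin.succ_zero_eq_one,
        Fin.succ_one_eq_two]
      linear_combination hQ
    set nn := crossProduct v w with hnn
    have hn0 : nn ≠ 0 := crossProduct_ne_zero_iff_linearIndependent.mpr hlin
    have hpar : ∀ x : Fin 3 → ℂ, dotProduct x w = 0 → dotProduct v x = 0 → ∀ i j, x i * nn j = x j * nn i := by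
      intro x hxw hxv
      have hx : crossProduct x nn = 0 := by
        rw [hnn, cross_cross_eq_smul_sub_smul', hxw, hxv, zero_smul, zero_smul, sub_zero]
      have h0 := congrFun hx 0
      have h1 := congrFun hx 1
      have h2 := congrFun hx 2
      simp only [cross_apply, Matrix.cons_val_zero, Matrix.cons_val_one, Matrix.cons_val_two,
        Matrix.head_cons, Pi.zero_apply, Matrix.vecHead, Matrix.vecTail, Function.comp_apply,
        Fin.succ_zero_eq_one, Fin.succ_one_eq_two] at h0 h1 h2
      intro i j
      fin_cases i <;> fin_cases j <;> (try simp only [Fin.zero_eta, Fin.mk_one, Fin.reduceFinMk, Fin.isValue]) <;>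
        (first | ring1 | linear_combination h0 | linear_combination -h0 | linear_combination h1 | linear_combination -h1 | linear_combination h2 | linear_combination -h2)
    have hpa := hpar a haw hav
    have hpb := hpar b hbw hbv
    obtain ⟨j, hj⟩ : ∃ j, nn j ≠ 0 := by
      by_contra hcon
      push Not at hcon
      exact hn0 (funext hcon)
    have hker : ∃ u : Fin 3 → ℂ, u ≠ 0 ∧ Matrix.mulVec M u = 0 := by
      by_cases hu : b j • v - a j • w = 0
      · have hpair := LinearIndependent.pair_iff.mp hlin (b j) (-(a j)) (by
          rw [neg_smul, ← sub_eq_add_neg]; exact hu)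
        refine ⟨v, hv, ?_⟩
        show a = 0
        funext i
        have := hpa i j
        rw [neg_eq_zero.mp hpair.2, zero_mul] at this
        simpa [hj] using this
      · refine ⟨_, hu, ?_⟩
        rw [Matrix.mulVec_sub, Matrix.mulVec_smul, Matrix.mulVec_smul, ← ha, ← hb]
        funext i
        have h1 := hpa i j
        have h2 := hpb i j
        have : nn j * (b j * a i - a j * b i) = 0 := by linear_combination b j * h1 - a j * h2
        rcases mul_eq_zero.mp this with h | h
        · exact absurd h hj
        · simp only [Pi.sub_apply, Pi.smul_apply, smul_eq_mul, Pi.zero_apply]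
          exact h
    have hdet : M.det = 0 := Matrix.exists_mulVec_eq_zero_iff.mp hker
    rw [hM, Matrix.det_fin_three] at hdet
    simp only [Matrix.of_apply, Matrix.cons_val', Matrix.cons_val_zero, Matrix.cons_val_one,
      Matrix.cons_val_two, Matrix.empty_val', Matrix.cons_val_fin_one, Matrix.head_cons,
      Matrix.head_fin_const, Matrix.vecHead, Matrix.vecTail, Function.comp_apply,
      Fin.succ_zero_eq_one, Fin.succ_one_eq_two] at hdet
    have hprod : (1 - k ^ 3) * (v 0 * v 1 * v 2) = 0 := by
      linear_combination hdet + (k ^ 2 / 4) * hCv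
    have hk' : (1 - k ^ 3) ≠ 0 := fun h => hk (by linear_combination -h)
    have hp0 : v 0 * v 1 * v 2 = 0 := by
      rcases mul_eq_zero.mp hprod with h | h
      · exact absurd h hk'
      · exact h
    rcases mul_eq_zero.mp hp0 with h01 | h2
    · rcases mul_eq_zero.mp h01 with h0 | h1
      · -- v 0 = 0
        have hv1 : v 1 ≠ 0 := by
          intro h1
          apply hv
          have : v 2 ^ 3 = 0 := by rw [h0, h1] at hCv; linear_combination hCv
          have h2 : v 2 = 0 := pow_eq_zero_iff (by norm_num) |>.mp this
          funext i; fin_cases i <;> simp [h0, h1, h2]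
        refine ⟨-(v 2) / v 1, v 1, ?_, Or.inl ?_⟩
        · rw [h0] at hCv
          field_simp
          linear_combination -hCv
        · funext i; fin_cases i <;> simp [h0] <;> field_simp
      · -- v 1 = 0
        have hv2 : v 2 ≠ 0 := by
          intro h2
          apply hv
          have : v 0 ^ 3 = 0 := by rw [h1, h2] at hCv; linear_combination hCv
          have h0 : v 0 = 0 := pow_eq_zero_iff (by norm_num) |>.mp this
          funext i; fin_cases i <;> simp [h0, h1, h2]
        refine ⟨-(v 0) / v 2, v 2, ?_, Or.inr (Or.inl ?_)⟩
        · rw [h1] at hCv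
          field_simp
          linear_combination -hCv
        · funext i; fin_cases i <;> simp [h1] <;> field_simp
    · -- v 2 = 0
      have hv0 : v 0 ≠ 0 := by
        intro h0
        apply hv
        have : v 1 ^ 3 = 0 := by rw [h0, h2] at hCv; linear_combination hCv
        have h1 : v 1 = 0 := pow_eq_zero_iff (by norm_num) |>.mp this
        funext i; fin_cases i <;> simp [h0, h1, h2]
      refine ⟨-(v 1) / v 0, v 0, ?_, Or.inr (Or.inr ?_)⟩
      · rw [h2] at hCv
        field_simp
        linear_combination -hCv
      · funext i; fin_cases i <;> simp [h2] <;> field_simp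
  · rintro ⟨γ, c, hγ, hvc⟩
    have hc : c ≠ 0 := by
      rintro rfl
      rcases hvc with h | h | h <;> exact hv (by rw [h, zero_smul])
    rcases hvc with h | h | h
    · refine ⟨![1, -k * γ, 0], ?_, ?_⟩
      · rw [LinearIndependent.pair_iff]
        intro s t hst
        have h0 := congrFun hst 0
        have h1 := congrFun hst 1
        simp [h] at h0 h1
        have ht : t = 0 := h0
        subst ht
        simp at h1
        exact ⟨h1.resolve_right hc, rfl⟩
      · intro t
        rw [hform, hform, h]
        simp only [Pi.add_apply, Pi.smul_apply, smul_eq_mul, Matrix.cons_val_zero,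
          Matrix.cons_val_one, Matrix.cons_val_two, Matrix.head_cons, Matrix.tail_cons]
        linear_combination (-c ^ 3) * hγ
    · refine ⟨![0, 1, -k * γ], ?_, ?_⟩
      · rw [LinearIndependent.pair_iff]
        intro s t hst
        have h0 := congrFun hst 0
        have h1 := congrFun hst 1
        simp [h] at h0 h1
        have ht : t = 0 := h1
        subst ht
        refine ⟨?_, rfl⟩
        rcases h0 with h0 | h0
        · exact h0
        · rcases h0 with h0 | h0
          · exact absurd h0 hc
          · rw [h0] at hγ; norm_num at hγ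
      · intro t
        rw [hform, hform, h]
        simp only [Pi.add_apply, Pi.smul_apply, smul_eq_mul, Matrix.cons_val_zero,
          Matrix.cons_val_one, Matrix.cons_val_two, Matrix.head_cons, Matrix.tail_cons]
        linear_combination (-c ^ 3) * hγ
    · refine ⟨![-k * γ, 0, 1], ?_, ?_⟩
      · rw [LinearIndependent.pair_iff]
        intro s t hst
        have h0 := congrFun hst 0
        have h2 := congrFun hst 2
        simp [h] at h0 h2
        have ht : t = 0 := h2
        subst ht
        simp at h0
        exact ⟨h0.resolve_right hc, rfl⟩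
      · intro t
        rw [hform, hform, h]
        simp only [Pi.add_apply, Pi.smul_apply, smul_eq_mul, Matrix.cons_val_zero,
          Matrix.cons_val_one, Matrix.cons_val_two, Matrix.head_cons, Matrix.tail_cons]
        linear_combination (-c ^ 3) * hγ

end Groth.Agent.S18404
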