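import Groth.Statements.S18467
import Mathlib.Tactic
import Mathlib.FieldTheory.Finite.Basic
import Mathlib.RingTheory.IntegralDomain
-- import your own Groth.Agent.* helpers here

set_option autoImplicit false
universe u
open Hopf

namespace Groth.Agent.S18467

open MonoidAlgebra in
theorem of_mul_sum {R G : Type*} [CommRing R] [Group G] [Fintype G] (f : G → R)
    (hf : ∀ x y, f (x * y) = f x * f y) (g : G) :
    MonoidAlgebra.of R G g * ∑ m : G, f m • MonoidAlgebra.of R G m
      = f g⁻¹ • ∑ m : G, f m • MonoidAlgebra.of R G m := by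
  rw [Finset.mul_sum, Finset.smul_sum]
  simp_rw [mul_smul_comm, ← map_mul]
  rw [← Equiv.sum_comp (Equiv.mulLeft g⁻¹)]
  apply Finset.sum_congr rfl
  intro m _
  simp only [Equiv.coe_mulLeft, mul_inv_cancel_left, hf, mul_smul]

theorem sum_mul_eq_zero {R G : Type*} [CommRing R] [Group G] [Fintype G] (F : G → R)
    (hF : ∀ x y, F (x * y) = F x * F y) (g : G) (hg : IsUnit (F g - 1)) :
    ∑ m : G, F m = 0 := by
  have h1 : ∑ m : G, F m = F g * ∑ m : G, F m := by
    rw [Finset.mul_sum, ← Equiv.sum_comp (Equiv.mulLeft g)]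
    simp only [Equiv.coe_mulLeft, hF]
  have h2 : (F g - 1) * ∑ m : G, F m = 0 := by rw [sub_mul, ← h1, one_mul, sub_self]
  exact (hg.mul_right_eq_zero).1 h2


/-- Let p be a prime and R a commutative ring containing an element u with u(p − 1) = 1, and let χ be a
homomorphism from the group of units of ℤ/p to the group of units of R such that χ(m) − 1 is a unit
of R for every m ≠ 1. For 0 ≤ i < p − 1 put e_i = u · Σ_m χ(m)^{−i} [m] in the group algebra
R[(ℤ/p)ˣ]. Then the e_i are idempotents, e_i e_j = 0 for i ≠ j, and Σ_i e_i = 1. (The published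
statement is for algebras over the subring of the p-adic integers generated over ℤ by the values of
the Teichmüller character χ and by 1/(p(p − 1)); the hypotheses on R and χ here are the properties
of that situation which the computation uses, so the row is stated for every such pair.) -/
theorem result
    (p : ℕ) [Fact p.Prime] (R : Type u) [CommRing R] (u : R) (hu : u * ((p - 1 : ℕ) : R) = 1)
    (χ : (ZMod p)ˣ →* Rˣ) (hχ : ∀ m : (ZMod p)ˣ, m ≠ 1 → IsUnit ((χ m : R) - 1)) :
    CompleteOrthogonalIdempotents (fun i : Fin (p - 1) =>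
      u • ∑ m : (ZMod p)ˣ, ((χ m⁻¹ : Rˣ) : R) ^ (i : ℕ) • MonoidAlgebra.of R (ZMod p)ˣ m) := by
  classical
  have hcard : Fintype.card (ZMod p)ˣ = p - 1 := ZMod.card_units p
  obtain ⟨g₀, hg₀⟩ := IsCyclic.exists_generator (α := (ZMod p)ˣ)
  have hord : orderOf g₀ = p - 1 := by
    rw [orderOf_eq_card_of_forall_mem_zpowers hg₀, Nat.card_eq_fintype_card, hcard]
  set ψ : Fin (p - 1) → (ZMod p)ˣ → R := fun i m => ((χ m⁻¹ : Rˣ) : R) ^ (i : ℕ) with hψ
  have hψmul : ∀ i x y, ψ i (x * y) = ψ i x * ψ i y := by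
    intro i x y
    simp only [hψ, mul_inv_rev, map_mul, Units.val_mul, mul_pow, mul_comm]
  set E : Fin (p - 1) → MonoidAlgebra R (ZMod p)ˣ :=
    fun i => ∑ m : (ZMod p)ˣ, ψ i m • MonoidAlgebra.of R (ZMod p)ˣ m with hE
  have he : (fun i : Fin (p - 1) =>
      u • ∑ m : (ZMod p)ˣ, ((χ m⁻¹ : Rˣ) : R) ^ (i : ℕ) • MonoidAlgebra.of R (ZMod p)ˣ m)
      = fun i => u • E i := rfl
  rw [he]
  -- product formula
  have hprod : ∀ i j, (u • E i) * (u • E j)
      = (u * u * ∑ m : (ZMod p)ˣ, ψ i m * ψ j m⁻¹) • E j := by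
    intro i j
    rw [smul_mul_smul_comm, hE]
    simp only
    rw [Finset.sum_mul]
    simp_rw [smul_mul_assoc, of_mul_sum (ψ j) (hψmul j), smul_smul]
    rw [← Finset.sum_smul, smul_smul, Finset.mul_sum]
  have hT_self : ∀ i, ∑ m : (ZMod p)ˣ, ψ i m * ψ i m⁻¹ = ((p - 1 : ℕ) : R) := by
    intro i
    have : ∀ m : (ZMod p)ˣ, ψ i m * ψ i m⁻¹ = 1 := by
      intro m
      rw [← hψmul, mul_inv_cancel]
      simp [hψ]
    simp only [this, Finset.sum_const, Finset.card_univ, hcard, nsmul_eq_mul, mul_one]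
  have hT_ne : ∀ i j, i ≠ j → ∑ m : (ZMod p)ˣ, ψ i m * ψ j m⁻¹ = 0 := by
    intro i j hij
    apply sum_mul_eq_zero (fun m => ψ i m * ψ j m⁻¹)
    · intro x y
      simp only [mul_inv_rev, hψmul]
      ring
    · show IsUnit (ψ i g₀ * ψ j g₀⁻¹ - 1)
      have hval : ψ i g₀ * ψ j g₀⁻¹ = ((χ (g₀ ^ ((j : ℤ) - (i : ℤ))) : Rˣ) : R) := by
        simp only [hψ, inv_inv, zpow_sub, zpow_natCast, map_mul, map_inv, map_pow,
          Units.val_mul, Units.val_pow_eq_pow_val, mul_comm]
        rfl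
      rw [hval]
      apply hχ
      intro h1
      rw [← orderOf_dvd_iff_zpow_eq_one, hord] at h1
      have hi := i.isLt
      have hj := j.isLt
      have hne : (i : ℕ) ≠ (j : ℕ) := fun h => hij (Fin.ext h)
      obtain ⟨c, hc⟩ := h1
      have hp1 : (1 : ℕ) ≤ p - 1 := by omega
      rcases lt_trichotomy c 0 with hc0 | hc0 | hc0
      · nlinarith
      · subst hc0; omega
      · nlinarith
  refine ⟨⟨fun i => ?_, fun i j hij => ?_⟩, ?_⟩
  · show (u • E i) * (u • E i) = u • E i
    rw [hprod, hT_self, mul_assoc, hu, mul_one]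
  · show (u • E i) * (u • E j) = 0
    rw [hprod, hT_ne i j hij, mul_zero, zero_smul]
  · show ∑ i, u • E i = 1
    rw [← Finset.smul_sum, hE]
    simp only
    rw [Finset.sum_comm]
    simp_rw [← Finset.sum_smul]
    rw [Finset.sum_eq_single (1 : (ZMod p)ˣ)]
    · have : ∀ i : Fin (p - 1), ψ i 1 = 1 := fun i => by simp [hψ]
      simp only [this, Finset.sum_const, Finset.card_univ, Fintype.card_fin, nsmul_eq_mul,
        mul_one, map_one, smul_smul, hu, one_smul]
    · intro m _ hm
      have hgeom : ∑ i : Fin (p - 1), ψ i m = 0 := by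
        have hz : ∀ i : Fin (p - 1), ψ i m = ((χ m⁻¹ : Rˣ) : R) ^ (i : ℕ) := fun i => rfl
        simp only [hz]
        rw [Fin.sum_univ_eq_sum_range (fun i => ((χ m⁻¹ : Rˣ) : R) ^ i) (p - 1)]
        have hgs := geom_sum_mul ((χ m⁻¹ : Rˣ) : R) (p - 1)
        have hpow : ((χ m⁻¹ : Rˣ) : R) ^ (p - 1) = 1 := by
          rw [← Units.val_pow_eq_pow_val, ← map_pow, ← hcard, pow_card_eq_one, map_one,
            Units.val_one]
        rw [hpow, sub_self] at hgs
        have hunit := hχ m⁻¹ (by simpa using hm)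
        exact (hunit.mul_left_eq_zero).1 hgs
      rw [hgeom, zero_smul]
    · intro h; exact absurd (Finset.mem_univ _) h

end Groth.Agent.S18467
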