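import Groth.Statements.S18479
import Mathlib.Tactic
-- import your own Groth.Agent.* helpers here

set_option autoImplicit false
universe u v
open scoped TensorProduct
open OortTate

namespace Groth.Agent.S18479

/-- Let R be a commutative ring and A a commutative Hopf algebra over R whose augmentation ideal ker ε
is a free R-module of rank one with generator x (this is the situation of a group scheme of order 2
over a local ring: A free of rank 2, so ker ε is free of rank 1). Then there are a, b ∈ R with x² =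
a·x, Δ(x) = x ⊗ 1 + 1 ⊗ x + b·(x ⊗ x), and ab = −2; thus A is the Hopf algebra R[T]/(T² − aT) with
comultiplication T ↦ T ⊗ 1 + 1 ⊗ T + b T ⊗ T. (The copy works over a Noetherian local ring to get
freeness; the computation uses only that ker ε is free on x.) -/
theorem result
    (R : Type u) [CommRing R] (A : Type v) [CommRing A] [HopfAlgebra R A]
    (x : A) (hx : Bialgebra.counitAlgHom R A x = 0)
    (hgen : ∀ f : A, Bialgebra.counitAlgHom R A f = 0 → ∃ r : R, f = r • x)
    (hfree : ∀ r : R, r • x = 0 → r = 0) :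
    ∃ a b : R, x * x = a • x ∧
      Bialgebra.comulAlgHom R A x = x ⊗ₜ[R] 1 + 1 ⊗ₜ[R] x + b • (x ⊗ₜ[R] x) ∧ a * b = -2 := by
  classical
  have hεx : Coalgebra.counit (R := R) x = 0 := hx
  have hε1 : Coalgebra.counit (R := R) (1 : A) = 1 := Bialgebra.counit_one
  have hεmul : ∀ p q : A, Coalgebra.counit (R := R) (p * q) =
      Coalgebra.counit (R := R) p * Coalgebra.counit (R := R) q :=
    fun p q => Bialgebra.counit_mul p q
  have hdec0 : ∀ f : A, ∃ r : R, f - Coalgebra.counit (R := R) f • (1 : A) = r • x := by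
    intro f; apply hgen
    show Coalgebra.counit (R := R) (f - Coalgebra.counit (R := R) f • 1) = 0
    rw [map_sub, map_smul, hε1, smul_eq_mul, mul_one, sub_self]
  choose coef hcoef using hdec0
  have huniq : ∀ r r' : R, r • x = r' • x → r = r' := by
    intro r r' h
    have := hfree (r - r') (by rw [sub_smul, h, sub_self])
    exact sub_eq_zero.1 this
  have hdec : ∀ f : A, f = Coalgebra.counit (R := R) f • (1 : A) + coef f • x := by
    intro f; rw [← hcoef f]; abel
  have coef_add : ∀ f g : A, coef (f + g) = coef f + coef g := by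
    intro f g; apply huniq
    rw [← hcoef, add_smul, ← hcoef, ← hcoef, map_add, add_smul]; abel
  have coef_smul : ∀ (c : R) (f : A), coef (c • f) = c * coef f := by
    intro c f; apply huniq
    rw [← hcoef, mul_smul, ← hcoef, map_smul, smul_eq_mul, smul_sub, mul_smul]
  let cf : A →ₗ[R] R := { toFun := coef, map_add' := coef_add, map_smul' := coef_smul }
  have hcf : ∀ f, cf f = coef f := fun f => rfl
  have coef_one : coef 1 = 0 := huniq _ _ (by rw [← hcoef, hε1, one_smul, sub_self, zero_smul])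
  have coef_x : coef x = 1 := huniq _ _ (by rw [← hcoef, hεx, zero_smul, sub_zero, one_smul])
  obtain ⟨a, ha⟩ := hgen (x * x) (by
    show Coalgebra.counit (R := R) (x * x) = 0
    rw [hεmul, hεx, zero_mul])
  let Θ : A ⊗[R] A →ₗ[R] R := LinearMap.mul' R R ∘ₗ TensorProduct.map cf cf
  let Θ₀ : A ⊗[R] A →ₗ[R] R :=
    LinearMap.mul' R R ∘ₗ TensorProduct.map Coalgebra.counit Coalgebra.counit
  let Θ₁ : A ⊗[R] A →ₗ[R] R := LinearMap.mul' R R ∘ₗ TensorProduct.map cf Coalgebra.counit
  let Θ₂ : A ⊗[R] A →ₗ[R] R := LinearMap.mul' R R ∘ₗ TensorProduct.map Coalgebra.counit cf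
  have hΘ : ∀ p q : A, Θ (p ⊗ₜ q) = coef p * coef q := fun p q => by
    simp [Θ, hcf]
  have hΘ₀ : ∀ p q : A, Θ₀ (p ⊗ₜ q) = Coalgebra.counit (R := R) p * Coalgebra.counit (R := R) q :=
    fun p q => by simp [Θ₀]
  have hΘ₁ : ∀ p q : A, Θ₁ (p ⊗ₜ q) = coef p * Coalgebra.counit (R := R) q :=
    fun p q => by simp [Θ₁, hcf]
  have hΘ₂ : ∀ p q : A, Θ₂ (p ⊗ₜ q) = Coalgebra.counit (R := R) p * coef q :=
    fun p q => by simp [Θ₂, hcf]
  have hexp : ∀ t : A ⊗[R] A, t = Θ₀ t • ((1 : A) ⊗ₜ[R] (1 : A)) + Θ₁ t • (x ⊗ₜ[R] (1 : A)) +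
      Θ₂ t • ((1 : A) ⊗ₜ[R] x) + Θ t • (x ⊗ₜ[R] x) := by
    intro t
    induction t using TensorProduct.induction_on with
    | zero => simp
    | tmul p q =>
      rw [hΘ₀, hΘ₁, hΘ₂, hΘ]
      conv_lhs => rw [hdec p, hdec q]
      simp only [TensorProduct.add_tmul, TensorProduct.tmul_add, ← TensorProduct.smul_tmul',
        TensorProduct.tmul_smul, smul_add, smul_smul]
      module
    | add t₁ t₂ h₁ h₂ =>
      simp only [map_add, add_smul]
      conv_lhs => rw [h₁, h₂]
      abel
  set Δx := Coalgebra.comul (R := R) x with hΔx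
  have hcomul : Bialgebra.comulAlgHom R A x = Δx := rfl
  have hL1 : Θ₀ Δx • (1 : A) + Θ₂ Δx • x = x := by
    have h := congrArg (TensorProduct.lid R A) (Coalgebra.rTensor_counit_comul (R := R) x)
    rw [← hΔx, hexp Δx] at h
    simpa [LinearMap.rTensor_tmul, hε1, hεx] using h
  have hL2 : Θ₀ Δx • (1 : A) + Θ₁ Δx • x = x := by
    have h := congrArg (TensorProduct.rid R A) (Coalgebra.lTensor_counit_comul (R := R) x)
    rw [← hΔx, hexp Δx] at h
    simpa [LinearMap.lTensor_tmul, hε1, hεx] using h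
  have hc0 : Θ₀ Δx = 0 := by
    have := congrArg (Coalgebra.counit (R := R)) hL1
    simpa [hε1, hεx] using this
  have hc2 : Θ₂ Δx = 1 := by
    apply huniq; rw [one_smul]; have := hL1; rw [hc0, zero_smul, zero_add] at this; exact this
  have hc1 : Θ₁ Δx = 1 := by
    apply huniq; rw [one_smul]; have := hL2; rw [hc0, zero_smul, zero_add] at this; exact this
  set b := Θ Δx with hb
  have hΔ : Δx = x ⊗ₜ[R] (1 : A) + (1 : A) ⊗ₜ[R] x + b • (x ⊗ₜ[R] x) := by
    conv_lhs => rw [hexp Δx]
    rw [hc0, hc1, hc2, zero_smul, zero_add, one_smul, one_smul]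
  have hcxx : coef (x * x) = a := by rw [ha, coef_smul, coef_x, mul_one]
  -- multiplicativity
  have hmul : Bialgebra.comulAlgHom R A (x * x) =
      Bialgebra.comulAlgHom R A x * Bialgebra.comulAlgHom R A x := map_mul _ _ _
  have hsq : (x ⊗ₜ[R] (1 : A) + (1 : A) ⊗ₜ[R] x + b • (x ⊗ₜ[R] x)) *
      (x ⊗ₜ[R] (1 : A) + (1 : A) ⊗ₜ[R] x + b • (x ⊗ₜ[R] x)) =
      (x * x) ⊗ₜ[R] (1 : A) + x ⊗ₜ[R] x + b • ((x * x) ⊗ₜ[R] x) + x ⊗ₜ[R] x +
      (1 : A) ⊗ₜ[R] (x * x) + b • (x ⊗ₜ[R] (x * x)) + b • ((x * x) ⊗ₜ[R] x) +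
      b • (x ⊗ₜ[R] (x * x)) + (b * b) • ((x * x) ⊗ₜ[R] (x * x)) := by
    simp only [add_mul, mul_add, Algebra.TensorProduct.tmul_mul_tmul, smul_mul_assoc,
      mul_smul_comm, mul_one, one_mul]
    module
  have E1 := congrArg Θ hmul
  rw [ha, map_smul, hcomul, hΔ, hsq] at E1
  simp only [map_add, map_smul, hΘ, hcxx, coef_x, coef_one, smul_eq_mul] at E1
  -- antipode
  have hS := HopfAlgebra.mul_antipode_rTensor_comul_apply (R := R) x
  rw [← hΔx, hΔ] at hS
  simp only [map_add, map_smul, LinearMap.rTensor_tmul, LinearMap.mul'_apply,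
    HopfAlgebra.antipode_one, mul_one, one_mul, hεx, map_zero] at hS
  have hSdec := hdec (HopfAlgebra.antipode R x)
  set e := Coalgebra.counit (R := R) (HopfAlgebra.antipode R x) with he_def
  set s := coef (HopfAlgebra.antipode R x) with hs_def
  rw [hSdec] at hS
  simp only [add_mul, smul_mul_assoc, one_mul, ha, smul_add, smul_smul] at hS
  have he : e = 0 := by
    have := congrArg (Coalgebra.counit (R := R)) hS
    simpa [hε1, hεx] using this
  have hcf1 : cf 1 = 0 := coef_one
  have hcfx : cf x = 1 := coef_x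
  have hs2 := congrArg cf hS
  simp only [map_add, map_smul, hcf1, hcfx, smul_eq_mul, map_zero] at hs2
  rw [he] at hs2
  refine ⟨a, b, ha, hΔ, ?_⟩
  linear_combination s * E1 + (a * b + 2) * hs2

end Groth.Agent.S18479
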