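import Groth.Statements.S18480
import Mathlib.Tactic
-- import your own Groth.Agent.* helpers here

set_option autoImplicit false
universe u v
open scoped TensorProduct
open OortTate

namespace Groth.Agent.S18480

universe w

open TensorProduct

section General

variable {R : Type u} [CommRing R] {A : Type v} [CommRing A] [Bialgebra R A]

lemma decomp (x : A)
    (hgen : ∀ f : A, Bialgebra.counitAlgHom R A f = 0 → ∃ r : R, f = r • x) (f : A) :
    ∃ r : R, f = algebraMap R A (Bialgebra.counitAlgHom R A f) + algebraMap R A r * x := by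
  obtain ⟨r, hr⟩ := hgen (f - algebraMap R A (Bialgebra.counitAlgHom R A f)) (by simp)
  exact ⟨r, by rw [← Algebra.smul_def, ← hr]; abel⟩

lemma uniq (x : A) (hx : Bialgebra.counitAlgHom R A x = 0)
    (hfree : ∀ r : R, r • x = 0 → r = 0) {α α' r r' : R}
    (h : algebraMap R A α + algebraMap R A r * x = algebraMap R A α' + algebraMap R A r' * x) :
    α = α' ∧ r = r' := by
  have h1 : α = α' := by
    have := congrArg (Bialgebra.counitAlgHom R A) h
    rw [map_add, map_add, map_mul, map_mul, AlgHom.commutes, AlgHom.commutes, hx] at this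
    simpa using this
  subst h1
  refine ⟨rfl, ?_⟩
  have h2 : (r - r') • x = 0 := by
    rw [Algebra.smul_def, map_sub, sub_mul]
    exact sub_eq_zero.mpr (add_left_cancel h)
  exact sub_eq_zero.mp (hfree _ h2)

noncomputable def coef (x : A)
    (hgen : ∀ f : A, Bialgebra.counitAlgHom R A f = 0 → ∃ r : R, f = r • x) (f : A) : R :=
  (decomp x hgen f).choose

lemma coef_spec (x : A)
    (hgen : ∀ f : A, Bialgebra.counitAlgHom R A f = 0 → ∃ r : R, f = r • x) (f : A) :
    f = algebraMap R A (Bialgebra.counitAlgHom R A f) + algebraMap R A (coef x hgen f) * x :=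
  (decomp x hgen f).choose_spec

lemma coef_eq (x : A) (hx : Bialgebra.counitAlgHom R A x = 0)
    (hgen : ∀ f : A, Bialgebra.counitAlgHom R A f = 0 → ∃ r : R, f = r • x)
    (hfree : ∀ r : R, r • x = 0 → r = 0) (f : A) (α r : R)
    (h : f = algebraMap R A α + algebraMap R A r * x) : coef x hgen f = r := by
  have := coef_spec x hgen f
  exact (uniq x hx hfree (this.symm.trans h)).2

noncomputable def coefL (x : A) (hx : Bialgebra.counitAlgHom R A x = 0)
    (hgen : ∀ f : A, Bialgebra.counitAlgHom R A f = 0 → ∃ r : R, f = r • x)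
    (hfree : ∀ r : R, r • x = 0 → r = 0) : A →ₗ[R] R where
  toFun f := coef x hgen f
  map_add' f g := by
    apply coef_eq x hx hgen hfree (f + g) (Bialgebra.counitAlgHom R A f + Bialgebra.counitAlgHom R A g)
    have hf := coef_spec x hgen f
    have hg := coef_spec x hgen g
    rw [map_add, map_add]
    linear_combination hf + hg
  map_smul' c f := by
    apply coef_eq x hx hgen hfree (c • f) (c * Bialgebra.counitAlgHom R A f)
    have hf := coef_spec x hgen f
    rw [RingHom.id_apply, smul_eq_mul, map_mul, map_mul, Algebra.smul_def]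
    linear_combination (algebraMap R A c) * hf

lemma coefL_apply (x : A) (hx : Bialgebra.counitAlgHom R A x = 0)
    (hgen : ∀ f : A, Bialgebra.counitAlgHom R A f = 0 → ∃ r : R, f = r • x)
    (hfree : ∀ r : R, r • x = 0 → r = 0) (f : A) :
    f = algebraMap R A (Bialgebra.counitAlgHom R A f) + algebraMap R A (coefL x hx hgen hfree f) * x :=
  coef_spec x hgen f

lemma coefL_x (x : A) (hx : Bialgebra.counitAlgHom R A x = 0)
    (hgen : ∀ f : A, Bialgebra.counitAlgHom R A f = 0 → ∃ r : R, f = r • x)
    (hfree : ∀ r : R, r • x = 0 → r = 0) : coefL x hx hgen hfree x = 1 := by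
  apply coef_eq x hx hgen hfree x 0
  simp

lemma coefL_one (x : A) (hx : Bialgebra.counitAlgHom R A x = 0)
    (hgen : ∀ f : A, Bialgebra.counitAlgHom R A f = 0 → ∃ r : R, f = r • x)
    (hfree : ∀ r : R, r • x = 0 → r = 0) : coefL x hx hgen hfree 1 = 0 := by
  apply coef_eq x hx hgen hfree 1 1
  simp

lemma coefL_mul (x : A) (hx : Bialgebra.counitAlgHom R A x = 0)
    (hgen : ∀ f : A, Bialgebra.counitAlgHom R A f = 0 → ∃ r : R, f = r • x)
    (hfree : ∀ r : R, r • x = 0 → r = 0) (a : R) (hxa : x * x = a • x) (f g : A) :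
    coefL x hx hgen hfree (f * g) =
      Bialgebra.counitAlgHom R A f * coefL x hx hgen hfree g +
        coefL x hx hgen hfree f * Bialgebra.counitAlgHom R A g +
        coefL x hx hgen hfree f * coefL x hx hgen hfree g * a := by
  apply coef_eq x hx hgen hfree (f * g) (Bialgebra.counitAlgHom R A f * Bialgebra.counitAlgHom R A g)
  have hf := coefL_apply x hx hgen hfree f
  have hg := coefL_apply x hx hgen hfree g
  rw [Algebra.smul_def] at hxa
  simp only [map_add, map_mul]
  set α := Bialgebra.counitAlgHom R A f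
  set β := coefL x hx hgen hfree f
  set γ := Bialgebra.counitAlgHom R A g
  set δ := coefL x hx hgen hfree g
  rw [hf, hg]
  linear_combination (algebraMap R A β * algebraMap R A δ) * hxa

lemma smul_tmul_free (x : A) (hx : Bialgebra.counitAlgHom R A x = 0)
    (hgen : ∀ f : A, Bialgebra.counitAlgHom R A f = 0 → ∃ r : R, f = r • x)
    (hfree : ∀ r : R, r • x = 0 → r = 0) (r : R) (h : r • (x ⊗ₜ[R] x) = 0) : r = 0 := by
  have := congrArg ((TensorProduct.lid R R).toLinearMap ∘ₗ TensorProduct.map (coefL x hx hgen hfree)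
    (coefL x hx hgen hfree)) h
  simpa [coefL_x] using this

end General

section Construct

variable {R : Type u} [CommRing R] {A : Type v} [CommRing A] [Bialgebra R A]
  {A' : Type w} [CommRing A'] [Bialgebra R A']

/-- The algebra map `f ↦ ε f + (c f * s) x'`. -/
noncomputable def mkAlg (x : A) (hx : Bialgebra.counitAlgHom R A x = 0)
    (hgen : ∀ f : A, Bialgebra.counitAlgHom R A f = 0 → ∃ r : R, f = r • x)
    (hfree : ∀ r : R, r • x = 0 → r = 0) (a : R) (hxa : x * x = a • x)
    (x' : A') (hx' : Bialgebra.counitAlgHom R A' x' = 0) (a' : R) (hxa' : x' * x' = a' • x')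
    (s : R) (has : a * s = s * s * a') : A →ₐ[R] A' :=
  AlgHom.ofLinearMap
    ((Algebra.linearMap R A').comp (Bialgebra.counitAlgHom R A).toLinearMap +
      LinearMap.smulRight (coefL x hx hgen hfree) (s • x'))
    (by simp [coefL_one])
    (by
      intro f g
      simp only [LinearMap.add_apply, LinearMap.coe_comp, Function.comp_apply,
        AlgHom.toLinearMap_apply, Algebra.linearMap_apply, LinearMap.smulRight_apply, map_mul,
        coefL_mul x hx hgen hfree a hxa]
      rw [Algebra.smul_def] at hxa'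
      simp only [Algebra.smul_def, map_add, map_mul]
      have has' : algebraMap R A' a * algebraMap R A' s =
          algebraMap R A' s * algebraMap R A' s * algebraMap R A' a' := by
        rw [← map_mul, ← map_mul, ← map_mul, has]
      linear_combination (algebraMap R A' (coefL x hx hgen hfree f) *
        algebraMap R A' (coefL x hx hgen hfree g) * x') * has'
        - (algebraMap R A' (coefL x hx hgen hfree f) * algebraMap R A' (coefL x hx hgen hfree g) *
          algebraMap R A' s * algebraMap R A' s) * hxa')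

lemma mkAlg_apply (x : A) (hx : Bialgebra.counitAlgHom R A x = 0)
    (hgen : ∀ f : A, Bialgebra.counitAlgHom R A f = 0 → ∃ r : R, f = r • x)
    (hfree : ∀ r : R, r • x = 0 → r = 0) (a : R) (hxa : x * x = a • x)
    (x' : A') (hx' : Bialgebra.counitAlgHom R A' x' = 0) (a' : R) (hxa' : x' * x' = a' • x')
    (s : R) (has : a * s = s * s * a') (f : A) :
    mkAlg x hx hgen hfree a hxa x' hx' a' hxa' s has f =
      algebraMap R A' (Bialgebra.counitAlgHom R A f) + coefL x hx hgen hfree f • s • x' := rfl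

lemma mkAlg_x (x : A) (hx : Bialgebra.counitAlgHom R A x = 0)
    (hgen : ∀ f : A, Bialgebra.counitAlgHom R A f = 0 → ∃ r : R, f = r • x)
    (hfree : ∀ r : R, r • x = 0 → r = 0) (a : R) (hxa : x * x = a • x)
    (x' : A') (hx' : Bialgebra.counitAlgHom R A' x' = 0) (a' : R) (hxa' : x' * x' = a' • x')
    (s : R) (has : a * s = s * s * a') :
    mkAlg x hx hgen hfree a hxa x' hx' a' hxa' s has x = s • x' := by
  rw [mkAlg_apply, hx, coefL_x, map_zero, zero_add, one_smul]

noncomputable def mkBialg (x : A) (hx : Bialgebra.counitAlgHom R A x = 0)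
    (hgen : ∀ f : A, Bialgebra.counitAlgHom R A f = 0 → ∃ r : R, f = r • x)
    (hfree : ∀ r : R, r • x = 0 → r = 0) (a : R) (hxa : x * x = a • x)
    (b : R) (hxb : Bialgebra.comulAlgHom R A x = x ⊗ₜ[R] 1 + 1 ⊗ₜ[R] x + b • (x ⊗ₜ[R] x))
    (x' : A') (hx' : Bialgebra.counitAlgHom R A' x' = 0) (a' : R) (hxa' : x' * x' = a' • x')
    (b' : R) (hxb' : Bialgebra.comulAlgHom R A' x' = x' ⊗ₜ[R] 1 + 1 ⊗ₜ[R] x' + b' • (x' ⊗ₜ[R] x'))
    (s : R) (has : a * s = s * s * a') (hbs : s * b' = b * (s * s)) : A →ₐc[R] A' :=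
  BialgHom.ofAlgHom (mkAlg x hx hgen hfree a hxa x' hx' a' hxa' s has)
    (by
      apply AlgHom.ext; intro f
      simp only [AlgHom.comp_apply, mkAlg_apply, map_add, AlgHom.commutes, map_smul, hx',
        smul_zero, add_zero]
      rfl)
    (by
      apply AlgHom.ext; intro f
      rw [coefL_apply x hx hgen hfree f]
      simp only [AlgHom.comp_apply, map_add, map_mul, AlgHom.commutes]
      congr 2
      rw [mkAlg_x, hxb, map_smul, hxb']
      simp only [map_add, map_smul, Algebra.TensorProduct.map_tmul, mkAlg_x, map_one,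
        smul_add, TensorProduct.smul_tmul', TensorProduct.tmul_smul, smul_smul]
      rw [hbs]
      congr 1
      congr 2
      ring)

lemma mkBialg_apply (x : A) (hx : Bialgebra.counitAlgHom R A x = 0)
    (hgen : ∀ f : A, Bialgebra.counitAlgHom R A f = 0 → ∃ r : R, f = r • x)
    (hfree : ∀ r : R, r • x = 0 → r = 0) (a : R) (hxa : x * x = a • x)
    (b : R) (hxb : Bialgebra.comulAlgHom R A x = x ⊗ₜ[R] 1 + 1 ⊗ₜ[R] x + b • (x ⊗ₜ[R] x))
    (x' : A') (hx' : Bialgebra.counitAlgHom R A' x' = 0) (a' : R) (hxa' : x' * x' = a' • x')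
    (b' : R) (hxb' : Bialgebra.comulAlgHom R A' x' = x' ⊗ₜ[R] 1 + 1 ⊗ₜ[R] x' + b' • (x' ⊗ₜ[R] x'))
    (s : R) (has : a * s = s * s * a') (hbs : s * b' = b * (s * s)) (f : A) :
    mkBialg x hx hgen hfree a hxa b hxb x' hx' a' hxa' b' hxb' s has hbs f =
      algebraMap R A' (Bialgebra.counitAlgHom R A f) + coefL x hx hgen hfree f • s • x' := rfl

end Construct

/-- Let R be a commutative ring and let A and A' be commutative Hopf algebras over R whose augmentation
ideals are free of rank one with generators x and x', with constants a, b and a', b' ∈ R such that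
x² = a x, Δ(x) = x ⊗ 1 + 1 ⊗ x + b x ⊗ x and x'² = a' x', Δ(x') = x' ⊗ 1 + 1 ⊗ x' + b' x' ⊗ x' (the
group schemes of order two G_{a,b} and G_{a',b'}). Then A and A' are isomorphic as bialgebras over R
(G_{a,b} ≅ G_{a',b'} as group schemes) if and only if there is a unit s of R with a = a'·s and b' =
b·s. -/
theorem result
    (R : Type u) [CommRing R] (A : Type v) [CommRing A] [HopfAlgebra R A]
    (x : A) (hx : Bialgebra.counitAlgHom R A x = 0)
    (hgen : ∀ f : A, Bialgebra.counitAlgHom R A f = 0 → ∃ r : R, f = r • x)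
    (hfree : ∀ r : R, r • x = 0 → r = 0)
    (a b : R) (hxa : x * x = a • x)
    (hxb : Bialgebra.comulAlgHom R A x = x ⊗ₜ[R] 1 + 1 ⊗ₜ[R] x + b • (x ⊗ₜ[R] x))
    (A' : Type v) [CommRing A'] [HopfAlgebra R A']
    (x' : A') (hx' : Bialgebra.counitAlgHom R A' x' = 0)
    (hgen' : ∀ f : A', Bialgebra.counitAlgHom R A' f = 0 → ∃ r : R, f = r • x')
    (hfree' : ∀ r : R, r • x' = 0 → r = 0)
    (a' b' : R) (hxa' : x' * x' = a' • x')
    (hxb' : Bialgebra.comulAlgHom R A' x' = x' ⊗ₜ[R] 1 + 1 ⊗ₜ[R] x' + b' • (x' ⊗ₜ[R] x')) :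
    Nonempty (A ≃ₐc[R] A') ↔ ∃ s : Rˣ, a = a' * (s : R) ∧ b' = b * (s : R) := by
  constructor
  · rintro ⟨φ⟩
    have hε : ∀ f : A, Bialgebra.counitAlgHom R A' (φ f) = Bialgebra.counitAlgHom R A f := by
      intro f
      simp only [Bialgebra.counitAlgHom_apply]
      exact CoalgHomClass.counit_comp_apply φ f
    have hε' : ∀ f : A', Bialgebra.counitAlgHom R A (φ.symm f) = Bialgebra.counitAlgHom R A' f := by
      intro f
      simp only [Bialgebra.counitAlgHom_apply]
      exact CoalgHomClass.counit_comp_apply φ.symm f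
    obtain ⟨s, hs⟩ := hgen' (φ x) (by rw [hε, hx])
    obtain ⟨t, ht⟩ := hgen (φ.symm x') (by rw [hε', hx'])
    have hst : s * t = 1 := by
      have h1 : φ.symm (φ x) = x := φ.symm_apply_apply x
      rw [hs, map_smul, ht, smul_smul] at h1
      have : (s * t - 1) • x = 0 := by rw [sub_smul, h1, one_smul, sub_self]
      exact sub_eq_zero.mp (hfree _ this)
    let u : Rˣ := ⟨s, t, hst, by rw [mul_comm]; exact hst⟩
    refine ⟨u, ?_, ?_⟩
    · have h1 : φ (x * x) = φ (a • x) := by rw [hxa]
      rw [map_mul, map_smul, hs, smul_mul_smul_comm, hxa', smul_smul, smul_smul] at h1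
      have h2 : (s * s * a' - a * s) • x' = 0 := by rw [sub_smul, h1, sub_self]
      have h3 := sub_eq_zero.mp (hfree' _ h2)
      show a = a' * s
      linear_combination (-t) * h3 + (s * a' - a) * hst
    · have h1 := CoalgHomClass.map_comp_comul_apply φ x
      rw [← Bialgebra.comulAlgHom_apply, hxb, ← Bialgebra.comulAlgHom_apply, hs, map_smul,
        hxb'] at h1
      have h3 : b * (s * s) = s * b' := by
        have := congrArg ((TensorProduct.lid R R).toLinearMap ∘ₗ
          TensorProduct.map (coefL x' hx' hgen' hfree') (coefL x' hx' hgen' hfree')) h1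
        simp [coefL_x, coefL_one, hs] at this
        linear_combination this
      show b' = b * s
      linear_combination (-t) * h3 - (b' - b * s) * hst
  · rintro ⟨u, hau, hbu⟩
    have has : a * (u:R) = (u:R) * (u:R) * a' := by rw [hau]; ring
    have hbs : (u:R) * b' = b * ((u:R) * (u:R)) := by rw [hbu]; ring
    have has2 : a' * ((u⁻¹:Rˣ):R) = ((u⁻¹:Rˣ):R) * ((u⁻¹:Rˣ):R) * a := by
      rw [hau]; linear_combination (-(a' * ((u⁻¹ : Rˣ) : R))) * (Units.inv_mul u)
    have hbs2 : ((u⁻¹:Rˣ):R) * b = b' * (((u⁻¹:Rˣ):R) * ((u⁻¹:Rˣ):R)) := by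
      rw [hbu]; linear_combination (-(((u⁻¹:Rˣ):R)) * b) * (Units.mul_inv u)
    let φ := mkBialg x hx hgen hfree a hxa b hxb x' hx' a' hxa' b' hxb' (u:R) has hbs
    let ψ := mkBialg x' hx' hgen' hfree' a' hxa' b' hxb' x hx a hxa b hxb ((u⁻¹:Rˣ):R) has2 hbs2
    have hφx' : ψ x' = ((u⁻¹:Rˣ):R) • x := by
      simp only [ψ, mkBialg_apply, hx', coefL_x, map_zero, zero_add, one_smul]
    have hψx : φ x = (u:R) • x' := by
      simp only [φ, mkBialg_apply, hx, coefL_x, map_zero, zero_add, one_smul]
    refine ⟨BialgEquiv.ofBialgHom φ ψ ?_ ?_⟩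
    · apply BialgHom.ext; intro f
      rw [BialgHom.comp_apply, BialgHom.id_apply]
      conv_lhs => rw [show ψ f = _ from mkBialg_apply _ _ _ _ _ _ _ _ _ _ _ _ _ _ _ _ _ f]
      rw [map_add, map_smul, map_smul, hψx, smul_smul, smul_smul, mul_assoc, Units.inv_mul,
        mul_one, AlgHomClass.commutes]
      conv_rhs => rw [coefL_apply x' hx' hgen' hfree' f]
      rw [Algebra.smul_def]
    · apply BialgHom.ext; intro f
      rw [BialgHom.comp_apply, BialgHom.id_apply]
      conv_lhs => rw [show φ f = _ from mkBialg_apply _ _ _ _ _ _ _ _ _ _ _ _ _ _ _ _ _ f]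
      rw [map_add, map_smul, map_smul, hφx', smul_smul, smul_smul, mul_assoc, Units.mul_inv,
        mul_one, AlgHomClass.commutes]
      conv_rhs => rw [coefL_apply x hx hgen hfree f]
      rw [Algebra.smul_def]

end Groth.Agent.S18480
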