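import Groth.Statements.S18806
import Mathlib.RingTheory.Flat.Basic
import Mathlib.LinearAlgebra.Basis.VectorSpace
-- import your own Groth.Agent.* helpers here

set_option autoImplicit false
universe u v v' w w' x
open TensorProduct
open HopfRep

namespace Groth.Agent.S18806

/-- Let k be a field, i : C → D an injective morphism of k-coalgebras and V a right D-comodule with
coaction ρ : V → V ⊗ D. If ρ(v) lies in the image of V ⊗ C → V ⊗ D (induced by i) for every v, then
V comes from a C-comodule: there is a C-comodule structure on V whose coaction, followed by V ⊗ C →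
V ⊗ D, is ρ. (The source states this for left comodules over the coordinate bialgebras of an affine
monoid scheme over k and of its group of units, assumed open and schematically dense, and uses that
assumption only through the injectivity of the restriction map of coordinate rings; the row is the
right-comodule mirror image for any injective coalgebra map. The converse direction is immediate.) -/
theorem result (k : Type u) [Field k]
    (C : Type v) [AddCommGroup C] [Module k C] [Coalgebra k C]
    (D : Type v') [AddCommGroup D] [Module k D] [Coalgebra k D]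
    (i : C →ₗc[k] D) (hi : Function.Injective i)
    (V : Type w) [AddCommGroup V] [Module k V] [HopfRep.Comod k D V]
    (h : ∀ v : V, HopfRep.Comod.coact (k := k) (A := D) v ∈ LinearMap.range ((i : C →ₗ[k] D).lTensor V)) :
    ∃ c : HopfRep.Comod k C V,
      (i : C →ₗ[k] D).lTensor V ∘ₗ c.coact = HopfRep.Comod.coact (k := k) (A := D) := by
  classical
  have : Module.Flat k V := Module.Flat.of_free
  have : Module.Flat k C := Module.Flat.of_free
  have : Module.Flat k D := Module.Flat.of_free
  set L : V ⊗[k] C →ₗ[k] V ⊗[k] D := (i : C →ₗ[k] D).lTensor V with hL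
  have hLinj : Function.Injective L := Module.Flat.lTensor_preserves_injective_linearMap _ hi
  set ρD : V →ₗ[k] V ⊗[k] D := HopfRep.Comod.coact (k := k) (A := D) (V := V) with hρD
  let Ei := LinearEquiv.ofInjective L hLinj
  let ρC : V →ₗ[k] V ⊗[k] C :=
    Ei.symm.toLinearMap ∘ₗ LinearMap.codRestrict (LinearMap.range L) ρD h
  have hρCv : ∀ v, L (ρC v) = ρD v := by
    intro v
    exact congrArg Subtype.val (Ei.apply_symm_apply ⟨ρD v, h v⟩)
  have hρC : L ∘ₗ ρC = ρD := LinearMap.ext hρCv
  have hmapinj : Function.Injective (TensorProduct.map (i : C →ₗ[k] D) (i : C →ₗ[k] D)) :=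
    TensorProduct.map_injective_of_flat_flat _ _ hi hi
  have hΦinj : Function.Injective
      ((TensorProduct.map (i : C →ₗ[k] D) (i : C →ₗ[k] D)).lTensor V) :=
    Module.Flat.lTensor_preserves_injective_linearMap _ hmapinj
  have hassoc : ∀ z : (V ⊗[k] C) ⊗[k] C,
      (TensorProduct.map (i : C →ₗ[k] D) (i : C →ₗ[k] D)).lTensor V (TensorProduct.assoc k V C C z)
      = TensorProduct.assoc k V D D (TensorProduct.map L (i : C →ₗ[k] D) z) := by
    intro z
    have e : (TensorProduct.map (i : C →ₗ[k] D) (i : C →ₗ[k] D)).lTensor V ∘ₗ
        (TensorProduct.assoc k V C C).toLinearMap =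
        (TensorProduct.assoc k V D D).toLinearMap ∘ₗ TensorProduct.map L (i : C →ₗ[k] D) := by
      apply TensorProduct.ext_threefold
      intro v c c'
      simp [L]
    exact LinearMap.congr_fun e z
  have hcomul : ∀ z : V ⊗[k] C,
      (TensorProduct.map (i : C →ₗ[k] D) (i : C →ₗ[k] D)).lTensor V
        ((CoalgebraStruct.comul (R := k) (A := C)).lTensor V z) =
      (CoalgebraStruct.comul (R := k) (A := D)).lTensor V (L z) := by
    intro z
    rw [← LinearMap.comp_apply, ← LinearMap.lTensor_comp, CoalgHomClass.map_comp_comul i,
      LinearMap.lTensor_comp, LinearMap.comp_apply]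
  have hcoassD := HopfRep.Comod.coassoc (k := k) (A := D) (V := V)
  have hcounD := HopfRep.Comod.counit_comp (k := k) (A := D) (V := V)
  refine ⟨{ coact := ρC, coassoc := ?_, counit_comp := ?_ }, hρC⟩
  · apply LinearMap.ext
    intro v
    apply hΦinj
    simp only [LinearMap.comp_apply, LinearEquiv.coe_coe]
    rw [hassoc, hcomul, hρCv, LinearMap.map_rTensor, hρC, ← LinearMap.rTensor_comp_lTensor,
      LinearMap.comp_apply, ← hL, hρCv]
    have := LinearMap.congr_fun hcoassD v
    simp only [LinearMap.comp_apply, LinearEquiv.coe_coe] at this
    exact this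
  · apply LinearMap.ext
    intro v
    have := LinearMap.congr_fun hcounD v
    simp only [LinearMap.comp_apply] at this ⊢
    rw [← this, ← hρCv, hL, ← LinearMap.comp_apply ((CoalgebraStruct.counit (R := k) (A := D)).lTensor V),
      ← LinearMap.lTensor_comp, CoalgHomClass.counit_comp i]

end Groth.Agent.S18806
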