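import Groth.Statements.S18808
import Mathlib.LinearAlgebra.TensorProduct.Basis
import Mathlib.LinearAlgebra.TensorProduct.RightExactness
import Mathlib.LinearAlgebra.Basis.VectorSpace
-- import your own Groth.Agent.* helpers here

set_option autoImplicit false
universe u v v' w w' x
open TensorProduct
open HopfRep

namespace H28Comod

variable {k : Type u} [Field k]

lemma L0 {N Q : Type*} [AddCommGroup N] [Module k N] [AddCommGroup Q] [Module k Q] (z : N ⊗[k] Q)
    (h : ∀ φ : Q →ₗ[k] k, TensorProduct.rid k N (φ.lTensor N z) = 0) : z = 0 := by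
  classical
  let b := Module.Basis.ofVectorSpace k Q
  apply (TensorProduct.equivFinsuppOfBasisRight b).injective
  rw [map_zero]
  ext i
  rw [TensorProduct.equivFinsuppOfBasisRight_apply, Finsupp.zero_apply]
  exact h (b.coord i)

lemma nat {V W M : Type*} [AddCommGroup V] [Module k V] [AddCommGroup W] [Module k W]
    [AddCommGroup M] [Module k M] (f : V →ₗ[k] W) (φ : M →ₗ[k] k) (x : V ⊗[k] M) :
    TensorProduct.rid k W (φ.lTensor W (f.rTensor M x)) = f (TensorProduct.rid k V (φ.lTensor V x)) := by
  induction x using TensorProduct.induction_on with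
  | zero => simp
  | tmul v m => simp
  | add x y hx hy => simp only [map_add, hx, hy]

lemma comp {V M M' : Type*} [AddCommGroup V] [Module k V] [AddCommGroup M] [Module k M]
    [AddCommGroup M'] [Module k M'] (g : M' →ₗ[k] M) (φ : M →ₗ[k] k) (x : V ⊗[k] M') :
    φ.lTensor V (g.lTensor V x) = (φ ∘ₗ g).lTensor V x := by
  rw [LinearMap.lTensor_comp_apply]

lemma Lsub {V M : Type*} [AddCommGroup V] [Module k V] [AddCommGroup M] [Module k M]
    (W : Submodule k V) (x : V ⊗[k] M) :
    x ∈ LinearMap.range (W.subtype.rTensor M) ↔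
      ∀ φ : M →ₗ[k] k, TensorProduct.rid k V (φ.lTensor V x) ∈ W := by
  constructor
  · rintro ⟨y, rfl⟩ φ
    rw [nat]
    exact (TensorProduct.rid k W (φ.lTensor W y)).2
  · intro h
    have hz : W.mkQ.rTensor M x = 0 := by
      apply L0
      intro φ
      rw [nat, Submodule.mkQ_apply, Submodule.Quotient.mk_eq_zero]
      exact h φ
    have hex := _root_.rTensor_exact M (LinearMap.exact_subtype_mkQ W) (Submodule.mkQ_surjective W)
    obtain ⟨y, hy⟩ := (hex x).1 hz
    exact ⟨y, hy⟩

lemma Ladm {V D C : Type*} [AddCommGroup V] [Module k V] [AddCommGroup D] [Module k D]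
    [AddCommGroup C] [Module k C] (i : C →ₗ[k] D)
    (K : Submodule k V) (x : V ⊗[k] D) :
    K.mkQ.rTensor D x ∈ LinearMap.range (i.lTensor (V ⧸ K)) ↔
      ∀ ψ : D →ₗ[k] k, ψ ∘ₗ i = 0 → TensorProduct.rid k V (ψ.lTensor V x) ∈ K := by
  constructor
  · rintro ⟨y, hy⟩ ψ hψ
    have h1 := nat K.mkQ ψ x
    rw [← hy, comp, hψ] at h1
    simp only [LinearMap.lTensor_zero, LinearMap.zero_apply, map_zero] at h1
    rw [← Submodule.Quotient.mk_eq_zero]
    exact h1.symm
  · intro h
    set R := LinearMap.range i
    have hz : R.mkQ.lTensor (V ⧸ K) (K.mkQ.rTensor D x) = 0 := by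
      apply L0
      intro φ
      rw [comp, nat, Submodule.mkQ_apply, Submodule.Quotient.mk_eq_zero]
      apply h
      ext c
      simp only [LinearMap.comp_apply, Submodule.mkQ_apply, LinearMap.zero_apply]
      rw [(Submodule.Quotient.mk_eq_zero R).2 ⟨c, rfl⟩, map_zero]
    have hex := _root_.lTensor_exact (V ⧸ K) (LinearMap.exact_subtype_mkQ R) (Submodule.mkQ_surjective R)
    obtain ⟨y, hy⟩ := (hex _).1 hz
    obtain ⟨w, rfl⟩ := LinearMap.lTensor_surjective (V ⧸ K) (LinearMap.surjective_rangeRestrict i) y
    refine ⟨w, ?_⟩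
    rw [← hy, ← LinearMap.lTensor_comp_apply]
    rfl

end H28Comod

open H28Comod

namespace Groth.Agent.S18808

/-- Let k be a field, i : C → D an injective morphism of k-coalgebras and V a right D-comodule with
coaction ρ. Call a D-subcomodule K of V admissible when the induced coaction of V/K, namely ρ
followed by the projection V ⊗ D → (V/K) ⊗ D, takes all its values in the image of (V/K) ⊗ C → (V/K)
⊗ D (so that V/K comes from a C-comodule). Then there is a least admissible D-subcomodule of V: V
has a largest quotient D-comodule coming from C, through which every D-comodule map from V to a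
comodule coming from C factors. (The source states this for left comodules over the coordinate
bialgebras of an affine monoid scheme and its open schematically dense group of units, as the
existence of a universal map from a representation of the unit group to a representation of the
monoid; it uses that assumption only through the injectivity of the restriction map.) -/
theorem result (k : Type u) [Field k]
    (C : Type v) [AddCommGroup C] [Module k C] [Coalgebra k C]
    (D : Type v') [AddCommGroup D] [Module k D] [Coalgebra k D]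
    (i : C →ₗc[k] D) (hi : Function.Injective i)
    (V : Type w) [AddCommGroup V] [Module k V] [HopfRep.Comod k D V] :
    ∃ K : Submodule k V, HopfRep.IsSubcomod (k := k) (A := D) K ∧
      (∀ v : V, K.mkQ.rTensor D (HopfRep.Comod.coact (k := k) (A := D) v) ∈
        LinearMap.range ((i : C →ₗ[k] D).lTensor (V ⧸ K))) ∧
      ∀ K' : Submodule k V, HopfRep.IsSubcomod (k := k) (A := D) K' →
        (∀ v : V, K'.mkQ.rTensor D (HopfRep.Comod.coact (k := k) (A := D) v) ∈
          LinearMap.range ((i : C →ₗ[k] D).lTensor (V ⧸ K'))) → K ≤ K' := by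
  set S : Set (Submodule k V) := {K' | HopfRep.IsSubcomod (k := k) (A := D) K' ∧
        (∀ v : V, K'.mkQ.rTensor D (HopfRep.Comod.coact (k := k) (A := D) v) ∈
          LinearMap.range ((i : C →ₗ[k] D).lTensor (V ⧸ K')))} with hS
  refine ⟨sInf S, ?_, ?_, fun K' h1 h2 => sInf_le ⟨h1, h2⟩⟩
  · intro w hw
    rw [Lsub]
    intro φ
    rw [Submodule.mem_sInf]
    intro K' hK'
    have hwK' : w ∈ K' := (Submodule.mem_sInf.1 hw) K' hK'
    exact (Lsub K' _).1 (hK'.1 w hwK') φ
  · intro v
    rw [Ladm]
    intro ψ hψ
    rw [Submodule.mem_sInf]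
    intro K' hK'
    exact (Ladm _ K' _).1 (hK'.2 v) ψ hψ

end Groth.Agent.S18808
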