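import Groth.Statements.S18809
import Groth.Agent.S18807
-- import your own Groth.Agent.* helpers here

set_option autoImplicit false
universe u v v' w w' x
open TensorProduct
open HopfRep

namespace Groth.Agent.S18809

/-- Let k be a field and i : C → D an injective morphism of k-coalgebras. If every right D-comodule is
semisimple (every subcomodule has a complementary subcomodule), then every right C-comodule is
semisimple. (The source states this for the coordinate bialgebras of an affine monoid scheme over k
and of its open schematically dense group of units, through the injectivity of the restriction map,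
with semisimple meaning that every representation is a sum of irreducible subrepresentations;
D-comodules are quantified in the universe of the given C-comodule.) -/
theorem result (k : Type u) [Field k]
    (C : Type v) [AddCommGroup C] [Module k C] [Coalgebra k C]
    (D : Type v') [AddCommGroup D] [Module k D] [Coalgebra k D]
    (i : C →ₗc[k] D) (hi : Function.Injective i)
    (hD : ∀ (W : Type w) [AddCommGroup W] [Module k W] [HopfRep.Comod k D W], HopfRep.IsSemisimpleComod k D W)
    (V : Type w) [AddCommGroup V] [Module k V] [HopfRep.Comod k C V] :
    HopfRep.IsSemisimpleComod k C V := by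
  classical
  have : Module.Flat k V := Module.Flat.of_free
  have : Module.Flat k C := Module.Flat.of_free
  have : Module.Flat k D := Module.Flat.of_free
  set L : V ⊗[k] C →ₗ[k] V ⊗[k] D := (i : C →ₗ[k] D).lTensor V with hL
  set ρC : V →ₗ[k] V ⊗[k] C := HopfRep.Comod.coact (k := k) (A := C) (V := V) with hρC
  have hassoc : ∀ z : (V ⊗[k] C) ⊗[k] C,
      (TensorProduct.map (i : C →ₗ[k] D) (i : C →ₗ[k] D)).lTensor V (TensorProduct.assoc k V C C z)
      = TensorProduct.assoc k V D D (TensorProduct.map L (i : C →ₗ[k] D) z) := by
    intro z
    have e : (TensorProduct.map (i : C →ₗ[k] D) (i : C →ₗ[k] D)).lTensor V ∘ₗ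
        (TensorProduct.assoc k V C C).toLinearMap =
        (TensorProduct.assoc k V D D).toLinearMap ∘ₗ TensorProduct.map L (i : C →ₗ[k] D) := by
      apply TensorProduct.ext_threefold
      intro v c c'
      simp [L]
    exact LinearMap.congr_fun e z
  have hcomul : ∀ z : V ⊗[k] C,
      (TensorProduct.map (i : C →ₗ[k] D) (i : C →ₗ[k] D)).lTensor V
        ((CoalgebraStruct.comul (R := k) (A := C)).lTensor V z) =
      (CoalgebraStruct.comul (R := k) (A := D)).lTensor V (L z) := by
    intro z
    rw [← LinearMap.comp_apply, ← LinearMap.lTensor_comp, CoalgHomClass.map_comp_comul i,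
      LinearMap.lTensor_comp, LinearMap.comp_apply]
  have hcoassC := HopfRep.Comod.coassoc (k := k) (A := C) (V := V)
  have hcounC := HopfRep.Comod.counit_comp (k := k) (A := C) (V := V)
  let cD : HopfRep.Comod k D V :=
    { coact := L ∘ₗ ρC
      coassoc := by
        apply LinearMap.ext
        intro v
        simp only [LinearMap.comp_apply, LinearEquiv.coe_coe]
        rw [hL, ← LinearMap.comp_apply (LinearMap.rTensor D _), LinearMap.rTensor_comp_lTensor,
          ← LinearMap.map_rTensor, ← hL, ← hassoc, ← hcomul]
        congr 1
        have := LinearMap.congr_fun hcoassC v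
        simp only [LinearMap.comp_apply, LinearEquiv.coe_coe] at this
        exact this
      counit_comp := by
        apply LinearMap.ext
        intro v
        have := LinearMap.congr_fun hcounC v
        simp only [LinearMap.comp_apply] at this ⊢
        rw [← this, hL, ← LinearMap.comp_apply ((CoalgebraStruct.counit (R := k) (A := D)).lTensor V),
          ← LinearMap.lTensor_comp, CoalgHomClass.counit_comp i] }
  letI := cD
  have hsemi := hD V
  intro W hW
  have hWD : HopfRep.IsSubcomod (k := k) (A := D) W := by
    intro w hw
    obtain ⟨y, hy⟩ := hW w hw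
    refine ⟨(i : C →ₗ[k] D).lTensor W y, ?_⟩
    show (W.subtype.rTensor D) ((i : C →ₗ[k] D).lTensor W y) = L (ρC w)
    rw [← hy, ← LinearMap.comp_apply, ← LinearMap.comp_apply, LinearMap.rTensor_comp_lTensor,
      hL, LinearMap.lTensor_comp_rTensor]
  obtain ⟨W', hW'D, hcompl⟩ := hsemi W hWD
  exact ⟨W', Groth.Agent.S18807.result k C D i hi V rfl W' hW'D, hcompl⟩

end Groth.Agent.S18809
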