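import Groth.Statements.S18815
import Mathlib.RingTheory.Flat.Basic
import Mathlib.LinearAlgebra.Basis.VectorSpace
-- import your own Groth.Agent.* helpers here

set_option autoImplicit false
universe u v w w'
open TensorProduct
open HopfRep

namespace Groth.Agent.S18815

/-- Let k be a field, C a k-coalgebra and V, W simple right C-comodules (nonzero, with no subcomodules
other than 0 and the whole space). Then every k-linear map V → W commuting with the coactions is
either zero or bijective. (The source states this for irreducible representations of an affine
monoid scheme over k, i.e. left comodules over its coordinate bialgebra.) -/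
theorem result (k : Type u) [Field k]
    (C : Type v) [AddCommGroup C] [Module k C] [Coalgebra k C]
    (V : Type w) [AddCommGroup V] [Module k V] [HopfRep.Comod k C V] (hV : HopfRep.IsSimpleComod k C V)
    (W : Type w') [AddCommGroup W] [Module k W] [HopfRep.Comod k C W] (hW : HopfRep.IsSimpleComod k C W)
    (f : V →ₗ[k] W) (hf : Hoch.IsComodHom C f) :
    f = 0 ∨ Function.Bijective f := by
  have : Module.Flat k C := Module.Flat.of_free
  -- kernel is a subcomodule
  have hker : HopfRep.IsSubcomod (k := k) (A := C) (LinearMap.ker f) := by
    intro v hv
    have hex := Module.Flat.rTensor_exact C (LinearMap.exact_subtype_ker_map f)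
    have h0 : f.rTensor C (HopfRep.Comod.coact (k := k) (A := C) v) = 0 := by
      have := LinearMap.congr_fun hf v
      simp only [LinearMap.comp_apply] at this
      rw [← this, LinearMap.mem_ker.mp hv, map_zero]
    exact LinearMap.mem_range.mpr ((hex _).mp h0)
  -- range is a subcomodule
  have hrange : HopfRep.IsSubcomod (k := k) (A := C) (LinearMap.range f) := by
    rintro _ ⟨v, rfl⟩
    have := LinearMap.congr_fun hf v
    simp only [LinearMap.comp_apply] at this
    rw [this]
    refine ⟨f.rangeRestrict.rTensor C (HopfRep.Comod.coact (k := k) (A := C) v), ?_⟩
    rw [← LinearMap.comp_apply, ← LinearMap.rTensor_comp]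
    rfl
  rcases hV.2 _ hker with h | h
  · -- injective
    rcases hW.2 _ hrange with h' | h'
    · left
      ext v
      have : f v ∈ LinearMap.range f := ⟨v, rfl⟩
      rw [h'] at this
      simpa using this
    · right
      exact ⟨LinearMap.ker_eq_bot.mp h, LinearMap.range_eq_top.mp h'⟩
  · left
    ext v
    have : v ∈ LinearMap.ker f := h ▸ Submodule.mem_top
    simpa using this

end Groth.Agent.S18815
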