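import Groth.Statements.S18928
import Mathlib.Tactic.Ring
-- import your own Groth.Agent.* helpers here

set_option autoImplicit false
universe u
open DPow

namespace Groth.Agent.S18928

/-- Let B be a commutative ring, I an ideal of B with a divided power structure, p a prime, r a natural
number, b an element of B and δ an element of I. Then (b + δ)^(p^r) − b^(p^r) lies in the ideal p^r
I. (The source states this for a divided power thickening over the Witt vectors of length n and 0 ≤
r ≤ n; neither restriction is used.) -/
theorem result {B : Type u} [CommRing B] {I : Ideal B}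
    (hI : DividedPowers I) (p : ℕ) [Fact p.Prime] (r : ℕ) (b δ : B) (hδ : δ ∈ I) :
    (b + δ) ^ (p ^ r) - b ^ (p ^ r) ∈ Ideal.span {((p : B) ^ r)} * I := by
  set N := p ^ r with hNdef
  have hN : 0 < N := pow_pos (Fact.out : p.Prime).pos r
  obtain ⟨M, hM⟩ : ∃ M, N = M + 1 := ⟨N - 1, by omega⟩
  rw [add_comm b δ, add_pow, Finset.sum_range_succ']
  simp only [pow_zero, Nat.sub_zero, Nat.choose_zero_right, Nat.cast_one, mul_one, one_mul,
    add_sub_cancel_right]
  refine Submodule.sum_mem _ (fun k hk => ?_)
  have hfac := hI.factorial_mul_dpow_eq_pow (n := k + 1) hδ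
  have hdesc : (N.choose (k + 1) : B) * ((k + 1).factorial : B) =
      (p : B) ^ r * (M.descFactorial k : B) := by
    rw [← Nat.cast_mul, mul_comm, ← Nat.descFactorial_eq_factorial_mul_choose, hM,
      Nat.succ_descFactorial_succ, Nat.cast_mul, ← hM, hNdef, Nat.cast_pow]
  have heq : δ ^ (k + 1) * b ^ (N - (k + 1)) * (N.choose (k + 1) : B) =
      (p : B) ^ r * ((M.descFactorial k : B) * hI.dpow (k + 1) δ * b ^ (N - (k + 1))) := by
    rw [← hfac]
    calc ((k + 1).factorial : B) * hI.dpow (k + 1) δ * b ^ (N - (k + 1)) * (N.choose (k + 1) : B)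
        = ((N.choose (k + 1) : B) * ((k + 1).factorial : B)) * hI.dpow (k + 1) δ *
            b ^ (N - (k + 1)) := by ring
      _ = _ := by rw [hdesc]; ring
  rw [heq]
  apply Ideal.mul_mem_mul (Ideal.mem_span_singleton_self _)
  apply I.mul_mem_right
  apply I.mul_mem_left
  exact hI.dpow_mem (Nat.succ_ne_zero k) hδ

end Groth.Agent.S18928
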