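import Groth.Statements.S18936
import Mathlib.Tactic.Ring
-- import your own Groth.Agent.* helpers here

set_option autoImplicit false
universe u
open CAlg

namespace Groth.Agent.S18936

/-- Let A be a Noetherian commutative ring, q a prime ideal of A and f an element of A whose image in
the localization A_q is a non-zero-divisor. Then there is an element b of A not in q such that the
image of f in A[1/b] is a non-zero-divisor. -/
theorem result {A : Type u} [CommRing A] [IsNoetherianRing A]
    (q : Ideal A) [q.IsPrime] (f : A)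
    (hf : algebraMap A (Localization.AtPrime q) f ∈ nonZeroDivisors (Localization.AtPrime q)) :
    ∃ b : A, b ∉ q ∧ algebraMap A (Localization.Away b) f ∈ nonZeroDivisors (Localization.Away b) := by
  classical
  let N : Ideal A := LinearMap.ker (LinearMap.mulLeft A f)
  have hN : ∀ x, x ∈ N ↔ f * x = 0 := fun x => by simp [N]
  obtain ⟨t, ht⟩ := (IsNoetherian.noetherian N : N.FG)
  have hloc : ∀ x ∈ N, ∃ s : A, s ∉ q ∧ s * x = 0 := by
    intro x hx
    have h1 : algebraMap A (Localization.AtPrime q) x * algebraMap A _ f = 0 := by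
      rw [← map_mul, mul_comm, (hN x).1 hx, map_zero]
    have h2 := (mem_nonZeroDivisors_iff.1 hf).2 _ h1
    obtain ⟨⟨s, hs⟩, hsx⟩ := (IsLocalization.map_eq_zero_iff q.primeCompl _ x).1 h2
    exact ⟨s, hs, hsx⟩
  choose! s hs hsx using hloc
  have htN : ∀ x ∈ t, x ∈ N := fun x hx => ht ▸ Submodule.subset_span hx
  let b := ∏ x ∈ t, s x
  have hb : b ∉ q := by
    have : b ∈ q.primeCompl := Submonoid.prod_mem _ (fun x hx => hs x (htN x hx))
    exact this
  have hbN : ∀ y ∈ N, b * y = 0 := by
    intro y hy
    rw [← ht] at hy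
    induction hy using Submodule.span_induction with
    | mem x hx =>
      have hx' : x ∈ t := hx
      have : b = (∏ x' ∈ t.erase x, s x') * s x := (Finset.prod_erase_mul t s hx').symm
      rw [this, mul_assoc, hsx x (htN x hx'), mul_zero]
    | zero => simp
    | add y z _ _ hy hz => rw [mul_add, hy, hz, add_zero]
    | smul a y _ hy => rw [smul_eq_mul, mul_left_comm, hy, mul_zero]
  refine ⟨b, hb, ?_⟩
  have aux : ∀ z : Localization.Away b, z * algebraMap A (Localization.Away b) f = 0 → z = 0 := by
    intro z hz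
    obtain ⟨⟨x, ⟨_, n, rfl⟩⟩, rfl⟩ := IsLocalization.mk'_surjective (Submonoid.powers b) z
    rw [mul_comm, IsLocalization.mul_mk'_eq_mk'_of_mul, IsLocalization.mk'_eq_zero_iff] at hz
    obtain ⟨⟨_, k, rfl⟩, hk⟩ := hz
    have hmem : b ^ k * x ∈ N := by
      rw [hN]
      calc f * (b ^ k * x) = b ^ k * (f * x) := by ring
        _ = 0 := hk
    rw [IsLocalization.mk'_eq_zero_iff]
    refine ⟨⟨b ^ (k + 1), k + 1, rfl⟩, ?_⟩
    show b ^ (k + 1) * x = 0
    rw [pow_succ', mul_assoc]
    exact hbN _ hmem
  have key : ∀ z : Localization.Away b, z * algebraMap A (Localization.Away b) f = 0 → z = 0 := by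
    intro z hz
    exact aux z hz
  exact mem_nonZeroDivisors_iff.2 ⟨fun z hz => key z (by rwa [mul_comm] at hz), key⟩

end Groth.Agent.S18936
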