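import Groth.Statements.S18940
import Mathlib.CategoryTheory.Limits.Preserves.Shapes.Pullbacks
import Mathlib.CategoryTheory.Limits.FunctorCategory.Basic
-- import your own Groth.Agent.* helpers here

set_option autoImplicit false
universe w v u
open CategoryTheory
open ShfCat

open CategoryTheory Limits

namespace Groth.Agent.S18940

/-- Let (C, J) be a site and f : F → G a morphism of sheaves of sets on it which is locally surjective
(every section of G is, after passing to a covering, in the image of f). Then for every morphism of
sheaves g : H → G the base change F ×_G H → H of f is again locally surjective. -/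
theorem result {C : Type u} [Category.{v} C]
    (J : GrothendieckTopology C) {F G H : Sheaf J (Type w)} (f : F ⟶ G) (g : H ⟶ G)
    [Sheaf.IsLocallySurjective f] :
    Sheaf.IsLocallySurjective (Limits.pullback.snd f g) := by
  constructor
  intro U s
  have hmem := Presheaf.imageSieve_mem J f.hom (g.hom.app (Opposite.op U) s)
  apply J.superset_covering _ hmem
  rintro V h ⟨t, ht⟩
  let E := sheafToPresheaf J (Type w) ⋙ (evaluation Cᵒᵖ (Type w)).obj (Opposite.op V)
  have hpb := (IsPullback.of_hasPullback f g).map E
  have hr := Limits.Types.range_snd_of_isPullback hpb
  have hmemr : H.obj.map h.op s ∈ Set.range (E.map (pullback.snd f g)) := by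
    rw [hr]
    refine ⟨t, ?_⟩
    change f.hom.app _ t = g.hom.app _ (H.obj.map h.op s)
    rw [ht, NatTrans.naturality_apply]
  obtain ⟨p, hp⟩ := hmemr
  exact ⟨p, hp⟩

end Groth.Agent.S18940
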