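import Groth.Statements.S18946
-- import your own Groth.Agent.* helpers here

set_option autoImplicit false
universe u
open scoped BigOperators
open InvQ

namespace Groth.Agent.S18946

/-- Let k be an algebraically closed field of characteristic zero and n a natural number, and let the
torus of (n+1)-tuples of units of k with product 1 act on the polynomial ring k[t_0, ..., t_n] by
rescaling each variable t_i by the i-th unit. A polynomial is fixed by every such rescaling if and
only if it lies in the k-subalgebra generated by the product t_0 t_1 ... t_n. (This is the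
computation of the ring of functions on affine (n+1)-space invariant under the maximal diagonal
torus of the special linear group, identified with the polynomial ring in the single coordinate t =
t_0 ... t_n of the line it maps to by the product map; invariance is tested on k-valued points of
the torus, which over an infinite field is the same as invariance under the group scheme.) -/
theorem result
    (k : Type u) [Field k] [IsAlgClosed k] [CharZero k] (n : ℕ)
    (f : MvPolynomial (Fin (n + 1)) k) :
    (∀ σ : Fin (n + 1) → kˣ, ∏ i, (σ i : k) = 1 →
        MvPolynomial.aeval (fun i => MvPolynomial.C (σ i : k) * MvPolynomial.X i) f = f) ↔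
      f ∈ Algebra.adjoin k ({∏ i : Fin (n + 1), MvPolynomial.X i} : Set (MvPolynomial (Fin (n + 1)) k)) := by
  classical
  set T : MvPolynomial (Fin (n + 1)) k := ∏ i : Fin (n + 1), MvPolynomial.X i with hT
  have hmono : ∀ (s : Fin (n + 1) → k) (α : Fin (n + 1) →₀ ℕ) (c : k),
      MvPolynomial.aeval (fun i => MvPolynomial.C (s i) * MvPolynomial.X i)
          (MvPolynomial.monomial α c) =
        MvPolynomial.monomial α (c * ∏ i, s i ^ α i) := by
    intro s α c
    rw [MvPolynomial.aeval_monomial, MvPolynomial.monomial_eq]
    simp only [mul_pow, ← map_pow]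
    rw [Finsupp.prod_mul, ← map_finsuppProd, MvPolynomial.algebraMap_eq, map_mul,
      Finsupp.prod_fintype α (fun i e => s i ^ e) (fun i => pow_zero _), mul_assoc]
  have hcoeff : ∀ (s : Fin (n + 1) → k) (g : MvPolynomial (Fin (n + 1)) k) (β : Fin (n + 1) →₀ ℕ),
      MvPolynomial.coeff β (MvPolynomial.aeval (fun i => MvPolynomial.C (s i) * MvPolynomial.X i) g) =
        MvPolynomial.coeff β g * ∏ i, s i ^ β i := by
    intro s g β
    conv_lhs => rw [g.as_sum]
    rw [map_sum, MvPolynomial.coeff_sum]
    simp_rw [hmono, MvPolynomial.coeff_monomial]
    rw [Finset.sum_ite_eq']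
    split_ifs with h
    · rfl
    · rw [MvPolynomial.notMem_support_iff.1 h, zero_mul]
  constructor
  · intro hinv
    have hconst : ∀ α ∈ f.support, ∀ i j, α i = α j := by
      intro α hα i j
      by_contra hij
      have hij' : i ≠ j := fun h => hij (h ▸ rfl)
      have h2 : (2 : k) ≠ 0 := two_ne_zero
      let u2 : kˣ := Units.mk0 2 h2
      let σ : Fin (n + 1) → kˣ := fun l => (if l = i then u2 else 1) * (if l = j then u2⁻¹ else 1)
      have hσ : ∀ l, (σ l : k) = (if l = i then (2 : k) else 1) * (if l = j then (2 : k)⁻¹ else 1) := by
        intro l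
        simp only [σ, Units.val_mul]
        congr 1
        · split_ifs <;> simp [u2]
        · split_ifs <;> simp [u2]
      have hprod : ∏ l, (σ l : k) = 1 := by
        simp_rw [hσ]
        rw [Finset.prod_mul_distrib, Finset.prod_ite_eq' Finset.univ i, Finset.prod_ite_eq' Finset.univ j]
        simp [h2]
      have := congrArg (MvPolynomial.coeff α) (hinv σ hprod)
      rw [hcoeff] at this
      have hc : MvPolynomial.coeff α f ≠ 0 := MvPolynomial.mem_support_iff.1 hα
      have h1 : ∏ l, (σ l : k) ^ α l = 1 := by
        have := mul_left_cancel₀ hc (this.trans (mul_one _).symm)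
        exact this
      simp_rw [hσ, mul_pow, ite_pow, one_pow] at h1
      rw [Finset.prod_mul_distrib, Finset.prod_ite_eq' Finset.univ i, Finset.prod_ite_eq' Finset.univ j]
        at h1
      simp only [Finset.mem_univ, if_true] at h1
      have h3 : (2 : k) ^ α i = (2 : k) ^ α j := by
        have := congrArg (· * (2 : k) ^ α j) h1
        simp only [one_mul, mul_assoc, ← mul_pow, inv_mul_cancel₀ h2, one_pow, mul_one] at this
        exact this
      have h4 : ((2 ^ α i : ℕ) : k) = ((2 ^ α j : ℕ) : k) := by push_cast; exact h3
      have h5 := Nat.cast_injective h4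
      exact hij (Nat.pow_right_injective (le_refl 2) h5)
    rw [f.as_sum]
    refine Subalgebra.sum_mem _ (fun α hα => ?_)
    have hα' : ∀ i, α i = α 0 := fun i => hconst α hα i 0
    rw [MvPolynomial.monomial_eq, Finsupp.prod_fintype α (fun i e => MvPolynomial.X i ^ e)
      (fun i => pow_zero _)]
    simp_rw [hα']
    rw [Finset.prod_pow]
    apply Subalgebra.mul_mem
    · rw [← MvPolynomial.algebraMap_eq]; exact Subalgebra.algebraMap_mem _ _
    · exact Subalgebra.pow_mem _ (Algebra.subset_adjoin (Set.mem_singleton _)) _
  · intro hf σ hσ
    let φ := MvPolynomial.aeval (R := k) (fun i => MvPolynomial.C (σ i : k) * MvPolynomial.X i)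
    have hφT : φ T = T := by
      simp only [φ, hT, map_prod, MvPolynomial.aeval_X]
      rw [Finset.prod_mul_distrib, ← map_prod, hσ, map_one, one_mul]
    have hle : Algebra.adjoin k ({T} : Set (MvPolynomial (Fin (n + 1)) k)) ≤
        AlgHom.equalizer φ (AlgHom.id k _) := by
      rw [Algebra.adjoin_le_iff]
      intro x hx
      rw [Set.mem_singleton_iff] at hx
      subst hx
      rw [SetLike.mem_coe, AlgHom.mem_equalizer, hφT, AlgHom.id_apply]
    have := hle hf
    rw [AlgHom.mem_equalizer, AlgHom.id_apply] at this
    exact this

end Groth.Agent.S18946
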