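import Groth.Statements.S19106
-- import your own Groth.Agent.* helpers here

set_option autoImplicit false
open HilbD

namespace Groth.Agent.S19106

/-- Let μ be a non-empty Young diagram, V the number of its cells, E the number of unordered pairs of
cells sharing a side (a cell together with the cell immediately below it, or immediately to its
right, both in μ) and Q the number of 2 × 2 blocks of cells of μ (cells c such that the cell
diagonally below-right of c is in μ, the other two corners being in μ automatically). Then V − E + Q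
− 1 = 0, stated as V + Q = E + 1 in the naturals. (The empty diagram, for which the count reads 0 −
0 + 0 − 1, is excluded.) -/
theorem result (μ : YoungDiagram) (hμ : μ ≠ ⊥) :
    μ.cells.card + (μ.cells.filter (fun c => (c.1 + 1, c.2 + 1) ∈ μ)).card =
      (μ.cells.filter (fun c => (c.1 + 1, c.2) ∈ μ)).card + (μ.cells.filter (fun c => (c.1, c.2 + 1) ∈ μ)).card + 1 := by
  classical
  have h00 : ((0 : ℕ), (0 : ℕ)) ∈ μ := by
    by_contra h
    apply hμ
    apply SetLike.ext
    intro c
    constructor
    · intro hc
      exact absurd (μ.up_left_mem (Nat.zero_le c.1) (Nat.zero_le c.2) hc) h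
    · intro hc
      exact absurd hc (YoungDiagram.notMem_bot c)
  set P := μ.cells with hP
  have memP : ∀ c : ℕ × ℕ, c ∈ P ↔ c ∈ μ := fun c => YoungDiagram.mem_cells c
  -- horizontal
  have hH : (P.filter (fun c => (c.1, c.2 + 1) ∈ μ)).card = (P.filter (fun c => 1 ≤ c.2)).card := by
    apply Finset.card_nbij' (fun c => (c.1, c.2 + 1)) (fun c => (c.1, c.2 - 1))
    · intro c hc
      simp only [Finset.coe_filter, Set.mem_ofPred_eq, memP] at hc ⊢
      exact ⟨hc.2, by omega⟩
    · intro c hc
      simp only [Finset.coe_filter, Set.mem_ofPred_eq, memP] at hc ⊢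
      refine ⟨μ.up_left_mem le_rfl (Nat.sub_le _ _) hc.1, ?_⟩
      have : c.2 - 1 + 1 = c.2 := by omega
      rw [this]; exact hc.1
    · intro c hc
      simp
    · intro c hc
      simp only [Finset.coe_filter, Set.mem_ofPred_eq] at hc
      ext
      · rfl
      · simp only; omega
  have hV : (P.filter (fun c => (c.1 + 1, c.2) ∈ μ)).card = (P.filter (fun c => 1 ≤ c.1)).card := by
    apply Finset.card_nbij' (fun c => (c.1 + 1, c.2)) (fun c => (c.1 - 1, c.2))
    · intro c hc
      simp only [Finset.coe_filter, Set.mem_ofPred_eq, memP] at hc ⊢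
      exact ⟨hc.2, by omega⟩
    · intro c hc
      simp only [Finset.coe_filter, Set.mem_ofPred_eq, memP] at hc ⊢
      refine ⟨μ.up_left_mem (Nat.sub_le _ _) le_rfl hc.1, ?_⟩
      have : c.1 - 1 + 1 = c.1 := by omega
      rw [this]; exact hc.1
    · intro c hc
      simp
    · intro c hc
      simp only [Finset.coe_filter, Set.mem_ofPred_eq] at hc
      ext
      · simp only; omega
      · rfl
  have hS : (P.filter (fun c => (c.1 + 1, c.2 + 1) ∈ μ)).card =
      (P.filter (fun c => 1 ≤ c.1 ∧ 1 ≤ c.2)).card := by
    apply Finset.card_nbij' (fun c => (c.1 + 1, c.2 + 1)) (fun c => (c.1 - 1, c.2 - 1))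
    · intro c hc
      simp only [Finset.coe_filter, Set.mem_ofPred_eq, memP] at hc ⊢
      exact ⟨hc.2, by omega, by omega⟩
    · intro c hc
      simp only [Finset.coe_filter, Set.mem_ofPred_eq, memP] at hc ⊢
      refine ⟨μ.up_left_mem (Nat.sub_le _ _) (Nat.sub_le _ _) hc.1, ?_⟩
      have e1 : c.1 - 1 + 1 = c.1 := by omega
      have e2 : c.2 - 1 + 1 = c.2 := by omega
      rw [e1, e2]; exact hc.1
    · intro c hc
      simp
    · intro c hc
      simp only [Finset.coe_filter, Set.mem_ofPred_eq] at hc
      ext
      · simp only; omega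
      · simp only; omega
  have hIE := Finset.card_union_add_card_inter (P.filter (fun c => 1 ≤ c.1))
    (P.filter (fun c => 1 ≤ c.2))
  rw [← Finset.filter_or, ← Finset.filter_and] at hIE
  have hsplit := Finset.card_filter_add_card_filter_not
    (s := P) (fun c : ℕ × ℕ => 1 ≤ c.1 ∨ 1 ≤ c.2)
  have h1 : (P.filter (fun c : ℕ × ℕ => ¬(1 ≤ c.1 ∨ 1 ≤ c.2))) = {((0 : ℕ), (0 : ℕ))} := by
    ext c
    simp only [Finset.mem_filter, Finset.mem_singleton, memP]
    constructor
    · rintro ⟨-, hc⟩
      ext <;> simp only <;> omega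
    · rintro rfl
      exact ⟨h00, by omega⟩
  rw [h1, Finset.card_singleton] at hsplit
  rw [hH, hV, hS]
  omega

end Groth.Agent.S19106
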