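import Groth.Statements.S19160
import Mathlib.Algebra.TrivSqZeroExt.Basic
-- import your own Groth.Agent.* helpers here

set_option autoImplicit false
open scoped TensorProduct
universe u
open PureMod

namespace Groth.Agent.S19160

/-- (2) ⇒ (3): in affine form, let R be a commutative ring and i : A → B an R-linear map such that for
every commutative R-algebra R' the base change R' ⊗ A → R' ⊗ B is injective (the pull-back of i to
every affine scheme over Spec R is a monomorphism). Then F ⊗ A → F ⊗ B is injective for every
R-module F, i.e. i is universally injective (pure). (Modules and algebras are taken in the universe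
of R.) -/
theorem result (R : Type u) [CommRing R]
    (A B : Type u) [AddCommGroup A] [Module R A] [AddCommGroup B] [Module R B] (i : A →ₗ[R] B)
    (h : ∀ (R' : Type u) [CommRing R'] [Algebra R R'], Function.Injective (i.baseChange R'))
    (F : Type u) [AddCommGroup F] [Module R F] :
    Function.Injective (i.lTensor F) := by
  classical
  letI : Module Rᵐᵒᵖ F := Module.compHom F (RingEquiv.toOpposite R).symm.toRingHom
  haveI : IsCentralScalar R F := ⟨fun r m => rfl⟩
  have hinj := h (TrivSqZeroExt R F)
  rw [LinearMap.baseChange_eq_ltensor] at hinj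
  intro x y hxy
  let φ : TensorProduct R F A →ₗ[R] TensorProduct R (TrivSqZeroExt R F) A :=
    (TrivSqZeroExt.inrHom R F).rTensor A
  let ψ : TensorProduct R (TrivSqZeroExt R F) A →ₗ[R] TensorProduct R F A :=
    (TrivSqZeroExt.sndHom R F).rTensor A
  have hψφ : ∀ z, ψ (φ z) = z := by
    intro z
    show ((TrivSqZeroExt.sndHom R F).rTensor A) ((TrivSqZeroExt.inrHom R F).rTensor A z) = z
    rw [← LinearMap.comp_apply, ← LinearMap.rTensor_comp]
    have : (TrivSqZeroExt.sndHom R F).comp (TrivSqZeroExt.inrHom R F) = LinearMap.id := by
      ext m; rfl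
    rw [this, LinearMap.rTensor_id, LinearMap.id_apply]
  have hnat : ∀ z, (i.lTensor (TrivSqZeroExt R F)) (φ z) =
      ((TrivSqZeroExt.inrHom R F).rTensor B) (i.lTensor F z) := by
    intro z
    show (i.lTensor (TrivSqZeroExt R F)) ((TrivSqZeroExt.inrHom R F).rTensor A z) =
      ((TrivSqZeroExt.inrHom R F).rTensor B) (i.lTensor F z)
    rw [← LinearMap.comp_apply, ← LinearMap.comp_apply, LinearMap.lTensor_comp_rTensor,
      LinearMap.rTensor_comp_lTensor]
  have hφ : φ x = φ y := by
    apply hinj
    rw [hnat, hnat, hxy]
  rw [← hψφ x, ← hψφ y, hφ]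

end Groth.Agent.S19160
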