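import Groth.Statements.S19210
import Mathlib.NumberTheory.Bernoulli
-- import your own Groth.Agent.* helpers here

set_option autoImplicit false
universe u
open LocAlg

open Finset

namespace H28Asym

lemma faulhaber_bound (p : ℕ) : ∃ C : ℝ, ∀ n : ℕ, 1 ≤ n →
    |(∑ i ∈ range n, (i : ℝ) ^ p) - (n : ℝ) ^ (p + 1) / (p + 1)| ≤ C * (n : ℝ) ^ p := by
  refine ⟨∑ i ∈ range p, |(bernoulli (i + 1) : ℝ) * ((p + 1).choose (i + 1) : ℝ) / (p + 1)|, ?_⟩
  intro n hn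
  have hQ := sum_range_pow n p
  have hR : (∑ k ∈ range n, (k : ℝ) ^ p) =
      ∑ i ∈ range (p + 1), (bernoulli i : ℝ) * ((p + 1).choose i : ℝ) * (n : ℝ) ^ (p + 1 - i)
        / (p + 1) := by
    have := congrArg (Rat.cast : ℚ → ℝ) hQ
    push_cast at this
    exact this
  rw [hR, Finset.sum_range_succ']
  simp only [bernoulli_zero, Rat.cast_one, Nat.choose_zero_right, Nat.cast_one, one_mul,
    Nat.sub_zero, add_sub_cancel_right]
  rw [Finset.sum_mul]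
  refine (Finset.abs_sum_le_sum_abs _ _).trans (Finset.sum_le_sum fun i hi => ?_)
  have hn1 : (1 : ℝ) ≤ n := by exact_mod_cast hn
  have hpow : (n : ℝ) ^ (p + 1 - (i + 1)) ≤ (n : ℝ) ^ p :=
    pow_le_pow_right₀ hn1 (by omega)
  have hnn : (0 : ℝ) ≤ (n : ℝ) ^ (p + 1 - (i + 1)) := by positivity
  rw [show (bernoulli (i + 1) : ℝ) * ((p + 1).choose (i + 1) : ℝ) * (n : ℝ) ^ (p + 1 - (i + 1))
      / (p + 1) = (bernoulli (i + 1) : ℝ) * ((p + 1).choose (i + 1) : ℝ) / (p + 1) *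
      (n : ℝ) ^ (p + 1 - (i + 1)) by ring, abs_mul, abs_of_nonneg hnn]
  exact mul_le_mul_of_nonneg_left hpow (abs_nonneg _)

lemma main (a : ℕ) : ∀ b : ℕ, ∃ C : ℝ, ∀ n : ℕ, 1 ≤ n →
    |(∑ i ∈ range n, ((n : ℝ) - (i : ℝ)) ^ a * (i : ℝ) ^ b) -
      (a.factorial : ℝ) * (b.factorial : ℝ) / ((a + b + 1).factorial : ℝ) * (n : ℝ) ^ (a + b + 1)|
      ≤ C * (n : ℝ) ^ (a + b) := by
  induction a with
  | zero =>
    intro b
    obtain ⟨C, hC⟩ := faulhaber_bound b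
    refine ⟨C, fun n hn => ?_⟩
    have h1 : ((0 + b + 1).factorial : ℝ) = (b + 1) * (b.factorial : ℝ) := by
      rw [zero_add, Nat.factorial_succ]; push_cast; ring
    have hb : (b.factorial : ℝ) ≠ 0 := by positivity
    have hc : ((Nat.factorial 0 : ℕ) : ℝ) * (b.factorial : ℝ) / ((0 + b + 1).factorial : ℝ) *
        (n : ℝ) ^ (0 + b + 1) = (n : ℝ) ^ (b + 1) / (b + 1) := by
      rw [h1, zero_add, Nat.factorial_zero, Nat.cast_one]
      field_simp
    simp only [pow_zero, one_mul, zero_add] at hC ⊢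
    rw [show ((Nat.factorial 0 : ℕ) : ℝ) = 1 by simp] at *
    convert hC n hn using 3
    rw [one_mul]
    have h2 : ((b + 1).factorial : ℝ) = (b + 1) * (b.factorial : ℝ) := by
      rw [Nat.factorial_succ]; push_cast; ring
    rw [h2]
    field_simp
  | succ a ih =>
    intro b
    obtain ⟨C1, hC1⟩ := ih b
    obtain ⟨C2, hC2⟩ := ih (b + 1)
    refine ⟨C1 + C2, fun n hn => ?_⟩
    have hsplit : (∑ i ∈ range n, ((n : ℝ) - (i : ℝ)) ^ (a + 1) * (i : ℝ) ^ b) =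
        (n : ℝ) * (∑ i ∈ range n, ((n : ℝ) - (i : ℝ)) ^ a * (i : ℝ) ^ b) -
        (∑ i ∈ range n, ((n : ℝ) - (i : ℝ)) ^ a * (i : ℝ) ^ (b + 1)) := by
      rw [Finset.mul_sum, ← Finset.sum_sub_distrib]
      refine Finset.sum_congr rfl fun i _ => ?_
      ring
    have hcoef : ((a + 1).factorial : ℝ) * (b.factorial : ℝ) / ((a + 1 + b + 1).factorial : ℝ) =
        (a.factorial : ℝ) * (b.factorial : ℝ) / ((a + b + 1).factorial : ℝ) -
        (a.factorial : ℝ) * ((b + 1).factorial : ℝ) / ((a + b + 1 + 1).factorial : ℝ) := by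
      have e1 : a + 1 + b + 1 = (a + b + 1) + 1 := by ring
      rw [e1, Nat.factorial_succ (a + b + 1), Nat.factorial_succ a, Nat.factorial_succ b]
      have : ((a + b + 1).factorial : ℝ) ≠ 0 := by positivity
      push_cast
      field_simp
      ring
    have hn1 : (1 : ℝ) ≤ n := by exact_mod_cast hn
    have hn0 : (0 : ℝ) ≤ n := by linarith
    have key := hC1 n hn
    have key2 := hC2 n hn
    have e3 : a + 1 + b + 1 = a + b + 1 + 1 := by ring
    have e4 : a + (b + 1) + 1 = a + b + 1 + 1 := by ring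
    have e5 : a + (b + 1) = a + b + 1 := by ring
    have e6 : a + 1 + b = a + b + 1 := by ring
    rw [e4, e5] at key2
    rw [hsplit, hcoef, e3, e6]
    set S1 := ∑ i ∈ range n, ((n : ℝ) - (i : ℝ)) ^ a * (i : ℝ) ^ b
    set S2 := ∑ i ∈ range n, ((n : ℝ) - (i : ℝ)) ^ a * (i : ℝ) ^ (b + 1)
    set c1 := (a.factorial : ℝ) * (b.factorial : ℝ) / ((a + b + 1).factorial : ℝ)
    set c2 := (a.factorial : ℝ) * ((b + 1).factorial : ℝ) / ((a + b + 1 + 1).factorial : ℝ)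
    have hid : (n : ℝ) * S1 - S2 - (c1 - c2) * (n : ℝ) ^ (a + b + 1 + 1) =
        (n : ℝ) * (S1 - c1 * (n : ℝ) ^ (a + b + 1)) - (S2 - c2 * (n : ℝ) ^ (a + b + 1 + 1)) := by
      ring
    rw [hid]
    calc |(n : ℝ) * (S1 - c1 * (n : ℝ) ^ (a + b + 1)) - (S2 - c2 * (n : ℝ) ^ (a + b + 1 + 1))|
        ≤ |(n : ℝ) * (S1 - c1 * (n : ℝ) ^ (a + b + 1))| + |S2 - c2 * (n : ℝ) ^ (a + b + 1 + 1)| :=
          abs_sub _ _
      _ ≤ (n : ℝ) * (C1 * (n : ℝ) ^ (a + b)) + C2 * (n : ℝ) ^ (a + b + 1) := by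
          rw [abs_mul, abs_of_nonneg hn0]
          exact add_le_add (mul_le_mul_of_nonneg_left key hn0) key2
      _ = (C1 + C2) * (n : ℝ) ^ (a + b + 1) := by ring

end H28Asym

namespace Groth.Agent.S19210

/-- For natural numbers j ≤ r, the sums Σ_{i=0}^{n−1} (n − i)^{r−j} i^j equal n^{r+1}·(r − j)!·j!/(r +
1)! up to O(n^r): there is a real constant C with |Σ_{i<n} (n − i)^{r−j} i^j − ((r − j)!·j!/(r +
1)!)·n^{r+1}| ≤ C·n^r for all n ≥ 1. -/
theorem result (r j : ℕ) (hj : j ≤ r) :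
    ∃ C : ℝ, ∀ n : ℕ, 1 ≤ n →
      |(∑ i ∈ Finset.range n, ((n : ℝ) - (i : ℝ)) ^ (r - j) * (i : ℝ) ^ j) -
          ((r - j).factorial : ℝ) * (j.factorial : ℝ) / ((r + 1).factorial : ℝ) * (n : ℝ) ^ (r + 1)| ≤
        C * (n : ℝ) ^ r := by
  obtain ⟨C, hC⟩ := H28Asym.main (r - j) j
  have hr : r - j + j = r := Nat.sub_add_cancel hj
  rw [hr] at hC
  exact ⟨C, hC⟩

end Groth.Agent.S19210
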