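import Groth.Statements.S19216
import Mathlib.Tactic.Ring
import Mathlib.Tactic.FieldSimp
import Mathlib.Algebra.CharZero.Defs
import Mathlib.Algebra.BigOperators.Ring.Finset
-- import your own Groth.Agent.* helpers here

set_option autoImplicit false
universe u
open SymRep

namespace Groth.Agent.S19216

/-- Let k be a field of characteristic zero and r, s ≥ 1. Realise the standard representation of the
symmetric group on a finite set T as the hyperplane of functions T → k with sum zero, the group
acting by precomposition with the inverse. Then the standard representation of the symmetric group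
of Fin r ⊕ Fin s, restricted to the subgroup S_r × S_s, is isomorphic to the direct sum of the
standard representations of S_r and of S_s and of a one-dimensional trivial representation: there is
a k-linear map E from functions on Fin r ⊕ Fin s to triples (function on Fin r, function on Fin s,
scalar), compatible with the actions of S_r × S_s (trivial on the scalar), which maps the sum-zero
hyperplane bijectively onto the product of the two sum-zero hyperplanes and k. (The published
statement is over the complex numbers; a field of characteristic zero is used here. The published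
statement also gives the analogous decomposition for any number of blocks, which follows by
induction; only the two-block case is stated here.) -/
theorem result (k : Type u) [Field k] [CharZero k]
    (r s : ℕ) (hr : 1 ≤ r) (hs : 1 ≤ s) :
    ∃ E : (Fin r ⊕ Fin s → k) →ₗ[k] (Fin r → k) × (Fin s → k) × k,
      (∀ (σ : Equiv.Perm (Fin r)) (τ : Equiv.Perm (Fin s)) (f : Fin r ⊕ Fin s → k),
        E (f ∘ ⇑(Equiv.sumCongr σ τ).symm) = ((E f).1 ∘ ⇑σ.symm, (E f).2.1 ∘ ⇑τ.symm, (E f).2.2)) ∧
      Set.BijOn E {f | ∑ i, f i = 0}
        ({g : Fin r → k | ∑ i, g i = 0} ×ˢ ({h : Fin s → k | ∑ i, h i = 0} ×ˢ Set.univ)) := by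
  classical
  have hr0 : (r : k) ≠ 0 := by exact_mod_cast (show r ≠ 0 by omega)
  have hs0 : (s : k) ≠ 0 := by exact_mod_cast (show s ≠ 0 by omega)
  let E : (Fin r ⊕ Fin s → k) →ₗ[k] (Fin r → k) × (Fin s → k) × k :=
    { toFun := fun f => (fun i => f (Sum.inl i) - (∑ i', f (Sum.inl i')) / r,
        fun j => f (Sum.inr j) - (∑ j', f (Sum.inr j')) / s, ∑ i', f (Sum.inl i'))
      map_add' := by
        intro f g
        refine Prod.ext (funext fun i => ?_) (Prod.ext (funext fun j => ?_) ?_)
        · simp only [Pi.add_apply, Finset.sum_add_distrib, Prod.fst_add]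
          ring
        · simp only [Pi.add_apply, Finset.sum_add_distrib, Prod.snd_add, Prod.fst_add]
          ring
        · simp only [Pi.add_apply, Finset.sum_add_distrib, Prod.snd_add]
      map_smul' := by
        intro c f
        refine Prod.ext (funext fun i => ?_) (Prod.ext (funext fun j => ?_) ?_)
        · simp only [Pi.smul_apply, smul_eq_mul, ← Finset.mul_sum, Prod.smul_fst,
            RingHom.id_apply]
          ring
        · simp only [Pi.smul_apply, smul_eq_mul, ← Finset.mul_sum, Prod.smul_snd, Prod.smul_fst,
            RingHom.id_apply]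
          ring
        · simp only [Pi.smul_apply, smul_eq_mul, ← Finset.mul_sum, Prod.smul_snd,
            RingHom.id_apply] }
  have hE : ∀ f, E f = (fun i => f (Sum.inl i) - (∑ i', f (Sum.inl i')) / r,
        fun j => f (Sum.inr j) - (∑ j', f (Sum.inr j')) / s, ∑ i', f (Sum.inl i')) :=
    fun f => rfl
  refine ⟨E, ?_, ?_, ?_, ?_⟩
  · intro σ τ f
    rw [hE, hE]
    have h1 : ∀ i, (f ∘ ⇑(Equiv.sumCongr σ τ).symm) (Sum.inl i) = f (Sum.inl (σ.symm i)) := by
      intro i; rfl
    have h2 : ∀ j, (f ∘ ⇑(Equiv.sumCongr σ τ).symm) (Sum.inr j) = f (Sum.inr (τ.symm j)) := by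
      intro j; rfl
    simp only [h1, h2]
    rw [Equiv.sum_comp σ.symm (fun i => f (Sum.inl i)),
      Equiv.sum_comp τ.symm (fun j => f (Sum.inr j))]
    rfl
  · intro f hf
    simp only [Set.mem_ofPred_eq] at hf
    rw [hE]
    refine ⟨?_, ?_, Set.mem_univ _⟩
    · simp only [Set.mem_ofPred_eq]
      rw [Finset.sum_sub_distrib, Finset.sum_const, Finset.card_univ, Fintype.card_fin,
        nsmul_eq_mul]
      field_simp
      ring
    · simp only [Set.mem_ofPred_eq]
      rw [Finset.sum_sub_distrib, Finset.sum_const, Finset.card_univ, Fintype.card_fin,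
        nsmul_eq_mul]
      field_simp
      ring
  · intro f hf g hg hfg
    simp only [Set.mem_ofPred_eq] at hf hg
    rw [Fintype.sum_sum_type] at hf hg
    rw [hE, hE] at hfg
    have hA : ∑ i', f (Sum.inl i') = ∑ i', g (Sum.inl i') := congrArg (fun z => z.2.2) hfg
    have hB : ∑ j', f (Sum.inr j') = ∑ j', g (Sum.inr j') := by
      have h1 : ∑ j', f (Sum.inr j') = -∑ i', f (Sum.inl i') := by
        rw [eq_neg_iff_add_eq_zero, add_comm]; exact hf
      have h2 : ∑ j', g (Sum.inr j') = -∑ i', g (Sum.inl i') := by
        rw [eq_neg_iff_add_eq_zero, add_comm]; exact hg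
      rw [h1, h2, hA]
    funext x
    rcases x with i | j
    · have := congrFun (congrArg (fun z => z.1) hfg) i
      simp only [hA] at this
      exact sub_left_injective this
    · have := congrFun (congrArg (fun z => z.2.1) hfg) j
      simp only [hB] at this
      exact sub_left_injective this
  · rintro ⟨g, h, c⟩ ⟨hg, hh, -⟩
    simp only [Set.mem_ofPred_eq] at hg hh
    refine ⟨Sum.elim (fun i => g i + c / r) (fun j => h j - c / s), ?_, ?_⟩
    · simp only [Set.mem_ofPred_eq]
      rw [Fintype.sum_sum_type]
      simp only [Sum.elim_inl, Sum.elim_inr]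
      rw [Finset.sum_add_distrib, Finset.sum_sub_distrib, hg, hh, Finset.sum_const,
        Finset.sum_const, Finset.card_univ, Finset.card_univ, Fintype.card_fin, Fintype.card_fin,
        nsmul_eq_mul, nsmul_eq_mul]
      field_simp
      ring
    · rw [hE]
      simp only [Sum.elim_inl, Sum.elim_inr]
      have hA : ∑ i', (g i' + c / r) = c := by
        rw [Finset.sum_add_distrib, hg, Finset.sum_const, Finset.card_univ, Fintype.card_fin,
          nsmul_eq_mul]
        field_simp
        ring
      have hB : ∑ j', (h j' - c / s) = -c := by
        rw [Finset.sum_sub_distrib, hh, Finset.sum_const, Finset.card_univ, Fintype.card_fin,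
          nsmul_eq_mul]
        field_simp
        ring
      rw [hA, hB]
      refine Prod.ext (funext fun i => ?_) (Prod.ext (funext fun j => ?_) rfl)
      · simp
      · simp only
        field_simp
        ring

end Groth.Agent.S19216
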