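import Groth.Statements.S19229
import Mathlib.LinearAlgebra.FiniteDimensional.Basic
import Mathlib.LinearAlgebra.Dimension.OrzechProperty
-- import your own Groth.Agent.* helpers here

set_option autoImplicit false
universe u v
open SigmaLin

namespace Groth.Agent.S19229

/-- Let k be a field with a ring endomorphism σ, V a finite-dimensional k-vector space and T : V → V an
additive map with T (c • v) = σ c • T v. If some iterate of T sends v to 0 and v lies in the
k-linear span of the image of every iterate of T, then v = 0. In other words the union of the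
kernels of the iterates of T and the intersection of the spans of their images meet only in 0. -/
theorem result
    (k : Type u) [Field k] (σ : k →+* k)
    (V : Type v) [AddCommGroup V] [Module k V] [FiniteDimensional k V] (T : V →ₛₗ[σ] V) (v : V)
    (hnil : ∃ n : ℕ, (⇑T)^[n] v = 0)
    (hss : ∀ n : ℕ, v ∈ Submodule.span k (Set.range ((⇑T)^[n]))) : v = 0 := by
  classical
  let W : ℕ → Submodule k V := fun n => Submodule.span k (Set.range ((⇑T)^[n]))
  -- T maps W n into W (n+1)
  have hTW : ∀ n, ∀ y ∈ W n, T y ∈ W (n + 1) := by
    intro n y hy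
    induction hy using Submodule.span_induction with
    | mem x hx =>
      obtain ⟨z, rfl⟩ := hx
      apply Submodule.subset_span
      exact ⟨z, by rw [Function.iterate_succ_apply']⟩
    | zero => rw [map_zero]; exact Submodule.zero_mem _
    | add x y _ _ hx hy => rw [map_add]; exact Submodule.add_mem _ hx hy
    | smul c x _ hx => rw [LinearMap.map_smulₛₗ]; exact Submodule.smul_mem _ _ hx
  have hanti : ∀ n, W (n + 1) ≤ W n := by
    intro n
    apply Submodule.span_le.2
    rintro _ ⟨z, rfl⟩
    apply Submodule.subset_span
    exact ⟨T z, by rw [Function.iterate_succ_apply]⟩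
  -- choose N with minimal finrank
  let f : ℕ → ℕ := fun n => Module.finrank k (W n)
  obtain ⟨N, hN⟩ : ∃ N, f N = sInf (Set.range f) := Nat.sInf_mem (Set.range_nonempty f)
  have hmin : ∀ m, f N ≤ f m := fun m => hN ▸ Nat.sInf_le ⟨m, rfl⟩
  have hstab : W (N + 1) = W N :=
    Submodule.eq_of_le_of_finrank_eq (hanti N) (le_antisymm (Submodule.finrank_mono (hanti N))
      (hmin (N + 1)))
  -- a basis of W N
  let b := Module.finBasis k (W N)
  let c : Fin (Module.finrank k (W N)) → V := fun i => T (b i : V)
  have hTspan : ∀ y ∈ W N, T y ∈ Submodule.span k (Set.range c) := by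
    intro y hy
    have hy' : y = ∑ i, (b.repr ⟨y, hy⟩ i) • (b i : V) := by
      have h0 := congrArg Subtype.val (b.sum_repr ⟨y, hy⟩)
      rw [Submodule.coe_sum] at h0
      simp only [Submodule.coe_smul] at h0
      exact h0.symm
    rw [hy', map_sum]
    refine Submodule.sum_mem _ (fun i _ => ?_)
    rw [LinearMap.map_smulₛₗ]
    exact Submodule.smul_mem _ _ (Submodule.subset_span ⟨i, rfl⟩)
  have hspan_eq : Submodule.span k (Set.range c) = W (N + 1) := by
    apply le_antisymm
    · rw [Submodule.span_le]
      rintro _ ⟨i, rfl⟩
      exact hTW N _ (b i).2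
    · apply Submodule.span_le.2
      rintro _ ⟨z, rfl⟩
      rw [Function.iterate_succ_apply']
      exact hTspan _ (Submodule.subset_span ⟨z, rfl⟩)
  have hli : LinearIndependent k c := by
    rw [linearIndependent_iff_card_eq_finrank_span, Fintype.card_fin]
    show Module.finrank k (W N) = Module.finrank k (Submodule.span k (Set.range c))
    rw [hspan_eq, hstab]
  have hinj : ∀ y ∈ W N, T y = 0 → y = 0 := by
    intro y hy hTy
    have hy' : y = ∑ i, (b.repr ⟨y, hy⟩ i) • (b i : V) := by
      have h0 := congrArg Subtype.val (b.sum_repr ⟨y, hy⟩)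
      rw [Submodule.coe_sum] at h0
      simp only [Submodule.coe_smul] at h0
      exact h0.symm
    rw [hy', map_sum] at hTy
    simp_rw [LinearMap.map_smulₛₗ] at hTy
    have hz := (Fintype.linearIndependent_iff.1 hli) _ hTy
    rw [hy']
    refine Finset.sum_eq_zero (fun i _ => ?_)
    have : σ (b.repr ⟨y, hy⟩ i) = 0 := hz i
    rw [map_eq_zero_iff σ σ.injective] at this
    rw [this, zero_smul]
  have hTWN : ∀ y ∈ W N, T y ∈ W N := fun y hy => hstab ▸ hTW N y hy
  have hiter : ∀ m, ∀ y ∈ W N, (⇑T)^[m] y = 0 → y = 0 := by
    intro m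
    induction m with
    | zero => intro y _ h; simpa using h
    | succ m ih =>
      intro y hy h
      rw [Function.iterate_succ_apply] at h
      exact hinj y hy (ih (T y) (hTWN y hy) h)
  obtain ⟨m, hm⟩ := hnil
  exact hiter m v (hss N) hm

end Groth.Agent.S19229
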