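import Groth.Statements.S19230
import Mathlib.RingTheory.Artinian.Module
import Mathlib.LinearAlgebra.FiniteDimensional.Defs
-- import your own Groth.Agent.* helpers here

set_option autoImplicit false
universe u v
open SigmaLin

namespace Groth.Agent.S19230

/-- Let k be a field, σ a surjective ring endomorphism of k, V a finite-dimensional k-vector space and T
: V → V additive with T (c • v) = σ c • T v. Then the set of vectors killed by some iterate of T is
a k-subspace on which a single iterate of T vanishes, it is a complement of the intersection over n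
of the k-spans of the images of the n-th iterates, and T restricts to a bijection of that
intersection onto itself. -/
theorem result
    (k : Type u) [Field k] (σ : k →+* k) (hσ : Function.Surjective σ)
    (V : Type v) [AddCommGroup V] [Module k V] [FiniteDimensional k V] (T : V →ₛₗ[σ] V) :
    (∃ W : Submodule k V, (W : Set V) = {v : V | ∃ n : ℕ, (⇑T)^[n] v = 0} ∧
      (∃ N : ℕ, ∀ v ∈ W, (⇑T)^[N] v = 0) ∧
      IsCompl W (⨅ n : ℕ, Submodule.span k (Set.range ((⇑T)^[n])))) ∧
    Set.BijOn (⇑T) (⋂ n : ℕ, (Submodule.span k (Set.range ((⇑T)^[n])) : Set V))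
      (⋂ n : ℕ, (Submodule.span k (Set.range ((⇑T)^[n])) : Set V)) := by
  classical
  have hadd : ∀ n (v w : V), (⇑T)^[n] (v + w) = (⇑T)^[n] v + (⇑T)^[n] w := by
    intro n
    induction n with
    | zero => intro v w; rfl
    | succ n ih =>
      intro v w
      rw [Function.iterate_succ_apply', Function.iterate_succ_apply',
        Function.iterate_succ_apply', ih, map_add]
  have hzero : ∀ n, (⇑T)^[n] 0 = 0 := by
    intro n
    induction n with
    | zero => rfl
    | succ n ih => rw [Function.iterate_succ_apply', ih, map_zero]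
  have hsmul : ∀ n (c : k) (v : V), (⇑T)^[n] (c • v) = ((⇑σ)^[n] c) • (⇑T)^[n] v := by
    intro n
    induction n with
    | zero => intro c v; rfl
    | succ n ih =>
      intro c v
      rw [Function.iterate_succ_apply', Function.iterate_succ_apply',
        Function.iterate_succ_apply', ih, T.map_smulₛₗ]
  let Tn : ℕ → V →+ V := fun n =>
    { toFun := (⇑T)^[n], map_zero' := hzero n, map_add' := hadd n }
  have hTn : ∀ n v, Tn n v = (⇑T)^[n] v := fun _ _ => rfl
  have hσn : ∀ n, Function.Surjective ((⇑σ)^[n]) := fun n => hσ.iterate n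
  let Kn : ℕ → Submodule k V := fun n =>
    { carrier := {v | (⇑T)^[n] v = 0}
      add_mem' := by
        intro v w hv hw
        simp only [Set.mem_ofPred_eq] at *
        rw [hadd, hv, hw, add_zero]
      zero_mem' := hzero n
      smul_mem' := by
        intro c v hv
        simp only [Set.mem_ofPred_eq] at *
        rw [hsmul, hv, smul_zero] }
  have hmemK : ∀ n v, v ∈ Kn n ↔ (⇑T)^[n] v = 0 := fun _ _ => Iff.rfl
  have hKmono : Monotone Kn := by
    intro n m hnm v hv
    rw [hmemK] at hv ⊢
    have e : m = (m - n) + n := by omega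
    rw [e, Function.iterate_add_apply, hv, hzero]
  let Rn : ℕ → Submodule k V := fun n =>
    { carrier := Set.range ((⇑T)^[n])
      add_mem' := by
        rintro _ _ ⟨a, rfl⟩ ⟨b, rfl⟩
        exact ⟨a + b, hadd n a b⟩
      zero_mem' := ⟨0, hzero n⟩
      smul_mem' := by
        rintro c _ ⟨a, rfl⟩
        obtain ⟨c', hc'⟩ := hσn n c
        exact ⟨c' • a, by rw [hsmul, hc']⟩ }
  have hmemR : ∀ n v, v ∈ Rn n ↔ v ∈ Set.range ((⇑T)^[n]) := fun _ _ => Iff.rfl
  have hspan : ∀ n, Submodule.span k (Set.range ((⇑T)^[n])) = Rn n := fun n =>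
    Submodule.span_eq (Rn n)
  have hRanti : Antitone Rn := by
    intro n m hnm v hv
    rw [hmemR] at hv ⊢
    obtain ⟨w, rfl⟩ := hv
    have e : m = n + (m - n) := by omega
    refine ⟨(⇑T)^[m - n] w, ?_⟩
    rw [← Function.iterate_add_apply, ← e]
  obtain ⟨N1, hN1⟩ := (monotone_stabilizes_iff_noetherian.mpr inferInstance)
    (⟨Kn, hKmono⟩ : ℕ →o Submodule k V)
  obtain ⟨N2, hN2⟩ := IsArtinian.monotone_stabilizes
    (⟨fun n => OrderDual.toDual (Rn n), fun a b h => hRanti h⟩ : ℕ →o (Submodule k V)ᵒᵈ)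
  set M := max N1 N2 with hM
  have hKM : ∀ n, M ≤ n → Kn n = Kn M := by
    intro n hn
    have h1 : Kn N1 = Kn n := hN1 n (le_trans (le_max_left _ _) hn)
    have h2 : Kn N1 = Kn M := hN1 M (le_max_left _ _)
    rw [← h1, h2]
  have hRM : ∀ n, M ≤ n → Rn n = Rn M := by
    intro n hn
    have h1 : OrderDual.toDual (Rn N2) = OrderDual.toDual (Rn n) :=
      hN2 n (le_trans (le_max_right _ _) hn)
    have h2 : OrderDual.toDual (Rn N2) = OrderDual.toDual (Rn M) := hN2 M (le_max_right _ _)
    rw [← OrderDual.toDual_inj.mp h1, OrderDual.toDual_inj.mp h2]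
  have hiInf : (⨅ n : ℕ, Submodule.span k (Set.range ((⇑T)^[n]))) = Rn M := by
    apply le_antisymm
    · exact iInf_le_of_le M (le_of_eq (hspan M))
    · apply le_iInf
      intro n
      rw [hspan]
      by_cases h : n ≤ M
      · exact hRanti h
      · rw [hRM n (by omega)]
  have hdisj : ∀ x, x ∈ Kn M → x ∈ Rn M → x = 0 := by
    intro x hxK hxR
    obtain ⟨w, rfl⟩ := hxR
    rw [hmemK, ← Function.iterate_add_apply] at hxK
    have hw : w ∈ Kn (M + M) := hxK
    rw [hKM (M + M) (by omega)] at hw
    exact hw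
  have hcod : ∀ v, ∃ w, (⇑T)^[M] (v - (⇑T)^[M] w) = 0 := by
    intro v
    have h1 : (⇑T)^[M] v ∈ Rn (M + M) := by
      rw [hRM (M + M) (by omega)]
      exact ⟨v, rfl⟩
    obtain ⟨w, hw⟩ := h1
    refine ⟨w, ?_⟩
    rw [← hTn, map_sub, hTn, hTn, ← Function.iterate_add_apply, hw, sub_self]
  have hInter : (⋂ n : ℕ, (Submodule.span k (Set.range ((⇑T)^[n])) : Set V)) = (Rn M : Set V) := by
    rw [← hiInf, Submodule.coe_iInf]
  refine ⟨⟨Kn M, ?_, ⟨M, fun v hv => hv⟩, ?_⟩, ?_⟩
  · ext v
    simp only [Set.mem_ofPred_eq, SetLike.mem_coe]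
    constructor
    · intro hv
      exact ⟨M, hv⟩
    · rintro ⟨n, hn⟩
      have h1 : v ∈ Kn n := hn
      have h2 : v ∈ Kn (max n M) := hKmono (le_max_left _ _) h1
      rw [hKM (max n M) (le_max_right _ _)] at h2
      exact h2
  · rw [hiInf]
    constructor
    · rw [Submodule.disjoint_def]
      exact hdisj
    · rw [codisjoint_iff, eq_top_iff]
      intro v _
      obtain ⟨w, hw⟩ := hcod v
      rw [Submodule.mem_sup]
      refine ⟨v - (⇑T)^[M] w, hw, (⇑T)^[M] w, ⟨w, rfl⟩, by abel⟩
  · rw [hInter]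
    refine ⟨?_, ?_, ?_⟩
    · rintro _ ⟨w, rfl⟩
      refine ⟨T w, ?_⟩
      rw [← Function.iterate_succ_apply, Function.iterate_succ_apply']
    · intro v hv v' hv' h
      have h1 : v - v' ∈ Kn 1 := by
        show (⇑T)^[1] (v - v') = 0
        simp only [Function.iterate_one, map_sub, h, sub_self]
      have h2 : v - v' ∈ Kn M := by
        have := hKmono (le_max_left 1 M) h1
        rwa [hKM (max 1 M) (le_max_right _ _)] at this
      have h3 : v - v' ∈ Rn M := Submodule.sub_mem _ hv hv'
      exact sub_eq_zero.mp (hdisj _ h2 h3)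
    · intro v hv
      have h1 : v ∈ Rn (M + 1) := by rw [hRM (M + 1) (by omega)]; exact hv
      obtain ⟨w, rfl⟩ := h1
      refine ⟨(⇑T)^[M] w, ⟨w, rfl⟩, ?_⟩
      rw [Function.iterate_succ_apply']

end Groth.Agent.S19230
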