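import Groth.Statements.S19232
import Mathlib.LinearAlgebra.LinearIndependent.Lemmas
import Mathlib.LinearAlgebra.Dimension.Finite
import Mathlib.LinearAlgebra.FiniteDimensional.Lemmas
-- import your own Groth.Agent.* helpers here

set_option autoImplicit false
universe u v
open SigmaLin

open Finset

namespace Groth.Agent.S19232

/-- Let k be a field with a ring endomorphism σ, and assume that for every n and every tuple (b_0, …,
b_n) of elements of k, not all zero, the equation x = Σ_{i=0}^{n} σ^{i+1}(x) σ^{i}(b_{n-i}) has a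
nonzero solution x in k. Let V be a finite-dimensional k-vector space, T : V → V additive with T (c
• v) = σ c • T v, and e ∈ V a vector no iterate of T sends to 0. Then the k-span of the orbit e, T
e, T² e, … contains a nonzero vector v with T v = v. -/
theorem result
    (k : Type u) [Field k] (σ : k →+* k)
    (V : Type v) [AddCommGroup V] [Module k V] [FiniteDimensional k V] (T : V →ₛₗ[σ] V)
    (h2 : ∀ (n : ℕ) (b : Fin (n + 1) → k), b ≠ 0 →
      ∃ x : k, x ≠ 0 ∧ x = ∑ i : Fin (n + 1), (⇑σ)^[i.val + 1] x * (⇑σ)^[i.val] (b (Fin.rev i)))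
    (e : V) (he : ∀ m : ℕ, (⇑T)^[m] e ≠ 0) :
    ∃ v ∈ Submodule.span k (Set.range (fun m : ℕ => (⇑T)^[m] e)), v ≠ 0 ∧ T v = v := by
  classical
  -- find minimal dependence
  have hex : ∃ d : ℕ, ¬ LinearIndependent k (fun j : Fin (d + 1) => (⇑T)^[j] e) := by
    refine ⟨Module.finrank k V, fun h => ?_⟩
    have := h.fintype_card_le_finrank
    simp at this
  set d := Nat.find hex with hdef
  have hd : ¬ LinearIndependent k (fun j : Fin (d + 1) => (⇑T)^[j] e) := Nat.find_spec hex
  have hd0 : d ≠ 0 := by
    intro h0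
    rw [h0] at hd
    have h1 : LinearIndependent k (fun j : Fin 1 => (⇑T)^[j] e) := by
      rw [linearIndependent_unique_iff]
      simpa using he 0
    exact hd h1
  obtain ⟨n, hn⟩ : ∃ n, d = n + 1 := ⟨d - 1, by omega⟩
  have hli : LinearIndependent k (fun j : Fin (n + 1) => (⇑T)^[j] e) := by
    have := Nat.find_min hex (show n < d by omega)
    simpa using this
  have hmem : (⇑T)^[n + 1] e ∈ Submodule.span k (Set.range (fun j : Fin (n + 1) => (⇑T)^[j] e)) := by
    by_contra hnot
    apply hd
    rw [hn]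
    have := (linearIndependent_finSnoc (v := fun j : Fin (n + 1) => (⇑T)^[j] e)
      (x := (⇑T)^[n + 1] e)).2 ⟨hli, hnot⟩
    convert this using 1
    funext j
    refine Fin.lastCases ?_ (fun i => ?_) j
    · simp
    · simp
  obtain ⟨a, ha⟩ := (Submodule.mem_span_range_iff_exists_fun k).1 hmem
  have ha0 : a ≠ 0 := by
    intro h0; apply he (n + 1); rw [← ha, h0]; simp
  obtain ⟨y, hy0, hy⟩ := h2 n a ha0
  set a' : ℕ → k := fun j => if h : j < n + 1 then a ⟨j, h⟩ else 0 with ha'
  set x : ℕ → k := fun j => ∑ i ∈ range (j + 1), (⇑σ)^[i + 1] y * (⇑σ)^[i] (a' (j - i)) with hx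
  have hx0 : x 0 = σ y * a' 0 := by simp [hx]
  have hxs : ∀ j, x (j + 1) = σ (x j) + σ y * a' (j + 1) := by
    intro j
    simp only [hx]
    rw [Finset.sum_range_succ', map_sum]
    simp only [Function.iterate_zero, id, zero_add, Nat.sub_zero, Function.iterate_one]
    congr 1
    apply Finset.sum_congr rfl
    intro i hi
    rw [map_mul, ← Function.iterate_succ_apply' σ, ← Function.iterate_succ_apply' σ]
    congr 3
    omega
  have hxn : x n = y := by
    refine Eq.trans ?_ hy.symm
    simp only [hx]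
    rw [← Fin.sum_univ_eq_sum_range (fun i => (⇑σ)^[i + 1] y * (⇑σ)^[i] (a' (n - i))) (n + 1)]
    apply Finset.sum_congr rfl
    intro i _
    congr 2
    simp only [ha']
    rw [dif_pos (by omega)]
    congr 1
    ext
    simp [Fin.val_rev]
  have ha2 : (⇑T)^[n + 1] e = ∑ j ∈ range (n + 1), a' j • (⇑T)^[j] e := by
    rw [← ha, ← Fin.sum_univ_eq_sum_range (fun j => a' j • (⇑T)^[j] e) (n + 1)]
    apply Finset.sum_congr rfl
    intro j _
    simp only [ha']
    rw [dif_pos j.2]
  refine ⟨∑ j ∈ range (n + 1), x j • (⇑T)^[j] e, ?_, ?_, ?_⟩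
  · exact Submodule.sum_mem _ (fun j _ => Submodule.smul_mem _ _ (Submodule.subset_span ⟨j, rfl⟩))
  · intro h0
    rw [← Fin.sum_univ_eq_sum_range (fun j => x j • (⇑T)^[j] e) (n + 1)] at h0
    have := Fintype.linearIndependent_iff.1 hli (fun j => x j) h0 ⟨n, by omega⟩
    simp only at this
    rw [hxn] at this
    exact hy0 this
  · rw [map_sum]
    have hT : ∀ j, T (x j • (⇑T)^[j] e) = σ (x j) • (⇑T)^[j + 1] e := by
      intro j
      rw [LinearMap.map_smulₛₗ, Function.iterate_succ_apply']
    simp_rw [hT]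
    rw [Finset.sum_range_succ, hxn, ha2, Finset.smul_sum, Finset.sum_range_succ', Finset.sum_range_succ' _ n]
    simp only [smul_smul, Function.iterate_zero, id, hxs, hx0, add_smul, Finset.sum_add_distrib]
    abel

end Groth.Agent.S19232
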