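import Groth.Statements.S19233
import Groth.Agent.S19232
import Mathlib.LinearAlgebra.LinearIndependent.Lemmas
import Mathlib.LinearAlgebra.Dimension.StrongRankCondition
import Mathlib.LinearAlgebra.FiniteDimensional.Lemmas
import Mathlib.LinearAlgebra.Quotient.Basic
import Mathlib.LinearAlgebra.Dimension.OrzechProperty
import Mathlib.Tactic.LinearCombination
-- import your own Groth.Agent.* helpers here

set_option autoImplicit false
universe u v
open SigmaLin

open Finset

namespace H28Sigma

variable {k : Type u} [Field k] {σ : k →+* k}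

/-- a semilinear endomorphism whose range spans a finite-dimensional space is injective -/
lemma injective_of_span_range {U : Type*} [AddCommGroup U] [Module k U] [FiniteDimensional k U]
    (S : U →ₛₗ[σ] U) (hS : Submodule.span k (Set.range S) = ⊤) : Function.Injective S := by
  classical
  let b := Module.finBasis k U
  have hspan : Submodule.span k (Set.range (fun i => S (b i))) = ⊤ := by
    rw [eq_top_iff, ← hS, Submodule.span_le]
    rintro _ ⟨u, rfl⟩
    rw [← b.sum_repr u, map_sum]
    apply Submodule.sum_mem
    intro i _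
    rw [LinearMap.map_smulₛₗ]
    exact Submodule.smul_mem _ _ (Submodule.subset_span ⟨i, rfl⟩)
  have hli : LinearIndependent k (fun i => S (b i)) :=
    linearIndependent_of_top_le_span_of_card_eq_finrank hspan.ge (by simp)
  rw [← LinearMap.ker_eq_bot, LinearMap.ker_eq_bot']
  intro u hu
  rw [← b.sum_repr u, map_sum] at hu
  simp_rw [LinearMap.map_smulₛₗ] at hu
  have := Fintype.linearIndependent_iff.1 hli _ hu
  rw [← b.sum_repr u]
  apply Finset.sum_eq_zero
  intro i _
  have hi := this i
  rw [map_eq_zero] at hi
  rw [hi, zero_smul]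

end H28Sigma

open H28Sigma

namespace Groth.Agent.S19233

/-- Let k be a field with a ring endomorphism σ such that (i) for every n and every tuple (b_0, …, b_n)
in k, not all zero, the equation x = Σ_{i=0}^{n} σ^{i+1}(x) σ^{i}(b_{n-i}) has a nonzero solution x
in k, and (ii) for every c in k there is y in k with σ(y) − y + c = 0. Let V be a finite-dimensional
k-vector space and T : V → V additive with T (c • v) = σ c • T v, such that the image of T spans V
over k. Then V admits a k-basis consisting of vectors fixed by T, and the map v ↦ v − T v is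
surjective. -/
theorem result
    (k : Type u) [Field k] (σ : k →+* k)
    (V : Type v) [AddCommGroup V] [Module k V] [FiniteDimensional k V] (T : V →ₛₗ[σ] V)
    (h1 : Submodule.span k (Set.range ⇑T) = ⊤)
    (h2 : ∀ (n : ℕ) (b : Fin (n + 1) → k), b ≠ 0 →
      ∃ x : k, x ≠ 0 ∧ x = ∑ i : Fin (n + 1), (⇑σ)^[i.val + 1] x * (⇑σ)^[i.val] (b (Fin.rev i)))
    (h3 : ∀ c : k, ∃ y : k, σ y - y + c = 0) :
    (∃ b : Module.Basis (Fin (Module.finrank k V)) k V, ∀ i, T (b i) = b i) ∧
    Function.Surjective (fun v : V => v - T v) := by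
  classical
  set Fix : Set V := {v | T v = v} with hFix
  set W := Submodule.span k Fix with hW
  have hTW : W ≤ W.comap T := by
    rw [hW, Submodule.span_le]
    intro f hf
    simp only [SetLike.mem_coe, Submodule.mem_comap]
    have : T f = f := hf
    rw [this]
    exact Submodule.subset_span hf
  have hWtop : W = ⊤ := by
    by_contra hne
    let Tb : (V ⧸ W) →ₛₗ[σ] (V ⧸ W) := W.mapQ W T hTW
    have hTb : ∀ v : V, Tb (W.mkQ v) = W.mkQ (T v) := fun v => rfl
    have hspan : Submodule.span k (Set.range Tb) = ⊤ := by
      rw [eq_top_iff]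
      intro z _
      obtain ⟨v, rfl⟩ := W.mkQ_surjective z
      have hv : v ∈ Submodule.span k (Set.range T) := by rw [h1]; trivial
      have := Submodule.mem_map_of_mem (f := W.mkQ) hv
      rw [Submodule.map_span] at this
      refine Submodule.span_mono ?_ this
      rintro _ ⟨_, ⟨w, rfl⟩, rfl⟩
      exact ⟨W.mkQ w, rfl⟩
    have hinj := injective_of_span_range Tb hspan
    have hnt : Nontrivial (V ⧸ W) := Submodule.Quotient.nontrivial_iff.2 hne
    obtain ⟨eb, heb⟩ := exists_ne (0 : V ⧸ W)
    have hit : ∀ m : ℕ, (⇑Tb)^[m] eb ≠ 0 := by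
      intro m
      have hinjm : Function.Injective (⇑Tb)^[m] := hinj.iterate m
      intro h0
      apply heb
      apply hinjm
      rw [h0]
      exact (Function.iterate_fixed (map_zero Tb) m).symm
    obtain ⟨vb, -, hvb0, hvb⟩ := Groth.Agent.S19232.result k σ (V ⧸ W) Tb h2 eb hit
    obtain ⟨v, rfl⟩ := W.mkQ_surjective vb
    rw [hTb, ← sub_eq_zero, ← map_sub, Submodule.mkQ_apply, Submodule.Quotient.mk_eq_zero] at hvb
    obtain ⟨n, c, g, hg⟩ := Submodule.mem_span_set'.1 hvb
    choose y hy using fun i => h3 (c i)
    set v' := v + ∑ i, y i • (g i : V) with hv'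
    have hgfix : ∀ i, T (g i : V) = g i := fun i => (g i).2
    have hv'fix : T v' = v' := by
      rw [hv', map_add, map_sum]
      simp_rw [LinearMap.map_smulₛₗ, hgfix]
      have hTv : T v = v + ∑ i, c i • (g i : V) := by rw [hg]; abel
      rw [hTv, add_assoc, ← Finset.sum_add_distrib]
      congr 1
      apply Finset.sum_congr rfl
      intro i _
      rw [← add_smul]
      congr 1
      linear_combination hy i
    have hv'W : v' ∈ W := Submodule.subset_span hv'fix
    have hsumW : ∑ i, y i • (g i : V) ∈ W :=
      Submodule.sum_mem _ (fun i _ => Submodule.smul_mem _ _ (Submodule.subset_span (g i).2))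
    apply hvb0
    rw [Submodule.mkQ_apply, Submodule.Quotient.mk_eq_zero]
    have : v = v' - ∑ i, y i • (g i : V) := by rw [hv']; abel
    rw [this]
    exact W.sub_mem hv'W hsumW
  -- basis of fixed vectors
  obtain ⟨B0, hB0sub, hB0span, hB0li⟩ := exists_linearIndependent k Fix
  have hB0top : ⊤ ≤ Submodule.span k (Set.range ((↑) : B0 → V)) := by
    rw [Subtype.range_coe, hB0span, ← hW, hWtop]
  let B := Module.Basis.mk hB0li hB0top
  let B' := B.reindex (B.indexEquiv (Module.finBasis k V))
  have hB'fix : ∀ i, T (B' i) = B' i := by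
    intro i
    simp only [B', Module.Basis.reindex_apply, B, Module.Basis.mk_apply]
    exact hB0sub (Subtype.mem _)
  refine ⟨⟨B', hB'fix⟩, ?_⟩
  intro v
  choose y hy using fun i => h3 (B'.repr v i)
  refine ⟨∑ i, y i • B' i, ?_⟩
  simp only
  rw [map_sum]
  simp_rw [LinearMap.map_smulₛₗ, hB'fix]
  rw [← Finset.sum_sub_distrib]
  conv_rhs => rw [← B'.sum_repr v]
  apply Finset.sum_congr rfl
  intro i _
  rw [← sub_smul]
  congr 1
  linear_combination -(hy i)

end Groth.Agent.S19233
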