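import Groth.Statements.S19234
import Groth.Agent.S19233
import Mathlib.RingTheory.Artinian.Module
import Mathlib.Algebra.BigOperators.Intervals
-- import your own Groth.Agent.* helpers here

set_option autoImplicit false
universe u v
open SigmaLin

open Finset

namespace Groth.Agent.S19234

/-- Let k be a field with a surjective ring endomorphism σ such that (i) for every n and every tuple
(b_0, …, b_n) in k, not all zero, the equation x = Σ_{i=0}^{n} σ^{i+1}(x) σ^{i}(b_{n-i}) has a
nonzero solution x in k, and (ii) for every c in k there is y with σ(y) − y + c = 0. Let V be a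
finite-dimensional k-vector space and T : V → V additive with T (c • v) = σ c • T v (no further
condition on T). Then v ↦ v − T v is surjective on V, and the intersection over n of the k-spans of
the images of the iterates of T (the part of V on which T is bijective) admits a k-basis of vectors
fixed by T; in particular the fixed vectors of T span that intersection over k. -/
theorem result
    (k : Type u) [Field k] (σ : k →+* k) (hσ : Function.Surjective σ)
    (V : Type v) [AddCommGroup V] [Module k V] [FiniteDimensional k V] (T : V →ₛₗ[σ] V)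
    (h2 : ∀ (n : ℕ) (b : Fin (n + 1) → k), b ≠ 0 →
      ∃ x : k, x ≠ 0 ∧ x = ∑ i : Fin (n + 1), (⇑σ)^[i.val + 1] x * (⇑σ)^[i.val] (b (Fin.rev i)))
    (h3 : ∀ c : k, ∃ y : k, σ y - y + c = 0) :
    Function.Surjective (fun v : V => v - T v) ∧
    ∃ b : Module.Basis (Fin (Module.finrank k ↥(⨅ n : ℕ, Submodule.span k (Set.range ((⇑T)^[n]))))) k ↥(⨅ n : ℕ, Submodule.span k (Set.range ((⇑T)^[n]))),
      ∀ i, T (b i : V) = (b i : V) := by
  classical
  set S : ℕ → Submodule k V := fun n => Submodule.span k (Set.range ((⇑T)^[n])) with hS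
  have hanti : Antitone S := by
    apply antitone_nat_of_succ_le
    intro n
    simp only [hS]
    apply Submodule.span_mono
    rintro _ ⟨v, rfl⟩
    exact ⟨T v, by rw [Function.iterate_succ_apply]⟩
  obtain ⟨N, hN⟩ := IsArtinian.monotone_stabilizes (R := k) (M := V)
    ⟨fun n => OrderDual.toDual (S n), fun a b hab => hanti hab⟩
  have hN' : ∀ m, N ≤ m → S m = S N := fun m hm => (hN m hm).symm
  have hss : (⨅ n : ℕ, S n) = S N := by
    apply le_antisymm (iInf_le _ N)
    apply le_iInf
    intro m
    rcases le_total m N with h | h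
    · exact hanti h
    · rw [hN' m h]
  -- T maps S N into S N
  have hTmap : ∀ x ∈ S N, T x ∈ S N := by
    intro x hx
    rw [← hN' (N + 1) (by omega)]
    simp only [hS] at hx ⊢
    induction hx using Submodule.span_induction with
    | mem z hz =>
      obtain ⟨w, rfl⟩ := hz
      exact Submodule.subset_span ⟨w, by rw [Function.iterate_succ_apply']⟩
    | zero => simp
    | add a b _ _ ha hb => rw [map_add]; exact Submodule.add_mem _ ha hb
    | smul c a _ ha => rw [LinearMap.map_smulₛₗ]; exact Submodule.smul_mem _ _ ha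
  let T' : S N →ₛₗ[σ] S N := T.restrict hTmap
  have hT' : ∀ x : S N, (T' x : V) = T x := fun x => rfl
  have hspan : Submodule.span k (Set.range T') = ⊤ := by
    apply Submodule.map_injective_of_injective (S N).injective_subtype
    rw [Submodule.map_top, Submodule.range_subtype, Submodule.map_span]
    apply le_antisymm
    · rw [Submodule.span_le]
      rintro _ ⟨_, ⟨x, rfl⟩, rfl⟩
      exact (T' x).2
    · conv_lhs => rw [← hN' (N + 1) (by omega)]
      simp only [hS]
      apply Submodule.span_mono
      rintro _ ⟨w, rfl⟩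
      refine ⟨T' ⟨(⇑T)^[N] w, Submodule.subset_span ⟨w, rfl⟩⟩, ⟨_, rfl⟩, ?_⟩
      simp only [Submodule.subtype_apply, hT']
      rw [Function.iterate_succ_apply']
  obtain ⟨⟨b, hb⟩, hsurj⟩ := Groth.Agent.S19233.result k σ (S N) T' hspan h2 h3
  refine ⟨?_, ?_⟩
  · intro v
    obtain ⟨w, hw⟩ := hsurj ⟨(⇑T)^[N] v, Submodule.subset_span ⟨v, rfl⟩⟩
    have hw' : (w : V) - T w = (⇑T)^[N] v := by
      have := congrArg Subtype.val hw
      simpa [hT'] using this
    refine ⟨∑ j ∈ range N, (⇑T)^[j] v + w, ?_⟩
    simp only
    rw [map_add, map_sum]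
    have : ∀ j, T ((⇑T)^[j] v) = (⇑T)^[j + 1] v := fun j => by rw [Function.iterate_succ_apply']
    simp_rw [this]
    have htel := Finset.sum_range_sub' (fun j => (⇑T)^[j] v) N
    simp only [Function.iterate_zero, id] at htel
    rw [show ∑ j ∈ range N, (⇑T)^[j] v + (w : V) - (∑ j ∈ range N, (⇑T)^[j + 1] v + T w) =
      (∑ j ∈ range N, ((⇑T)^[j] v - (⇑T)^[j + 1] v)) + ((w : V) - T w) by
        rw [Finset.sum_sub_distrib]; abel]
    rw [htel, hw']
    abel
  · rw [hss]
    exact ⟨b, fun i => by rw [← hT', hb i]⟩

end Groth.Agent.S19234
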