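import Groth.Statements.S19239
import Groth.Agent.S19234
import Mathlib.FieldTheory.IsAlgClosed.Basic
import Mathlib.FieldTheory.Perfect
-- import your own Groth.Agent.* helpers here

set_option autoImplicit false
universe u v
open SigmaLin

open Finset Polynomial

namespace H28Frob

variable (p : ℕ) [hp : Fact p.Prime] (k : Type u) [Field k] [CharP k p] [PerfectRing k p]

/-- inverse Frobenius -/
noncomputable abbrev sig : k →+* k := (frobeniusEquiv k p).symm.toRingHom

lemma sig_pow (y : k) : (sig p k y) ^ p = y := by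
  have := frobenius_apply_frobeniusEquiv_symm k p y
  rw [frobenius_def] at this
  exact this

lemma iter_pow (j : ℕ) (y : k) : ((⇑(sig p k))^[j] y) ^ (p ^ j) = y := by
  induction j generalizing y with
  | zero => simp
  | succ j ih =>
    rw [Function.iterate_succ_apply, pow_succ, pow_mul, ih]
    exact sig_pow p k y

lemma iter_pow_le (j M : ℕ) (h : j ≤ M) (y : k) : ((⇑(sig p k))^[j] y) ^ (p ^ M) = y ^ (p ^ (M - j)) := by
  have : p ^ M = p ^ j * p ^ (M - j) := by rw [← pow_add]; congr 1; omega
  rw [this, pow_mul, iter_pow]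

omit [PerfectRing k p] in
lemma pow_inj (M : ℕ) {x y : k} (h : x ^ (p ^ M) = y ^ (p ^ M)) : x = y := by
  have h' : (x - y) ^ (p ^ M) = 0 := by rw [sub_pow_char_pow, h, sub_self]
  exact sub_eq_zero.1 (pow_eq_zero_iff (pow_ne_zero _ hp.out.ne_zero) |>.1 h')

lemma h3_frob [IsAlgClosed k] (c : k) : ∃ y : k, sig p k y - y + c = 0 := by
  have hp2 : 2 ≤ p := hp.out.two_le
  set P : k[X] := X ^ p - (X + C c) with hP
  have hdeg : P.degree = p := by
    rw [hP, degree_sub_eq_left_of_degree_lt]
    · simp
    · rw [degree_X_pow, degree_X_add_C]; exact_mod_cast (by omega : 1 < p)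
  obtain ⟨z, hz⟩ := IsAlgClosed.exists_root P (by rw [hdeg]; exact_mod_cast hp.out.ne_zero)
  refine ⟨z ^ p, ?_⟩
  have h1 : sig p k (z ^ p) = z := by
    have := frobeniusEquiv_symm_apply_frobenius k p z
    rw [frobenius_def] at this; exact this
  rw [h1]
  have h2 := hz
  simp only [hP, IsRoot, eval_sub, eval_pow, eval_X, eval_add, eval_C] at h2
  linear_combination -h2

lemma h2_frob [IsAlgClosed k] (n : ℕ) (b : Fin (n + 1) → k) (hb : b ≠ 0) :
    ∃ x : k, x ≠ 0 ∧ x = ∑ i : Fin (n + 1),
      (⇑(sig p k))^[i.val + 1] x * (⇑(sig p k))^[i.val] (b (Fin.rev i)) := by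
  classical
  have hp2 : 2 ≤ p := hp.out.two_le
  set β : ℕ → k := fun i => if h : i < n + 1 then b (Fin.rev ⟨i, h⟩) else 0 with hβ
  have hsum : ∀ x : k, ∑ i : Fin (n + 1),
      (⇑(sig p k))^[i.val + 1] x * (⇑(sig p k))^[i.val] (b (Fin.rev i)) =
      ∑ i ∈ range (n + 1), (⇑(sig p k))^[i + 1] x * (⇑(sig p k))^[i] (β i) := by
    intro x
    rw [← Fin.sum_univ_eq_sum_range (fun i => (⇑(sig p k))^[i + 1] x * (⇑(sig p k))^[i] (β i))]
    apply Finset.sum_congr rfl; intro i _
    simp only [hβ, dif_pos i.2]
  have hex : ∃ i, i ≤ n ∧ β i ≠ 0 := by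
    by_contra hcon
    push Not at hcon
    apply hb
    funext j
    have := hcon (n - j) (by omega)
    simp only [hβ, dif_pos (show n - (j : ℕ) < n + 1 by omega)] at this
    rw [Pi.zero_apply, ← this]
    congr 1
    ext
    simp only [Fin.val_rev]
    omega
  set i₀ := Nat.findGreatest (fun i => β i ≠ 0) n with hi₀
  have hi₀spec : β i₀ ≠ 0 := by
    obtain ⟨i, hi, hβi⟩ := hex
    exact Nat.findGreatest_spec (P := fun i => β i ≠ 0) hi hβi
  have hi₀le : i₀ ≤ n := Nat.findGreatest_le n
  have hgt' : ∀ i, i₀ < i → β i = 0 := by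
    intro i h
    by_cases hin : i ≤ n
    · by_contra hne
      exact Nat.findGreatest_is_greatest (P := fun i => β i ≠ 0) h hin hne
    · simp only [hβ, dif_neg (show ¬ i < n + 1 by omega)]
  set M := i₀ + 1 with hM
  have hsumM : ∀ x : k, ∑ i ∈ range (n + 1), (⇑(sig p k))^[i + 1] x * (⇑(sig p k))^[i] (β i) =
      ∑ i ∈ range M, (⇑(sig p k))^[i + 1] x * (⇑(sig p k))^[i] (β i) := by
    intro x
    rw [← Finset.sum_range_add_sum_Ico _ (show M ≤ n + 1 by omega)]
    rw [Finset.sum_eq_zero (s := Ico M (n + 1)), add_zero]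
    intro i hi
    rw [Finset.mem_Ico] at hi
    rw [hgt' i (by omega), Function.iterate_fixed (map_zero (sig p k)) i, mul_zero]
  -- the polynomial
  set d : ℕ → k := fun i => (β i) ^ (p ^ (M - i)) with hd
  set e : ℕ → ℕ := fun i => p ^ (M - 1 - i) - 1 with he
  set N : ℕ := p ^ M - 1 with hN
  have hpM : 2 ≤ p ^ M := by
    calc 2 ≤ p := hp2
      _ = p ^ 1 := (pow_one p).symm
      _ ≤ p ^ M := Nat.pow_le_pow_right (by omega) (by omega)
  have hN1 : 1 ≤ N := by omega
  have hlt : ∀ i ∈ range M, e i < N := by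
    intro i hi
    rw [Finset.mem_range] at hi
    have : p ^ (M - 1 - i) < p ^ M := Nat.pow_lt_pow_right (by omega) (by omega)
    simp only [he, hN]
    omega
  set H : k[X] := X ^ N - ∑ i ∈ range M, C (d i) * X ^ (e i) with hH
  have hdegH : H.degree = N := by
    rw [hH, degree_sub_eq_left_of_degree_lt]
    · simp
    · rw [degree_X_pow]
      refine lt_of_le_of_lt (degree_sum_le _ _) ?_
      rw [Finset.sup_lt_iff (WithBot.bot_lt_coe _)]
      intro i hi
      refine lt_of_le_of_lt (degree_C_mul_X_pow_le _ _) ?_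
      exact_mod_cast hlt i hi
  obtain ⟨x, hx⟩ := IsAlgClosed.exists_root H (by rw [hdegH]; exact_mod_cast (by omega : N ≠ 0))
  have heval : ∀ y : k, H.eval y = y ^ N - ∑ i ∈ range M, d i * y ^ (e i) := by
    intro y
    simp [hH, eval_finsetSum]
  have hH0 : H.eval 0 ≠ 0 := by
    rw [heval]
    rw [Finset.sum_eq_single i₀]
    · have he0 : e i₀ = 0 := by simp [he, hM]
      rw [he0, pow_zero, mul_one, zero_pow (by omega), zero_sub, neg_ne_zero]
      simp only [hd]
      exact pow_ne_zero _ hi₀spec
    · intro i hi hne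
      rw [Finset.mem_range] at hi
      have : 1 ≤ e i := by
        have : p ≤ p ^ (M - 1 - i) := by
          calc p = p ^ 1 := (pow_one p).symm
            _ ≤ p ^ (M - 1 - i) := Nat.pow_le_pow_right (by omega) (by omega)
        simp only [he]; omega
      rw [zero_pow (by omega), mul_zero]
    · intro h; exact absurd (Finset.mem_range.2 (by omega)) h
  have hx0 : x ≠ 0 := by
    intro h; rw [h] at hx; exact hH0 hx
  refine ⟨x, hx0, ?_⟩
  rw [hsum, hsumM]
  apply pow_inj p k M
  rw [sum_pow_char_pow]
  simp_rw [mul_pow]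
  have h1 : ∀ i ∈ range M, ((⇑(sig p k))^[i + 1] x) ^ p ^ M * ((⇑(sig p k))^[i] (β i)) ^ p ^ M =
      d i * x ^ (e i + 1) := by
    intro i hi
    rw [Finset.mem_range] at hi
    rw [iter_pow_le p k (i + 1) M (by omega), iter_pow_le p k i M (by omega)]
    have : e i + 1 = p ^ (M - (i + 1)) := by
      have : 1 ≤ p ^ (M - 1 - i) := Nat.one_le_pow _ _ (by omega)
      simp only [he]
      rw [show M - (i + 1) = M - 1 - i by omega]
      omega
    rw [this, mul_comm]
  rw [Finset.sum_congr rfl h1]
  have hroot : x * H.eval x = 0 := by rw [hx, mul_zero]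
  rw [heval, mul_sub, Finset.mul_sum] at hroot
  have h2 : x * x ^ N = x ^ p ^ M := by
    rw [← pow_succ']; congr 1; omega
  rw [h2] at hroot
  rw [sub_eq_zero] at hroot
  rw [hroot]
  apply Finset.sum_congr rfl
  intro i _
  ring

end H28Frob

open H28Frob

namespace Groth.Agent.S19239

/-- Let k be an algebraically closed field of characteristic p > 0, V a finite-dimensional k-vector
space and T : V → V an additive map with T (c • v) = σ(c) • T v for σ the inverse of the p-th power
map of k. Then v ↦ v − T v is surjective on V, and the intersection over n of the k-spans of the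
images of the iterates of T admits a k-basis consisting of vectors fixed by T. (A special case of
the statement for a surjective field endomorphism satisfying two solvability conditions.) -/
theorem result
    (p : ℕ) [Fact p.Prime] (k : Type u) [Field k] [CharP k p] [IsAlgClosed k]
    (V : Type v) [AddCommGroup V] [Module k V] [FiniteDimensional k V]
    (T : V →ₛₗ[(frobeniusEquiv k p).symm.toRingHom] V) :
    Function.Surjective (fun v : V => v - T v) ∧
    ∃ b : Module.Basis (Fin (Module.finrank k ↥(⨅ n : ℕ, Submodule.span k (Set.range ((⇑T)^[n]))))) k ↥(⨅ n : ℕ, Submodule.span k (Set.range ((⇑T)^[n]))),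
      ∀ i, T (b i : V) = (b i : V) := by
  exact Groth.Agent.S19234.result k (sig p k) (frobeniusEquiv k p).symm.surjective V T
    (fun n b hb => h2_frob p k n b hb) (fun c => h3_frob p k c)

end Groth.Agent.S19239
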