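import Groth.Statements.S19333
import Mathlib.RingTheory.Valuation.LocalSubring
import Mathlib.RingTheory.Polynomial.Ideal
import Mathlib.RingTheory.Localization.Away.Basic
import Mathlib.RingTheory.Valuation.ValuationRing
-- import your own Groth.Agent.* helpers here

set_option autoImplicit false
universe u
open ModPair

namespace Groth.Agent.S19333

/-- Let A → B be any homomorphism of commutative rings. An element x of B is integral over A if and only
if for every field K, every valuation subring R of K and every ring homomorphism φ : B → K which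
sends the image of A into R, the element φ(x) lies in R. In other words the integral closure of A in
B is the intersection of the subrings R ×_K B taken over all commutative squares A → R ⊆ K ← B with
R a valuation ring of the field K. -/
theorem result {A B : Type u} [CommRing A]
    [CommRing B] [Algebra A B] (x : B) :
    x ∈ integralClosure A B ↔
      ∀ (K : Type u) [Field K] (R : ValuationSubring K) (φ : B →+* K),
        (∀ a : A, φ (algebraMap A B a) ∈ R) → φ x ∈ R := by
  classical
  constructor
  · intro hx K _ R φ hA
    obtain ⟨p, hpm, hp⟩ := hx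
    let f : A →+* R := (φ.comp (algebraMap A B)).codRestrict R.toSubring hA
    have hint : IsIntegral R (φ x) := by
      refine ⟨p.map f, hpm.map f, ?_⟩
      rw [Polynomial.eval₂_map]
      have hc : (algebraMap R K).comp f = φ.comp (algebraMap A B) := by
        ext a; rfl
      rw [hc, ← Polynomial.hom_eval₂, hp, map_zero]
    obtain ⟨y, hy⟩ := IsIntegrallyClosed.isIntegral_iff.mp hint
    rw [← hy]
    exact y.2
  · intro H
    by_contra hx
    have : Nontrivial A := by
      by_contra hA
      rw [not_nontrivial_iff_subsingleton] at hA
      have h10 : (1 : B) = 0 := by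
        rw [← map_one (algebraMap A B), ← map_zero (algebraMap A B), Subsingleton.elim (1 : A) 0]
      apply hx
      have : x = 0 := by rw [← mul_one x, h10, mul_zero]
      rw [this]; exact zero_mem _
    let B' := Localization.Away x
    let u : B' := IsLocalization.Away.invSelf x
    let hinv : Invertible u :=
      { invOf := algebraMap B B' x
        invOf_mul_self := IsLocalization.Away.mul_invSelf x
        mul_invOf_self := by rw [mul_comm]; exact IsLocalization.Away.mul_invSelf x }
    let D : Subalgebra A B' := Algebra.adjoin A {u}
    let u' : D := ⟨u, Algebra.subset_adjoin rfl⟩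
    by_cases hspan : Ideal.span {u'} = ⊤
    · apply hx
      have h' : (⊥ : Ideal A).map (algebraMap A D) ⊔ Ideal.span {u'} = ⊤ := by
        rw [hspan, sup_top_eq]
      obtain ⟨p, hp1, hp2⟩ :=
        Algebra.exists_aeval_invOf_eq_zero_of_idealMap_adjoin_sup_span_eq_top u ⊥ bot_ne_top h'
      have hmon : p.Monic := by
        rw [Ideal.mem_bot, sub_eq_zero] at hp1
        exact hp1
      have hp3 : algebraMap B B' (Polynomial.aeval x p) = 0 := by
        rw [← Polynomial.aeval_algebraMap_apply]
        exact hp2
      obtain ⟨⟨m, hm⟩, hm0⟩ := (IsLocalization.map_eq_zero_iff (Submonoid.powers x) B' _).mp hp3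
      obtain ⟨n, rfl⟩ := hm
      refine ⟨Polynomial.X ^ n * p, (Polynomial.monic_X_pow n).mul hmon, ?_⟩
      rw [← Polynomial.aeval_def, map_mul, map_pow, Polynomial.aeval_X]
      exact hm0
    · obtain ⟨M, hMmax, hMle⟩ := Ideal.exists_le_maximal _ hspan
      have hu'M : u' ∈ M := hMle (Ideal.subset_span rfl)
      let T : Submonoid B' := M.primeCompl.map D.val
      have hdisj0 : Disjoint ((⊥ : Ideal B') : Set B') (T : Set B') := by
        rw [Set.disjoint_left]
        rintro z hz ⟨d, hd, rfl⟩
        have hz' : (d : B') = 0 := hz
        have : d = 0 := Subtype.ext hz'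
        exact hd (this ▸ M.zero_mem)
      obtain ⟨Q, hQprime, -, hQdisj⟩ := Ideal.exists_le_prime_disjoint ⊥ T hdisj0
      have := hQprime
      let K := FractionRing (B' ⧸ Q)
      let ψ : B' →+* K := (algebraMap (B' ⧸ Q) K).comp (Ideal.Quotient.mk Q)
      have hψker : ∀ z : B', ψ z = 0 → z ∈ Q := by
        intro z hz
        have h1 : algebraMap (B' ⧸ Q) K (Ideal.Quotient.mk Q z) = 0 := hz
        rw [map_eq_zero_iff _ (IsFractionRing.injective (B' ⧸ Q) K)] at h1
        exact Ideal.Quotient.eq_zero_iff_mem.mp h1
      let φ : B →+* K := ψ.comp (algebraMap B B')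
      let D' : Subring K := D.toSubring.map ψ
      have hψD : ∀ d : D, ψ d ∈ D' := fun d => ⟨d, d.2, rfl⟩
      let u'' : D' := ⟨ψ u, hψD u'⟩
      have hI' : Ideal.span {u''} ≠ ⊤ := by
        intro htop
        have h1 : (1 : D') ∈ Ideal.span {u''} := htop ▸ Submodule.mem_top
        obtain ⟨a, ha⟩ := Ideal.mem_span_singleton'.mp h1
        obtain ⟨d, hdD, hda⟩ := a.2
        let d' : D := ⟨d, hdD⟩
        have h2 : ψ (d * u - 1) = 0 := by
          rw [map_sub, map_mul, map_one]
          have := congrArg Subtype.val ha
          simp only [Subring.coe_mul, Subring.coe_one] at this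
          rw [hda]
          rw [sub_eq_zero]
          exact this
        have h3 : d * u - 1 ∈ Q := hψker _ h2
        have h4 : d' * u' - 1 ∈ M := by
          by_contra h5
          have : (d * u - 1 : B') ∈ T := ⟨d' * u' - 1, h5, rfl⟩
          exact Set.disjoint_left.mp hQdisj h3 this
        have h6 : d' * u' ∈ M := M.mul_mem_left _ hu'M
        have h7 : (1 : D) ∈ M := by
          have := M.sub_mem h6 h4
          simpa using this
        exact hMmax.ne_top ((Ideal.eq_top_iff_one M).mpr h7)
      obtain ⟨V, hDV, hVnon⟩ := Ideal.image_subset_nonunits_valuationSubring _ hI'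
      have hu_non : ψ u ∈ V.nonunits := hVnon ⟨u'', Ideal.subset_span rfl, rfl⟩
      have hxu : φ x * ψ u = 1 := by
        show ψ (algebraMap B B' x) * ψ u = 1
        rw [← map_mul, IsLocalization.Away.mul_invSelf, map_one]
      have hx0 : φ x ≠ 0 := by
        intro h0; rw [h0, zero_mul] at hxu; exact zero_ne_one hxu
      have hinvx : ψ u = (φ x)⁻¹ := eq_inv_of_mul_eq_one_left (by rw [mul_comm]; exact hxu)
      have hmem : (φ x)⁻¹ ∈ V.nonunits := hinvx ▸ hu_non
      rcases (V.inv_mem_nonunits_iff).mp hmem with h0 | hnot
      · exact hx0 h0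
      · apply hnot
        apply H K V φ
        intro a
        show ψ (algebraMap B B' (algebraMap A B a)) ∈ V
        rw [← IsScalarTower.algebraMap_apply]
        exact hDV (hψD ⟨algebraMap A B' a, D.algebraMap_mem a⟩)

end Groth.Agent.S19333
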