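import Groth.Statements.S19422
-- import your own Groth.Agent.* helpers here
import Mathlib

set_option autoImplicit false
universe u
open TensorProduct LaurentPolynomial
open GIT

namespace Groth.Agent.S19422

open MvPolynomial

section H

/-- The pairing of an exponent vector with the weights. -/
def pair {ι : Type u} (r : ι → ℤ) (a : ι →₀ ℕ) : ℤ := a.sum (fun l n => (n : ℤ) * r l)

theorem prod_T {k : Type u} [Field k] {ι : Type u} (s : Finset ι) (f : ι → ℤ) :
    ∏ i ∈ s, (T (f i) : k[T;T⁻¹]) = T (∑ i ∈ s, f i) := by
  classical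
  induction s using Finset.induction_on with
  | empty => simp [T_zero]
  | insert i s hi ih => rw [Finset.prod_insert hi, Finset.sum_insert hi, ih, T_add]

theorem prod_tmul' {ι R A B : Type*} [CommSemiring R] [CommSemiring A] [Algebra R A]
    [CommSemiring B] [Algebra R B] (s : Finset ι) (f : ι → A) (g : ι → B) :
    ∏ i ∈ s, (f i ⊗ₜ[R] g i) = (∏ i ∈ s, f i) ⊗ₜ[R] (∏ i ∈ s, g i) := by
  classical
  induction s using Finset.induction_on with
  | empty => simp [Algebra.TensorProduct.one_def]
  | insert i s hi ih =>
    rw [Finset.prod_insert hi, Finset.prod_insert hi, Finset.prod_insert hi, ih,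
      Algebra.TensorProduct.tmul_mul_tmul]

theorem T_injective' {k : Type u} [Field k] : Function.Injective (T : ℤ → k[T;T⁻¹]) := by
  intro m n h
  exact (AddMonoidAlgebra.single_left_inj (one_ne_zero (α := k))).mp h

end H

/-- Over an algebraically closed field k, let the multiplicative group, whose coordinate Hopf algebra is
the Laurent polynomial ring, act diagonally on affine ι-space, ι finite: the coaction on the
polynomial ring is multiplicative and sends the coordinate function X_i to X_i ⊗ T^(r_i) for
integers r_i. Then a vector v is semistable (some invariant homogeneous polynomial of positive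
degree does not vanish at v) if and only if there are indices i and j, possibly equal, with v_i ≠ 0,
v_j ≠ 0 and r_i ≤ 0 ≤ r_j, i.e. the origin lies in the convex hull of the weights of v. (Stated for
the ambient projective space on its affine cone; the published statement is for a point of a closed
invariant subvariety, whose semistability is that of the point in the ambient space.) -/
theorem result (k : Type u) [Field k] [IsAlgClosed k]
    (ι : Type u) [Fintype ι] [HopfRep.Comod k k[T;T⁻¹] (MvPolynomial ι k)] [GLin.IsCoactAlg k k[T;T⁻¹] (MvPolynomial ι k)]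
    (r : ι → ℤ)
    (hr : ∀ i : ι, HopfRep.Comod.coact (k := k) (A := k[T;T⁻¹]) (MvPolynomial.X i : MvPolynomial ι k) =
      (MvPolynomial.X i : MvPolynomial ι k) ⊗ₜ[k] (T (r i) : k[T;T⁻¹]))
    (v : ι → k) :
    GLin.IsSemistableVec k k[T;T⁻¹] v ↔ ∃ i j : ι, v i ≠ 0 ∧ v j ≠ 0 ∧ r i ≤ 0 ∧ 0 ≤ r j := by
  classical
  have hcoact : ∀ F : MvPolynomial ι k, HopfRep.Comod.coact (k := k) (A := k[T;T⁻¹]) F =
      MvPolynomial.aeval (fun i => (X i : MvPolynomial ι k) ⊗ₜ[k] (T (r i) : k[T;T⁻¹])) F := by
    intro F
    have : GLin.coactAlgHom k k[T;T⁻¹] (MvPolynomial ι k) =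
        MvPolynomial.aeval (fun i => (X i : MvPolynomial ι k) ⊗ₜ[k] (T (r i) : k[T;T⁻¹])) := by
      apply MvPolynomial.algHom_ext; intro i; rw [GLin.coactAlgHom_apply, hr, MvPolynomial.aeval_X]
    rw [← GLin.coactAlgHom_apply, this]
  have hmono : ∀ (a : ι →₀ ℕ) (c : k), HopfRep.Comod.coact (k := k) (A := k[T;T⁻¹])
      (monomial a c : MvPolynomial ι k) = monomial a c ⊗ₜ[k] (T (pair r a) : k[T;T⁻¹]) := by
    intro a c
    rw [hcoact, MvPolynomial.aeval_monomial]
    simp only [Finsupp.prod, Algebra.TensorProduct.tmul_pow, T_pow]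
    rw [prod_tmul', prod_X_pow_eq_monomial, prod_T, Algebra.algebraMap_eq_smul_one, smul_mul_assoc,
      one_mul, TensorProduct.smul_tmul', smul_monomial, smul_eq_mul, mul_one]
    rfl
  have hinv : ∀ F ∈ GLin.invariants k k[T;T⁻¹] (MvPolynomial ι k), ∀ b, coeff b F ≠ 0 →
      pair r b = 0 := by
    intro F hF b hb
    rw [GLin.mem_invariants_iff] at hF
    let Λ : MvPolynomial ι k ⊗[k] k[T;T⁻¹] →ₗ[k] k[T;T⁻¹] :=
      (TensorProduct.lid k _).toLinearMap ∘ₗ (MvPolynomial.lcoeff k b).rTensor _
    have hΛ : ∀ x L, Λ (x ⊗ₜ L) = coeff b x • L := fun x L => by simp [Λ]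
    have h1 := congrArg Λ hF
    conv_lhs at h1 => rw [F.as_sum, map_sum, map_sum]
    simp only [hmono, hΛ, coeff_monomial] at h1
    rw [Finset.sum_eq_single b] at h1
    · simp only at h1
      have h2 := smul_right_injective _ hb h1
      rw [← T_zero] at h2
      exact T_injective' h2
    · intro a _ hab; simp [hab]
    · intro hb'; exact absurd (mem_support_iff.mpr hb) hb'
  constructor
  · intro hss
    unfold GLin.IsSemistableVec GLin.IsNullform at hss
    push Not at hss
    obtain ⟨F, hF, d, hd, hhom, hev⟩ := hss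
    rw [MvPolynomial.eval_eq] at hev
    obtain ⟨a, ha, hne⟩ := Finset.exists_ne_zero_of_sum_ne_zero hev
    have hca : coeff a F ≠ 0 := mem_support_iff.mp ha
    have hpa : pair r a = 0 := hinv F hF a hca
    have hdeg : a.degree = d := by
      have := hhom hca
      rw [Finsupp.degree_eq_weight_one]; exact this
    have hsupp : a.support.Nonempty := by
      rw [Finsupp.support_nonempty_iff]; rintro rfl; simp at hdeg; omega
    have hvi : ∀ i ∈ a.support, v i ≠ 0 := by
      intro i hi
      have := right_ne_zero_of_mul hne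
      exact fun h0 => (Finset.prod_ne_zero_iff.mp this i hi) (by rw [h0]; exact zero_pow (Finsupp.mem_support_iff.mp hi))
    obtain ⟨i, hi, himin⟩ := a.support.exists_min_image r hsupp
    obtain ⟨j, hj, hjmax⟩ := a.support.exists_max_image r hsupp
    refine ⟨i, j, hvi i hi, hvi j hj, ?_, ?_⟩
    · by_contra h; push Not at h
      have : 0 < pair r a := Finset.sum_pos (fun l hl => mul_pos (by exact_mod_cast Nat.pos_of_ne_zero (Finsupp.mem_support_iff.mp hl)) (lt_of_lt_of_le h (himin l hl))) hsupp
      omega
    · by_contra h; push Not at h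
      have : pair r a < 0 := Finset.sum_neg (fun l hl => mul_neg_of_pos_of_neg (by exact_mod_cast Nat.pos_of_ne_zero (Finsupp.mem_support_iff.mp hl)) (lt_of_le_of_lt (hjmax l hl) h)) hsupp
      omega
  · rintro ⟨i, j, hvi, hvj, hri, hrj⟩
    intro hnull
    have hsingle : ∀ l, v l ≠ 0 → r l = 0 → ∃ a : ι →₀ ℕ, pair r a = 0 ∧ 0 < a.degree ∧
        ∀ m ∈ a.support, v m ≠ 0 := by
      intro l hl hr0
      refine ⟨Finsupp.single l 1, ?_, ?_, ?_⟩
      · simp [pair, Finsupp.sum_single_index, hr0]
      · simp
      · intro m hm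
        rw [Finsupp.support_single _ one_ne_zero, Finset.mem_singleton] at hm
        rw [hm]; exact hl
    obtain ⟨a, hpa, hdeg, hva⟩ : ∃ a : ι →₀ ℕ, pair r a = 0 ∧ 0 < a.degree ∧
        ∀ m ∈ a.support, v m ≠ 0 := by
      by_cases h0 : r i = 0
      · exact hsingle i hvi h0
      by_cases h0' : r j = 0
      · exact hsingle j hvj h0'
      have hi' : r i < 0 := lt_of_le_of_ne hri h0
      have hj' : 0 < r j := lt_of_le_of_ne hrj (Ne.symm h0')
      refine ⟨Finsupp.single i (r j).toNat + Finsupp.single j (-r i).toNat, ?_, ?_, ?_⟩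
      · unfold pair
        rw [Finsupp.sum_add_index' (fun _ => by simp) (fun _ _ _ => by push_cast; ring),
          Finsupp.sum_single_index (by simp), Finsupp.sum_single_index (by simp)]
        rw [Int.toNat_of_nonneg hj'.le, Int.toNat_of_nonneg (by omega)]
        ring
      · rw [map_add, Finsupp.degree_single, Finsupp.degree_single]
        omega
      · intro m hm
        have := Finsupp.support_add hm
        rw [Finset.mem_union] at this
        rcases this with h | h
        · rw [(Finset.mem_singleton.mp (Finsupp.support_single_subset h))]; exact hvi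
        · rw [(Finset.mem_singleton.mp (Finsupp.support_single_subset h))]; exact hvj
    have hmem : (monomial a (1 : k)) ∈ GLin.invariants k k[T;T⁻¹] (MvPolynomial ι k) := by
      rw [GLin.mem_invariants_iff, hmono, hpa, T_zero]
    have := hnull _ hmem a.degree hdeg (isHomogeneous_monomial _ rfl)
    rw [MvPolynomial.eval_monomial, one_mul, Finsupp.prod, Finset.prod_eq_zero_iff] at this
    obtain ⟨l, hl, hl0⟩ := this
    exact hva l hl (pow_eq_zero_iff (Finsupp.mem_support_iff.mp hl) |>.mp hl0)

end Groth.Agent.S19422
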