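import Groth.Statements.S19511
-- import your own Groth.Agent.* helpers here

set_option autoImplicit false
universe u
open CategoryTheory CategoryTheory.Limits AlgebraicGeometry
open Variety

namespace Groth.Agent.S19511

/-- Let k be a field and f : X → Y a k-morphism between proper k-schemes which is a fibration, i.e. O_Y
→ f_*O_X is an isomorphism (Γ(V, O_Y) → Γ(f⁻¹V, O_X) bijective for every open V ⊆ Y). Then f is
surjective. (The connectedness of the fibres asserted in (i) is quoted from the literature and not
stated.) -/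
theorem result (k : Type u) [Field k] (X Y : Scheme.{u})
    [X.Over (Spec (CommRingCat.of k))] [Y.Over (Spec (CommRingCat.of k))] [IsProper (X ↘ Spec (CommRingCat.of k))] [IsProper (Y ↘ Spec (CommRingCat.of k))]
    (f : X ⟶ Y) (hf : f ≫ (Y ↘ Spec (CommRingCat.of k)) = X ↘ Spec (CommRingCat.of k)) (hfib : ∀ V : Y.Opens, IsIso (f.app V)) :
    Surjective f := by
  have h1 : UniversallyClosed (f ≫ (Y ↘ Spec (CommRingCat.of k))) := by
    rw [hf]; infer_instance
  have h2 : UniversallyClosed f :=
    UniversallyClosed.of_comp_of_isSeparated f (Y ↘ Spec (CommRingCat.of k))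
  constructor
  by_contra hns
  have hZ : IsClosed (Set.range f.base) := f.isClosedMap.isClosed_range
  let V : Y.Opens := ⟨(Set.range f.base)ᶜ, hZ.isOpen_compl⟩
  obtain ⟨y, hy⟩ : ∃ y, y ∉ Set.range f.base := by
    simpa [Function.Surjective, Set.mem_range] using hns
  have hV : Nonempty V := ⟨⟨y, hy⟩⟩
  have hpre : f ⁻¹ᵁ V = ⊥ := by
    ext x
    simp [V]
  have hs : Subsingleton Γ(X, f ⁻¹ᵁ V) :=
    CommRingCat.subsingleton_of_isTerminal (X.sheaf.isTerminalOfEqEmpty hpre)
  have e := asIso (f.app V)
  have hs' : Subsingleton Γ(Y, V) := e.commRingCatIsoToRingEquiv.injective.subsingleton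
  exact not_subsingleton Γ(Y, V) hs'

end Groth.Agent.S19511
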