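import Groth.Statements.S19556
-- import your own Groth.Agent.* helpers here
import Mathlib.AlgebraicGeometry.Morphisms.Immersion

set_option autoImplicit false
universe u
open CategoryTheory AlgebraicGeometry
open Mor

namespace Groth.Agent.S19556

/-- Let S be a scheme, p : X → S and q : Y → S schemes over S, and π : X → Y a finite surjective
morphism over S (π ≫ q = p). If X is separated over S then Y is separated over S. (The published
statement is about the quotient map X → X/G of a scheme by an action of a finite group scheme,
assumed to exist and then finite and surjective; this row keeps of it only a finite surjective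
S-morphism π, which is all the argument uses.) -/
theorem result {S X Y : Scheme.{u}} (p : X ⟶ S) (q : Y ⟶ S)
    (π : X ⟶ Y) (hπ : π ≫ q = p) [IsFinite π] [Surjective π] [IsSeparated p] :
    IsSeparated q := by
  subst hπ
  have hm : UniversallyClosed (Limits.pullback.map (π ≫ q) (π ≫ q) q q π π (𝟙 S)
      ((Category.comp_id _).trans rfl) ((Category.comp_id _).trans rfl)) :=
    MorphismProperty.pullbackMap (P := @UniversallyClosed) (f := π ≫ q) (g := π ≫ q)
      (f' := q) (g' := q) (i₁ := π) (i₂ := π) inferInstance inferInstance rfl rfl
  set m := Limits.pullback.map (π ≫ q) (π ≫ q) q q π π (𝟙 S)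
      ((Category.comp_id _).trans rfl) ((Category.comp_id _).trans rfl) with hmdef
  have hdiag : Limits.pullback.diagonal (π ≫ q) ≫ m = π ≫ Limits.pullback.diagonal q := by
    apply Limits.pullback.hom_ext <;>
      simp only [m, Limits.pullback.map, Limits.pullback.diagonal, Category.assoc,
        Limits.pullback.lift_fst, Limits.pullback.lift_snd, Limits.pullback.lift_fst_assoc,
        Limits.pullback.lift_snd_assoc, Category.id_comp, Category.comp_id]
  constructor
  apply IsClosedImmersion.of_isPreimmersion
  have hrange : Set.range (Limits.pullback.diagonal q) =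
      m '' Set.range (Limits.pullback.diagonal (π ≫ q)) := by
    ext z
    constructor
    · rintro ⟨y, rfl⟩
      obtain ⟨x, rfl⟩ := π.surjective y
      refine ⟨_, ⟨x, rfl⟩, ?_⟩
      rw [← Scheme.Hom.comp_apply, hdiag, Scheme.Hom.comp_apply]
    · rintro ⟨_, ⟨x, rfl⟩, rfl⟩
      exact ⟨π x, by rw [← Scheme.Hom.comp_apply, ← hdiag, Scheme.Hom.comp_apply]⟩
  rw [hrange]
  exact m.isClosedMap _ (Limits.pullback.diagonal (π ≫ q)).isClosedEmbedding.isClosed_range

end Groth.Agent.S19556
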