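import Groth.Statements.S19589
-- import your own Groth.Agent.* helpers here
import Mathlib

set_option autoImplicit false
universe u v
open Brauer

namespace Groth.Agent.S19589

open TensorProduct MulOpposite

/-- Let R be a commutative ring and P a finitely generated projective R-module which is faithful. Then
End_R(P) is an Azumaya R-algebra. (The published statement is for a finite locally free sheaf E on a
scheme X and the sheaf of algebras End(E); this row is the case of affine X. Azumaya is taken in the
sense that includes faithfulness over R, which is why P is assumed faithful; the published notion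
also admits rank zero.) -/
theorem result (R : Type u) [CommRing R]
    (P : Type v) [AddCommGroup P] [Module R P] [Module.Finite R P] [Module.Projective R P]
    [FaithfulSMul R P] : IsAzumaya R (Module.End R P) := by
  obtain ⟨n, π, hπ⟩ := Module.Finite.exists_fin' R P
  obtain ⟨s, hs⟩ := Module.projective_lifting_property π LinearMap.id hπ
  set p : Fin n → P := fun i => π (Pi.single i 1) with hp
  set φ : Fin n → (P →ₗ[R] R) := fun i => (LinearMap.proj i) ∘ₗ s with hφ
  have key : ∀ x : P, ∑ i, φ i x • p i = x := by
    intro x
    have h1 : π (s x) = x := by rw [← LinearMap.comp_apply, hs, LinearMap.id_apply]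
    have h2 : s x = ∑ i, (s x) i • (Pi.single i 1 : Fin n → R) := by
      ext j; simp [Finset.sum_apply, Pi.single_apply]
    conv_rhs => rw [← h1, h2]
    simp [map_sum, map_smul, p, φ]
  set e : Fin n → Fin n → Module.End R P := fun i j => (φ j).smulRight (p i) with he
  have e_apply : ∀ i j x, e i j x = φ j x • p i := fun i j x => rfl
  have expand : ∀ a : Module.End R P, a = ∑ i, ∑ l, φ i (a (p l)) • e i l := by
    intro a; ext x
    simp only [LinearMap.coe_sum, Finset.sum_apply, LinearMap.smul_apply, e_apply]
    have hax : a x = ∑ l, φ l x • a (p l) := by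
      conv_lhs => rw [← key x]
      simp [map_sum, map_smul]
    calc a x = ∑ i, φ i (a x) • p i := (key _).symm
      _ = ∑ i, ∑ l, φ i (a (p l)) • φ l x • p i := by
        rw [hax]; simp [map_sum, Finset.sum_smul, smul_smul, mul_comm]
  have triple : ∀ i j k l (x : Module.End R P), e i j * x * e k l = φ j (x (p k)) • e i l := by
    intro i j k l x; ext y
    simp [e_apply, Module.End.mul_apply, smul_smul, mul_comm]
  -- projectivity & finiteness via retract of End (Fin n → R)
  let Φ : Module.End R P →ₗ[R] Module.End R (Fin n → R) :=
    { toFun := fun a => s ∘ₗ a ∘ₗ π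
      map_add' := by intros; ext; simp
      map_smul' := by intros; ext; simp }
  let Ψ : Module.End R (Fin n → R) →ₗ[R] Module.End R P :=
    { toFun := fun b => π ∘ₗ b ∘ₗ s
      map_add' := by intros; ext; simp
      map_smul' := by intros; ext; simp }
  have hΨΦ : Ψ ∘ₗ Φ = LinearMap.id := by
    ext a x
    simp only [LinearMap.coe_comp, Function.comp_apply, LinearMap.id_coe, id_eq, Ψ, Φ, LinearMap.coe_mk, AddHom.coe_mk]
    have h1 : ∀ y, π (s y) = y := fun y => by rw [← LinearMap.comp_apply, hs, LinearMap.id_apply]
    rw [h1, h1]
  have : Module.Projective R (Module.End R P) := Module.Projective.of_split Φ Ψ hΨΦ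
  have : Module.Finite R (Module.End R P) := Module.Finite.of_surjective Ψ (by
    intro a; exact ⟨Φ a, by rw [← LinearMap.comp_apply, hΨΦ, LinearMap.id_apply]⟩)
  have : FaithfulSMul R (Module.End R P) := ⟨fun {r₁ r₂} h => by
    have := h 1
    apply eq_of_smul_eq_smul (α := P)
    intro x
    have := congrArg (fun f : Module.End R P => f x) this
    simpa using this⟩
  let ψ : Module.End R (Module.End R P) →ₗ[R] Module.End R P ⊗[R] (Module.End R P)ᵐᵒᵖ :=
    { toFun := fun f => ∑ i, ∑ j, ∑ k, ∑ l, φ i (f (e j k) (p l)) • (e i j ⊗ₜ op (e k l))
      map_add' := by intros; simp only [LinearMap.add_apply, map_add, add_smul, Finset.sum_add_distrib]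
      map_smul' := by intros; simp only [LinearMap.smul_apply, map_smul, smul_eq_mul, smul_smul, Finset.smul_sum, RingHom.id_apply] }
  refine ⟨Function.bijective_iff_has_inverse.mpr ⟨ψ, fun t => ?_, fun f => ?_⟩⟩
  · induction t using TensorProduct.induction_on with
    | zero => simp
    | add x y hx hy => rw [map_add, map_add, hx, hy]
    | tmul a b =>
      have hb : b = op b.unop := rfl
      conv_rhs => rw [expand a, hb, expand b.unop]
      simp only [Finset.op_sum, MulOpposite.op_smul, TensorProduct.sum_tmul]
      simp only [TensorProduct.tmul_sum]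
      simp only [TensorProduct.smul_tmul_smul]
      simp only [ψ, LinearMap.coe_mk, AddHom.coe_mk, AlgHom.mulLeftRight_apply,
        Module.End.mul_apply, e_apply, map_smul, smul_eq_mul]
      refine Finset.sum_congr rfl fun i _ => Finset.sum_congr rfl fun j _ =>
        Finset.sum_congr rfl fun k _ => Finset.sum_congr rfl fun l _ => ?_
      rw [mul_comm]
  · refine LinearMap.ext fun x => ?_
    simp only [ψ, LinearMap.coe_mk, AddHom.coe_mk, map_sum, map_smul,
      LinearMap.coe_sum, Finset.sum_apply, LinearMap.smul_apply, AlgHom.mulLeftRight_apply, unop_op, triple,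
      smul_smul]
    conv_rhs => rw [expand (f x)]
    have hfx : ∀ l, f x (p l) = ∑ j, ∑ k, φ j (x (p k)) • f (e j k) (p l) := by
      intro l
      conv_lhs => rw [expand x]
      simp [map_sum, map_smul]
    simp only [hfx, map_sum, map_smul, smul_eq_mul, Finset.sum_smul]
    refine Finset.sum_congr rfl fun i _ => ?_
    conv_lhs => enter [2, j]; rw [Finset.sum_comm]
    conv_lhs => rw [Finset.sum_comm]
    refine Finset.sum_congr rfl fun l _ => Finset.sum_congr rfl fun j _ =>
      Finset.sum_congr rfl fun k _ => ?_
    rw [mul_comm]

end Groth.Agent.S19589
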