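import Groth.Statements.S19630
-- import your own Groth.Agent.* helpers here
import Mathlib

set_option autoImplicit false
universe u
open DeRham

namespace Groth.Agent.S19630

open exteriorPower in
/-- In the affine case, at ring level, let k ⊆ K be a finite extension of fields of characteristic zero
and B a smooth K-algebra, so that Y = Spec B is a smooth affine variety over K which may also be
regarded over k. Let ψ be the map of de Rham complexes from Ω•_{B/k} to Ω•_{B/K} induced by the
identity of B. Then ψ is bijective in every degree: the de Rham complex of Y over k and over K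
coincide, and hence the natural map H^i_dR(Y/k) → H^i_dR(Y/K) is an isomorphism. (The source states
the isomorphism on de Rham cohomology for any smooth variety Y over K, through the equality of the
two de Rham complexes; this row is that equality for affine Y.) -/
theorem result
    (k K : Type u) [Field k] [Field K] [CharZero k] [Algebra k K] [Module.Finite k K]
    (B : Type u) [CommRing B] [Algebra K B] [Algebra k B] [IsScalarTower k K B] [Algebra.Smooth K B]
    (ψ : ∀ p : ℕ, ↥(⋀[B]^p (Ω[B⁄k])) →+ ↥(⋀[B]^p (Ω[B⁄K])))
    (hψ : DeRham.IsCxMap (KaehlerDifferential.D k B) (KaehlerDifferential.D K B) (RingHom.id B) ψ)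
    (p : ℕ) :
    Function.Bijective (ψ p) := by
  have hsep : Algebra.IsSeparable k K := inferInstance
  have hfu : Algebra.FormallyUnramified k K := Algebra.FormallyUnramified.of_isSeparable k K
  have hsub : Subsingleton (Ω[K⁄k]) := inferInstance
  let f : Ω[B⁄k] →ₗ[B] Ω[B⁄K] := KaehlerDifferential.map k K B B
  have hfs : Function.Surjective f := KaehlerDifferential.map_surjective k K B
  have hfi : Function.Injective f := by
    rw [← LinearMap.ker_eq_bot, eq_bot_iff]
    intro x hx
    have hx' : f x = 0 := hx
    have hall : ∀ y : TensorProduct K B (Ω[K⁄k]), y = 0 := by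
      intro y
      induction y using TensorProduct.induction_on with
      | zero => rfl
      | tmul b ω => rw [Subsingleton.elim ω 0, TensorProduct.tmul_zero]
      | add y z hy hz => rw [hy, hz, add_zero]
    obtain ⟨y, hy⟩ := ((KaehlerDifferential.exact_mapBaseChange_map k K B) x).mp hx'
    rw [hall y, map_zero] at hy
    rw [← hy]; exact Submodule.zero_mem _
  let e : Ω[B⁄k] ≃ₗ[B] Ω[B⁄K] := LinearEquiv.ofBijective f ⟨hfi, hfs⟩
  let F : ↥(⋀[B]^p (Ω[B⁄k])) →ₗ[B] ↥(⋀[B]^p (Ω[B⁄K])) := exteriorPower.map p e.toLinearMap
  let G : ↥(⋀[B]^p (Ω[B⁄K])) →ₗ[B] ↥(⋀[B]^p (Ω[B⁄k])) := exteriorPower.map p e.symm.toLinearMap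
  have hGF : ∀ x, G (F x) = x := by
    intro x
    change (exteriorPower.map p e.symm.toLinearMap ∘ₗ exteriorPower.map p e.toLinearMap) x = x
    rw [← exteriorPower.map_comp]
    simp
  have hFG : ∀ x, F (G x) = x := by
    intro x
    change (exteriorPower.map p e.toLinearMap ∘ₗ exteriorPower.map p e.symm.toLinearMap) x = x
    rw [← exteriorPower.map_comp]
    simp
  have hFbij : Function.Bijective F :=
    ⟨Function.LeftInverse.injective hGF, Function.RightInverse.surjective hFG⟩
  -- ψ p = F
  have hspan : Submodule.span B (Set.range (KaehlerDifferential.D k B)) = ⊤ :=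
    KaehlerDifferential.span_range_derivation k B
  have hspan2 := exteriorPower.ιMulti_span_of_span (R := B) (n := p) (M := Ω[B⁄k]) hspan
  have key : ∀ x ∈ Submodule.span B (exteriorPower.ιMulti B p ''
      {a : Fin p → Ω[B⁄k] | Set.range a ⊆ Set.range (KaehlerDifferential.D k B)}),
      ∀ c : B, ψ p (c • x) = F (c • x) := by
    intro x hx
    induction hx using Submodule.span_induction with
    | mem y hy =>
      obtain ⟨a, ha, rfl⟩ := hy
      intro c
      have hb : ∀ i, ∃ b : B, KaehlerDifferential.D k B b = a i := fun i => ha ⟨i, rfl⟩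
      choose b hb using hb
      have ha' : a = fun i => KaehlerDifferential.D k B (b i) := funext fun i => (hb i).symm
      subst ha'
      have h1 := hψ p c b
      simp only [DeRham.gen, RingHom.id_apply] at h1
      rw [h1, map_smul]
      congr 1
      simp only [F, exteriorPower.map_apply_ιMulti]
      congr 1
      funext i
      change KaehlerDifferential.D K B (b i) = KaehlerDifferential.map k K B B (KaehlerDifferential.D k B (b i))
      rw [KaehlerDifferential.map_D]
      rfl
    | zero => intro c; simp
    | add y z _ _ hy hz => intro c; rw [smul_add, map_add, map_add, hy, hz]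
    | smul c' y _ hy => intro c; rw [smul_smul]; exact hy _
  have hψF : ∀ x, ψ p x = F x := by
    intro x
    have hx : x ∈ Submodule.span B (exteriorPower.ιMulti B p ''
      {a : Fin p → Ω[B⁄k] | Set.range a ⊆ Set.range (KaehlerDifferential.D k B)}) := by
      rw [hspan2]; exact Submodule.mem_top
    simpa using key x hx 1
  have : (ψ p : ↥(⋀[B]^p (Ω[B⁄k])) → ↥(⋀[B]^p (Ω[B⁄K]))) = F := funext hψF
  rw [this]
  exact hFbij

end Groth.Agent.S19630
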