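import Groth.Statements.S19632
-- import your own Groth.Agent.* helpers here
import Mathlib

set_option autoImplicit false
universe u
open DeRham

namespace Groth.Agent.S19632

open LaurentPolynomial

section Helper

variable (k : Type u) [Field k]

noncomputable def uu : (TrivSqZeroExt (LaurentPolynomial k) (LaurentPolynomial k))ˣ :=
  (TrivSqZeroExt.isUnit_iff_isUnit_fst.mpr (by simpa using (isUnit_T 1 : IsUnit (T 1 : LaurentPolynomial k))) :
    IsUnit (TrivSqZeroExt.inl (T 1) + TrivSqZeroExt.inr (T 1) :
      TrivSqZeroExt (LaurentPolynomial k) (LaurentPolynomial k))).unit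

noncomputable def φ : LaurentPolynomial k →+* TrivSqZeroExt (LaurentPolynomial k) (LaurentPolynomial k) :=
  LaurentPolynomial.eval₂ (algebraMap k _) (uu k)

lemma uu_val : ((uu k : TrivSqZeroExt (LaurentPolynomial k) (LaurentPolynomial k))) =
    TrivSqZeroExt.inl (T 1) + TrivSqZeroExt.inr (T 1) := by
  simp [uu]

lemma fst_φ (f : LaurentPolynomial k) : (φ k f).fst = f := by
  have h : ((TrivSqZeroExt.fstHom k (LaurentPolynomial k) (LaurentPolynomial k)).toRingHom.comp (φ k))
      = RingHom.id _ := by
    apply IsLocalization.ringHom_ext (Submonoid.powers (Polynomial.X : Polynomial k))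
    apply Polynomial.ringHom_ext
    · intro a
      simp only [RingHom.comp_apply, algebraMap_eq_toLaurent, Polynomial.toLaurent_C, φ, eval₂_C,
        AlgHom.toRingHom_eq_coe, RingHom.coe_coe, TrivSqZeroExt.fstHom_apply, RingHom.id_apply]
      rw [TrivSqZeroExt.algebraMap_eq_inl', TrivSqZeroExt.fst_inl, C_eq_algebraMap]
    · simp only [RingHom.comp_apply, algebraMap_eq_toLaurent, Polynomial.toLaurent_X, φ, eval₂_T,
        AlgHom.toRingHom_eq_coe, RingHom.coe_coe, TrivSqZeroExt.fstHom_apply, RingHom.id_apply, zpow_one, uu_val]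
      simp
  exact congrArg (fun g => g f) h

noncomputable def δl : LaurentPolynomial k →ₗ[k] LaurentPolynomial k where
  toFun f := (φ k f).snd
  map_add' f g := by simp
  map_smul' c f := by
    rw [Algebra.smul_def, map_mul]
    simp only [φ, ← C_eq_algebraMap, eval₂_C, RingHom.id_apply]
    rw [← Algebra.smul_def, TrivSqZeroExt.snd_smul]

noncomputable def δ : Derivation k (LaurentPolynomial k) (LaurentPolynomial k) :=
  Derivation.mk' (δl k) (by
    intro a b
    change (φ k (a * b)).snd = a • (φ k b).snd + b • (φ k a).snd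
    rw [map_mul, TrivSqZeroExt.snd_mul, fst_φ, fst_φ, op_smul_eq_smul])

lemma δ_apply (f : LaurentPolynomial k) : δ k f = (φ k f).snd := rfl

lemma δ_T1 : δ k (T 1) = T 1 := by
  rw [δ_apply]; simp [φ, uu_val]

lemma δ_T (n : ℤ) : δ k (T n) = (n : k) • T n := by
  induction n using Int.induction_on with
  | zero => simp [T_zero]
  | succ n ih =>
    rw [T_add, Derivation.leibniz, ih, δ_T1]
    simp only [smul_eq_mul]
    rw [smul_eq_C_mul, smul_eq_C_mul]
    push_cast
    rw [map_add, map_one]
    ring
  | pred n ih =>
    have hu : (T (-(n:ℤ) - 1) * T 1 : LaurentPolynomial k) = T (-(n:ℤ)) := by rw [← T_add]; ring_nf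
    have hinv : (T 1 : LaurentPolynomial k) * T (-1) = 1 := by rw [← T_add]; simp [T_zero]
    have hm : (T (-(n:ℤ)) : LaurentPolynomial k) * T (-1) = T (-(n:ℤ) - 1) := by rw [← T_add]; ring_nf
    have h2 := congrArg (δ k) hu
    rw [Derivation.leibniz, δ_T1, ih] at h2
    simp only [smul_eq_mul] at h2
    rw [smul_eq_C_mul] at h2 ⊢
    have e : (((-(n:ℤ) - 1 : ℤ)) : k) = ((-(n:ℤ) : ℤ) : k) - 1 := by push_cast; ring
    rw [e, map_sub, map_one]
    linear_combination (T (-1)) * h2 - (T (-1)) * hu - (δ k (T (-(n:ℤ) - 1))) * hinv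
      + (C (((-(n:ℤ) : ℤ) : k)) - 1) * hm

lemma coeff_δ (f : LaurentPolynomial k) (m : ℤ) : (δ k f).coeff m = (m : k) * f.coeff m := by
  induction f using LaurentPolynomial.induction_on' with
  | add p q hp hq =>
    rw [map_add, AddMonoidAlgebra.coeff_add, AddMonoidAlgebra.coeff_add, Finsupp.add_apply,
      Finsupp.add_apply, hp, hq, mul_add]
  | C_mul_T n a =>
    rw [Derivation.leibniz, δ_T, C_eq_algebraMap, Derivation.map_algebraMap, smul_zero, add_zero,
      ← C_eq_algebraMap, smul_eq_mul, mul_smul_comm, ← single_eq_C_mul_T, AddMonoidAlgebra.smul_single,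
      AddMonoidAlgebra.coeff_single, AddMonoidAlgebra.coeff_single, Finsupp.single_apply, Finsupp.single_apply]
    split_ifs with h
    · subst h; rfl
    · simp

end Helper

/-- Let k be a field of characteristic zero and G_m = Spec k[t, t⁻¹] the multiplicative group. The
kernel of the differential d : k[t, t⁻¹] → Ω¹ of the de Rham complex of G_m consists of the
constants: for a Laurent polynomial f, df = 0 if and only if f lies in the image of k. Equivalently
H^0_dR(G_m/k) = k. (Characteristic zero is used: in characteristic p the element t^p is closed.) -/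
theorem result (k : Type u) [Field k] [CharZero k]
    (f : LaurentPolynomial k) :
    KaehlerDifferential.D k (LaurentPolynomial k) f = 0 ↔ f ∈ Set.range (algebraMap k (LaurentPolynomial k)) := by
  constructor
  · intro hf
    have h0 : δ k f = 0 := by
      rw [← Derivation.liftKaehlerDifferential_comp_D, hf, map_zero]
    have hc : ∀ m : ℤ, (m : k) * f.coeff m = 0 := by
      intro m
      have := coeff_δ k f m
      rw [h0] at this
      exact this.symm
    refine ⟨f.coeff 0, ?_⟩
    ext m
    rw [← C_eq_algebraMap, C_apply]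
    split_ifs with hm
    · subst hm; rfl
    · rcases mul_eq_zero.mp (hc m) with h | h
      · exact absurd (Int.cast_eq_zero.mp h) hm
      · exact h.symm
  · rintro ⟨c, rfl⟩
    exact (KaehlerDifferential.D k _).map_algebraMap c

end Groth.Agent.S19632
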