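import Groth.Statements.S19633
-- import your own Groth.Agent.* helpers here
import Groth.Agent.S19632

set_option autoImplicit false
universe u
open DeRham

namespace Groth.Agent.S19633

open LaurentPolynomial

section Helper

variable (k : Type u) [Field k]

lemma der_T {M : Type*} [AddCommGroup M] [Module (LaurentPolynomial k) M] [Module k M]
    [IsScalarTower k (LaurentPolynomial k) M]
    (δ : Derivation k (LaurentPolynomial k) M) (n : ℤ) :
    δ (T n) = (C (n : k) * T (n - 1)) • δ (T 1) := by
  induction n using Int.induction_on with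
  | zero => simp [T_zero]
  | succ n ih =>
    rw [T_add, Derivation.leibniz, ih, smul_smul, ← add_smul]
    congr 1
    have h : (T 1 : LaurentPolynomial k) * T ((n : ℤ) - 1) = T n := by rw [← T_add]; ring_nf
    simp only [add_sub_cancel_right]
    push_cast
    rw [map_add, map_one]
    linear_combination (C (n : k)) * h
  | pred n ih =>
    have h1 : (T (-(n:ℤ)) : LaurentPolynomial k) = T (-(n:ℤ) - 1) * T 1 := by rw [← T_add]; ring_nf
    have h2 := congrArg δ h1
    rw [Derivation.leibniz, ih] at h2
    have hinv : (T (-1) : LaurentPolynomial k) * T 1 = 1 := by rw [← T_add]; simp [T_zero]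
    have h3 : T 1 • δ (T (-(n:ℤ) - 1)) =
        (C ((-(n:ℤ) : ℤ) : k) * T (-(n:ℤ) - 1)) • δ (T 1) - T (-(n:ℤ) - 1) • δ (T 1) :=
      eq_sub_of_add_eq' h2.symm
    have hm : (T (-1) : LaurentPolynomial k) * T (-(n:ℤ) - 1) = T (-(n:ℤ) - 1 - 1) := by
      rw [← T_add]; ring_nf
    calc δ (T (-(n:ℤ) - 1)) = (T (-1) * T 1) • δ (T (-(n:ℤ) - 1)) := by rw [hinv, one_smul]
      _ = T (-1) • (T 1 • δ (T (-(n:ℤ) - 1))) := by rw [mul_smul]
      _ = (T (-1) * (C ((-(n:ℤ) : ℤ) : k) * T (-(n:ℤ) - 1) - T (-(n:ℤ) - 1))) • δ (T 1) := by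
          rw [h3, ← sub_smul, smul_smul]
      _ = (C (((-(n:ℤ) - 1 : ℤ)) : k) * T (-(n:ℤ) - 1 - 1)) • δ (T 1) := by
          congr 1
          have e : (((-(n:ℤ) - 1 : ℤ)) : k) = ((-(n:ℤ) : ℤ) : k) - 1 := by push_cast; ring
          rw [e, map_sub, map_one, ← hm]
          ring


lemma omega_cyclic (ω : Ω[LaurentPolynomial k⁄k]) :
    ∃ f : LaurentPolynomial k, f • KaehlerDifferential.D k (LaurentPolynomial k) (T 1) = ω := by
  have hle : Set.range (KaehlerDifferential.D k (LaurentPolynomial k)) ⊆
      (Submodule.span (LaurentPolynomial k)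
        {KaehlerDifferential.D k (LaurentPolynomial k) (T 1)} : Set (Ω[LaurentPolynomial k⁄k])) := by
    rintro _ ⟨a, rfl⟩
    induction a using LaurentPolynomial.induction_on' with
    | add p q hp hq => rw [map_add]; exact Submodule.add_mem _ hp hq
    | C_mul_T n a =>
      have h1 : KaehlerDifferential.D k (LaurentPolynomial k) (T n) ∈ Submodule.span (LaurentPolynomial k)
          {KaehlerDifferential.D k (LaurentPolynomial k) (T 1)} := by
        rw [der_T k (KaehlerDifferential.D k (LaurentPolynomial k)) n]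
        exact Submodule.smul_mem _ _ (Submodule.mem_span_singleton_self _)
      have h2 : C a * T n = algebraMap k (LaurentPolynomial k) a * T n := by rw [C_eq_algebraMap]
      rw [SetLike.mem_coe, h2, Derivation.leibniz, Derivation.map_algebraMap, smul_zero, add_zero]
      exact Submodule.smul_mem _ _ h1
  have h := Submodule.span_le.mpr hle
  rw [KaehlerDifferential.span_range_derivation, top_le_iff] at h
  have hω : ω ∈ Submodule.span (LaurentPolynomial k)
      {KaehlerDifferential.D k (LaurentPolynomial k) (T 1)} := by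
    rw [h]; exact Submodule.mem_top
  exact Submodule.mem_span_singleton.mp hω

lemma ext2_zero (p : ℕ) (x : ↥(⋀[LaurentPolynomial k]^(p+2) (Ω[LaurentPolynomial k⁄k]))) : x = 0 := by
  have hspan := exteriorPower.ιMulti_span (R := LaurentPolynomial k) (n := p+2)
    (M := Ω[LaurentPolynomial k⁄k])
  have hzero : ∀ v : Fin (p+2) → Ω[LaurentPolynomial k⁄k],
      exteriorPower.ιMulti (LaurentPolynomial k) (p+2) v = 0 := by
    intro v
    choose f hf using fun i => omega_cyclic k (v i)
    have hv : v = fun i => f i • KaehlerDifferential.D k (LaurentPolynomial k) (T 1) :=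
      funext fun i => (hf i).symm
    rw [hv]
    have h1 := (exteriorPower.ιMulti (LaurentPolynomial k) (p+2)
      (M := Ω[LaurentPolynomial k⁄k])).toMultilinearMap.map_smul_univ f
      (fun _ => KaehlerDifferential.D k (LaurentPolynomial k) (T 1))
    simp only [AlternatingMap.coe_multilinearMap] at h1
    rw [h1, AlternatingMap.map_eq_zero_of_eq _ _ (i := 0) (j := 1) rfl (by simp), smul_zero]
  have htop : (⊤ : Submodule (LaurentPolynomial k)
      ↥(⋀[LaurentPolynomial k]^(p+2) (Ω[LaurentPolynomial k⁄k]))) = ⊥ := by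
    rw [← hspan, Submodule.span_eq_bot]
    rintro _ ⟨v, rfl⟩
    exact hzero v
  have hx : x ∈ (⊤ : Submodule (LaurentPolynomial k)
      ↥(⋀[LaurentPolynomial k]^(p+2) (Ω[LaurentPolynomial k⁄k]))) := Submodule.mem_top
  rw [htop] at hx
  exact (Submodule.mem_bot _).mp hx

noncomputable def res0 : LaurentPolynomial k →ₗ[k] k where
  toFun f := f.coeff 0
  map_add' f g := by rw [AddMonoidAlgebra.coeff_add, Finsupp.add_apply]
  map_smul' c f := by simp

noncomputable def ρ : ↥(⋀[LaurentPolynomial k]^1 (Ω[LaurentPolynomial k⁄k])) →ₗ[k] k :=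
  res0 k ∘ₗ ((Groth.Agent.S19632.δ k).liftKaehlerDifferential.restrictScalars k) ∘ₗ
    ((exteriorPower.oneEquiv (LaurentPolynomial k) (Ω[LaurentPolynomial k⁄k])).toLinearMap.restrictScalars k)

lemma ρ_apply (x : ↥(⋀[LaurentPolynomial k]^1 (Ω[LaurentPolynomial k⁄k]))) :
    ρ k x = ((Groth.Agent.S19632.δ k).liftKaehlerDifferential
      (exteriorPower.oneEquiv (LaurentPolynomial k) (Ω[LaurentPolynomial k⁄k]) x)).coeff 0 := rfl

end Helper

open exteriorPower in
/-- Let k be a field of characteristic zero, G_m = Spec k[t, t⁻¹], and d the de Rham differential of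
k[t, t⁻¹] over k. Then: every 1-form is closed; the exact 1-forms and the k-line spanned by t⁻¹ dt
are complementary subspaces of the 1-forms, and t⁻¹ dt is not exact — so H^1_dR(G_m/k) is
one-dimensional, generated by the class of dt/t (the isomorphism with k being the residue); and for
every i ≥ 2 the closed i-forms are exact, so H^i_dR(G_m/k) = 0 for i > 1. (Characteristic zero is
used in the computation of the exact forms.) -/
theorem result (k : Type u) [Field k] [CharZero k]
    (d : ∀ p : ℕ, ↥(⋀[LaurentPolynomial k]^p (Ω[LaurentPolynomial k⁄k])) →ₗ[k] ↥(⋀[LaurentPolynomial k]^(p + 1) (Ω[LaurentPolynomial k⁄k])))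
    (hd : DeRham.IsDiff (KaehlerDifferential.D k (LaurentPolynomial k)) d) :
    DeRham.cocycles d 1 = ⊤ ∧
    IsCompl (DeRham.coboundaries d 1)
      (Submodule.span k {DeRham.gen (KaehlerDifferential.D k (LaurentPolynomial k)) 1
        (LaurentPolynomial.T (-1)) (fun _ => LaurentPolynomial.T 1)}) ∧
    DeRham.gen (KaehlerDifferential.D k (LaurentPolynomial k)) 1
        (LaurentPolynomial.T (-1)) (fun _ => LaurentPolynomial.T 1) ∉ DeRham.coboundaries d 1 ∧
    ∀ i : ℕ, DeRham.cocycles d (i + 2) ≤ DeRham.coboundaries d (i + 2) := by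
  -- notation
  have hsub : ∀ (p : ℕ) (x : ↥(⋀[LaurentPolynomial k]^(p+2) (Ω[LaurentPolynomial k⁄k]))), x = 0 :=
    ext2_zero k
  have hgen0 : ∀ x : ↥(⋀[LaurentPolynomial k]^0 (Ω[LaurentPolynomial k⁄k])),
      DeRham.gen (KaehlerDifferential.D k (LaurentPolynomial k)) 0
        (exteriorPower.zeroEquiv _ _ x) Fin.elim0 = x := by
    intro x
    conv_rhs => rw [← (exteriorPower.zeroEquiv _ _).symm_apply_apply x]
    rw [exteriorPower.zeroEquiv_symm_apply]
    unfold DeRham.gen
    congr 2
    exact Subsingleton.elim _ _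
  have hd0 : ∀ a : LaurentPolynomial k,
      d 0 (DeRham.gen (KaehlerDifferential.D k (LaurentPolynomial k)) 0 a Fin.elim0) =
        (exteriorPower.oneEquiv (LaurentPolynomial k) (Ω[LaurentPolynomial k⁄k])).symm
          (KaehlerDifferential.D k (LaurentPolynomial k) a) := by
    intro a
    rw [hd.1 0, exteriorPower.oneEquiv_symm_apply]
    congr 1
    funext i
    rw [Fin.fin_one_eq_zero i]
    rfl
  have hcob : ∀ x, x ∈ DeRham.coboundaries d 1 ↔ ∃ a : LaurentPolynomial k,
      (exteriorPower.oneEquiv (LaurentPolynomial k) (Ω[LaurentPolynomial k⁄k])).symm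
          (KaehlerDifferential.D k (LaurentPolynomial k) a) = x := by
    intro x
    change x ∈ LinearMap.range (d 0) ↔ _
    constructor
    · rintro ⟨y, rfl⟩
      refine ⟨exteriorPower.zeroEquiv _ _ y, ?_⟩
      rw [← hd0, hgen0]
    · rintro ⟨a, rfl⟩
      exact ⟨_, hd0 a⟩
  have hg : DeRham.gen (KaehlerDifferential.D k (LaurentPolynomial k)) 1
        (LaurentPolynomial.T (-1)) (fun _ => LaurentPolynomial.T 1) =
      (exteriorPower.oneEquiv (LaurentPolynomial k) (Ω[LaurentPolynomial k⁄k])).symm
          ((T (-1) : LaurentPolynomial k) • KaehlerDifferential.D k (LaurentPolynomial k) (T 1)) := by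
    rw [map_smul, exteriorPower.oneEquiv_symm_apply]
    rfl
  have hρD : ∀ a : LaurentPolynomial k, ρ k ((exteriorPower.oneEquiv (LaurentPolynomial k)
      (Ω[LaurentPolynomial k⁄k])).symm (KaehlerDifferential.D k (LaurentPolynomial k) a)) = 0 := by
    intro a
    rw [ρ_apply, LinearEquiv.apply_symm_apply, Derivation.liftKaehlerDifferential_comp_D,
      Groth.Agent.S19632.coeff_δ]
    simp
  have hρg : ρ k (DeRham.gen (KaehlerDifferential.D k (LaurentPolynomial k)) 1
        (LaurentPolynomial.T (-1)) (fun _ => LaurentPolynomial.T 1)) = 1 := by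
    rw [hg, ρ_apply, LinearEquiv.apply_symm_apply, map_smul, Derivation.liftKaehlerDifferential_comp_D,
      Groth.Agent.S19632.δ_T1, smul_eq_mul, ← T_add]
    simp [T_zero]
  refine ⟨?_, ⟨?_, ?_⟩, ?_, ?_⟩
  · rw [eq_top_iff]
    intro x _
    exact hsub 0 _
  · rw [Submodule.disjoint_def]
    intro x hx1 hx2
    obtain ⟨c, rfl⟩ := Submodule.mem_span_singleton.mp hx2
    obtain ⟨a, ha⟩ := (hcob _).mp hx1
    have h := congrArg (ρ k) ha
    rw [hρD, map_smul, hρg, smul_eq_mul, mul_one] at h
    rw [← h, zero_smul]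
  · rw [codisjoint_iff, eq_top_iff]
    intro x _
    obtain ⟨f, hf⟩ := omega_cyclic k
      (exteriorPower.oneEquiv (LaurentPolynomial k) (Ω[LaurentPolynomial k⁄k]) x)
    have hx : x = (exteriorPower.oneEquiv (LaurentPolynomial k) (Ω[LaurentPolynomial k⁄k])).symm
        (f • KaehlerDifferential.D k (LaurentPolynomial k) (T 1)) := by
      rw [hf, LinearEquiv.symm_apply_apply]
    rw [hx]
    clear hx hf
    induction f using LaurentPolynomial.induction_on' with
    | add p q hp hq =>
      rw [add_smul, map_add]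
      exact Submodule.add_mem _ hp hq
    | C_mul_T n a =>
      by_cases hn : n = -1
      · subst hn
        apply Submodule.mem_sup_right
        rw [Submodule.mem_span_singleton]
        refine ⟨a, ?_⟩
        rw [hg, ← algebraMap_smul (LaurentPolynomial k) a, ← map_smul, smul_smul, C_eq_algebraMap]
      · apply Submodule.mem_sup_left
        rw [hcob]
        refine ⟨C (a / ((n + 1 : ℤ) : k)) * T (n + 1), ?_⟩
        congr 1
        have hm : ((n + 1 : ℤ) : k) ≠ 0 := Int.cast_ne_zero.mpr (by omega)
        rw [← smul_eq_C_mul, Derivation.map_smul, der_T, ← smul_assoc, smul_eq_C_mul, ← mul_assoc,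
          ← map_mul, div_mul_cancel₀ a hm, add_sub_cancel_right]
  · intro h
    obtain ⟨a, ha⟩ := (hcob _).mp h
    have h2 := congrArg (ρ k) ha
    rw [hρD, hρg] at h2
    exact zero_ne_one h2
  · intro i x _
    rw [hsub i x]
    exact Submodule.zero_mem _

end Groth.Agent.S19633
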