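import Groth.Statements.S19634
-- import your own Groth.Agent.* helpers here
import Groth.Agent.Lib.Helper29.NodeKaehler

set_option autoImplicit false
universe u
open DeRham

namespace Groth.Agent.S19634

/-- Let k be a field of characteristic zero and A = k[X, Y]/(XY), the coordinate ring of two affine
lines crossing in a point. In the naive de Rham complex A → Ω¹_{A/k} the kernel of d consists of the
constants: dP = 0 if and only if P is in the image of k. -/
theorem result (k : Type u) [Field k] [CharZero k]
    (P : MvPolynomial (Fin 2) k ⧸ Ideal.span {(MvPolynomial.X 0 * MvPolynomial.X 1 : MvPolynomial (Fin 2) k)}) :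
    KaehlerDifferential.D k (MvPolynomial (Fin 2) k ⧸ Ideal.span {(MvPolynomial.X 0 * MvPolynomial.X 1 : MvPolynomial (Fin 2) k)}) P = 0 ↔
      P ∈ Set.range (algebraMap k (MvPolynomial (Fin 2) k ⧸ Ideal.span {(MvPolynomial.X 0 * MvPolynomial.X 1 : MvPolynomial (Fin 2) k)})) := by
  constructor
  · intro h
    have h0 : KaehlerDifferential.D k _ P = (0 : MvPolynomial (Fin 2) k ⧸ Ideal.span {(MvPolynomial.X 0 * MvPolynomial.X 1 : MvPolynomial (Fin 2) k)}) • KaehlerDifferential.D k _ 0 := by
      rw [map_zero, smul_zero]; exact h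
    have h1 := Groth.Agent.Lib.Helper29.Node.key_poly k (Groth.Agent.Lib.Helper29.Node.π₁ k) P 0 0 h0
    have h2 := Groth.Agent.Lib.Helper29.Node.key_poly k (Groth.Agent.Lib.Helper29.Node.π₂ k) P 0 0 h0
    rw [map_zero, zero_mul] at h1 h2
    exact Groth.Agent.Lib.Helper29.Node.const_of k P h1 h2
  · rintro ⟨c, rfl⟩
    exact (KaehlerDifferential.D k _).map_algebraMap c

end Groth.Agent.S19634
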