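import Groth.Statements.S19635
-- import your own Groth.Agent.* helpers here
import Groth.Agent.Lib.Helper29.NodeKaehler

set_option autoImplicit false
universe u
open DeRham

namespace Groth.Agent.S19635

/-- Let k be a field of characteristic zero and A = k[X, Y]/(XY), the coordinate ring of two affine
lines crossing in a point. The differential d : A → Ω¹_{A/k} of the naive de Rham complex is not
surjective, so the naive H^1 of this singular curve does not vanish although one expects trivial
cohomology; this is the example motivating the h-topology definition. -/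
theorem result (k : Type u) [Field k] [CharZero k] :
    ¬ Function.Surjective (KaehlerDifferential.D k (MvPolynomial (Fin 2) k ⧸ Ideal.span {(MvPolynomial.X 0 * MvPolynomial.X 1 : MvPolynomial (Fin 2) k)})) := by
  intro hsurj
  set x : MvPolynomial (Fin 2) k ⧸ Ideal.span {(MvPolynomial.X 0 * MvPolynomial.X 1 : MvPolynomial (Fin 2) k)} :=
    Ideal.Quotient.mk _ (MvPolynomial.X 0) with hx
  set y : MvPolynomial (Fin 2) k ⧸ Ideal.span {(MvPolynomial.X 0 * MvPolynomial.X 1 : MvPolynomial (Fin 2) k)} :=
    Ideal.Quotient.mk _ (MvPolynomial.X 1) with hy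
  obtain ⟨P, hP⟩ := hsurj (y • KaehlerDifferential.D k _ x)
  have h1 := Groth.Agent.Lib.Helper29.Node.key_poly k (Groth.Agent.Lib.Helper29.Node.π₁ k) P y x hP
  have h2 := Groth.Agent.Lib.Helper29.Node.key_poly k (Groth.Agent.Lib.Helper29.Node.π₂ k) P y x hP
  have e1 : Groth.Agent.Lib.Helper29.Node.π₁ k y = 0 := by
    rw [hy, Groth.Agent.Lib.Helper29.Node.π₁_mk]; simp
  have e2 : Groth.Agent.Lib.Helper29.Node.π₂ k x = 0 := by
    rw [hx, Groth.Agent.Lib.Helper29.Node.π₂_mk]; simp
  rw [e1, zero_mul] at h1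
  rw [e2, Polynomial.derivative_zero, mul_zero] at h2
  obtain ⟨c, hc⟩ := Groth.Agent.Lib.Helper29.Node.const_of k P h1 h2
  have h3 := Groth.Agent.Lib.Helper29.Node.key_dual k (Groth.Agent.Lib.Helper29.Node.Φ₃ k) P y x hP
  rw [← hc, AlgHom.commutes, TrivSqZeroExt.algebraMap_eq_inl', TrivSqZeroExt.snd_inl] at h3
  have e3 : Groth.Agent.Lib.Helper29.Node.Φ₃ k y = Groth.Agent.Lib.Helper29.Node.vε k := by
    rw [hy]
    show MvPolynomial.aeval ![Groth.Agent.Lib.Helper29.Node.uε k, Groth.Agent.Lib.Helper29.Node.vε k]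
      (MvPolynomial.X 1) = _
    simp
  have e4 : Groth.Agent.Lib.Helper29.Node.Φ₃ k x = Groth.Agent.Lib.Helper29.Node.uε k := by
    rw [hx]
    show MvPolynomial.aeval ![Groth.Agent.Lib.Helper29.Node.uε k, Groth.Agent.Lib.Helper29.Node.vε k]
      (MvPolynomial.X 0) = _
    simp
  rw [e3, e4] at h3
  simp [Groth.Agent.Lib.Helper29.Node.uε, Groth.Agent.Lib.Helper29.Node.vε] at h3
  have := congrArg TrivSqZeroExt.snd h3
  simp at this

end Groth.Agent.S19635
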