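import Groth.Statements.S19708
-- import your own Groth.Agent.* helpers here

set_option autoImplicit false
universe u v w
open W4c5adicflatcompl
open CAlg

namespace Groth.Agent.S19708

/-- Let A be a commutative ring, I an ideal of A, M an I-adically complete A-module, Z a set and f : Z →
M a function. Then f is I-adically decaying (for every n, all but finitely many values f(z) lie in
I^n M) if and only if the family (f(z))_{z ∈ Z} has an I-adic sum in M, i.e. there is an element m
of M such that for every n some finite subset S of Z has f(z) ∈ I^n M for all z outside S and m −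
Σ_{z ∈ S} f(z) ∈ I^n M. -/
theorem result {A : Type u} [CommRing A] (I : Ideal A) (Z : Type v)
    (M : Type w) [AddCommGroup M] [Module A M] [IsAdicComplete I M] (f : Z → M) :
    f ∈ decaying I Z M ↔ ∃ m : M, ∀ n : ℕ, ∃ S : Finset Z,
      (∀ z, z ∉ S → f z ∈ (I ^ n • ⊤ : Submodule A M)) ∧ m - (∑ z ∈ S, f z) ∈ (I ^ n • ⊤ : Submodule A M) := by
  classical
  constructor
  · intro hf
    rw [mem_decaying_iff] at hf
    let S : ℕ → Finset Z := fun n => (hf n).toFinset
    have hS : ∀ n z, z ∈ S n ↔ f z ∉ (I ^ n • ⊤ : Submodule A M) := fun n z => by simp [S]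
    have hmono : ∀ {a b : ℕ}, a ≤ b → S a ⊆ S b := by
      intro a b hab z hz
      rw [hS] at hz ⊢
      intro h; apply hz
      exact Submodule.smul_mono_left (Ideal.pow_le_pow_right hab) h
    let s : ℕ → M := fun n => ∑ z ∈ S n, f z
    have hcauchy : ∀ {a b : ℕ}, a ≤ b → s a ≡ s b [SMOD (I ^ a • ⊤ : Submodule A M)] := by
      intro a b hab
      rw [SModEq.sub_mem]
      have h1 : s b - s a = ∑ z ∈ S b \ S a, f z := by
        simp only [s]; rw [← Finset.sum_sdiff (hmono hab)]; abel
      rw [← neg_sub, h1]
      refine Submodule.neg_mem _ (Submodule.sum_mem _ fun z hz => ?_)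
      have h2 := (Finset.mem_sdiff.mp hz).2
      rw [hS] at h2
      push Not at h2
      exact h2
    obtain ⟨L, hL⟩ := IsPrecomplete.prec (inferInstance : IsPrecomplete I M) hcauchy
    refine ⟨L, fun n => ⟨S n, fun z hz => ?_, ?_⟩⟩
    · rw [hS] at hz; push Not at hz; exact hz
    · have h3 := hL n
      rw [SModEq.sub_mem] at h3
      rw [← neg_sub]; exact Submodule.neg_mem _ h3
  · rintro ⟨m, hm⟩
    rw [mem_decaying_iff]
    intro n
    obtain ⟨S, hS, -⟩ := hm n
    refine (S.finite_toSet).subset fun z hz => ?_
    by_contra h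
    exact hz (hS z h)

end Groth.Agent.S19708
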