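import Groth.Statements.S19799
-- import your own Groth.Agent.* helpers here
import Mathlib

set_option autoImplicit false
universe u v w
open scoped TensorProduct
open CAlg

namespace Groth.Agent.S19799

/-- Let k be an algebraically closed field and A, B commutative k-algebras, each finite-dimensional as a
k-vector space. Then reduction commutes with tensor products: the kernel of the canonical surjection
A ⊗_k B ⟶ (A/nilradical A) ⊗_k (B/nilradical B) equals the nilradical of A ⊗_k B, so that this
surjection induces an isomorphism (A ⊗_k B)_red ≅ A_red ⊗_k B_red and in particular A_red ⊗_k B_red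
is reduced. -/
theorem result (k : Type u) [Field k]
    [IsAlgClosed k] (A : Type v) [CommRing A] [Algebra k A] [Module.Finite k A]
    (B : Type w) [CommRing B] [Algebra k B] [Module.Finite k B] :
    RingHom.ker (Algebra.TensorProduct.map (Ideal.Quotient.mkₐ k (nilradical A))
      (Ideal.Quotient.mkₐ k (nilradical B))).toRingHom = nilradical (A ⊗[k] B) := by
  classical
  apply le_antisymm
  · have hker := Algebra.TensorProduct.map_ker (Ideal.Quotient.mkₐ k (nilradical A))
      (Ideal.Quotient.mkₐ k (nilradical B)) (Ideal.Quotient.mkₐ_surjective k _)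
      (Ideal.Quotient.mkₐ_surjective k _)
    change RingHom.ker (Algebra.TensorProduct.map (Ideal.Quotient.mkₐ k (nilradical A))
      (Ideal.Quotient.mkₐ k (nilradical B))) ≤ _
    rw [hker]
    apply sup_le
    · rw [Ideal.map_le_iff_le_comap]
      intro a ha
      rw [RingHom.mem_ker, Ideal.Quotient.mkₐ_eq_mk, Ideal.Quotient.eq_zero_iff_mem] at ha
      exact (mem_nilradical.mp ha).map _
    · rw [Ideal.map_le_iff_le_comap]
      intro a ha
      rw [RingHom.mem_ker, Ideal.Quotient.mkₐ_eq_mk, Ideal.Quotient.eq_zero_iff_mem] at ha
      exact (mem_nilradical.mp ha).map _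
  · have hred : IsReduced ((A ⧸ nilradical A) ⊗[k] (B ⧸ nilradical B)) := by
      have : IsArtinianRing A := isArtinian_of_tower k inferInstance
      have : IsReduced (B ⧸ nilradical B) :=
        (Ideal.isRadical_iff_quotient_reduced _).mp (Ideal.radical_isRadical ⊥)
      let e := (IsArtinianRing.quotNilradicalEquivPi A).restrictScalars k
      have hbij : ∀ I : MaximalSpectrum A, Function.Bijective (algebraMap k (A ⧸ I.asIdeal)) := by
        intro I
        have := I.isMaximal
        letI := Ideal.Quotient.field I.asIdeal
        exact IsAlgClosed.algebraMap_bijective_of_isIntegral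
      let φ : (∀ I : MaximalSpectrum A, A ⧸ I.asIdeal) →ₐ[k] (MaximalSpectrum A → k) :=
        AlgHom.pi (fun I => ((AlgEquiv.ofBijective (Algebra.ofId k (A ⧸ I.asIdeal)) (hbij I)).symm :
          A ⧸ I.asIdeal →ₐ[k] k).comp (Pi.evalAlgHom k _ I))
      have hφ : Function.Injective φ := by
        intro x y hxy
        funext I
        have := congrFun hxy I
        simpa [φ] using this
      let Φ : (A ⧸ nilradical A) →ₐ[k] (MaximalSpectrum A → k) := φ.comp e.toAlgHom
      have hΦ : Function.Injective Φ := hφ.comp e.injective
      haveI : Fintype (MaximalSpectrum A) := Fintype.ofFinite _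
      have hmap : Function.Injective (Algebra.TensorProduct.map Φ (AlgHom.id k (B ⧸ nilradical B))) :=
        Module.Flat.rTensor_preserves_injective_linearMap (M := B ⧸ nilradical B) Φ.toLinearMap hΦ
      let T := ((Algebra.TensorProduct.piScalarRight k k (B ⧸ nilradical B) (MaximalSpectrum A)).toAlgHom.comp
        (Algebra.TensorProduct.comm k _ _).toAlgHom).comp
          (Algebra.TensorProduct.map Φ (AlgHom.id k (B ⧸ nilradical B)))
      have hT : Function.Injective T :=
        ((Algebra.TensorProduct.piScalarRight k k (B ⧸ nilradical B) (MaximalSpectrum A)).injective.comp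
          (Algebra.TensorProduct.comm k _ _).injective).comp hmap
      exact isReduced_of_injective T hT
    intro x hx
    rw [RingHom.mem_ker]
    exact IsReduced.eq_zero _ ((mem_nilradical.mp hx).map _)

end Groth.Agent.S19799
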