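import Groth.Statements.S19804
-- import your own Groth.Agent.* helpers here
import Mathlib

set_option autoImplicit false
open scoped TensorProduct
universe u v w
open Brauer

namespace Groth.Agent.S19804

/-- Let R be a commutative ring with Spec R connected, A an Azumaya R-algebra and e an idempotent
element of A. If for some nonzero commutative R-algebra R' the element 1 ⊗ e of R' ⊗_R A is 0, then
e = 0; and if 1 ⊗ e = 1 in R' ⊗_R A, then e = 1. (The published statement is for an Azumaya algebra
over a connected scheme S and base change to an arbitrary nonempty S-scheme T; this row takes S and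
T affine.) -/
theorem result {R : Type u} [CommRing R]
    [ConnectedSpace (PrimeSpectrum R)] {A : Type v} [Ring A] [Algebra R A] [IsAzumaya R A]
    (e : A) (he : IsIdempotentElem e) (R' : Type w) [CommRing R'] [Nontrivial R'] [Algebra R R'] :
    ((1 : R') ⊗ₜ[R] e = (0 : R' ⊗[R] A) → e = 0) ∧ ((1 : R') ⊗ₜ[R] e = (1 : R' ⊗[R] A) → e = 1) := by
  have key : ∀ e : A, IsIdempotentElem e → (1 : R') ⊗ₜ[R] e = (0 : R' ⊗[R] A) → e = 0 := by
    intro e he h0
    let Le : A →ₗ[R] A := LinearMap.mulLeft R e
    let P : Submodule R A := LinearMap.range Le
    let r : A →ₗ[R] P := Le.rangeRestrict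
    have hr : r ∘ₗ P.subtype = LinearMap.id := by
      ext ⟨x, a, rfl⟩
      simp only [LinearMap.coe_comp, Function.comp_apply, Submodule.subtype_apply,
        LinearMap.id_coe, id_eq, r]
      show Le (Le a) = Le a
      simp only [Le, LinearMap.mulLeft_apply]
      rw [← mul_assoc, he.eq]
    have : Module.Projective R P := Module.Projective.of_split P.subtype r hr
    have : Module.Finite R P := Module.Finite.of_surjective r Le.surjective_rangeRestrict
    have : Module.FinitePresentation R P := Module.finitePresentation_of_projective R P
    have hsub : Subsingleton (R' ⊗[R] P) := by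
      have hinj : Function.Injective (P.subtype.lTensor R') := by
        have hc : (r.lTensor R') ∘ₗ (P.subtype.lTensor R') = LinearMap.id := by
          rw [← LinearMap.lTensor_comp, hr, LinearMap.lTensor_id]
        exact Function.LeftInverse.injective (g := r.lTensor R') (fun x => by
          rw [← LinearMap.comp_apply, hc, LinearMap.id_apply])
      have hz : ∀ z : R' ⊗[R] P, P.subtype.lTensor R' z = 0 := by
        intro z
        induction z using TensorProduct.induction_on with
        | zero => simp
        | tmul c p =>
          obtain ⟨p, a, rfl⟩ := p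
          simp only [LinearMap.lTensor_tmul, Submodule.subtype_apply]
          have h3 : c ⊗ₜ[R] (Le a) = ((1 : R') ⊗ₜ[R] e) * (c ⊗ₜ[R] a) := by
            simp [Le, Algebra.TensorProduct.tmul_mul_tmul]
          rw [h3, h0, zero_mul]
        | add x y hx hy => rw [map_add, hx, hy, add_zero]
      constructor
      intro x y
      apply hinj
      rw [hz, hz]
    obtain ⟨q⟩ : Nonempty (PrimeSpectrum R') := inferInstance
    have h1 : Module.rankAtStalk (R' ⊗[R] P) q = 0 := by
      rw [Module.rankAtStalk_eq_zero_of_subsingleton]; rfl
    rw [Module.rankAtStalk_baseChange] at h1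
    have hconst : Module.rankAtStalk (R := R) P = 0 := by
      funext p
      rw [(Module.isLocallyConstant_rankAtStalk (R := R) (M := P)).apply_eq_of_preconnectedSpace p
        (q.comap (algebraMap R R')), h1]
      rfl
    have hP : Subsingleton P := Module.rankAtStalk_eq_zero_iff_subsingleton.mp hconst
    have h4 : (⟨e, ⟨1, by simp [Le]⟩⟩ : P) = 0 := Subsingleton.elim _ _
    exact congrArg Subtype.val h4
  refine ⟨key e he, fun h1 => ?_⟩
  have h2 : (1 : R') ⊗ₜ[R] (1 - e) = (0 : R' ⊗[R] A) := by
    rw [TensorProduct.tmul_sub, h1, Algebra.TensorProduct.one_def, sub_self]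
  have := key (1 - e) he.one_sub h2
  exact (sub_eq_zero.mp this).symm

end Groth.Agent.S19804
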