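import Groth.Statements.S2340
import Groth.Agent.Lib.Helper4.QAff
-- import your own Groth.Agent.* helpers here

set_option autoImplicit false
universe u
open CategoryTheory CategoryTheory.Limits AlgebraicGeometry
open EGA2

namespace Groth.Agent.S2340

/-- Let f : X → Y and g : Y → Z be morphisms of schemes with g ∘ f quasi-affine and g quasi-separated.
Then f is quasi-affine. -/
theorem result {X Y Z : Scheme.{u}} (f : X ⟶ Y) (g : Y ⟶ Z) [QuasiSeparated g]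
    (h : Mor2.IsQuasiAffine (f ≫ g)) : Mor2.IsQuasiAffine f := by
  obtain ⟨hqc, hqa⟩ := h
  have : QuasiCompact f := QuasiCompact.of_comp f g
  refine ⟨this, fun V hV => ?_⟩
  have : IsAffine V.toScheme := hV
  have : CompactSpace (f ⁻¹ᵁ V).toScheme :=
    isCompact_iff_compactSpace.mp (QuasiCompact.isCompact_preimage (f := f) _ V.isOpen hV.isCompact)
  refine Groth.Agent.Lib.Helper4.QAffAux.isQuasiAffine_of_cover fun x' => ?_
  obtain ⟨W, hW, hgW, -⟩ := exists_isAffineOpen_mem_and_subset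
    (x := g (f ((f ⁻¹ᵁ V).ι x'))) (U := ⊤) trivial
  have hfx : f ((f ⁻¹ᵁ V).ι x') ∈ V := x'.2
  obtain ⟨a, haW, hfa⟩ := hV.exists_basicOpen_le (V := g ⁻¹ᵁ W) ⟨f ((f ⁻¹ᵁ V).ι x'), hgW⟩ hfx
  set a' := V.topIso.inv a
  have hmem : ∀ z : (f ⁻¹ᵁ V).toScheme,
      z ∈ (f ⁻¹ᵁ V).toScheme.basicOpen ((f ∣_ V).appTop a') ↔ f ((f ⁻¹ᵁ V).ι z) ∈ Y.basicOpen a := by
    intro z
    rw [← Scheme.preimage_basicOpen_top]
    change (f ∣_ V) z ∈ V.toScheme.basicOpen a' ↔ _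
    rw [Groth.Agent.Lib.Helper4.QAffAux.mem_basicOpen_topIso_inv, ← Scheme.Hom.comp_apply,
      morphismRestrict_ι, Scheme.Hom.comp_apply]
  refine ⟨(f ∣_ V).appTop a', (hmem x').mpr hfa, ?_⟩
  have : CompactSpace ((f ⁻¹ᵁ V).toScheme.basicOpen ((f ∣_ V).appTop a')).toScheme := by
    rw [← Scheme.preimage_basicOpen_top]
    exact isCompact_iff_compactSpace.mp (QuasiCompact.isCompact_preimage (f := f ∣_ V) _
      (V.toScheme.basicOpen a').isOpen ((isAffineOpen_top V.toScheme).basicOpen a').isCompact)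
  have : ((f ≫ g) ⁻¹ᵁ W).toScheme.IsQuasiAffine := hqa W hW
  refine Groth.Agent.Lib.Helper4.QAffAux.isQuasiAffine_of_range_subset
    (((f ⁻¹ᵁ V).toScheme.basicOpen ((f ∣_ V).appTop a')).ι ≫ (f ⁻¹ᵁ V).ι) ((f ≫ g) ⁻¹ᵁ W) ?_
  rintro _ ⟨s, rfl⟩
  have hs := (hmem _).mp s.2
  have : f ((f ⁻¹ᵁ V).ι (((f ⁻¹ᵁ V).toScheme.basicOpen ((f ∣_ V).appTop a')).ι s)) ∈ g ⁻¹ᵁ W :=
    haW hs
  exact this

end Groth.Agent.S2340
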