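import Groth.Statements.S2952
-- import your own Groth.Agent.* helpers here

set_option autoImplicit false
open RootPairing
open scoped Pointwise
universe u
open RootD

namespace Groth.Agent.S2952

/-- For a finite crystallographic reduced root pairing over a characteristic-zero domain with a base b:
(1) the Weyl group is generated by the reflections in the simple roots; (2) every root is the image
of a simple root under an element of the Weyl group (acting on the indexing type). (The published
statement also covers the non-reduced case.) -/
theorem result {ι R M N : Type*} [CommRing R] [CharZero R] [IsDomain R] [AddCommGroup M] [Module R M]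
    [AddCommGroup N] [Module R N] (P : RootPairing ι R M N) [Finite ι] [P.IsCrystallographic] [P.IsReduced]
    (b : P.Base) :
    Subgroup.closure ((fun i : ι => Equiv.reflection P i) '' (b.support : Set ι)) = P.weylGroup ∧
    ∀ i : ι, ∃ g : P.Aut, g ∈ P.weylGroup ∧ ∃ j ∈ b.support, g • j = i := by
  classical
  have hconj : ∀ i j : ι, RootPairing.Equiv.reflection P (P.reflectionPerm j i) =
      RootPairing.Equiv.reflection P j * RootPairing.Equiv.reflection P i *
        RootPairing.Equiv.reflection P j := by
    intro i j
    apply RootPairing.Equiv.weightHom_injective P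
    rw [map_mul, map_mul]
    simp only [RootPairing.Equiv.weightHom_apply, RootPairing.Equiv.reflection_weightEquiv]
    exact P.reflection_reflectionPerm
  have hsmul : ∀ (i j : ι), RootPairing.Equiv.reflection P i • j = P.reflectionPerm i j :=
    fun _ _ => rfl
  refine ⟨?_, ?_⟩
  · apply le_antisymm
    · rw [Subgroup.closure_le]
      rintro _ ⟨i, _, rfl⟩
      exact P.reflection_mem_weylGroup i
    · rw [RootPairing.weylGroup, Subgroup.closure_le]
      rintro _ ⟨i, rfl⟩
      refine b.induction_reflect (p := fun k => RootPairing.Equiv.reflection P k ∈
        Subgroup.closure ((fun i : ι => RootPairing.Equiv.reflection P i) '' (b.support : Set ι)))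
        i ?_ ?_ ?_
      · intro k hk
        rw [hconj k k]
        exact Subgroup.mul_mem _ (Subgroup.mul_mem _ hk hk) hk
      · intro k hk
        exact Subgroup.subset_closure ⟨k, hk, rfl⟩
      · intro k j hk hj
        rw [hconj k j]
        have hj' : RootPairing.Equiv.reflection P j ∈
            Subgroup.closure ((fun i : ι => RootPairing.Equiv.reflection P i) '' (b.support : Set ι)) :=
          Subgroup.subset_closure ⟨j, hj, rfl⟩
        exact Subgroup.mul_mem _ (Subgroup.mul_mem _ hj' hk) hj'
  · intro i
    refine b.induction_reflect (p := fun k => ∃ g : P.Aut, g ∈ P.weylGroup ∧ ∃ j ∈ b.support,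
      g • j = k) i ?_ ?_ ?_
    · rintro k ⟨g, hg, j, hj, rfl⟩
      refine ⟨RootPairing.Equiv.reflection P (g • j) * g,
        Subgroup.mul_mem _ (P.reflection_mem_weylGroup _) hg, j, hj, ?_⟩
      rw [mul_smul, hsmul]
    · intro k hk
      exact ⟨1, Subgroup.one_mem _, k, hk, one_smul _ _⟩
    · rintro k j' ⟨g, hg, j, hj, rfl⟩ _
      refine ⟨RootPairing.Equiv.reflection P j' * g,
        Subgroup.mul_mem _ (P.reflection_mem_weylGroup _) hg, j, hj, ?_⟩
      rw [mul_smul, hsmul]

end Groth.Agent.S2952
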