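import Groth.Statements.S2955
-- import your own Groth.Agent.* helpers here

set_option autoImplicit false
open RootPairing
open scoped Pointwise Classical
universe u
open RootD

namespace Groth.Agent.S2955

/-- Let P be a finite crystallographic reduced root pairing over a domain of characteristic zero, with a
base b, and write 2ρ for the sum of the positive roots with respect to b. Then for every simple root
β (an index in the support of b) the reflection in β sends 2ρ to 2ρ − 2β (equivalently, the coroot
of β pairs to 1 with ρ; only the reflection identity is asserted). -/
theorem result {ι R M N : Type*} [CommRing R] [CharZero R] [IsDomain R] [AddCommGroup M] [Module R M]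
    [AddCommGroup N] [Module R N] (P : RootPairing ι R M N) [Finite ι] [P.IsCrystallographic] [P.IsReduced]
    [Fintype ι] (b : P.Base) (j : ι) (hj : j ∈ b.support) :
    P.reflection j (∑ i, if b.IsPos i then P.root i else 0) =
      (∑ i, if b.IsPos i then P.root i else 0) - (2 : R) • P.root j := by
  classical
  letI := P.indexNeg
  have hjpos : b.IsPos j := RootPairing.Base.isPos_of_mem_support hj
  have hj'neg : ¬ b.IsPos (-j) := fun h => ((RootPairing.Base.IsPos.neg_iff_not b j).mp h) hjpos
  have hej : P.reflectionPerm j j = -j := rfl
  have hej' : P.reflectionPerm j (-j) = j := P.reflectionPerm_self j j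
  have hne : j ≠ -j := P.ne_neg j
  have hroot : P.root (-j) = -P.root j := by
    rw [← hej, P.root_reflectionPerm, P.reflection_apply_self]
  have hkey : ∀ k, (if b.IsPos (P.reflectionPerm j k) then P.root k else 0) =
      (if b.IsPos k then P.root k else 0) - (if k = j then P.root j else 0) +
        (if k = -j then P.root k else 0) := by
    intro k
    by_cases hk1 : k = j
    · subst hk1
      have h1 : ¬ b.IsPos (P.reflectionPerm k k) := hj'neg
      rw [if_neg h1, if_pos hjpos, if_pos rfl, if_neg hne, sub_self, add_zero]
    by_cases hk2 : k = -j
    · subst hk2
      rw [hej', if_pos hjpos, if_neg hj'neg, if_neg hk1, if_pos rfl, sub_zero, zero_add]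
    · have hiff : b.IsPos (P.reflectionPerm j k) ↔ b.IsPos k := by
        constructor
        · intro h
          have hne' : P.reflectionPerm j k ≠ j := by
            intro h'
            apply hk2
            have h3 := congrArg (P.reflectionPerm j) h'
            rw [P.reflectionPerm_self] at h3
            exact h3
          have := RootPairing.Base.IsPos.reflectionPerm h hj hne'
          rwa [P.reflectionPerm_self] at this
        · intro h
          exact RootPairing.Base.IsPos.reflectionPerm h hj hk1
      rw [if_neg hk1, if_neg hk2, sub_zero, add_zero]
      by_cases h : b.IsPos k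
      · rw [if_pos h, if_pos (hiff.mpr h)]
      · rw [if_neg h, if_neg (fun h' => h (hiff.mp h'))]
  calc P.reflection j (∑ i, if b.IsPos i then P.root i else 0)
      = ∑ i, if b.IsPos i then P.root (P.reflectionPerm j i) else 0 := by
        rw [map_sum]
        apply Finset.sum_congr rfl
        intro i _
        split_ifs <;> simp [P.root_reflectionPerm]
    _ = ∑ k, if b.IsPos (P.reflectionPerm j k) then P.root k else 0 := by
        rw [← Equiv.sum_comp (P.reflectionPerm j)
          (fun k => if b.IsPos (P.reflectionPerm j k) then P.root k else 0)]
        simp [P.reflectionPerm_self]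
    _ = (∑ i, if b.IsPos i then P.root i else 0) - (2 : R) • P.root j := by
        simp_rw [hkey]
        rw [Finset.sum_add_distrib, Finset.sum_sub_distrib, Finset.sum_ite_eq', Finset.sum_ite_eq']
        simp only [Finset.mem_univ, if_true, hroot, two_smul]
        abel

end Groth.Agent.S2955
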