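import Groth.Statements.S2978
import Mathlib.RingTheory.Noetherian.Basic
import Mathlib.RingTheory.Finiteness.Defs
-- import your own Groth.Agent.* helpers here

set_option autoImplicit false
universe u
open SGA3b

namespace Groth.Agent.S2978

/-- Let A be a Noetherian ring, M a set and a : M × M → A a family vanishing off the diagonal which is a
finite sum of decomposable families: a(m, m') = Σ_i b_i(m) c_i(m') for finitely many b_i, c_i : M →
A. Then a has finite support. -/
theorem result (A : Type u) [CommRing A] [IsNoetherianRing A] (M : Type u)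
    (a : M × M → A) (hdiag : ∀ m m', m ≠ m' → a (m, m') = 0)
    (ι : Type u) [Fintype ι] (b c : ι → M → A) (hdec : ∀ m m', a (m, m') = ∑ i, b i m * c i m') :
    Set.Finite {p : M × M | a p ≠ 0} := by
  classical
  let S : Set M := {m | a (m, m) ≠ 0}
  let v : M → (ι → A) := fun m i => b i m
  let φ : M → ((ι → A) →ₗ[A] A) := fun m' =>
    { toFun := fun x => ∑ i, x i * c i m'
      map_add' := fun x y => by simp [add_mul, Finset.sum_add_distrib]
      map_smul' := fun r x => by simp [Finset.mul_sum, mul_assoc] }
  have hφ : ∀ m m', φ m' (v m) = a (m, m') := fun m m' => by simp [φ, v, hdec]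
  have hS : S.Finite := by
    by_contra hinf
    have hfg : (Submodule.span A (v '' S)).FG := IsNoetherian.noetherian _
    obtain ⟨s', hs'S, hspan⟩ := (Submodule.fg_span_iff_fg_span_finset_subset _).mp hfg
    obtain ⟨T, hTS, hTfin, hT⟩ := Set.exists_subset_image_finite_and.mp
      ⟨(s' : Set (ι → A)), hs'S, s'.finite_toSet, rfl⟩
    obtain ⟨m, hmS, hmT⟩ : (S \ T).Nonempty :=
      ((Set.Infinite.sdiff hinf hTfin)).nonempty
    have hvm : v m ∈ Submodule.span A (v '' T) := by
      rw [← hT, ← hspan]
      exact Submodule.subset_span ⟨m, hmS, rfl⟩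
    have hker : Submodule.span A (v '' T) ≤ LinearMap.ker (φ m) := by
      rw [Submodule.span_le]
      rintro _ ⟨t, ht, rfl⟩
      rw [SetLike.mem_coe, LinearMap.mem_ker, hφ]
      exact hdiag t m (fun h => hmT (h ▸ ht))
    have := hker hvm
    rw [LinearMap.mem_ker, hφ] at this
    exact hmS this
  apply (hS.image (fun m => (m, m))).subset
  rintro ⟨m, m'⟩ hp
  by_cases h : m = m'
  · subst h
    exact ⟨m, hp, rfl⟩
  · exact absurd (hdiag m m' h) hp

end Groth.Agent.S2978
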