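import Groth.Statements.S3214
import Mathlib.Algebra.Polynomial.RingDivision
import Mathlib.RingTheory.Polynomial.Vieta
-- import your own Groth.Agent.* helpers here

set_option autoImplicit false
open Polynomial
universe u
open SGA7II

namespace Groth.Agent.S3214

/-- In the recursive form established in its proof: let A = Z[X_1, ..., X_a] (a >= 1), P = prod_i (T -
X_i) in A[T] and S_i the i-th elementary symmetric function. Writing a_j for the coefficient of
T^{a-1} in the remainder of T^{a-1+j} modulo P, one has a_0 = 1 and sum_{i=0}^{a} (-1)^i S_i a_{j-i}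
= 0 for every j > 0 (with a_m = 0 for m < 0); equivalently sum_j (-1)^j a_j is the inverse of sum_i
S_i. (The source works in formal power series; the identity involves only polynomials.) -/
theorem result (a : ℕ) (ha : 0 < a) :
    let P : (MvPolynomial (Fin a) ℤ)[X] := ∏ i : Fin a, (X - C (MvPolynomial.X i))
    let coef : ℤ → MvPolynomial (Fin a) ℤ := fun j =>
      if j < 0 then 0 else ((X : (MvPolynomial (Fin a) ℤ)[X]) ^ (a - 1 + j.toNat) %ₘ P).coeff (a - 1)
    coef 0 = 1 ∧ ∀ j : ℕ, 0 < j →
      (∑ i ∈ Finset.range (a + 1), (-1 : MvPolynomial (Fin a) ℤ) ^ i * MvPolynomial.esymm (Fin a) ℤ i *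
        coef ((j : ℤ) - i)) = 0 := by
  intro P coef
  classical
  have hmon : ∀ i ∈ (Finset.univ : Finset (Fin a)),
      ((X : (MvPolynomial (Fin a) ℤ)[X]) - C (MvPolynomial.X i)).Monic :=
    fun i _ => Polynomial.monic_X_sub_C _
  have hPmonic : P.Monic := Polynomial.monic_prod_of_monic _ _ hmon
  have hPdeg : P.natDegree = a := by
    rw [Polynomial.natDegree_prod_of_monic _ _ hmon]
    simp [Polynomial.natDegree_X_sub_C]
  have hsmall : ∀ k < a, (X : (MvPolynomial (Fin a) ℤ)[X]) ^ k %ₘ P = X ^ k := by
    intro k hk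
    rw [Polynomial.modByMonic_eq_self_iff hPmonic, Polynomial.degree_X_pow,
      Polynomial.degree_eq_natDegree hPmonic.ne_zero, hPdeg]
    exact_mod_cast hk
  have hvieta : P = ∑ i ∈ Finset.range (a + 1),
      (-1 : (MvPolynomial (Fin a) ℤ)[X]) ^ i * (C (MvPolynomial.esymm (Fin a) ℤ i) * X ^ (a - i)) := by
    have h := Multiset.prod_X_sub_X_eq_sum_esymm
      (Finset.univ.val.map (fun i : Fin a => (MvPolynomial.X i : MvPolynomial (Fin a) ℤ)))
    rw [Multiset.card_map, Finset.card_val, Finset.card_univ, Fintype.card_fin,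
      ← MvPolynomial.esymm_eq_multiset_esymm, Multiset.map_map] at h
    rw [← h]
    simp only [P, Finset.prod_eq_multiset_prod]
    rfl
  refine ⟨?_, ?_⟩
  · simp only [coef, lt_irrefl, if_false, Int.toNat_zero, add_zero]
    rw [hsmall (a - 1) (by omega), Polynomial.coeff_X_pow_self]
  · intro j hj
    have h1 : ∑ i ∈ Finset.range (a + 1), (((-1 : MvPolynomial (Fin a) ℤ) ^ i *
        MvPolynomial.esymm (Fin a) ℤ i) • (X : (MvPolynomial (Fin a) ℤ)[X]) ^ (a - 1 + j - i)) =
        X ^ (j - 1) * P := by
      conv_rhs => rw [hvieta]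
      rw [Finset.mul_sum]
      apply Finset.sum_congr rfl
      intro i hi
      rw [Finset.mem_range] at hi
      have : a - 1 + j - i = (j - 1) + (a - i) := by omega
      rw [this, pow_add, Polynomial.smul_eq_C_mul, map_mul, map_pow, map_neg, map_one]
      ring
    have h2 := congrArg (fun f => (f %ₘ P).coeff (a - 1)) h1
    simp only [Polynomial.mul_self_modByMonic hPmonic, Polynomial.coeff_zero] at h2
    rw [← Polynomial.modByMonicHom_apply, map_sum, Polynomial.finsetSum_coeff] at h2
    rw [← h2]
    apply Finset.sum_congr rfl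
    intro i hi
    rw [Finset.mem_range] at hi
    rw [map_smul, Polynomial.coeff_smul, smul_eq_mul, Polynomial.modByMonicHom_apply]
    congr 1
    simp only [coef]
    by_cases hij : i ≤ j
    · have h3 : ¬ ((j : ℤ) - i < 0) := by omega
      rw [if_neg h3]
      have h4 : a - 1 + ((j : ℤ) - i).toNat = a - 1 + j - i := by omega
      rw [h4]
    · have h3 : ((j : ℤ) - i < 0) := by omega
      rw [if_pos h3, hsmall _ (by omega), Polynomial.coeff_X_pow]
      rw [if_neg (by omega)]

end Groth.Agent.S3214
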