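import Groth.Statements.S3287
-- import your own Groth.Agent.* helpers here

set_option autoImplicit false
universe u
open Finset
open LambdaRing

namespace Groth.Agent.S3287

/-- For a line element u (positive of augmentation one) of a λ-ring with positive structure, ψ^j(u) =
u^j for every j. -/
theorem result (K : Type u) [CommRing K] [LambdaRing.LambdaOps K] (P : LambdaRing.PosStructure K) (u : K) (hu : P.IsLine u) (j : ℕ) :
    LambdaRing.adams P j u = u ^ j := by
  obtain ⟨hpos, haug⟩ := hu
  have hlam : lamSeries u = 1 + PowerSeries.C u * PowerSeries.X := by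
    ext n
    rcases n with _ | _ | n
    · simp [lamSeries, LambdaOps.lam_zero]
    · simp [lamSeries, LambdaOps.lam_one, PowerSeries.coeff_one]
    · rw [lamSeries, PowerSeries.coeff_mk, P.lam_eq_zero u hpos (n + 2) (by rw [haug]; omega)]
      simp [PowerSeries.coeff_one, PowerSeries.coeff_C_mul_X_pow, PowerSeries.coeff_C_mul,
        PowerSeries.coeff_X]
  have hres : PowerSeries.rescale (-1 : K) (lamSeries u) = 1 - PowerSeries.C u * PowerSeries.X := by
    rw [hlam]
    ext n
    rw [PowerSeries.coeff_rescale]
    rcases n with _ | _ | n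
    · simp
    · simp [PowerSeries.coeff_one]
    · simp [PowerSeries.coeff_one, PowerSeries.coeff_X]
  set g : PowerSeries K := PowerSeries.mk (fun k => u ^ k) with hgdef
  have hg : (1 - PowerSeries.C u * PowerSeries.X) * g = 1 := by
    ext n
    rcases n with _ | n
    · simp [hgdef]
    · rw [sub_mul, one_mul, map_sub, mul_assoc, PowerSeries.coeff_C_mul,
        PowerSeries.coeff_succ_X_mul]
      simp [hgdef, PowerSeries.coeff_one, pow_succ, mul_comm]
  have hinv : (1 - PowerSeries.C u * PowerSeries.X).invOfUnit 1 = g := by
    have h1 := PowerSeries.mul_invOfUnit (1 - PowerSeries.C u * PowerSeries.X) 1 (by simp)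
    calc _ = ((1 - PowerSeries.C u * PowerSeries.X) * g) *
            (1 - PowerSeries.C u * PowerSeries.X).invOfUnit 1 := by rw [hg, one_mul]
      _ = g * ((1 - PowerSeries.C u * PowerSeries.X) *
            (1 - PowerSeries.C u * PowerSeries.X).invOfUnit 1) := by ring
      _ = g := by rw [h1, mul_one]
  have hder : PowerSeries.derivative K (1 - PowerSeries.C u * PowerSeries.X) = - PowerSeries.C u := by
    simp
  unfold adams adamsSeries
  rw [hres, hinv, haug, hder]
  rcases j with _ | j
  · simp [hgdef]
  · rw [map_sub, mul_assoc, PowerSeries.coeff_succ_X_mul]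
    simp [hgdef, PowerSeries.coeff_C, pow_succ, mul_comm]

end Groth.Agent.S3287
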