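import Groth.Statements.S3288
import Groth.Agent.Lib.Helper5.Lambda
-- import your own Groth.Agent.* helpers here

set_option autoImplicit false
universe u
open Finset
open LambdaRing

namespace Groth.Agent.S3288

/-- In a λ-ring with positive structure having the splitting property, for a positive element e the
augmentation of λ^i(e) is the binomial coefficient C(ε(e), i). -/
theorem result (K : Type u) [CommRing K] [LambdaRing.LambdaOps K] (P : LambdaRing.PosStructure K) (hK : LambdaRing.HasSplitting K P) (e : K) (he : e ∈ P.pos)
    (i : ℕ) : P.aug (LambdaRing.LambdaOps.lam i e) = ((P.aug e).toNat.choose i : ℤ) := by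
  obtain ⟨L, g, hg, s, hs, hsum⟩ := Groth.Agent.Lib.Helper5.split_one P hK he
  have h1 : P.aug (LambdaRing.LambdaOps.lam i e) = L.posStr.aug (LambdaRing.LambdaOps.lam i (g e)) := by
    rw [← hg.isLambdaHom i e, hg.aug_comp]
  have h2 : P.aug e = (Multiset.card s : ℤ) := by
    rw [← hg.aug_comp, ← hsum, Groth.Agent.Lib.Helper5.aug_sum_lines L.posStr s hs]
  rw [h1, ← hsum, Groth.Agent.Lib.Helper5.aug_lam_sum_lines L.posStr s hs, h2, Int.toNat_natCast]

end Groth.Agent.S3288
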