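import Groth.Statements.S3291
-- import your own Groth.Agent.* helpers here

set_option autoImplicit false
universe u
open Finset
open LambdaRing

namespace Groth.Agent.S3291

/-- The γ-filtration F^n K of a λ-ring with positive structure (F^0 = K, F^n for n ≥ 1 generated
additively by products γ^(r₁)(x₁)⋯γ^(r_k)(x_k) with ε(x_i) = 0 and Σ r_i ≥ n) consists of ideals,
and F^m · F^n ⊆ F^(m+n). -/
theorem result (K : Type u) [CommRing K] [LambdaRing.LambdaOps K] (P : LambdaRing.PosStructure K) :
    (∀ (n : ℕ) (a x : K), x ∈ LambdaRing.gammaFiltration P n → a * x ∈ LambdaRing.gammaFiltration P n) ∧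
    ∀ (m n : ℕ) (x y : K), x ∈ LambdaRing.gammaFiltration P m → y ∈ LambdaRing.gammaFiltration P n →
      x * y ∈ LambdaRing.gammaFiltration P (m + n) := by
  classical
  set S : ℕ → Set K := fun n => {y | ∃ (l : List (ℕ × K)), (∀ p ∈ l, P.aug p.2 = 0) ∧
      n ≤ (l.map Prod.fst).sum ∧ y = (l.map fun p => gamma p.1 p.2).prod} with hS
  have hF : ∀ n, n ≠ 0 → gammaFiltration P n = AddSubgroup.closure (S n) := by
    intro n hn
    simp [gammaFiltration, hn, hS]
  have hgamma1 : ∀ z : K, gamma 1 z = z := by
    intro z
    simp [gamma, Finset.sum_range_succ, LambdaOps.lam_one]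
  have hmulS : ∀ n, n ≠ 0 → ∀ (a s : K), s ∈ S n → a * s ∈ gammaFiltration P n := by
    intro n hn a s hs
    obtain ⟨l, hl0, hlsum, rfl⟩ := hs
    rw [hF n hn]
    have ha : a = (P.aug a : K) + (a - (P.aug a : K)) := by ring
    rw [ha, add_mul]
    refine add_mem ?_ ?_
    · have hmem : (l.map fun p => gamma p.1 p.2).prod ∈ S n := ⟨l, hl0, hlsum, rfl⟩
      rw [← zsmul_eq_mul]
      exact zsmul_mem (AddSubgroup.subset_closure hmem) _
    · apply AddSubgroup.subset_closure
      refine ⟨(1, a - (P.aug a : K)) :: l, ?_, ?_, ?_⟩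
      · intro p hp
        rcases List.mem_cons.mp hp with rfl | hp
        · simp
        · exact hl0 p hp
      · simp only [List.map_cons, List.sum_cons]
        omega
      · simp [hgamma1]
  have part1 : ∀ (n : ℕ) (a x : K), x ∈ LambdaRing.gammaFiltration P n →
      a * x ∈ LambdaRing.gammaFiltration P n := by
    intro n a x hx
    by_cases hn : n = 0
    · subst hn
      simp [gammaFiltration]
    · rw [hF n hn] at hx
      induction hx using AddSubgroup.closure_induction with
      | mem s hs => exact hmulS n hn a s hs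
      | zero => simp
      | add x y _ _ hx hy => rw [mul_add]; exact add_mem hx hy
      | neg x _ hx => rw [mul_neg]; exact neg_mem hx
  refine ⟨part1, ?_⟩
  intro m n x y hx hy
  by_cases hm : m = 0
  · subst hm
    rw [zero_add]
    exact part1 n x y hy
  by_cases hn : n = 0
  · subst hn
    rw [add_zero, mul_comm]
    exact part1 m y x hx
  have hmn : m + n ≠ 0 := by omega
  rw [hF m hm] at hx
  rw [hF n hn] at hy
  have hSS : ∀ s ∈ S m, ∀ t ∈ S n, s * t ∈ gammaFiltration P (m + n) := by
    rintro s ⟨l1, h1, hs1, rfl⟩ t ⟨l2, h2, hs2, rfl⟩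
    rw [hF _ hmn]
    apply AddSubgroup.subset_closure
    refine ⟨l1 ++ l2, ?_, ?_, ?_⟩
    · intro p hp
      rcases List.mem_append.mp hp with hp | hp
      · exact h1 p hp
      · exact h2 p hp
    · simp only [List.map_append, List.sum_append]
      omega
    · simp [List.prod_append]
  induction hx using AddSubgroup.closure_induction with
  | mem s hs =>
    induction hy using AddSubgroup.closure_induction with
    | mem t ht => exact hSS s hs t ht
    | zero => simp
    | add y y' _ _ h h' => rw [mul_add]; exact add_mem h h'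
    | neg y _ h => rw [mul_neg]; exact neg_mem h
  | zero => simp
  | add x x' _ _ h h' => rw [add_mul]; exact add_mem h h'
  | neg x _ h => rw [neg_mul]; exact neg_mem h

end Groth.Agent.S3291
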