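import Groth.Statements.S4065
-- import your own Groth.Agent.* helpers here

set_option autoImplicit false
universe w v
open CategoryTheory
open SGA7

namespace Groth.Agent.S4065

/-- Let P -> F -> R and R -> E -> Q be short exact sequences in an abelian category and X a blended
extension of E by F: i : F -> X and p : X -> E with i, p composing to F -> R -> E and with P -> X ->
E and F -> X -> Q short exact. Then u ↦ 1_X + (X -> E -> Q -> P -> F -> X) is a bijection from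
Hom(Q, P) onto the set of endomorphisms φ of X with i φ = i and φ p = p (the automorphisms of the
blended extension; every such φ is invertible), and it turns addition into composition (a group
isomorphism Hom(Q, P) ≅ Aut(X)). -/
theorem result {C : Type w} [Category.{v} C] [Abelian C]
    {P F R E Q X : C} (a : P ⟶ F) (b : F ⟶ R) (wF : a ≫ b = 0)
    (hF : (ShortComplex.mk a b wF).ShortExact) (c : R ⟶ E) (d : E ⟶ Q) (wE : c ≫ d = 0)
    (hE : (ShortComplex.mk c d wE).ShortExact) (i : F ⟶ X) (p : X ⟶ E) (hip : i ≫ p = b ≫ c)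
    (w₁ : (a ≫ i) ≫ p = 0) (h₁ : (ShortComplex.mk (a ≫ i) p w₁).ShortExact)
    (w₂ : i ≫ (p ≫ d) = 0) (h₂ : (ShortComplex.mk i (p ≫ d) w₂).ShortExact) :
    Set.BijOn (fun v : Q ⟶ P => 𝟙 X + p ≫ d ≫ v ≫ a ≫ i) Set.univ
      {φ : X ⟶ X | i ≫ φ = i ∧ φ ≫ p = p} ∧
      ∀ v v' : Q ⟶ P, 𝟙 X + p ≫ d ≫ (v + v') ≫ a ≫ i =
        (𝟙 X + p ≫ d ≫ v ≫ a ≫ i) ≫ (𝟙 X + p ≫ d ≫ v' ≫ a ≫ i) := by
  have hmono : Mono (a ≫ i) := h₁.mono_f
  have hepi : Epi (p ≫ d) := h₂.epi_g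
  have hid : i ≫ p ≫ d = 0 := w₂
  have hip0 : (a ≫ i) ≫ p = 0 := w₁
  refine ⟨⟨fun v _ => ?_, fun v _ v' _ hvv => ?_, fun φ hφ => ?_⟩, fun v v' => ?_⟩
  · refine ⟨?_, ?_⟩
    · rw [Preadditive.comp_add, Category.comp_id]
      have : i ≫ p ≫ d ≫ v ≫ a ≫ i = 0 := by
        rw [← Category.assoc i p, ← Category.assoc (i ≫ p) d, ← Category.assoc i p d] at *
        simp only [Category.assoc] at hid ⊢
        rw [reassoc_of% hid]
        simp
      rw [this, add_zero]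
    · rw [Preadditive.add_comp, Category.id_comp]
      have : (p ≫ d ≫ v ≫ a ≫ i) ≫ p = 0 := by
        simp only [Category.assoc]
        simp only [Category.assoc] at hip0
        rw [hip0]; simp
      rw [this, add_zero]
  · have h : p ≫ d ≫ v ≫ a ≫ i = p ≫ d ≫ v' ≫ a ≫ i := add_left_cancel hvv
    have h' : (p ≫ d) ≫ (v ≫ (a ≫ i)) = (p ≫ d) ≫ (v' ≫ (a ≫ i)) := by
      simpa only [Category.assoc] using h
    have h'' := (cancel_epi (p ≫ d)).mp h'
    exact (cancel_mono (a ≫ i)).mp h''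
  · obtain ⟨hφ1, hφ2⟩ := hφ
    let ψ : X ⟶ X := φ - 𝟙 X
    have hψ1 : i ≫ ψ = 0 := by simp [ψ, Preadditive.comp_sub, hφ1]
    have hψ2 : ψ ≫ p = 0 := by simp [ψ, Preadditive.sub_comp, hφ2]
    let ψ' : Q ⟶ X := h₂.exact.desc ψ hψ1
    have hψ' : (p ≫ d) ≫ ψ' = ψ := h₂.exact.g_desc ψ hψ1
    have hψ'p : ψ' ≫ p = 0 := by
      apply (cancel_epi (p ≫ d)).mp
      rw [← Category.assoc, hψ', hψ2, Limits.comp_zero]
    let v : Q ⟶ P := h₁.exact.lift ψ' hψ'p
    have hv : v ≫ (a ≫ i) = ψ' := h₁.exact.lift_f ψ' hψ'p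
    refine ⟨v, Set.mem_univ _, ?_⟩
    show 𝟙 X + p ≫ d ≫ v ≫ a ≫ i = φ
    have : p ≫ d ≫ v ≫ a ≫ i = ψ := by
      rw [← hψ', ← hv]; simp only [Category.assoc]
    rw [this]
    simp [ψ]
  · have hz : (p ≫ d ≫ v ≫ a ≫ i) ≫ (p ≫ d ≫ v' ≫ a ≫ i) = 0 := by
      simp only [Category.assoc]
      simp only [Category.assoc] at hip0
      rw [reassoc_of% hip0]; simp
    rw [Preadditive.add_comp _ _ _ (𝟙 X) (p ≫ d ≫ v ≫ a ≫ i) (𝟙 X + p ≫ d ≫ v' ≫ a ≫ i),
      Category.id_comp, Preadditive.comp_add _ _ _ (p ≫ d ≫ v ≫ a ≫ i), Category.comp_id, hz,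
      add_zero, Preadditive.add_comp _ _ _ v v', Preadditive.comp_add _ _ _ d,
      Preadditive.comp_add _ _ _ p]
    abel

end Groth.Agent.S4065
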