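import Groth.Statements.S4243
import Mathlib.FieldTheory.Finite.Polynomial

set_option autoImplicit false
open SGA4h

namespace Groth.Agent.S4243

open MvPolynomial in
theorem result (k : Type) [Field k] [Fintype k] (r d : ℕ)
    (P : MvPolynomial (Fin (r + 1)) k) (hP : P.IsHomogeneous d) (hP0 : P ≠ 0)
    (hvan : ∀ x : Fin (r + 1) → k, MvPolynomial.eval x P = 0) :
    Fintype.card k + 1 ≤ d := by
  classical
  set q := Fintype.card k with hq
  have hq2 : 2 ≤ q := by
    have := Fintype.one_lt_card (α := k)
    omega
  have hpow : ∀ a : k, a ^ q = a := FiniteField.pow_card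
  by_contra hlt
  push Not at hlt
  have hdq : d ≤ q := by omega
  -- coefficients of the pure powers
  let c : Fin (r + 1) → k := fun i => coeff (Finsupp.single i q) P
  let T : MvPolynomial (Fin (r + 1)) k := ∑ i, C (c i) * (X i ^ q - X i)
  let P' := P - T
  have hcoeffT : ∀ s, coeff s T = ∑ i, c i * ((if Finsupp.single i q = s then 1 else 0) -
      (if Finsupp.single i 1 = s then 1 else 0)) := by
    intro s
    simp only [T, coeff_sum, coeff_C_mul, coeff_sub, coeff_X_pow, coeff_X]
  have hsingle_ne : ∀ i j : Fin (r + 1), Finsupp.single i q ≠ Finsupp.single j 1 := by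
    intro i j h
    have := congrArg Finsupp.degree h
    simp only [Finsupp.degree_single] at this
    omega
  have hsingle_inj : ∀ i j : Fin (r + 1), Finsupp.single i q = Finsupp.single j q ↔ i = j := by
    intro i j
    constructor
    · intro h
      by_contra hij
      have := congrArg (fun f => f i) h
      simp [Finsupp.single_apply, hij] at this
      omega
    · rintro rfl; rfl
  have hsingle_ne' : ∀ i j : Fin (r + 1), Finsupp.single j 1 ≠ Finsupp.single i q :=
    fun i j h => hsingle_ne i j h.symm
  -- P' vanishes everywhere
  have hvan' : ∀ x, eval x P' = 0 := by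
    intro x
    simp only [P', T, map_sub, map_sum, map_mul, eval_C, map_pow, eval_X, hvan,
      hpow, sub_self, mul_zero, Finset.sum_const_zero]
  -- P' has small degrees
  have hdeg : P' ∈ restrictDegree (Fin (r + 1)) k (q - 1) := by
    rw [mem_restrictDegree]
    intro s hs j
    by_contra hsj
    push Not at hsj
    have hsj' : q ≤ s j := by omega
    have hs' : coeff s P' ≠ 0 := mem_support_iff.mp hs
    apply hs'
    simp only [P', coeff_sub, hcoeffT]
    by_cases hsing : ∃ i, Finsupp.single i q = s
    · obtain ⟨i, rfl⟩ := hsing
      rw [Finset.sum_eq_single i]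
      · simp [hsingle_ne', c]
      · intro b _ hb
        rw [if_neg (fun h => hb ((hsingle_inj b i).mp h)), if_neg (hsingle_ne' i b)]
        simp
      · simp
    · push Not at hsing
      have hs1 : ∀ i, Finsupp.single i 1 ≠ s := by
        intro i h
        have := congrArg (fun f => f j) h
        simp only [Finsupp.single_apply] at this
        split_ifs at this <;> omega
      simp only [hsing, hs1, if_false, sub_self, mul_zero, Finset.sum_const_zero, sub_zero]
      -- `s` is not in the support of `P`
      by_contra hPs
      have hdegs : s.degree = d := by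
        have := hP hPs
        rw [Finsupp.degree_eq_weight_one]
        exact this
      have hle := Finsupp.le_degree j s
      have hsjq : s j = q := by omega
      apply hsing j
      ext i
      by_cases hij : i = j
      · subst hij; simp [hsjq]
      · rw [Finsupp.single_apply, if_neg (Ne.symm hij)]
        have hsum := Finsupp.degree_eq_sum s
        rw [hdegs] at hsum
        have : ∑ l ∈ Finset.univ.erase j, s l = 0 := by
          rw [← Finset.add_sum_erase _ _ (Finset.mem_univ j)] at hsum
          omega
        exact ((Finset.sum_eq_zero_iff.mp this) i (Finset.mem_erase.mpr ⟨hij, Finset.mem_univ _⟩)).symm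
  have hP'0 : P' = 0 := eq_zero_of_eval_eq_zero (Fin (r + 1)) k P' hvan' hdeg
  -- all `c i` vanish
  have hc : ∀ i, c i = 0 := by
    intro i
    by_cases hd : d = q
    · have h1 : coeff (Finsupp.single i 1) P' = 0 := by rw [hP'0]; simp
      simp only [P', coeff_sub, hcoeffT] at h1
      have hP1 : coeff (Finsupp.single i 1) P = 0 :=
        hP.coeff_eq_zero (by simp [Finsupp.degree_single]; omega)
      rw [hP1, Finset.sum_eq_single i] at h1
      · simp [hsingle_ne] at h1
        exact h1
      · intro b _ hb
        rw [if_neg (hsingle_ne b i)]
        rw [if_neg (fun h => hb (Finsupp.single_left_injective one_ne_zero h))]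
        simp
      · simp
    · exact hP.coeff_eq_zero (by simp [Finsupp.degree_single]; omega)
  have hT : T = 0 := by
    simp only [T, hc, map_zero, zero_mul, Finset.sum_const_zero]
  apply hP0
  have : P = P' + T := by simp [P']
  rw [this, hP'0, hT, add_zero]

end Groth.Agent.S4243
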