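import Groth.Statements.S4256

set_option autoImplicit false
open scoped BigOperators
open SGA4h

namespace Groth.Agent.S4256

lemma addChar_sum {k R : Type} [AddCommMonoid k] [CommMonoid R] (ψ : AddChar k R) {ι : Type}
    (s : Finset ι) (x : ι → k) : ψ (∑ i ∈ s, x i) = ∏ i ∈ s, ψ (x i) := by
  classical
  induction s using Finset.induction_on with
  | empty => simp
  | insert a s ha ih => rw [Finset.sum_insert ha, Finset.prod_insert ha, AddChar.map_add_eq_mul, ih]

theorem result (k : Type) [Field k] [Fintype k] [DecidableEq k] (R : Type) [CommRing R] [IsDomain R]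
    (ψ : AddChar k R) (hψ : ψ ≠ 1) (n : ℕ) (hn : 1 ≤ n) :
    ∑ x ∈ (Finset.univ : Finset (Fin n → k)).filter (fun x => ∏ i, x i = 0), ψ (∑ i, x i) = (-1) ^ (n - 1) := by
  have hsum : ∑ t : k, ψ t = 0 := AddChar.sum_eq_zero_of_ne_one hψ
  have hall : ∑ x : Fin n → k, ψ (∑ i, x i) = 0 := by
    simp_rw [addChar_sum]
    rw [← Fintype.prod_sum (fun (_ : Fin n) (t : k) => ψ t)]
    rw [hsum, Finset.prod_const, Finset.card_univ, Fintype.card_fin]
    exact zero_pow (by omega)
  have hnz : (Finset.univ.filter fun x : Fin n → k => ¬ ∏ i, x i = 0) =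
      Fintype.piFinset (fun _ => Finset.univ.erase (0:k)) := by
    ext x; simp [Finset.prod_eq_zero_iff]
  have h1 : ∑ t ∈ Finset.univ.erase (0:k), ψ t = -1 := by
    rw [Finset.sum_erase_eq_sub (Finset.mem_univ _), hsum, AddChar.map_zero_eq_one]; ring
  have hnzsum : ∑ x ∈ (Finset.univ.filter fun x : Fin n → k => ¬ ∏ i, x i = 0), ψ (∑ i, x i)
      = (-1) ^ n := by
    rw [hnz]
    simp_rw [addChar_sum]
    rw [← Finset.prod_univ_sum (fun _ => Finset.univ.erase (0:k)) (fun (_ : Fin n) (t : k) => ψ t)]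
    rw [h1, Finset.prod_const, Finset.card_univ, Fintype.card_fin]
  have := Finset.sum_filter_add_sum_filter_not (Finset.univ : Finset (Fin n → k))
    (fun x => ∏ i, x i = 0) (fun x => ψ (∑ i, x i))
  rw [hall, hnzsum] at this
  obtain ⟨m, rfl⟩ : ∃ m, n = m + 1 := ⟨n - 1, by omega⟩
  simp only [Nat.add_sub_cancel, pow_succ] at this ⊢
  linear_combination this

end Groth.Agent.S4256
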