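import Groth.Statements.S5204
-- import your own Groth.Agent.* helpers here

set_option autoImplicit false
open CategoryTheory CategoryTheory.Limits
universe w v₁ u₁
open DescCat

namespace Groth.Agent.S5204

/-- In a category with pullbacks: if `u` and `v` are effective epimorphisms and `v` is a universal
epimorphism (all its base changes are epimorphisms), then the composite `v ≫ u` is an effective
epimorphism. -/
theorem result {C : Type u₁} [Category.{v₁} C] [HasPullbacks C]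
    {U T S : C} (v : U ⟶ T) (u : T ⟶ S) [EffectiveEpi u] [EffectiveEpi v]
    (hv : MorphismProperty.universally (MorphismProperty.epimorphisms C) v) :
    EffectiveEpi (v ≫ u) := by
  have hbc : ∀ {Z : C} (a : Z ⟶ T), Epi (pullback.fst a v) := by
    intro Z a
    have := hv (pullback.snd a v) a (pullback.fst a v) (IsPullback.of_hasPullback a v)
    exact (MorphismProperty.epimorphisms.iff _).mp this
  have c1 : ∀ {W : C} (φ : U ⟶ W),
      (∀ {Z : C} (g₁ g₂ : Z ⟶ U), g₁ ≫ v ≫ u = g₂ ≫ v ≫ u → g₁ ≫ φ = g₂ ≫ φ) →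
      ∀ {Z : C} (g₁ g₂ : Z ⟶ U), g₁ ≫ v = g₂ ≫ v → g₁ ≫ φ = g₂ ≫ φ := by
    intro W φ hφ Z g₁ g₂ h
    apply hφ
    rw [← Category.assoc, h, Category.assoc]
  have c2 : ∀ {W : C} (φ : U ⟶ W)
      (hφ : ∀ {Z : C} (g₁ g₂ : Z ⟶ U), g₁ ≫ v ≫ u = g₂ ≫ v ≫ u → g₁ ≫ φ = g₂ ≫ φ),
      ∀ {Z : C} (a b : Z ⟶ T), a ≫ u = b ≫ u →
        a ≫ EffectiveEpi.desc v φ (c1 φ hφ) = b ≫ EffectiveEpi.desc v φ (c1 φ hφ) := by
    intro W φ hφ Z a b hab
    set ψ := EffectiveEpi.desc v φ (c1 φ hφ) with hψdef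
    have hψ : v ≫ ψ = φ := EffectiveEpi.fac v φ (c1 φ hφ)
    obtain ⟨E1, e1, q1, hsq1, he1⟩ : ∃ (E1 : C) (e1 : E1 ⟶ Z) (q1 : E1 ⟶ U),
        e1 ≫ a = q1 ≫ v ∧ Epi e1 :=
      ⟨_, pullback.fst a v, pullback.snd a v, pullback.condition, hbc a⟩
    obtain ⟨E2, e2, q2, hsq2, he2⟩ : ∃ (E2 : C) (e2 : E2 ⟶ E1) (q2 : E2 ⟶ U),
        e2 ≫ (e1 ≫ b) = q2 ≫ v ∧ Epi e2 :=
      ⟨_, pullback.fst (e1 ≫ b) v, pullback.snd (e1 ≫ b) v, pullback.condition, hbc _⟩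
    have l1 : (e2 ≫ e1) ≫ a = (e2 ≫ q1) ≫ v := by
      rw [Category.assoc, Category.assoc, hsq1]
    have l2 : (e2 ≫ e1) ≫ b = q2 ≫ v := by
      rw [Category.assoc, hsq2]
    have key : (e2 ≫ e1) ≫ a ≫ ψ = (e2 ≫ e1) ≫ b ≫ ψ := by
      have m1 : (e2 ≫ q1) ≫ φ = q2 ≫ φ := by
        apply hφ
        have : (e2 ≫ q1) ≫ v ≫ u = (e2 ≫ e1) ≫ a ≫ u := by
          rw [← Category.assoc (e2 ≫ q1), ← l1, Category.assoc]
        rw [this, hab, ← Category.assoc, l2, Category.assoc]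
      calc (e2 ≫ e1) ≫ a ≫ ψ = ((e2 ≫ e1) ≫ a) ≫ ψ := by simp only [Category.assoc]
        _ = ((e2 ≫ q1) ≫ v) ≫ ψ := by rw [l1]
        _ = (e2 ≫ q1) ≫ φ := by rw [Category.assoc, hψ]
        _ = q2 ≫ φ := m1
        _ = (q2 ≫ v) ≫ ψ := by rw [Category.assoc, hψ]
        _ = ((e2 ≫ e1) ≫ b) ≫ ψ := by rw [l2]
        _ = (e2 ≫ e1) ≫ b ≫ ψ := by simp only [Category.assoc]
    exact (cancel_epi (e2 ≫ e1)).mp key
  exact ⟨⟨{
    desc := fun {W} φ hφ => EffectiveEpi.desc u (EffectiveEpi.desc v φ (c1 φ hφ)) (c2 φ hφ)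
    fac := fun {W} φ hφ => by
      rw [Category.assoc, EffectiveEpi.fac, EffectiveEpi.fac]
    uniq := fun {W} φ hφ m hm => by
      apply EffectiveEpi.uniq u
      apply EffectiveEpi.uniq v
      rw [← Category.assoc]
      exact hm }⟩⟩

end Groth.Agent.S5204
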