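import Groth.Statements.S5205
import Groth.Agent.S5204
-- import your own Groth.Agent.* helpers here

set_option autoImplicit false
open CategoryTheory CategoryTheory.Limits
universe w v₁ u₁
open DescCat

namespace Groth.Agent.S5205

/-- First assertion: in a category with pullbacks: universal effective epimorphisms (morphisms all of
whose base changes are effective epimorphisms) are stable under composition. -/
theorem result {C : Type u₁} [Category.{v₁} C] [HasPullbacks C]
    {U T S : C} (v : U ⟶ T) (u : T ⟶ S)
    (hu : (MorphismProperty.universally (fun (A B : C) (p : A ⟶ B) => EffectiveEpi p)) u) (hv : (MorphismProperty.universally (fun (A B : C) (p : A ⟶ B) => EffectiveEpi p)) v) :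
    (MorphismProperty.universally (fun (A B : C) (p : A ⟶ B) => EffectiveEpi p)) (v ≫ u) := by
  intro X' Y' i₁ i₂ f' H
  let v' : X' ⟶ pullback u i₂ := pullback.lift (i₁ ≫ v) f' (by rw [Category.assoc, H.w])
  have hv'u : v' ≫ pullback.snd u i₂ = f' := pullback.lift_snd _ _ _
  have hv'j : v' ≫ pullback.fst u i₂ = i₁ ≫ v := pullback.lift_fst _ _ _
  have t := IsPullback.of_hasPullback u i₂
  have s : IsPullback i₁ (v' ≫ pullback.snd u i₂) (v ≫ u) i₂ := by rw [hv'u]; exact H.flip
  have sq : IsPullback i₁ v' v (pullback.fst u i₂) := IsPullback.of_bot s hv'j.symm t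
  have hu' : EffectiveEpi (pullback.snd u i₂) := hu _ _ _ t.flip
  have hv' : EffectiveEpi v' := hv _ _ _ sq.flip
  have hvu : (MorphismProperty.universally (fun (A B : C) (p : A ⟶ B) => EffectiveEpi p)) v' :=
    (MorphismProperty.universally_isStableUnderBaseChange _).of_isPullback sq hv
  have hle : (fun (A B : C) (p : A ⟶ B) => EffectiveEpi p) ≤ MorphismProperty.epimorphisms C := by
    intro A B p hp
    exact (MorphismProperty.epimorphisms.iff p).mpr (by haveI := hp; infer_instance)
  have hve : (MorphismProperty.universally (MorphismProperty.epimorphisms C)) v' :=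
    MorphismProperty.universally_mono hle v' hvu
  have := Groth.Agent.S5204.result v' (pullback.snd u i₂) hve
  rw [hv'u] at this
  exact this

end Groth.Agent.S5205
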