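import Groth.Statements.S5206
-- import your own Groth.Agent.* helpers here

set_option autoImplicit false
open CategoryTheory CategoryTheory.Limits
universe w v₁ u₁
open DescCat

namespace Groth.Agent.S5206

lemma core {C : Type u₁} [Category.{v₁} C] [HasPullbacks C]
    {U T S : C} (v : U ⟶ T) (u : T ⟶ S)
    (h : (MorphismProperty.universally (fun (A B : C) (p : A ⟶ B) => EffectiveEpi p)) (v ≫ u)) :
    EffectiveEpi u := by
  have hvu : EffectiveEpi (v ≫ u) := MorphismProperty.universally_le _ _ h
  have hsnd : EffectiveEpi (pullback.snd (v ≫ u) u) :=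
    h _ _ _ (IsPullback.of_hasPullback (v ≫ u) u).flip
  have c : ∀ {W : C} (φ : T ⟶ W)
      (hφ : ∀ {Z : C} (g₁ g₂ : Z ⟶ T), g₁ ≫ u = g₂ ≫ u → g₁ ≫ φ = g₂ ≫ φ),
      ∀ {Z : C} (g₁ g₂ : Z ⟶ U), g₁ ≫ v ≫ u = g₂ ≫ v ≫ u → g₁ ≫ v ≫ φ = g₂ ≫ v ≫ φ := by
    intro W φ hφ Z g₁ g₂ hg
    rw [← Category.assoc, ← Category.assoc g₂]
    apply hφ
    simpa only [Category.assoc] using hg
  exact ⟨⟨{
    desc := fun {W} φ hφ => EffectiveEpi.desc (v ≫ u) (v ≫ φ) (c φ hφ)
    fac := fun {W} φ hφ => by
      apply (cancel_epi (pullback.snd (v ≫ u) u)).mp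
      rw [← Category.assoc, ← pullback.condition, Category.assoc, EffectiveEpi.fac]
      rw [← Category.assoc]
      apply hφ
      rw [Category.assoc, pullback.condition]
    uniq := fun {W} φ hφ m hm => by
      apply EffectiveEpi.uniq (v ≫ u)
      rw [Category.assoc, hm] }⟩⟩

/-- Second assertion: in a category with pullbacks: if `v ≫ u` is a universal effective epimorphism (all
base changes are effective epimorphisms), then so is `u`; nothing is assumed about `v`. -/
theorem result {C : Type u₁} [Category.{v₁} C] [HasPullbacks C]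
    {U T S : C} (v : U ⟶ T) (u : T ⟶ S)
    (h : (MorphismProperty.universally (fun (A B : C) (p : A ⟶ B) => EffectiveEpi p)) (v ≫ u)) :
    (MorphismProperty.universally (fun (A B : C) (p : A ⟶ B) => EffectiveEpi p)) u := by
  intro T' S' i₁ i₂ u' H
  have sq : IsPullback (pullback.fst v i₁) (pullback.snd v i₁ ≫ u') (v ≫ u) i₂ :=
    (IsPullback.of_hasPullback v i₁).paste_vert H.flip
  have h' : (MorphismProperty.universally (fun (A B : C) (p : A ⟶ B) => EffectiveEpi p))
      (pullback.snd v i₁ ≫ u') :=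
    (MorphismProperty.universally_isStableUnderBaseChange _).of_isPullback sq h
  exact core (pullback.snd v i₁) u' h'

end Groth.Agent.S5206
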