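import Groth.Statements.S5208
-- import your own Groth.Agent.* helpers here

set_option autoImplicit false
open CategoryTheory CategoryTheory.Limits
universe w v₁ u₁
open DescCat

namespace Groth.Agent.S5208

/-- The strong form established in its proof: if `u : T ⟶ S` admits a section and `T ×_S T` exists, then
for every presheaf of sets `F` the diagram `F(S) → F(T) ⇉ F(T ×_S T)` is exact. In particular `u` is
an effective epimorphism. -/
theorem result {C : Type u₁} [Category.{v₁} C]
    {T S : C} (u : T ⟶ S) [IsSplitEpi u] [HasPullback u u] (F : Cᵒᵖ ⥤ Type w) :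
    Function.Injective (F.map u.op) ∧
      ∀ y : F.obj (Opposite.op T),
        F.map (pullback.fst u u).op y = F.map (pullback.snd u u).op y →
          y ∈ Set.range (F.map u.op) := by
  obtain ⟨s, hs⟩ : ∃ s : S ⟶ T, s ≫ u = 𝟙 S := ⟨section_ u, IsSplitEpi.id u⟩
  have e : ∀ x, F.map s.op (F.map u.op x) = x := by
    intro x
    rw [← Functor.map_comp_apply, ← op_comp, hs, op_id, Functor.map_id_apply]
  have hinj : Function.Injective (F.map u.op) := by
    intro a b hab
    have h1 : F.map s.op (F.map u.op a) = F.map s.op (F.map u.op b) := by rw [hab]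
    rw [e, e] at h1
    exact h1
  refine ⟨hinj, ?_⟩
  intro y hy
  refine ⟨F.map s.op y, ?_⟩
  let h : T ⟶ pullback u u := pullback.lift (𝟙 T) (u ≫ s) (by simp [hs])
  have h1 : F.map h.op (F.map (pullback.fst u u).op y) = y := by
    rw [← Functor.map_comp_apply, ← op_comp]
    have : h ≫ pullback.fst u u = 𝟙 T := pullback.lift_fst _ _ _
    rw [this, op_id, Functor.map_id_apply]
  have h2 : F.map h.op (F.map (pullback.snd u u).op y) = F.map u.op (F.map s.op y) := by
    rw [← Functor.map_comp_apply, ← op_comp]
    have : h ≫ pullback.snd u u = u ≫ s := pullback.lift_snd _ _ _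
    rw [this, op_comp, Functor.map_comp_apply]
  rw [← h2, ← hy, h1]

end Groth.Agent.S5208
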