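import Groth.Statements.S5209
import Groth.Agent.S5206
-- import your own Groth.Agent.* helpers here

set_option autoImplicit false
open CategoryTheory CategoryTheory.Limits
universe w v₁ u₁
open DescCat

namespace Groth.Agent.S5209

/-- In a category with pullbacks, let `f : S' ⟶ S` be a universal effective epimorphism, that is, a
morphism all of whose base changes are effective epimorphisms. Then a morphism `g` over `S` is an
isomorphism (resp. a monomorphism) if and only if its base change along `f` is. -/
theorem result {C : Type u₁} [Category.{v₁} C] [HasPullbacks C]
    {S' S : C} (f : S' ⟶ S) (hf : (MorphismProperty.universally (fun (A B : C) (p : A ⟶ B) => EffectiveEpi p)) f) {X Y : Over S} (g : X ⟶ Y) :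
    (IsIso g ↔ IsIso ((Over.pullback f).map g)) ∧ (Mono g ↔ Mono ((Over.pullback f).map g)) := by
  set_option backward.isDefEq.respectTransparency false in
  have huniv : ∀ Z : Over S, (MorphismProperty.universally
      (fun (A B : C) (p : A ⟶ B) => EffectiveEpi p)) (pullback.fst Z.hom f) := fun Z =>
    (MorphismProperty.universally_isStableUnderBaseChange _).of_isPullback
      (IsPullback.of_hasPullback Z.hom f).flip hf
  have hepi : ∀ Z : Over S, Epi (pullback.fst Z.hom f) := fun Z => by
    have : EffectiveEpi (pullback.fst Z.hom f) := MorphismProperty.universally_le _ _ (huniv Z)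
    infer_instance
  have hsq : ∀ {Z W : Over S} (k : Z ⟶ W),
      ((Over.pullback f).map k).left ≫ pullback.fst W.hom f = pullback.fst Z.hom f ≫ k.left := by
    intro Z W k
    simp [Over.pullback_map_left]
  have hmono : Mono ((Over.pullback f).map g) → Mono g := by
    intro hm
    constructor
    intro W a b hab
    have h1 : (Over.pullback f).map a = (Over.pullback f).map b := by
      apply (cancel_mono ((Over.pullback f).map g)).mp
      rw [← Functor.map_comp, ← Functor.map_comp, hab]
    have h2 := congrArg (fun k => k.left ≫ pullback.fst X.hom f) h1
    simp only [hsq] at h2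
    have := hepi W
    ext
    exact (cancel_epi _).mp h2
  refine ⟨⟨fun h => by infer_instance, fun h => ?_⟩, ⟨fun h => by infer_instance, hmono⟩⟩
  have : Mono g := hmono inferInstance
  have : Mono g.left := inferInstance
  have hiso : IsIso ((Over.pullback f).map g).left := by
    have : IsIso ((Over.forget S').map ((Over.pullback f).map g)) := inferInstance
    exact this
  have hcomp : (MorphismProperty.universally (fun (A B : C) (p : A ⟶ B) => EffectiveEpi p))
      (pullback.fst X.hom f ≫ g.left) := by
    rw [← hsq]
    exact (MorphismProperty.cancel_left_of_respectsIso _ _ _).mpr (huniv Y)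
  have hg : EffectiveEpi g.left :=
    MorphismProperty.universally_le _ _ (Groth.Agent.S5206.result _ _ hcomp)
  have : IsIso g.left := isIso_of_mono_of_strongEpi g.left
  have : IsIso ((Over.forget S).map g) := this
  exact isIso_of_reflects_iso g (Over.forget S)

end Groth.Agent.S5209
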