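import Groth.Statements.S5210
-- import your own Groth.Agent.* helpers here

set_option autoImplicit false
open CategoryTheory CategoryTheory.Limits
universe w v₁ u₁
open DescCat

namespace Groth.Agent.S5210

/-- In a category with pullbacks, let `f : S' ⟶ S` be a universal effective epimorphism (all of its base
changes are effective epimorphisms) and `Y ⟶ S` a monomorphism. Then an object `X` over `S` admits a
morphism to `Y` over `S` if and only if it does so after base change along `f`. -/
theorem result {C : Type u₁} [Category.{v₁} C] [HasPullbacks C]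
    {S' S : C} (f : S' ⟶ S) (hf : (MorphismProperty.universally (fun (A B : C) (p : A ⟶ B) => EffectiveEpi p)) f) (X Y : Over S) [Mono Y.hom] :
    Nonempty (X ⟶ Y) ↔ Nonempty ((Over.pullback f).obj X ⟶ (Over.pullback f).obj Y) := by
  set_option backward.isDefEq.respectTransparency false in
  constructor
  · rintro ⟨φ⟩
    exact ⟨(Over.pullback f).map φ⟩
  · rintro ⟨φ'⟩
    have hp : EffectiveEpi (pullback.fst X.hom f) :=
      hf _ _ _ (IsPullback.of_hasPullback X.hom f)
    have hw : φ'.left ≫ pullback.snd Y.hom f = pullback.snd X.hom f := Over.w φ'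
    obtain ⟨ψ, hψ⟩ : ∃ ψ : pullback X.hom f ⟶ Y.left,
        ψ ≫ Y.hom = pullback.fst X.hom f ≫ X.hom :=
      ⟨φ'.left ≫ pullback.fst Y.hom f, by
        simp only [Category.assoc, pullback.condition]
        rw [← Category.assoc, hw]⟩
    have compat : ∀ {Z : C} (a b : Z ⟶ pullback X.hom f),
        a ≫ pullback.fst X.hom f = b ≫ pullback.fst X.hom f → a ≫ ψ = b ≫ ψ := by
      intro Z a b hab
      apply (cancel_mono Y.hom).mp
      rw [Category.assoc, Category.assoc, hψ, ← Category.assoc, hab, Category.assoc]
    let h := EffectiveEpi.desc (pullback.fst X.hom f) ψ compat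
    have hh : h ≫ Y.hom = X.hom := by
      apply (cancel_epi (pullback.fst X.hom f)).mp
      rw [← Category.assoc, EffectiveEpi.fac, hψ]
    exact ⟨Over.homMk h hh⟩

end Groth.Agent.S5210
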