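import Groth.Statements.S5211
-- import your own Groth.Agent.* helpers here

set_option autoImplicit false
open CategoryTheory CategoryTheory.Limits
universe w v₁ u₁
open DescCat

namespace Groth.Agent.S5211

/-- In a category with pullbacks: if `f : S' ⟶ S` is a universal effective epimorphism and the canonical
map `S' ×_S S' ⟶ S' ×_T S'` induced by `g : S ⟶ T` is an isomorphism, then `g` is a monomorphism. -/
theorem result {C : Type u₁} [Category.{v₁} C] [HasPullbacks C]
    {S' S T : C} (f : S' ⟶ S) (hf : (MorphismProperty.universally (fun (A B : C) (p : A ⟶ B) => EffectiveEpi p)) f) (g : S ⟶ T)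
    [IsIso (pullback.mapDesc f f g)] : Mono g := by
  set_option backward.isDefEq.respectTransparency false in
  have hbc : ∀ {Z : C} (a : Z ⟶ S), Epi (pullback.fst a f) := by
    intro Z a
    have : EffectiveEpi (pullback.fst a f) := hf _ _ _ (IsPullback.of_hasPullback a f)
    infer_instance
  constructor
  intro W a b hab
  obtain ⟨E1, e1, q1, hsq1, he1⟩ : ∃ (E1 : C) (e1 : E1 ⟶ W) (q1 : E1 ⟶ S'),
      e1 ≫ a = q1 ≫ f ∧ Epi e1 :=
    ⟨_, pullback.fst a f, pullback.snd a f, pullback.condition, hbc a⟩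
  obtain ⟨E2, e2, q2, hsq2, he2⟩ : ∃ (E2 : C) (e2 : E2 ⟶ E1) (q2 : E2 ⟶ S'),
      e2 ≫ (e1 ≫ b) = q2 ≫ f ∧ Epi e2 :=
    ⟨_, pullback.fst (e1 ≫ b) f, pullback.snd (e1 ≫ b) f, pullback.condition, hbc _⟩
  have l1 : (e2 ≫ e1) ≫ a = (e2 ≫ q1) ≫ f := by
    rw [Category.assoc, Category.assoc, hsq1]
  have l2 : (e2 ≫ e1) ≫ b = q2 ≫ f := by
    rw [Category.assoc, hsq2]
  have hw : (e2 ≫ q1) ≫ f ≫ g = q2 ≫ f ≫ g := by
    rw [← Category.assoc, ← l1, ← Category.assoc q2, ← l2]
    simp only [Category.assoc, hab]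
  have hinv1 : inv (pullback.mapDesc f f g) ≫ pullback.fst f f = pullback.fst (f ≫ g) (f ≫ g) := by
    rw [IsIso.inv_comp_eq]
    simp
  have hinv2 : inv (pullback.mapDesc f f g) ≫ pullback.snd f f = pullback.snd (f ≫ g) (f ≫ g) := by
    rw [IsIso.inv_comp_eq]
    simp
  obtain ⟨z, hz1, hz2⟩ : ∃ z : E2 ⟶ pullback f f,
      z ≫ pullback.fst f f = e2 ≫ q1 ∧ z ≫ pullback.snd f f = q2 :=
    ⟨pullback.lift (e2 ≫ q1) q2 hw ≫ inv (pullback.mapDesc f f g),
      by simp only [Category.assoc, hinv1, pullback.lift_fst],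
      by simp only [Category.assoc, hinv2, pullback.lift_snd]⟩
  have key : (e2 ≫ e1) ≫ a = (e2 ≫ e1) ≫ b := by
    rw [l1, l2, ← hz1, ← hz2, Category.assoc, Category.assoc, pullback.condition]
  exact (cancel_epi (e2 ≫ e1)).mp key

end Groth.Agent.S5211
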