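import Groth.Statements.S5215
-- import your own Groth.Agent.* helpers here

set_option autoImplicit false
open CategoryTheory CategoryTheory.Limits
universe w v₁ u₁
open DescCat

namespace Groth.Agent.S5215

/-- In a category with pullbacks: for a universally effective equivalence relation `p₁, p₂ : R ⇉ X` with
quotient map `π : X ⟶ X/R` and a morphism `g` out of the quotient, `g` is a monomorphism if and only
if `R` is the kernel pair of `π ≫ g`. -/
theorem result {C : Type u₁} [Category.{v₁} C] [HasPullbacks C]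
    {R X Z : C} {p₁ p₂ : R ⟶ X} (e : UniversallyEffectiveEquivalenceRelation p₁ p₂)
    (f : X ⟶ Z) (g : e.B ⟶ Z) (hg : e.π ≫ g = f) :
    Mono g ↔ IsKernelPair f p₁ p₂ := by
  have hπ := e.universally_effectiveEpi_π
  have hbc : ∀ {W : C} (a : W ⟶ e.B), Epi (pullback.fst a e.π) := by
    intro W a
    have : EffectiveEpi (pullback.fst a e.π) := hπ _ _ _ (IsPullback.of_hasPullback a e.π)
    infer_instance
  constructor
  · intro hmono
    rw [← hg]
    exact e.isKernelPair.comp_of_mono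
  · intro hk
    constructor
    intro W a b hab
    obtain ⟨E1, e1, q1, hsq1, he1⟩ : ∃ (E1 : C) (e1 : E1 ⟶ W) (q1 : E1 ⟶ X),
        e1 ≫ a = q1 ≫ e.π ∧ Epi e1 :=
      ⟨_, pullback.fst a e.π, pullback.snd a e.π, pullback.condition, hbc a⟩
    obtain ⟨E2, e2, q2, hsq2, he2⟩ : ∃ (E2 : C) (e2 : E2 ⟶ E1) (q2 : E2 ⟶ X),
        e2 ≫ (e1 ≫ b) = q2 ≫ e.π ∧ Epi e2 :=
      ⟨_, pullback.fst (e1 ≫ b) e.π, pullback.snd (e1 ≫ b) e.π, pullback.condition, hbc _⟩
    have l1 : (e2 ≫ e1) ≫ a = (e2 ≫ q1) ≫ e.π := by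
      rw [Category.assoc, Category.assoc, hsq1]
    have l2 : (e2 ≫ e1) ≫ b = q2 ≫ e.π := by
      rw [Category.assoc, hsq2]
    have hw : (e2 ≫ q1) ≫ f = q2 ≫ f := by
      rw [← hg, ← Category.assoc, ← l1, ← Category.assoc q2, ← l2]
      simp only [Category.assoc, hab]
    set r := hk.lift (e2 ≫ q1) q2 hw
    have hr1 : r ≫ p₁ = e2 ≫ q1 := hk.lift_fst _ _ _
    have hr2 : r ≫ p₂ = q2 := hk.lift_snd _ _ _
    have key : (e2 ≫ e1) ≫ a = (e2 ≫ e1) ≫ b := by
      rw [l1, l2, ← hr1, ← hr2, Category.assoc, Category.assoc, e.isKernelPair.w]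
    exact (cancel_epi (e2 ≫ e1)).mp key

end Groth.Agent.S5215
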