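import Groth.Statements.S5220
-- import your own Groth.Agent.* helpers here

set_option autoImplicit false
open CategoryTheory CategoryTheory.Limits
universe w v₁ u₁
open GrpQ

namespace Groth.Agent.S5220

/-- In a category with pullbacks: let `d₀ d₁ : X₁ ⇉ X₀` admit a common section and let `f₀ : Y₀ ⟶ X₀` be
an effective epimorphism which is also a universal epimorphism. For the inverse-image pair `Y₁ :=
(Y₀ ×_{X₀,d₁} X₁) ×_{d₀,X₀} Y₀ ⇉ Y₀`, every morphism out of `Y₀` equalized by the two projections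
descends uniquely to a morphism out of `X₀` equalized by `d₀, d₁`. (Only the common section of the
groupoid structure is used.) -/
theorem result {C : Type u₁} [Category.{v₁} C] [HasPullbacks C]
    {X₁ X₀ Y₀ : C} (d₀ d₁ : X₁ ⟶ X₀) (s : X₀ ⟶ X₁) (hs₀ : s ≫ d₀ = 𝟙 X₀) (hs₁ : s ≫ d₁ = 𝟙 X₀)
    (f₀ : Y₀ ⟶ X₀) [EffectiveEpi f₀]
    (hf : MorphismProperty.universally (MorphismProperty.epimorphisms C) f₀)
    {T : C} (g : Y₀ ⟶ T)
    (hg : (pullback.fst (pullback.snd f₀ d₁ ≫ d₀) f₀ ≫ pullback.fst f₀ d₁) ≫ g =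
      pullback.snd (pullback.snd f₀ d₁ ≫ d₀) f₀ ≫ g) :
    ∃! h : X₀ ⟶ T, d₁ ≫ h = d₀ ≫ h ∧ f₀ ≫ h = g := by
  set_option backward.isDefEq.respectTransparency false in
  have hbc : ∀ {Z : C} (a : Z ⟶ X₀), Epi (pullback.fst a f₀) := by
    intro Z a
    have := hf (pullback.snd a f₀) a (pullback.fst a f₀) (IsPullback.of_hasPullback a f₀)
    exact (MorphismProperty.epimorphisms.iff _).mp this
  have hbc' : ∀ {Z : C} (a : Z ⟶ X₀), Epi (pullback.snd f₀ a) := by
    intro Z a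
    have := hf (pullback.fst f₀ a) a (pullback.snd f₀ a) (IsPullback.of_hasPullback f₀ a).flip
    exact (MorphismProperty.epimorphisms.iff _).mp this
  have compat : ∀ {Z : C} (a b : Z ⟶ Y₀), a ≫ f₀ = b ≫ f₀ → a ≫ g = b ≫ g := by
    intro Z a b hab
    let x : Z ⟶ pullback f₀ d₁ := pullback.lift a (a ≫ f₀ ≫ s) (by simp [hs₁])
    let z : Z ⟶ pullback (pullback.snd f₀ d₁ ≫ d₀) f₀ :=
      pullback.lift x b (by simp [x, hs₀, hab])
    have h1 : z ≫ (pullback.fst (pullback.snd f₀ d₁ ≫ d₀) f₀ ≫ pullback.fst f₀ d₁) = a := by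
      simp [z, x]
    have h2 : z ≫ pullback.snd (pullback.snd f₀ d₁ ≫ d₀) f₀ = b := by simp [z]
    rw [← h1, ← h2, Category.assoc, hg, Category.assoc]
  refine ⟨EffectiveEpi.desc f₀ g compat, ⟨?_, EffectiveEpi.fac f₀ g compat⟩, ?_⟩
  · set h := EffectiveEpi.desc f₀ g compat with hh
    have hfh : f₀ ≫ h = g := EffectiveEpi.fac f₀ g compat
    haveI := hbc' d₁
    haveI := hbc (pullback.snd f₀ d₁ ≫ d₀)
    have key : (pullback.fst (pullback.snd f₀ d₁ ≫ d₀) f₀ ≫ pullback.snd f₀ d₁) ≫ d₁ ≫ h =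
        (pullback.fst (pullback.snd f₀ d₁ ≫ d₀) f₀ ≫ pullback.snd f₀ d₁) ≫ d₀ ≫ h := by
      have e1 : (pullback.fst (pullback.snd f₀ d₁ ≫ d₀) f₀ ≫ pullback.snd f₀ d₁) ≫ d₁ ≫ h =
          (pullback.fst (pullback.snd f₀ d₁ ≫ d₀) f₀ ≫ pullback.fst f₀ d₁) ≫ g := by
        rw [← hfh]
        simp only [Category.assoc]
        rw [← pullback.condition_assoc]
      have e2 : (pullback.fst (pullback.snd f₀ d₁ ≫ d₀) f₀ ≫ pullback.snd f₀ d₁) ≫ d₀ ≫ h =
          pullback.snd (pullback.snd f₀ d₁ ≫ d₀) f₀ ≫ g := by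
        rw [← hfh]
        have := pullback.condition (f := pullback.snd f₀ d₁ ≫ d₀) (g := f₀)
        simp only [Category.assoc] at this ⊢
        rw [reassoc_of% this]
      rw [e1, e2, hg]
    exact (cancel_epi _).mp key
  · intro h' ⟨_, hh'⟩
    exact EffectiveEpi.uniq f₀ g compat h' hh'

end Groth.Agent.S5220
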