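import Groth.Statements.S5221
import Groth.Agent.S5220
-- import your own Groth.Agent.* helpers here

set_option autoImplicit false
open CategoryTheory CategoryTheory.Limits
universe w v₁ u₁
open GrpQ

namespace Groth.Agent.S5221

/-- Existence part: in a category with pullbacks: with `d₀ d₁ : X₁ ⇉ X₀` admitting a common section and
`f₀ : Y₀ ⟶ X₀` an effective and universal epimorphism, the pair `(d₀, d₁)` has a coequalizer if and
only if its inverse-image pair on `Y₀` has one. -/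
theorem result {C : Type u₁} [Category.{v₁} C] [HasPullbacks C]
    {X₁ X₀ Y₀ : C} (d₀ d₁ : X₁ ⟶ X₀) (s : X₀ ⟶ X₁) (hs₀ : s ≫ d₀ = 𝟙 X₀) (hs₁ : s ≫ d₁ = 𝟙 X₀)
    (f₀ : Y₀ ⟶ X₀) [EffectiveEpi f₀]
    (hf : MorphismProperty.universally (MorphismProperty.epimorphisms C) f₀) :
    HasCoequalizer d₁ d₀ ↔
      HasCoequalizer (pullback.fst (pullback.snd f₀ d₁ ≫ d₀) f₀ ≫ pullback.fst f₀ d₁)
        (pullback.snd (pullback.snd f₀ d₁ ≫ d₀) f₀) := by
  set_option backward.isDefEq.respectTransparency false in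
  have hcomp : ∀ {T : C} (h : X₀ ⟶ T), d₁ ≫ h = d₀ ≫ h →
      (pullback.fst (pullback.snd f₀ d₁ ≫ d₀) f₀ ≫ pullback.fst f₀ d₁) ≫ f₀ ≫ h =
        pullback.snd (pullback.snd f₀ d₁ ≫ d₀) f₀ ≫ f₀ ≫ h := by
    intro T h hh
    have e1 : (pullback.fst (pullback.snd f₀ d₁ ≫ d₀) f₀ ≫ pullback.fst f₀ d₁) ≫ f₀ ≫ h =
        pullback.fst (pullback.snd f₀ d₁ ≫ d₀) f₀ ≫ pullback.snd f₀ d₁ ≫ d₁ ≫ h := by
      simp only [Category.assoc]
      rw [pullback.condition_assoc]
    have e2 : pullback.snd (pullback.snd f₀ d₁ ≫ d₀) f₀ ≫ f₀ ≫ h =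
        pullback.fst (pullback.snd f₀ d₁ ≫ d₀) f₀ ≫ pullback.snd f₀ d₁ ≫ d₀ ≫ h := by
      have := pullback.condition (f := pullback.snd f₀ d₁ ≫ d₀) (g := f₀)
      rw [← Category.assoc, ← this, Category.assoc, Category.assoc]
    rw [e1, e2, hh]
  constructor
  · intro H
    refine HasColimit.mk ⟨Cofork.ofπ (f₀ ≫ coequalizer.π d₁ d₀)
      (hcomp _ (coequalizer.condition d₁ d₀)), ?_⟩
    apply Cofork.IsColimit.mk'
    intro c
    have hex := Groth.Agent.S5220.result d₀ d₁ s hs₀ hs₁ f₀ hf c.π c.condition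
    let h := Classical.choose hex
    have hh := Classical.choose_spec hex
    have hd : d₁ ≫ h = d₀ ≫ h := hh.1.1
    have hf0 : f₀ ≫ h = c.π := hh.1.2
    refine ⟨coequalizer.desc h hd, ?_, ?_⟩
    · show (f₀ ≫ coequalizer.π d₁ d₀) ≫ coequalizer.desc h hd = c.π
      rw [Category.assoc, coequalizer.π_desc, hf0]
    · intro m hm
      change (f₀ ≫ coequalizer.π d₁ d₀) ≫ m = c.π at hm
      refine @coequalizer.hom_ext _ _ _ _ d₁ d₀ _ _ m _ ?_
      rw [coequalizer.π_desc]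
      apply hh.2
      refine ⟨?_, ?_⟩
      · rw [← Category.assoc, coequalizer.condition, Category.assoc]
      · rw [← Category.assoc, hm]
  · intro H
    have hex := Groth.Agent.S5220.result d₀ d₁ s hs₀ hs₁ f₀ hf
      (coequalizer.π (pullback.fst (pullback.snd f₀ d₁ ≫ d₀) f₀ ≫ pullback.fst f₀ d₁)
        (pullback.snd (pullback.snd f₀ d₁ ≫ d₀) f₀)) (coequalizer.condition _ _)
    let h := Classical.choose hex
    have hh := Classical.choose_spec hex
    have hd : d₁ ≫ h = d₀ ≫ h := hh.1.1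
    have hf0 := hh.1.2
    refine HasColimit.mk ⟨Cofork.ofπ h hd, ?_⟩
    apply Cofork.IsColimit.mk'
    intro c
    refine ⟨coequalizer.desc (f₀ ≫ c.π) (hcomp c.π c.condition), ?_, ?_⟩
    · show h ≫ coequalizer.desc (f₀ ≫ c.π) (hcomp c.π c.condition) = c.π
      apply (cancel_epi f₀).mp
      rw [← Category.assoc, hf0, coequalizer.π_desc]
    · intro m hm
      change h ≫ m = c.π at hm
      refine @coequalizer.hom_ext _ _ _ _
        (pullback.fst (pullback.snd f₀ d₁ ≫ d₀) f₀ ≫ pullback.fst f₀ d₁)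
        (pullback.snd (pullback.snd f₀ d₁ ≫ d₀) f₀) _ _ m _ ?_
      rw [coequalizer.π_desc, ← hf0, Category.assoc, hm]

end Groth.Agent.S5221
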