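import Groth.Statements.S5229
-- import your own Groth.Agent.* helpers here

set_option autoImplicit false
open CategoryTheory CategoryTheory.Limits
universe v₁ u₁
open DescCat

namespace Groth.Agent.S5229

/-- The reference for universal effective epimorphisms, in a category with pullbacks and binary
products: for two universally effective equivalence relations `R ⇉ X` and `R' ⇉ X'` with quotient
maps `π` and `π'`, the product relation `R × R' ⇉ X × X'` is the kernel pair of `π × π'`. (Together
with the fact that a product of two universal effective epimorphisms is again one, this says that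
`(X × X')/(R × R')` is `(X/R) × (X'/R')`; only the kernel-pair assertion is stated here.) -/
theorem result {C : Type u₁} [Category.{v₁} C]
    [HasPullbacks C] [HasBinaryProducts C]
    {R X R' X' : C} {p₁ p₂ : R ⟶ X} {p₁' p₂' : R' ⟶ X'}
    (e : UniversallyEffectiveEquivalenceRelation p₁ p₂)
    (e' : UniversallyEffectiveEquivalenceRelation p₁' p₂') :
    IsKernelPair (prod.map e.π e'.π) (prod.map p₁ p₁') (prod.map p₂ p₂') := by
  set_option backward.isDefEq.respectTransparency false in
  have k := e.isKernelPair
  have k' := e'.isKernelPair
  refine ⟨⟨?_⟩, ⟨PullbackCone.isLimitAux' _ (fun s => ?_)⟩⟩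
  · rw [prod.map_map, prod.map_map, k.w, k'.w]
  · have h1 : (s.fst ≫ prod.fst) ≫ e.π = (s.snd ≫ prod.fst) ≫ e.π := by
      have := congrArg (· ≫ prod.fst) s.condition
      simpa using this
    have h2 : (s.fst ≫ prod.snd) ≫ e'.π = (s.snd ≫ prod.snd) ≫ e'.π := by
      have := congrArg (· ≫ prod.snd) s.condition
      simpa using this
    refine ⟨prod.lift (k.lift _ _ h1) (k'.lift _ _ h2), ?_, ?_, ?_⟩
    · apply prod.hom_ext <;> simp
    · apply prod.hom_ext <;> simp
    · intro m hm1 hm2
      have hm1' := hm1
      have hm2' := hm2
      dsimp at m hm1' hm2' ⊢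
      apply prod.hom_ext
      · rw [prod.lift_fst]
        apply k.hom_ext
        · rw [IsKernelPair.lift_fst, Category.assoc, ← prod.map_fst p₁ p₁', ← Category.assoc, hm1']
        · rw [IsKernelPair.lift_snd, Category.assoc, ← prod.map_fst p₂ p₂', ← Category.assoc, hm2']
      · rw [prod.lift_snd]
        apply k'.hom_ext
        · rw [IsKernelPair.lift_fst, Category.assoc, ← prod.map_snd p₁ p₁', ← Category.assoc, hm1']
        · rw [IsKernelPair.lift_snd, Category.assoc, ← prod.map_snd p₂ p₂', ← Category.assoc, hm2']

end Groth.Agent.S5229
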