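import Groth.Statements.S5449
-- import your own Groth.Agent.* helpers here

set_option autoImplicit false
open RootD

namespace Groth.Agent.S5449

/-- For a system of simple roots Δ, the roots that are non-negative integer combinations of Δ form a
system of positive roots; and a system of positive roots S contains Δ if and only if S is that set. -/
theorem result {ι M N : Type*} [AddCommGroup M] [AddCommGroup N]
    (P : RootPairing ι ℤ M N) [Finite ι] (Δ : Set ι) (hΔ : RootD.IsSimpleSys P Δ)
    (S : Set ι) (hS : RootD.IsPosSys P S) :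
    RootD.IsPosSys P (RootD.posOf P Δ) ∧ (Δ ⊆ S ↔ S = RootD.posOf P Δ) := by
  have hli : LinearIndependent ℤ (fun d : Δ => P.root d) := hΔ.linInd
  set V := Submodule.span ℤ (Set.range (fun d : Δ => P.root d)) with hV
  have hle : RootD.natSpan P Δ ≤ V.toAddSubmonoid := by
    unfold RootD.natSpan
    rw [AddSubmonoid.closure_le]
    rintro _ ⟨d, hd, rfl⟩
    exact Submodule.subset_span ⟨⟨d, hd⟩, rfl⟩
  -- coordinates of elements of natSpan are non-negative
  have hnonneg : ∀ x (hx : x ∈ RootD.natSpan P Δ), 0 ≤ hli.repr ⟨x, hle hx⟩ := by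
    intro x hx
    have key : ∀ y (hy : y ∈ V), y ∈ RootD.natSpan P Δ → 0 ≤ hli.repr ⟨y, hy⟩ := by
      intro y hy hy'
      unfold RootD.natSpan at hy'
      induction hy' using AddSubmonoid.closure_induction with
      | mem z hz =>
        obtain ⟨d, hd, rfl⟩ := hz
        rw [hli.repr_eq_single ⟨d, hd⟩ ⟨P.root d, hy⟩ rfl]
        exact Finsupp.single_nonneg.mpr zero_le_one
      | zero =>
        have : (⟨0, hy⟩ : V) = 0 := rfl
        rw [this, map_zero]
      | add a b ha hb iha ihb =>
        have ha' : a ∈ V := hle ha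
        have hb' : b ∈ V := hle hb
        have : (⟨a + b, hy⟩ : V) = ⟨a, ha'⟩ + ⟨b, hb'⟩ := rfl
        rw [this, map_add]
        exact add_nonneg (iha ha') (ihb hb')
    exact key x (hle hx) hx
  have hne : ∀ k : ι, P.root k ≠ 0 := fun k => P.ne_zero k
  -- a root and a positive multiple of its opposite cannot both be in natSpan
  have hno : ∀ (k : ι) (n : ℕ), 0 < n → n • P.root k ∈ RootD.natSpan P Δ →
      -P.root k ∈ RootD.natSpan P Δ → False := by
    intro k n hn h1 h2
    have hkV : P.root k ∈ V := by
      have := V.neg_mem (hle h2)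
      simpa using this
    have a1 := hnonneg _ h1
    have a2 := hnonneg _ h2
    have e1 : (⟨n • P.root k, hle h1⟩ : V) = n • ⟨P.root k, hkV⟩ := rfl
    have e2 : (⟨-P.root k, hle h2⟩ : V) = -⟨P.root k, hkV⟩ := rfl
    rw [e1, map_nsmul] at a1
    rw [e2, map_neg] at a2
    have hz : hli.repr ⟨P.root k, hkV⟩ = 0 := by
      ext e
      have b1 := a1 e
      have b2 := a2 e
      simp only [Finsupp.coe_zero, Pi.zero_apply, Finsupp.coe_smul, Pi.smul_apply,
        Finsupp.coe_neg, Pi.neg_apply] at b1 b2
      simp only [Finsupp.coe_zero, Pi.zero_apply]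
      have : (0 : ℤ) ≤ n • (hli.repr ⟨P.root k, hkV⟩ e) := b1
      rw [nsmul_eq_mul] at this
      have hn' : (0 : ℤ) < n := by exact_mod_cast hn
      have : 0 ≤ hli.repr ⟨P.root k, hkV⟩ e := by
        by_contra hc
        push Not at hc
        have := mul_neg_of_pos_of_neg hn' hc
        linarith
      linarith
    have : (⟨P.root k, hkV⟩ : V) = 0 := by
      have := hli.linearCombination_repr ⟨P.root k, hkV⟩
      rw [hz, map_zero] at this
      exact Subtype.ext this.symm
    exact hne k (congrArg Subtype.val this)
  have hneg : ∀ a : ι, P.root (P.reflectionPerm a a) = - P.root a := fun a => by simp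
  have hpos : RootD.IsPosSys P (RootD.posOf P Δ) := by
    refine ⟨?_, ?_, ?_⟩
    · intro i hi hi'
      change P.root i ∈ RootD.natSpan P Δ at hi
      change P.root (P.reflectionPerm i i) ∈ RootD.natSpan P Δ at hi'
      rw [hneg] at hi'
      exact hno i 1 one_pos (by simpa using hi) hi'
    · intro i
      rcases hΔ.mem_or_neg_mem i with h | h
      · exact Or.inl h
      · right
        change P.root (P.reflectionPerm i i) ∈ RootD.natSpan P Δ
        rw [hneg]; exact h
    · intro k n hn hk
      have hle2 : RootD.natSpan P (RootD.posOf P Δ) ≤ RootD.natSpan P Δ := by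
        conv_lhs => unfold RootD.natSpan
        rw [AddSubmonoid.closure_le]
        rintro _ ⟨d, hd, rfl⟩
        exact hd
      replace hk := hle2 hk
      rcases hΔ.mem_or_neg_mem k with h | h
      · exact h
      · exact (hno k n hn hk h).elim
  refine ⟨hpos, ?_, ?_⟩
  · intro hΔS
    have h1 : RootD.posOf P Δ ⊆ S := by
      intro k hk
      change P.root k ∈ RootD.natSpan P Δ at hk
      have hmono : RootD.natSpan P Δ ≤ RootD.natSpan P S :=
        AddSubmonoid.closure_mono (Set.image_mono hΔS)
      exact hS.sat 1 one_pos (by simpa using hmono hk)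
    apply Set.Subset.antisymm _ h1
    intro k hk
    by_contra hk'
    rcases hpos.cover k with h | h
    · exact hk' h
    · exact hS.disjoint hk (h1 h)
  · intro hSeq
    rw [hSeq]
    intro d hd
    change P.root d ∈ RootD.natSpan P Δ
    exact AddSubmonoid.subset_closure ⟨d, hd, rfl⟩

end Groth.Agent.S5449
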