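import Groth.Statements.S5450
import Groth.Agent.H8.RootLib
import Groth.Agent.S5467
-- import your own Groth.Agent.* helpers here

set_option autoImplicit false
open RootD

namespace Groth.Agent.S5450

/-- A positive root (relative to a system of simple roots Δ) is simple if and only if it is not the sum
of two positive roots. -/
theorem result {ι M N : Type*} [AddCommGroup M] [AddCommGroup N]
    (P : RootPairing ι ℤ M N) [Finite ι] (Δ : Set ι) (hΔ : RootD.IsSimpleSys P Δ)
    (k : ι) (hk : k ∈ RootD.posOf P Δ) :
    k ∈ Δ ↔ ¬ ∃ i j : ι, i ∈ RootD.posOf P Δ ∧ j ∈ RootD.posOf P Δ ∧ P.root k = P.root i + P.root j := by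
  classical
  have := Fintype.ofFinite ι
  constructor
  · rintro hkΔ ⟨i, j, hi, hj, h⟩
    have e := Groth.Agent.H8.height_add hΔ h
    rw [Groth.Agent.H8.height_simple hΔ hkΔ] at e
    have := Groth.Agent.H8.one_le_height hΔ hi
    have := Groth.Agent.H8.one_le_height hΔ hj
    omega
  · intro hno
    by_contra hkΔ
    apply hno
    by_cases hind : RootD.IsIndiv P k
    · obtain ⟨i, hi, hpos, _⟩ := Groth.Agent.S5467.result P Δ hΔ k hk hkΔ hind
      have hki : k ≠ i := fun e => hkΔ (e ▸ hi)
      obtain ⟨k', hk'⟩ := P.root_sub_root_mem_of_pairingIn_pos (i := k) (j := i)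
        (by rw [Groth.Agent.H8.pairingIn_eq]; exact hpos) hki
      have hiP : i ∈ RootD.posOf P Δ := Groth.Agent.H8.simple_mem_posOf hi
      by_cases hli : LinearIndependent ℤ ![P.root k, P.root i]
      · obtain ⟨j, hji, hjpos⟩ := Groth.Agent.H8.exists_coef_pos_ne hΔ hk hli
        have hk'pos : k' ∈ RootD.posOf P Δ := by
          apply Groth.Agent.H8.mem_posOf_of_pos hΔ (j := j)
          rw [Groth.Agent.H8.coef_sub hΔ hk', Groth.Agent.H8.coef_simple hΔ hi]
          simp only [Finsupp.coe_sub, Pi.sub_apply]
          rw [Finsupp.single_eq_of_ne hji, sub_zero]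
          exact hjpos
        exact ⟨k', i, hk'pos, hiP, by rw [hk']; abel⟩
      · rcases Groth.Agent.H8.dep_simple hΔ hk hi hli with h | h
        · exact absurd (P.root.injective h) hki
        · exact absurd h.symm (hind i)
    · simp only [RootD.IsIndiv, not_forall, not_not] at hind
      obtain ⟨j, hj⟩ := hind
      have hjpos : j ∈ RootD.posOf P Δ := by
        rw [Groth.Agent.H8.mem_posOf_iff hΔ]
        have e : Groth.Agent.H8.coef hΔ k = Groth.Agent.H8.coef hΔ j + Groth.Agent.H8.coef hΔ j :=
          Groth.Agent.H8.coef_add hΔ (by rw [← hj, two_smul])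
        intro l
        have := (Groth.Agent.H8.mem_posOf_iff hΔ k).mp hk l
        rw [e] at this
        simp only [Finsupp.coe_add, Pi.add_apply] at this
        omega
      exact ⟨j, j, hjpos, hjpos, by rw [← hj, two_smul]⟩

end Groth.Agent.S5450
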