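import Groth.Statements.S5446
import Groth.Agent.H8.PosSys
-- import your own Groth.Agent.* helpers here

set_option autoImplicit false
open RootD

namespace Groth.Agent.S5446

open Groth.Agent.H8

section Aux

variable {ι M N : Type*} [AddCommGroup M] [AddCommGroup N]

/-- roots some positive multiple of which is a non-negative combination of `Δ`. -/
def Sset (P : RootPairing ι ℤ M N) (Δ : Set ι) : Set ι :=
  {k | ∃ n : ℕ, 0 < n ∧ n • P.root k ∈ natSpan P Δ}

lemma scale {P : RootPairing ι ℤ M N} {Δ : Set ι} {x : M} (hx : x ∈ natSpan P (Sset P Δ)) :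
    ∃ n : ℕ, 0 < n ∧ n • x ∈ natSpan P Δ := by
  unfold RootD.natSpan at hx
  induction hx using AddSubmonoid.closure_induction with
  | mem y hy =>
    obtain ⟨k, ⟨n, hn, hk⟩, rfl⟩ := hy
    exact ⟨n, hn, hk⟩
  | zero => exact ⟨1, one_pos, by rw [smul_zero]; exact AddSubmonoid.zero_mem _⟩
  | add y z _ _ hy hz =>
    obtain ⟨N1, h1, e1⟩ := hy
    obtain ⟨N2, h2, e2⟩ := hz
    refine ⟨N1 * N2, Nat.mul_pos h1 h2, ?_⟩
    rw [smul_add]
    have a1 : (N1 * N2) • y = N2 • (N1 • y) := by rw [mul_comm, mul_smul]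
    have a2 : (N1 * N2) • z = N1 • (N2 • z) := by rw [mul_smul]
    rw [a1, a2]
    exact AddSubmonoid.add_mem _ (AddSubmonoid.nsmul_mem _ e1 _) (AddSubmonoid.nsmul_mem _ e2 _)

lemma nonneg_pair_zero {P : RootPairing ι ℤ M N} {Δ : Set ι} (hli : LinearIndepOn ℤ P.root Δ)
    {c d : ι →₀ ℤ} (hc : c ∈ Finsupp.supported ℤ ℤ Δ) (hcn : ∀ j, 0 ≤ c j)
    (hd : d ∈ Finsupp.supported ℤ ℤ Δ) (hdn : ∀ j, 0 ≤ d j)
    (h : Finsupp.linearCombination ℤ P.root c + Finsupp.linearCombination ℤ P.root d = 0) :
    c = 0 := by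
  have := linearIndepOn_iff.mp hli (c + d) (Submodule.add_mem _ hc hd) (by rw [map_add, h])
  ext j
  have hj := congrArg (fun f => f j) this
  simp only [Finsupp.coe_add, Pi.add_apply, Finsupp.coe_zero, Pi.zero_apply] at hj
  have := hcn j
  have := hdn j
  simp only [Finsupp.coe_zero, Pi.zero_apply]
  omega

lemma isPosSys_Sset {P : RootPairing ι ℤ M N} {Δ : Set ι} (hli : LinearIndepOn ℤ P.root Δ)
    (hcone : ∀ k : ι, ∃ n : ℕ, 0 < n ∧
      (n • P.root k ∈ RootD.natSpan P Δ ∨ n • (-P.root k) ∈ RootD.natSpan P Δ)) :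
    IsPosSys P (Sset P Δ) where
  disjoint := by
    rintro k ⟨n, hn, hk⟩ ⟨m, hm, hk'⟩
    rw [root_neg] at hk'
    have e1 : (m * n) • P.root k ∈ natSpan P Δ := by
      rw [mul_smul]; exact AddSubmonoid.nsmul_mem _ hk _
    have e2 : (m * n) • (-P.root k) ∈ natSpan P Δ := by
      rw [mul_comm, mul_smul]; exact AddSubmonoid.nsmul_mem _ hk' _
    obtain ⟨c, hc, hcn, hlc⟩ := natSpan_coef e1
    obtain ⟨d, hd, hdn, hld⟩ := natSpan_coef e2
    have h0 := nonneg_pair_zero hli hc hcn hd hdn (by rw [hlc, hld, smul_neg, add_neg_cancel])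
    rw [h0, map_zero] at hlc
    have : (m * n) • P.root k = (m * n) • (0 : M) := by rw [← hlc, smul_zero]
    exact P.ne_zero k (nsmul_cancel P (Nat.mul_pos hm hn).ne' this)
  cover := by
    intro k
    obtain ⟨n, hn, h | h⟩ := hcone k
    · exact Or.inl ⟨n, hn, h⟩
    · exact Or.inr ⟨n, hn, by rw [root_neg]; exact h⟩
  sat := by
    intro k n hn hk
    obtain ⟨N, hN, h⟩ := scale hk
    refine ⟨N * n, Nat.mul_pos hN hn, ?_⟩
    rw [mul_comm, mul_smul]
    -- (n * N) • x = n • N • x ; we have N • (n • x)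
    have : n • N • P.root k = N • n • P.root k := by
      rw [← mul_smul, ← mul_smul, mul_comm]
    rw [this]; exact h

end Aux

/-- If the roots indexed by Δ are indivisible and linearly independent and every root is, up to sign, a
non-negative rational combination of them (some positive multiple is a non-negative integer
combination), then Δ is a system of simple roots: every root is, up to sign, a non-negative integer
combination of Δ. -/
theorem result {ι M N : Type*} [AddCommGroup M] [AddCommGroup N]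
    (P : RootPairing ι ℤ M N) [Finite ι] (Δ : Set ι)
    (hind : ∀ i ∈ Δ, RootD.IsIndiv P i) (hli : LinearIndepOn ℤ P.root Δ)
    (hcone : ∀ k : ι, ∃ n : ℕ, 0 < n ∧
      (n • P.root k ∈ RootD.natSpan P Δ ∨ n • (-P.root k) ∈ RootD.natSpan P Δ)) :
    RootD.IsSimpleSys P Δ := by
  classical
  have hS := isPosSys_Sset hli hcone
  have hΔS : Δ ⊆ Sset P Δ := fun d hd =>
    ⟨1, one_pos, by rw [one_smul]; exact AddSubmonoid.subset_closure ⟨d, hd, rfl⟩⟩
  have hsub1 : Δ ⊆ indec (P := P) (Sset P Δ) := by
    intro δ hδ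
    refine ⟨hΔS hδ, ?_⟩
    rintro ⟨a, b, ⟨na, hna, ha⟩, ⟨nb, hnb, hb⟩, hab⟩
    set n : ℕ := na * nb with hn
    have hnpos : 0 < n := Nat.mul_pos hna hnb
    have ea : n • P.root a ∈ natSpan P Δ := by
      rw [hn, mul_comm, mul_smul]; exact AddSubmonoid.nsmul_mem _ ha _
    have eb : n • P.root b ∈ natSpan P Δ := by
      rw [hn, mul_smul]; exact AddSubmonoid.nsmul_mem _ hb _
    obtain ⟨ca, hca, hcan, hlca⟩ := natSpan_coef ea
    obtain ⟨cb, hcb, hcbn, hlcb⟩ := natSpan_coef eb
    have hsum : ca + cb = Finsupp.single δ (n : ℤ) := by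
      have := linearIndepOn_iff.mp hli (ca + cb - Finsupp.single δ (n : ℤ))
        (Submodule.sub_mem _ (Submodule.add_mem _ hca hcb) (Finsupp.single_mem_supported ℤ _ hδ))
        (by
          rw [map_sub, map_add, hlca, hlcb, Finsupp.linearCombination_single, ← smul_add, ← hab,
            natCast_zsmul, sub_self])
      exact sub_eq_zero.mp this
    have hca0 : ∀ j, j ≠ δ → ca j = 0 := by
      intro j hj
      have := congrArg (fun f => f j) hsum
      simp only [Finsupp.coe_add, Pi.add_apply, Finsupp.single_eq_of_ne hj] at this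
      have := hcan j; have := hcbn j; omega
    have hca_eq : ca = Finsupp.single δ (ca δ) := by
      ext j
      by_cases hj : j = δ
      · subst hj; simp
      · rw [Finsupp.single_eq_of_ne hj, hca0 j hj]
    have hsδ := congrArg (fun f => f δ) hsum
    simp only [Finsupp.coe_add, Pi.add_apply, Finsupp.single_eq_same] at hsδ
    set p := ca δ with hp
    have hpa : (n : ℤ) • P.root a = p • P.root δ := by
      rw [natCast_zsmul, ← hlca, hca_eq, Finsupp.linearCombination_single]
    -- p ≠ 0, p ≠ n
    have hp0 : p ≠ 0 := by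
      intro h0
      rw [h0, zero_smul] at hpa
      have : (n : ℤ) • P.root a = (n : ℤ) • (0 : M) := by rw [hpa, smul_zero]
      exact P.ne_zero a (zsmul_cancel P (by exact_mod_cast hnpos.ne') this)
    have hq0 : cb δ ≠ 0 := by
      intro h0
      have hcb0 : cb = 0 := by
        ext j
        by_cases hj : j = δ
        · subst hj; simpa using h0
        · have := congrArg (fun f => f j) hsum
          simp only [Finsupp.coe_add, Pi.add_apply, Finsupp.single_eq_of_ne hj] at this
          have := hcan j; have := hcbn j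
          simp only [Finsupp.coe_zero, Pi.zero_apply]; omega
      rw [hcb0, map_zero] at hlcb
      have : n • P.root b = n • (0 : M) := by rw [← hlcb, smul_zero]
      exact P.ne_zero b (nsmul_cancel P hnpos.ne' this)
    have hp_pos : 0 < p := lt_of_le_of_ne (hcan δ) (Ne.symm hp0)
    have hq_pos : 0 < cb δ := lt_of_le_of_ne (hcbn δ) (Ne.symm hq0)
    -- apply the coroot of δ
    have hpair := congrArg (fun x => P.toLinearMap x (P.coroot δ)) hpa
    simp only [map_smul, LinearMap.smul_apply, RootPairing.root_coroot_eq_pairing,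
      RootPairing.pairing_same, smul_eq_mul] at hpair
    set t := P.pairing a δ with ht
    have ht1 : t = 1 := by
      rcases lt_trichotomy t 1 with h | h | h
      · have : t ≤ 0 := by omega
        nlinarith
      · exact h
      · have : 2 ≤ t := by omega
        nlinarith
    rw [ht1, mul_one] at hpair
    have h2 : p • ((2 : ℤ) • P.root a) = p • P.root δ := by
      rw [← hpa, smul_smul, hpair]
    exact hind δ hδ a (zsmul_cancel P hp0 h2)
  have hsub2 : indec (P := P) (Sset P Δ) ⊆ Δ := by
    intro k hk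
    by_contra hkΔ
    obtain ⟨n, hn, hkn⟩ := hk.1
    obtain ⟨c, hc, hcn, hlc⟩ := natSpan_coef hkn
    have hsupp : c - Finsupp.single k (n : ℤ) ∈
        Finsupp.supported ℤ ℤ (indec (P := P) (Sset P Δ)) :=
      Submodule.sub_mem _ (Finsupp.supported_mono hsub1 hc) (Finsupp.single_mem_supported ℤ _ hk)
    have := linearIndepOn_iff.mp (linIndep_indec hS) _ hsupp
      (by rw [map_sub, hlc, Finsupp.linearCombination_single, natCast_zsmul, sub_self])
    have hk' := congrArg (fun f => f k) this
    have hck : c k = 0 := by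
      by_contra hne
      exact hkΔ (hc (Finsupp.mem_support_iff.mpr hne))
    simp only [Finsupp.coe_sub, Pi.sub_apply, Finsupp.single_eq_same, hck,
      Finsupp.coe_zero, Pi.zero_apply] at hk'
    omega
  have heq : indec (P := P) (Sset P Δ) = Δ := Set.Subset.antisymm hsub2 hsub1
  have hsim := isSimpleSys_indec hS
  rw [heq] at hsim
  exact hsim

end Groth.Agent.S5446
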