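import Groth.Statements.S5447
import Groth.Agent.H8.PosSys
-- import your own Groth.Agent.* helpers here

set_option autoImplicit false
open RootD

namespace Groth.Agent.S5447

/-- If every root can be written in exactly one way as an integer combination of the roots indexed by Δ
with coefficients all of the same sign, then these roots are linearly independent (so Δ is a system
of simple roots) and indivisible. -/
theorem result {ι M N : Type*} [AddCommGroup M] [AddCommGroup N]
    (P : RootPairing ι ℤ M N) [Finite ι] (Δ : Set ι)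
    (h : ∀ k : ι, ∃! c : ι →₀ ℤ, (↑c.support ⊆ Δ ∧ ((∀ j, 0 ≤ c j) ∨ (∀ j, c j ≤ 0)) ∧
      Finsupp.linearCombination ℤ P.root c = P.root k)) :
    RootD.IsSimpleSys P Δ ∧ ∀ i ∈ Δ, RootD.IsIndiv P i := by
  classical
  have hsuppS : ∀ {c : ι →₀ ℤ}, (↑c.support ⊆ Δ) ↔ c ∈ Finsupp.supported ℤ ℤ Δ :=
    fun {c} => (Finsupp.mem_supported ℤ c).symm
  have hsingle : ∀ d ∈ Δ, ↑(Finsupp.single d (1 : ℤ)).support ⊆ Δ := by
    intro d hd x hx
    have := Finsupp.support_single_subset hx
    simp only [Finset.mem_singleton] at this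
    rw [this]; exact hd
  have hsingle_nn : ∀ d : ι, ∀ j, 0 ≤ (Finsupp.single d (1 : ℤ)) j := by
    intro d j; rw [Finsupp.single_apply]; split_ifs <;> norm_num
  have hsimple : ∀ d ∈ Δ, ∀ c : ι →₀ ℤ, ↑c.support ⊆ Δ → (∀ j, 0 ≤ c j) →
      Finsupp.linearCombination ℤ P.root c = P.root d → c = Finsupp.single d 1 := by
    intro d hd c hc hnn hlc
    exact (h d).unique ⟨hc, Or.inl hnn, hlc⟩
      ⟨hsingle d hd, Or.inl (hsingle_nn d), by simp⟩
  have hobt : ∀ a ∈ Δ, ∀ b ∈ Δ, a ≠ b → P.pairing a b ≤ 0 := by
    intro a ha b hb hab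
    by_contra hpos
    push Not at hpos
    obtain ⟨k, hk⟩ := P.root_sub_root_mem_of_pairingIn_pos (i := a) (j := b)
      (by rw [Groth.Agent.H8.pairingIn_eq]; exact hpos) hab
    obtain ⟨c, ⟨hcs, hsign, hlc⟩, _⟩ := h k
    rcases hsign with hnn | hnp
    · have h1 := hsimple a ha (c + Finsupp.single b 1)
        (hsuppS.mpr (Submodule.add_mem _ (hsuppS.mp hcs)
          (Finsupp.single_mem_supported ℤ 1 hb)))
        (fun j => by
          simp only [Finsupp.coe_add, Pi.add_apply]
          exact add_nonneg (hnn j) (hsingle_nn b j))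
        (by rw [map_add, hlc, Finsupp.linearCombination_single, one_smul, hk]; abel)
      have hb' := congrArg (fun f => f b) h1
      simp only [Finsupp.coe_add, Pi.add_apply, Finsupp.single_eq_same] at hb'
      rw [Finsupp.single_eq_of_ne (Ne.symm hab)] at hb'
      have := hnn b
      omega
    · have h1 := hsimple b hb (-c + Finsupp.single a 1)
        (hsuppS.mpr (Submodule.add_mem _ (Submodule.neg_mem _ (hsuppS.mp hcs))
          (Finsupp.single_mem_supported ℤ 1 ha)))
        (fun j => by
          simp only [Finsupp.coe_add, Finsupp.coe_neg, Pi.add_apply, Pi.neg_apply]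
          have := hnp j
          have := hsingle_nn a j
          omega)
        (by rw [map_add, map_neg, hlc, Finsupp.linearCombination_single, one_smul, hk]; abel)
      have ha' := congrArg (fun f => f a) h1
      simp only [Finsupp.coe_add, Finsupp.coe_neg, Pi.add_apply, Pi.neg_apply,
        Finsupp.single_eq_same] at ha'
      rw [Finsupp.single_eq_of_ne hab] at ha'
      have := hnp a
      omega
  -- a non-negative combination of Δ which vanishes is trivial
  have hnn0 : ∀ c : ι →₀ ℤ, c ∈ Finsupp.supported ℤ ℤ Δ → (∀ j, 0 ≤ c j) →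
      Finsupp.linearCombination ℤ P.root c = 0 → c = 0 := by
    intro c hc hnn h0
    by_contra hne
    obtain ⟨d, hd⟩ : ∃ d, c d ≠ 0 := by
      by_contra hh
      push Not at hh
      exact hne (Finsupp.ext hh)
    have hdΔ : d ∈ Δ := hc (Finsupp.mem_support_iff.mpr hd)
    have h1 := hsimple d hdΔ (c + Finsupp.single d 1)
      (hsuppS.mpr (Submodule.add_mem _ hc (Finsupp.single_mem_supported ℤ 1 hdΔ)))
      (fun j => by
        simp only [Finsupp.coe_add, Pi.add_apply]
        exact add_nonneg (hnn j) (hsingle_nn d j))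
      (by rw [map_add, h0, zero_add, Finsupp.linearCombination_single, one_smul])
    have hd' := congrArg (fun f => f d) h1
    simp only [Finsupp.coe_add, Pi.add_apply, Finsupp.single_eq_same] at hd'
    omega
  have hlin : LinearIndepOn ℤ P.root Δ := by
    rw [linearIndepOn_iff]
    intro c hc h0
    obtain ⟨cp, cn, hcpn, hcp0, hcn0, hdisj, hsp, hsn⟩ := Groth.Agent.H8.exists_pos_neg_parts c
    have hcpS : cp ∈ Finsupp.supported ℤ ℤ Δ := fun j hj =>
      hc (Finsupp.mem_support_iff.mpr (hsp j (Finsupp.mem_support_iff.mp hj)))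
    have hcnS : cn ∈ Finsupp.supported ℤ ℤ Δ := fun j hj =>
      hc (Finsupp.mem_support_iff.mpr (hsn j (Finsupp.mem_support_iff.mp hj)))
    have hx : Finsupp.linearCombination ℤ P.root cp = Finsupp.linearCombination ℤ P.root cn := by
      have := h0; rw [hcpn, map_sub, sub_eq_zero] at this; exact this
    have h1 := Groth.Agent.H8.lc_eq_zero_of_obtuse hobt hcp0 hcn0 hdisj hcpS hcnS hx
    have hcp_0 := hnn0 cp hcpS hcp0 h1
    have hcn_0 := hnn0 cn hcnS hcn0 (by rw [← hx, h1])
    rw [hcpn, hcp_0, hcn_0, sub_zero]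
  refine ⟨⟨hlin, ?_⟩, ?_⟩
  · intro k
    obtain ⟨c, ⟨hcs, hsign, hlc⟩, _⟩ := h k
    rcases hsign with hnn | hnp
    · left
      rw [← hlc]
      exact Groth.Agent.H8.lc_mem_natSpan hnn (hsuppS.mp hcs)
    · right
      have : -P.root k = Finsupp.linearCombination ℤ P.root (-c) := by rw [map_neg, hlc]
      rw [this]
      exact Groth.Agent.H8.lc_mem_natSpan (fun j => by simp only [Finsupp.coe_neg, Pi.neg_apply]; have := hnp j; omega)
        (Submodule.neg_mem _ (hsuppS.mp hcs))
  · intro d hd j hj
    obtain ⟨c, ⟨hcs, hsign, hlc⟩, _⟩ := h j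
    have hrep : (2 : ℤ) • c = Finsupp.single d 1 := by
      apply (h d).unique
      · refine ⟨?_, ?_, ?_⟩
        · exact hsuppS.mpr (Submodule.smul_mem _ _ (hsuppS.mp hcs))
        · rcases hsign with hnn | hnp
          · left; intro l; simp only [Finsupp.coe_smul, Pi.smul_apply, smul_eq_mul]; have := hnn l; omega
          · right; intro l; simp only [Finsupp.coe_smul, Pi.smul_apply, smul_eq_mul]; have := hnp l; omega
        · rw [map_smul, hlc, hj]
      · exact ⟨hsingle d hd, Or.inl (hsingle_nn d), by simp⟩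
    have hd' := congrArg (fun f => f d) hrep
    simp only [Finsupp.coe_smul, Pi.smul_apply, smul_eq_mul, Finsupp.single_eq_same] at hd'
    omega

end Groth.Agent.S5447
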