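import Groth.Statements.S5448
-- import your own Groth.Agent.* helpers here

set_option autoImplicit false
open RootD

namespace Groth.Agent.S5448

/-- The elements of a system of simple roots (root-only sense) are indivisible, i.e. none of them is
twice a root. -/
theorem result {ι M N : Type*} [AddCommGroup M] [AddCommGroup N]
    (P : RootPairing ι ℤ M N) [Finite ι] (Δ : Set ι) (hΔ : RootD.IsSimpleSys P Δ)
    (i : ι) (hi : i ∈ Δ) : RootD.IsIndiv P i := by
  intro j hj
  have hli : LinearIndependent ℤ (fun d : Δ => P.root d) := hΔ.linInd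
  have hsub : ∀ x ∈ RootD.natSpan P Δ,
      x ∈ Submodule.span ℤ (Set.range (fun d : Δ => P.root d)) := by
    intro x hx
    have hle : RootD.natSpan P Δ ≤
        (Submodule.span ℤ (Set.range (fun d : Δ => P.root d))).toAddSubmonoid := by
      unfold RootD.natSpan
      rw [AddSubmonoid.closure_le]
      rintro _ ⟨d, hd, rfl⟩
      exact Submodule.subset_span ⟨⟨d, hd⟩, rfl⟩
    exact hle hx
  have hjs : P.root j ∈ Submodule.span ℤ (Set.range (fun d : Δ => P.root d)) := by
    rcases hΔ.mem_or_neg_mem j with h | h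
    · exact hsub _ h
    · have := Submodule.neg_mem _ (hsub _ h)
      simpa using this
  have his : P.root i ∈ Submodule.span ℤ (Set.range (fun d : Δ => P.root d)) :=
    Submodule.subset_span ⟨⟨i, hi⟩, rfl⟩
  have e : (⟨P.root i, his⟩ : Submodule.span ℤ (Set.range (fun d : Δ => P.root d))) =
      (2 : ℤ) • ⟨P.root j, hjs⟩ := by
    ext
    simp [hj]
  have h1 := congrArg (fun y => hli.repr y ⟨i, hi⟩) e
  simp only [map_smul] at h1
  rw [hli.repr_eq_single ⟨i, hi⟩ ⟨P.root i, his⟩ rfl] at h1
  simp only [Finsupp.single_eq_same, Finsupp.smul_apply, smul_eq_mul] at h1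
  omega

end Groth.Agent.S5448
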