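import Groth.Statements.S5451
import Groth.Agent.H8.RootLib
-- import your own Groth.Agent.* helpers here

set_option autoImplicit false
open RootD

namespace Groth.Agent.S5451

/-- If a root is a positive integer combination of roots α_i, then it can be reached from 0 by
successively adding roots taken among the α_i in such a way that every partial sum is a root. -/
theorem result {ι M N : Type*} [AddCommGroup M] [AddCommGroup N]
    (P : RootPairing ι ℤ M N) [Finite ι] {n : ℕ} (a : Fin n → ι) (m : Fin n → ℕ)
    (hm : ∀ i, 0 < m i) (k : ι) (hk : P.root k = ∑ i, m i • P.root (a i)) :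
    ∃ (l : ℕ) (b : Fin l → Fin n), 0 < l ∧
      (∀ p : Fin l, ∃ j : ι, P.root j = ∑ q ∈ Finset.univ.filter (fun q : Fin l => q.val ≤ p.val), P.root (a (b q))) ∧
      P.root k = ∑ q, P.root (a (b q)) := by
  classical
  have := Fintype.ofFinite ι
  have key : ∀ s : ℕ, ∀ (m : Fin n → ℕ) (k : ι), ∑ i, m i = s →
      P.root k = ∑ i, m i • P.root (a i) →
      ∃ (l : ℕ) (c : ℕ → Fin n), 0 < l ∧
        (∀ p < l, ∃ j : ι, P.root j = ∑ t ∈ Finset.range (p + 1), P.root (a (c t))) ∧
        P.root k = ∑ t ∈ Finset.range l, P.root (a (c t)) := by
    intro s
    induction s with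
    | zero =>
      intro m k hs hk
      exfalso
      have h0 : ∀ i, m i = 0 := fun i => by
        have := Finset.single_le_sum (f := m) (fun _ _ => Nat.zero_le _) (Finset.mem_univ i)
        omega
      simp [h0] at hk
      exact P.ne_zero k hk
    | succ s ih =>
      intro m k hs hk
      obtain ⟨i, hi0, hi⟩ : ∃ i, 0 < m i ∧ 0 < P.RootForm (P.root k) (P.root (a i)) := by
        by_contra hcon
        push Not at hcon
        have e : P.RootForm (P.root k) (P.root k) =
            ∑ i, (m i : ℤ) * P.RootForm (P.root k) (P.root (a i)) := by
          have : P.RootForm (P.root k) (P.root k) =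
              P.RootForm (P.root k) (∑ i, m i • P.root (a i)) := by rw [← hk]
          rw [this, map_sum]
          simp [map_nsmul]
        have hle : ∑ i, (m i : ℤ) * P.RootForm (P.root k) (P.root (a i)) ≤ 0 := by
          apply Finset.sum_nonpos
          intro i _
          rcases Nat.eq_zero_or_pos (m i) with h | h
          · rw [h]; simp
          · exact mul_nonpos_of_nonneg_of_nonpos (by positivity) (hcon i h)
        have := Groth.Agent.H8.rootForm_root_pos P k
        linarith
      have hpair : 0 < P.pairing k (a i) :=
        (Groth.Agent.H8.pairing_pos_iff_rootForm_pos P (a i) k).mpr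
          (by rw [Groth.Agent.H8.rootForm_comm]; exact hi)
      by_cases hki : k = a i
      · refine ⟨1, fun _ => i, one_pos, ?_, ?_⟩
        · intro p hp
          refine ⟨a i, ?_⟩
          have : p = 0 := by omega
          subst this
          simp
        · simp [hki]
      · obtain ⟨k', hk'⟩ := P.root_sub_root_mem_of_pairingIn_pos (i := k) (j := a i)
          (by rw [Groth.Agent.H8.pairingIn_eq]; exact hpair) hki
        set m' : Fin n → ℕ := fun j => if j = i then m i - 1 else m j with hm'
        have hmm : ∀ j, m j = m' j + (if j = i then 1 else 0) := by
          intro j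
          by_cases hj : j = i
          · subst hj; simp only [hm', if_true]; omega
          · simp [hm', hj]
        have hsum : ∑ j, m j = ∑ j, m' j + 1 := by
          rw [Finset.sum_congr rfl (fun j _ => hmm j), Finset.sum_add_distrib]
          simp
        have hs' : ∑ j, m' j = s := by omega
        have hk'' : P.root k' = ∑ j, m' j • P.root (a j) := by
          rw [hk', hk, Finset.sum_congr rfl (fun j _ => by rw [hmm j]), ]
          simp only [add_smul, Finset.sum_add_distrib]
          simp [ite_smul]
        obtain ⟨l', c', hl', hpart, htot⟩ := ih m' k' hs' hk''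
        refine ⟨l' + 1, fun t => if t < l' then c' t else i, by omega, ?_, ?_⟩
        · intro p hp
          by_cases hpl : p < l'
          · obtain ⟨j, hj⟩ := hpart p hpl
            refine ⟨j, ?_⟩
            rw [hj]
            apply Finset.sum_congr rfl
            intro t ht
            rw [Finset.mem_range] at ht
            have : t < l' := by omega
            simp [this]
          · have hpe : p = l' := by omega
            subst hpe
            refine ⟨k, ?_⟩
            rw [Finset.sum_range_succ]
            simp only [lt_irrefl, if_false]
            have e : ∑ t ∈ Finset.range p, P.root (a (if t < p then c' t else i)) =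
                ∑ t ∈ Finset.range p, P.root (a (c' t)) :=
              Finset.sum_congr rfl (fun t ht => by rw [Finset.mem_range] at ht; simp [ht])
            rw [e, ← htot, hk']
            abel
        · rw [Finset.sum_range_succ]
          simp only [lt_irrefl, if_false]
          have e : ∑ t ∈ Finset.range l', P.root (a (if t < l' then c' t else i)) =
              ∑ t ∈ Finset.range l', P.root (a (c' t)) :=
            Finset.sum_congr rfl (fun t ht => by rw [Finset.mem_range] at ht; simp [ht])
          rw [e, ← htot, hk']
          abel
  obtain ⟨l, c, hl, hpart, htot⟩ := key _ m k rfl hk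
  refine ⟨l, fun q => c q.val, hl, ?_, ?_⟩
  · intro p
    obtain ⟨j, hj⟩ := hpart p.val p.isLt
    refine ⟨j, ?_⟩
    rw [hj, Finset.sum_filter]
    rw [Fin.sum_univ_eq_sum_range (fun t => if t ≤ p.val then P.root (a (c t)) else 0) l,
      ← Finset.sum_filter]
    apply Finset.sum_congr _ (fun _ _ => rfl)
    ext t
    simp only [Finset.mem_range, Finset.mem_filter]
    have := p.isLt
    omega
  · rw [htot]
    exact (Fin.sum_univ_eq_sum_range (fun t => P.root (a (c t))) l).symm

end Groth.Agent.S5451
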