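import Groth.Statements.S5466
import Groth.Agent.H8.RootLib
-- import your own Groth.Agent.* helpers here

set_option autoImplicit false
open RootD

namespace Groth.Agent.S5466

/-- The reflection in a simple root β maps every positive root not proportional to β to a positive root. -/
theorem result {ι M N : Type*} [AddCommGroup M] [AddCommGroup N]
    (P : RootPairing ι ℤ M N) [Finite ι] (Δ : Set ι) (hΔ : RootD.IsSimpleSys P Δ)
    (k i : ι) (hk : k ∈ RootD.posOf P Δ) (hi : i ∈ Δ)
    (hli : LinearIndependent ℤ ![P.root k, P.root i]) :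
    P.reflectionPerm i k ∈ RootD.posOf P Δ := by
  obtain ⟨j, hji, hpos⟩ := Groth.Agent.H8.exists_coef_pos_ne hΔ hk hli
  apply Groth.Agent.H8.mem_posOf_of_pos hΔ (j := j)
  rw [Groth.Agent.H8.coef_reflectionPerm, Groth.Agent.H8.coef_simple hΔ hi]
  simp only [Finsupp.coe_sub, Finsupp.coe_smul, Pi.sub_apply, Pi.smul_apply, smul_eq_mul]
  rw [Finsupp.single_eq_of_ne hji, mul_zero, sub_zero]
  exact hpos

end Groth.Agent.S5466
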