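import Groth.Statements.S5454
import Groth.Agent.H8.PosSys
import Groth.Agent.S5449
import Groth.Agent.S5466
-- import your own Groth.Agent.* helpers here

set_option autoImplicit false
open RootPairing
open scoped Pointwise
open RootD

namespace Groth.Agent.S5454

/-- The Weyl group acts transitively on the set of systems of positive roots. -/
theorem result {ι M N : Type*} [AddCommGroup M] [AddCommGroup N]
    (P : RootPairing ι ℤ M N) [Finite ι] (S S' : Set ι) (hS : RootD.IsPosSys P S)
    (hS' : RootD.IsPosSys P S') :
    ∃ g : P.Aut, g ∈ P.weylGroup ∧ (fun i : ι => g • i) '' S = S' := by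
  classical
  have := Fintype.ofFinite ι
  have hbase : ∀ T : Set ι, RootD.IsPosSys P T → T ⊆ S' → T = S' := by
    intro T hT hsub
    apply Set.Subset.antisymm hsub
    intro k hk
    by_contra hkT
    exact hS'.disjoint hk (hsub ((hT.cover k).resolve_left hkT))
  suffices H : ∀ n : ℕ, ∀ T : Set ι, RootD.IsPosSys P T → (T \ S').ncard ≤ n →
      ∃ g : P.Aut, g ∈ P.weylGroup ∧ (fun i : ι => g • i) '' T = S' from H _ S hS le_rfl
  intro n
  induction n with
  | zero =>
    intro T hT hn
    have hsub : T ⊆ S' := by
      have : T \ S' = ∅ := (Set.ncard_eq_zero (Set.toFinite _)).mp (by omega)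
      exact Set.sdiff_eq_empty.mp this
    refine ⟨1, one_mem _, ?_⟩
    simp only [one_smul, Set.image_id']
    exact hbase T hT hsub
  | succ n ih =>
    intro T hT hn
    by_cases hsub : T ⊆ S'
    · refine ⟨1, one_mem _, ?_⟩
      simp only [one_smul, Set.image_id']
      exact hbase T hT hsub
    · set Δ := Groth.Agent.H8.indec (P := P) T with hΔdef
      have hΔ : RootD.IsSimpleSys P Δ := Groth.Agent.H8.isSimpleSys_indec hT
      have hΔT : Δ ⊆ T := Groth.Agent.H8.indec_subset
      have hTpos : T = RootD.posOf P Δ := ((Groth.Agent.S5449.result P Δ hΔ T hT).2).mp hΔT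
      have hex : ∃ i ∈ Δ, i ∉ S' := by
        by_contra h
        push Not at h
        have h2 := ((Groth.Agent.S5449.result P Δ hΔ S' hS').2).mp h
        apply hsub
        rw [h2, ← hTpos]
      obtain ⟨i, hi, hiS'⟩ := hex
      have hnegi : P.reflectionPerm i i ∈ S' := (hS'.cover i).resolve_left hiS'
      set T₁ := (fun k : ι => RootPairing.Equiv.reflection P i • k) '' T with hT₁
      have hT₁pos := Groth.Agent.H8.isPosSys_image (RootPairing.Equiv.reflection P i) hT
      have hsub1 : T₁ \ S' ⊆ (T \ S') \ {i} := by
        rintro _ ⟨⟨m, hm, rfl⟩, hk⟩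
        simp only [Groth.Agent.H8.reflection_smul_idx] at hk ⊢
        have hmpos : m ∈ RootD.posOf P Δ := hTpos ▸ hm
        by_cases hli : LinearIndependent ℤ ![P.root m, P.root i]
        · have h1 := Groth.Agent.S5466.result P Δ hΔ m i hmpos hi hli
          refine ⟨⟨hTpos ▸ h1, hk⟩, ?_⟩
          intro heq
          rw [Set.mem_singleton_iff] at heq
          have h2 : P.reflectionPerm i (P.reflectionPerm i m) = P.reflectionPerm i i := by
            rw [heq]
          rw [RootPairing.reflectionPerm_self] at h2
          exact hT.disjoint (hΔT hi) (h2 ▸ hm)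
        · exfalso
          rcases Groth.Agent.H8.dep_simple hΔ hmpos hi hli with h | h
          · have hmi : m = i := P.root.injective h
            apply hk; rw [hmi]; exact hnegi
          · apply hk
            apply hS'.sat 1 one_pos
            rw [one_smul, RootPairing.root_reflectionPerm, h, map_zsmul,
              RootPairing.reflection_apply_self, ← Groth.Agent.H8.root_neg, two_zsmul, ← two_nsmul]
            exact AddSubmonoid.nsmul_mem _
              (AddSubmonoid.subset_closure (Set.mem_image_of_mem P.root hnegi)) 2
      have hlt : (T₁ \ S').ncard < (T \ S').ncard :=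
        calc (T₁ \ S').ncard ≤ ((T \ S') \ {i}).ncard := Set.ncard_le_ncard hsub1 (Set.toFinite _)
          _ < (T \ S').ncard := Set.ncard_sdiff_singleton_lt_of_mem ⟨hΔT hi, hiS'⟩ (Set.toFinite _)
      obtain ⟨g, hg, hgT⟩ := ih T₁ hT₁pos (by omega)
      refine ⟨g * RootPairing.Equiv.reflection P i, mul_mem hg (P.reflection_mem_weylGroup i), ?_⟩
      rw [← hgT, hT₁, Set.image_image]
      simp only [mul_smul]

end Groth.Agent.S5454
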