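import Groth.Statements.S5455
import Groth.Agent.H8.PosSys
import Groth.Agent.S5445
import Groth.Agent.S5454
-- import your own Groth.Agent.* helpers here

set_option autoImplicit false
open RootPairing
open scoped Pointwise
open RootD

namespace Groth.Agent.S5455

/-- The Weyl group acts transitively on the set of systems of simple roots (root-only sense). -/
theorem result {ι M N : Type*} [AddCommGroup M] [AddCommGroup N]
    (P : RootPairing ι ℤ M N) [Finite ι] (Δ Δ' : Set ι) (hΔ : RootD.IsSimpleSys P Δ)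
    (hΔ' : RootD.IsSimpleSys P Δ') :
    ∃ g : P.Aut, g ∈ P.weylGroup ∧ (fun i : ι => g • i) '' Δ = Δ' := by
  have hp := Groth.Agent.H8.isPosSys_posOf hΔ
  have hp' := Groth.Agent.H8.isPosSys_posOf hΔ'
  obtain ⟨g, hg, hgS⟩ := Groth.Agent.S5454.result P _ _ hp hp'
  refine ⟨g, hg, ?_⟩
  have hsimp := Groth.Agent.H8.isSimpleSys_image g hΔ
  have hsub : (fun i : ι => g • i) '' Δ ⊆ RootD.posOf P Δ' := by
    rw [← hgS]
    exact Set.image_mono (fun d hd => Groth.Agent.H8.simple_mem_posOf hd)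
  obtain ⟨Δ₀, _, huniq⟩ := Groth.Agent.S5445.result P (RootD.posOf P Δ') hp'
  have h1 := huniq _ ⟨hsimp, hsub⟩
  have h2 := huniq Δ' ⟨hΔ', fun d hd => Groth.Agent.H8.simple_mem_posOf hd⟩
  rw [h1, h2]

end Groth.Agent.S5455
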