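import Groth.Statements.S5460
import Groth.Agent.H8.Face
-- import your own Groth.Agent.* helpers here

set_option autoImplicit false
open RootD

namespace Groth.Agent.S5460

/-- A set of roots R' is the trace on R of a vector subspace (every root with a positive multiple in the
span of R' lies in R') if and only if R' is the set of roots in the span of a subset Δ' of some
system of simple roots Δ. -/
theorem result {ι M N : Type*} [AddCommGroup M] [AddCommGroup N]
    (P : RootPairing ι ℤ M N) [Finite ι] (R' : Set ι) :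
    (∀ k : ι, (∃ n : ℕ, 0 < n ∧ n • P.root k ∈ Submodule.span ℤ (P.root '' R')) → k ∈ R') ↔
      ∃ Δ Δ' : Set ι, RootD.IsSimpleSys P Δ ∧ Δ' ⊆ Δ ∧ R' = RootD.inSpan P Δ' := by
  classical
  have := Fintype.ofFinite ι
  constructor
  · intro h
    have htr : Groth.Agent.H8.traceSet P R' = R' :=
      Set.Subset.antisymm (fun k hk => h k hk) (Groth.Agent.H8.subset_traceSet P R')
    set φ := Groth.Agent.H8.faceHom P (∅ : Set ι) with hφdef
    have hφ0 : ∀ k ∈ Groth.Agent.H8.traceSet P R', φ (P.root k) ≠ 0 := by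
      intro k _ h0
      obtain ⟨n, hn, hmem⟩ := (Groth.Agent.H8.faceHom_root_eq_zero_iff P ∅ k).mp h0
      rw [Set.image_empty, Submodule.span_empty, Submodule.mem_bot] at hmem
      have : n • P.root k = n • (0 : M) := by rw [hmem, smul_zero]
      exact P.ne_zero k (Groth.Agent.H8.nsmul_cancel P hn.ne' this)
    set S := Groth.Agent.H8.facePos P R' φ with hSdef
    have hS : IsPosSys P S := Groth.Agent.H8.isPosSys_facePos P R' φ hφ0
    set Δ := Groth.Agent.H8.indec (P := P) S with hΔdef
    have hΔ : IsSimpleSys P Δ := Groth.Agent.H8.isSimpleSys_indec hS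
    refine ⟨Δ, {d | d ∈ Δ ∧ d ∈ R'}, hΔ, fun d hd => hd.1, ?_⟩
    have hpos : ∀ k ∈ R', k ∈ S → P.root k ∈ Submodule.span ℤ (P.root '' {d | d ∈ Δ ∧ d ∈ R'}) := by
      intro k hkR hkS
      have hmem := Groth.Agent.H8.mem_natSpan_indec hS hkS
      obtain ⟨c, hc, hcn, hlc⟩ := Groth.Agent.H8.natSpan_coef hmem
      have htrk : Groth.Agent.H8.faceHom P R' (P.root k) = 0 :=
        (Groth.Agent.H8.faceHom_root_eq_zero_iff P R' k).mpr (by rw [htr]; exact hkR)
      have hcS : c ∈ Finsupp.supported ℤ ℤ S :=
        Finsupp.supported_mono (Groth.Agent.H8.indec_subset (P := P)) hc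
      have hall := Groth.Agent.H8.trace_of_lc P R' φ htrk hcS hcn hlc
      rw [Finsupp.mem_span_image_iff_linearCombination]
      refine ⟨c, ?_, hlc⟩
      intro j hj
      have hj' : c j ≠ 0 := Finsupp.mem_support_iff.mp hj
      have := hall j hj'
      rw [htr] at this
      exact ⟨hc hj, this⟩
    ext k
    constructor
    · intro hk
      show P.root k ∈ Submodule.span ℤ (P.root '' {d | d ∈ Δ ∧ d ∈ R'})
      rcases hS.cover k with hkS | hkS
      · exact hpos k hk hkS
      · have hk' : P.reflectionPerm k k ∈ R' := by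
          apply h
          refine ⟨1, one_pos, ?_⟩
          rw [one_smul, Groth.Agent.H8.root_neg]
          exact Submodule.neg_mem _ (Submodule.subset_span ⟨k, hk, rfl⟩)
        have := Submodule.neg_mem _ (hpos _ hk' hkS)
        rw [Groth.Agent.H8.root_neg, neg_neg] at this
        exact this
    · intro hk
      apply h
      refine ⟨1, one_pos, ?_⟩
      rw [one_smul]
      exact Submodule.span_mono (Set.image_mono (fun d hd => hd.2)) hk
  · rintro ⟨Δ, Δ', hΔ, hsub, hR'⟩ k ⟨n, hn, hmem⟩
    rw [hR']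
    have hle : Submodule.span ℤ (P.root '' RootD.inSpan P Δ') ≤ Submodule.span ℤ (P.root '' Δ') := by
      rw [Submodule.span_le]
      rintro _ ⟨j, hj, rfl⟩
      exact hj
    rw [hR'] at hmem
    have hmem' := hle hmem
    obtain ⟨d, hd, hld⟩ := (Finsupp.mem_span_image_iff_linearCombination ℤ).mp hmem'
    have heq : (n : ℤ) • Groth.Agent.H8.coef hΔ k = d := by
      apply Groth.Agent.H8.eq_of_lc_eq hΔ (Submodule.smul_mem _ _ (Groth.Agent.H8.coef_supp hΔ k))
        (Finsupp.supported_mono hsub hd)
      rw [map_smul, Groth.Agent.H8.coef_spec, hld, natCast_zsmul]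
    rw [Groth.Agent.H8.mem_inSpan_iff hΔ hsub]
    intro j hj
    have hj' : Groth.Agent.H8.coef hΔ k j ≠ 0 := Finsupp.mem_support_iff.mp hj
    have : d j ≠ 0 := by
      rw [← heq]
      simp only [Finsupp.coe_smul, Pi.smul_apply, smul_eq_mul]
      exact mul_ne_zero (by exact_mod_cast hn.ne') hj'
    exact hd (Finsupp.mem_support_iff.mpr this)

end Groth.Agent.S5460
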