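import Groth.Statements.S5461
import Groth.Agent.H8.Face
-- import your own Groth.Agent.* helpers here

set_option autoImplicit false
open RootD

namespace Groth.Agent.S5461

/-- If R' is the trace of a vector subspace on the roots, every system of simple roots Δ' of the root
datum with roots R' is contained in a system of simple roots Δ of the whole datum, and R' is the set
of roots in the span of Δ'. -/
theorem result {ι M N : Type*} [AddCommGroup M] [AddCommGroup N]
    (P : RootPairing ι ℤ M N) [Finite ι] (R' : Set ι)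
    (hsat : ∀ k : ι, (∃ n : ℕ, 0 < n ∧ n • P.root k ∈ Submodule.span ℤ (P.root '' R')) → k ∈ R')
    (Δ' : Set ι) (hΔ'R : Δ' ⊆ R') (hli : LinearIndepOn ℤ P.root Δ')
    (hgen : ∀ k ∈ R', P.root k ∈ RootD.natSpan P Δ' ∨ -P.root k ∈ RootD.natSpan P Δ') :
    ∃ Δ : Set ι, RootD.IsSimpleSys P Δ ∧ Δ' ⊆ Δ ∧ R' = RootD.inSpan P Δ' := by
  classical
  have := Fintype.ofFinite ι
  have htr : Groth.Agent.H8.traceSet P R' = R' :=
    Set.Subset.antisymm (fun k hk => hsat k hk) (Groth.Agent.H8.subset_traceSet P R')
  -- a vector pairing positively with every root of Δ'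
  set ρ : M := ∑ d ∈ Finset.univ.filter (fun d => d ∈ Δ'),
    Groth.Agent.H8.Wt P (Groth.Agent.H8.vsOf P (Δ' \ {d})) (P.root d) with hρ
  have hnotin : ∀ d ∈ Δ', ∀ n : ℕ, 0 < n →
      n • P.root d ∉ Submodule.span ℤ (P.root '' (Δ' \ {d})) := by
    intro d hd n hn hmem
    obtain ⟨c, hc, hlc⟩ := (Finsupp.mem_span_image_iff_linearCombination ℤ).mp hmem
    have hsupp : c - Finsupp.single d (n : ℤ) ∈ Finsupp.supported ℤ ℤ Δ' :=
      Submodule.sub_mem _ (Finsupp.supported_mono Set.sdiff_subset hc)
        (Finsupp.single_mem_supported ℤ _ hd)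
    have h0 := linearIndepOn_iff.mp hli _ hsupp
      (by rw [map_sub, hlc, Finsupp.linearCombination_single, natCast_zsmul, sub_self])
    have hd' := congrArg (fun f => f d) h0
    have hcd : c d = 0 := by
      by_contra hne
      have := hc (Finsupp.mem_support_iff.mpr hne)
      exact this.2 rfl
    simp only [Finsupp.coe_sub, Pi.sub_apply, Finsupp.single_eq_same, hcd, zero_sub,
      Finsupp.coe_zero, Pi.zero_apply, neg_eq_zero] at hd'
    omega
  have hρpos : ∀ d ∈ Δ', 0 < P.RootForm (P.root d) ρ := by
    intro d hd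
    rw [hρ, map_sum, Finset.sum_eq_single d]
    · have h1 := Groth.Agent.H8.Wt_nonneg P (Groth.Agent.H8.vsOf P (Δ' \ {d})) (P.root d)
      rcases h1.lt_or_eq with h | h
      · exact h
      · exfalso
        obtain ⟨n, hn, hmem⟩ := (Groth.Agent.H8.Wt_eq_zero_iff P _
          (Groth.Agent.H8.vsOf_mem_rootSpan P _)
          (Submodule.subset_span (Set.mem_range_self d))).mp h.symm
        rw [Groth.Agent.H8.span_vsOf] at hmem
        exact hnotin d hd n hn hmem
    · intro d' hd' hne
      apply Groth.Agent.H8.Wt_orth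
      rw [Groth.Agent.H8.span_vsOf]
      exact Submodule.subset_span ⟨d, ⟨hd, fun h => hne (Set.mem_singleton_iff.mp h).symm⟩, rfl⟩
    · intro h
      exact absurd (Finset.mem_filter.mpr ⟨Finset.mem_univ _, hd⟩) h
  let φ : M →+ ℤ :=
    { toFun := fun x => P.RootForm x ρ
      map_zero' := by simp
      map_add' := fun x y => by simp }
  have hφ : ∀ x : M, φ x = P.RootForm x ρ := fun _ => rfl
  -- non-negative non-zero combinations of Δ' pair positively with ρ
  have hpos_lc : ∀ c : ι →₀ ℤ, c ∈ Finsupp.supported ℤ ℤ Δ' → (∀ j, 0 ≤ c j) → c ≠ 0 →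
      0 < φ (Finsupp.linearCombination ℤ P.root c) := by
    intro c hc hcn hne
    rw [Finsupp.linearCombination_apply, map_finsuppSum]
    apply Finset.sum_pos
    · intro j hj
      show 0 < φ (c j • P.root j)
      rw [map_zsmul, smul_eq_mul, hφ]
      have hjΔ : j ∈ Δ' := hc hj
      exact mul_pos (lt_of_le_of_ne (hcn j) (Ne.symm (Finsupp.mem_support_iff.mp hj)))
        (hρpos j hjΔ)
    · exact Finsupp.support_nonempty_iff.mpr hne
  have hsign : ∀ k ∈ R', (0 < φ (P.root k) ∧ P.root k ∈ natSpan P Δ') ∨
      (φ (P.root k) < 0 ∧ -P.root k ∈ natSpan P Δ') := by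
    intro k hk
    rcases hgen k hk with h | h
    · left
      refine ⟨?_, h⟩
      obtain ⟨c, hc, hcn, hlc⟩ := Groth.Agent.H8.natSpan_coef h
      rw [← hlc]
      apply hpos_lc c hc hcn
      rintro rfl
      rw [map_zero] at hlc
      exact P.ne_zero k hlc.symm
    · right
      refine ⟨?_, h⟩
      obtain ⟨c, hc, hcn, hlc⟩ := Groth.Agent.H8.natSpan_coef h
      have : 0 < φ (-P.root k) := by
        rw [← hlc]
        apply hpos_lc c hc hcn
        rintro rfl
        rw [map_zero] at hlc
        exact P.ne_zero k (neg_eq_zero.mp hlc.symm)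
      rw [map_neg] at this
      linarith
  have hφ0 : ∀ k ∈ Groth.Agent.H8.traceSet P R', φ (P.root k) ≠ 0 := by
    intro k hk
    rw [htr] at hk
    rcases hsign k hk with h | h
    · exact h.1.ne'
    · exact h.1.ne
  set S := Groth.Agent.H8.facePos P R' φ with hSdef
  have hS : IsPosSys P S := Groth.Agent.H8.isPosSys_facePos P R' φ hφ0
  refine ⟨Groth.Agent.H8.indec (P := P) S, Groth.Agent.H8.isSimpleSys_indec hS, ?_, ?_⟩
  · intro d hd
    have hdR : d ∈ Groth.Agent.H8.traceSet P R' := by rw [htr]; exact hΔ'R hd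
    have hdS : d ∈ S := (Groth.Agent.H8.mem_facePos_of_trace P R' φ hdR).mpr (hρpos d hd)
    refine ⟨hdS, ?_⟩
    rintro ⟨a, b, ha, hb, hab⟩
    obtain ⟨haR, hbR⟩ := Groth.Agent.H8.trace_of_add P R' φ hdR ha hb hab
    have hapos := (Groth.Agent.H8.mem_facePos_of_trace P R' φ haR).mp ha
    have hbpos := (Groth.Agent.H8.mem_facePos_of_trace P R' φ hbR).mp hb
    rw [htr] at haR hbR
    have hanat : P.root a ∈ natSpan P Δ' := by
      rcases hsign a haR with h | h
      · exact h.2
      · exact absurd hapos (not_lt.mpr h.1.le)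
    have hbnat : P.root b ∈ natSpan P Δ' := by
      rcases hsign b hbR with h | h
      · exact h.2
      · exact absurd hbpos (not_lt.mpr h.1.le)
    obtain ⟨ca, hca, hcan, hlca⟩ := Groth.Agent.H8.natSpan_coef hanat
    obtain ⟨cb, hcb, hcbn, hlcb⟩ := Groth.Agent.H8.natSpan_coef hbnat
    have hsum : ca + cb = Finsupp.single d 1 := by
      have := linearIndepOn_iff.mp hli (ca + cb - Finsupp.single d 1)
        (Submodule.sub_mem _ (Submodule.add_mem _ hca hcb) (Finsupp.single_mem_supported ℤ _ hd))
        (by rw [map_sub, map_add, hlca, hlcb, Finsupp.linearCombination_single, one_smul, ← hab,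
          sub_self])
      exact sub_eq_zero.mp this
    have hoff : ∀ j, j ≠ d → ca j = 0 ∧ cb j = 0 := by
      intro j hj
      have := congrArg (fun f => f j) hsum
      simp only [Finsupp.coe_add, Pi.add_apply, Finsupp.single_eq_of_ne hj] at this
      have := hcan j; have := hcbn j
      constructor <;> omega
    have hdd := congrArg (fun f => f d) hsum
    simp only [Finsupp.coe_add, Pi.add_apply, Finsupp.single_eq_same] at hdd
    have hzero : ca = 0 ∨ cb = 0 := by
      have := hcan d; have := hcbn d
      rcases (show ca d = 0 ∨ cb d = 0 by omega) with h | h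
      · left
        ext j
        by_cases hj : j = d
        · subst hj; simpa using h
        · simpa using (hoff j hj).1
      · right
        ext j
        by_cases hj : j = d
        · subst hj; simpa using h
        · simpa using (hoff j hj).2
    rcases hzero with h | h
    · rw [h, map_zero] at hlca
      exact P.ne_zero a hlca.symm
    · rw [h, map_zero] at hlcb
      exact P.ne_zero b hlcb.symm
  · ext k
    constructor
    · intro hk
      show P.root k ∈ Submodule.span ℤ (P.root '' Δ')
      rcases hgen k hk with h | h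
      · exact Groth.Agent.H8.natSpan_le_span P Δ' h
      · have := Submodule.neg_mem _ (Groth.Agent.H8.natSpan_le_span P Δ' h)
        simpa using this
    · intro hk
      apply hsat k
      refine ⟨1, one_pos, ?_⟩
      rw [one_smul]
      exact Submodule.span_mono (Set.image_mono hΔ'R) hk

end Groth.Agent.S5461
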