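import Groth.Statements.S5462
import Groth.Agent.H8.RootLib
-- import your own Groth.Agent.* helpers here

set_option autoImplicit false
open RootPairing
open scoped Pointwise
open RootD

namespace Groth.Agent.S5462

/-- For Δ' contained in a system of simple roots Δ, the subgroup of the Weyl group generated by the
reflections in Δ' preserves the set of positive roots not lying in the span of Δ'. -/
theorem result {ι M N : Type*} [AddCommGroup M] [AddCommGroup N]
    (P : RootPairing ι ℤ M N) [Finite ι] (Δ Δ' : Set ι) (hΔ : RootD.IsSimpleSys P Δ) (hsub : Δ' ⊆ Δ)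
    (g : P.Aut) (hg : g ∈ Subgroup.closure ((fun i : ι => Equiv.reflection P i) '' Δ'))
    (k : ι) (hk : k ∈ RootD.posOf P Δ) (hk' : k ∉ RootD.inSpan P Δ') :
    g • k ∈ RootD.posOf P Δ ∧ g • k ∉ RootD.inSpan P Δ' := by
  have key : ∀ i ∈ Δ', ∀ k : ι, k ∈ RootD.posOf P Δ → k ∉ RootD.inSpan P Δ' →
      P.reflectionPerm i k ∈ RootD.posOf P Δ ∧ P.reflectionPerm i k ∉ RootD.inSpan P Δ' := by
    intro i hi k hk hk'
    obtain ⟨j, hj, hne⟩ := Groth.Agent.H8.exists_coef_ne_of_not_mem_inSpan hΔ hk'
    have hpos : 0 < Groth.Agent.H8.coef hΔ k j :=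
      lt_of_le_of_ne ((Groth.Agent.H8.mem_posOf_iff hΔ k).mp hk j) (Ne.symm hne)
    have hji : j ≠ i := fun e => hj (e ▸ hi)
    constructor
    · apply Groth.Agent.H8.mem_posOf_of_pos hΔ (j := j)
      rw [Groth.Agent.H8.coef_reflectionPerm, Groth.Agent.H8.coef_simple hΔ (hsub hi)]
      simp only [Finsupp.coe_sub, Finsupp.coe_smul, Pi.sub_apply, Pi.smul_apply, smul_eq_mul]
      rw [Finsupp.single_eq_of_ne hji, mul_zero, sub_zero]
      exact hpos
    · intro hmem
      apply hk'
      have e : P.root k = P.root (P.reflectionPerm i k) + P.pairing k i • P.root i := by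
        rw [RootPairing.root_reflectionPerm, RootPairing.reflection_apply_root]; abel
      show P.root k ∈ Submodule.span ℤ (P.root '' Δ')
      rw [e]
      exact Submodule.add_mem _ hmem (Submodule.smul_mem _ _ (Submodule.subset_span ⟨i, hi, rfl⟩))
  suffices H : ∀ k : ι, k ∈ RootD.posOf P Δ → k ∉ RootD.inSpan P Δ' →
      g • k ∈ RootD.posOf P Δ ∧ g • k ∉ RootD.inSpan P Δ' from H k hk hk'
  induction hg using Subgroup.closure_induction'' with
  | mem x hx =>
    obtain ⟨i, hi, rfl⟩ := hx
    intro k hk hk'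
    rw [Groth.Agent.H8.reflection_smul_idx]
    exact key i hi k hk hk'
  | inv_mem x hx =>
    obtain ⟨i, hi, rfl⟩ := hx
    intro k hk hk'
    rw [RootPairing.Equiv.reflection_inv, Groth.Agent.H8.reflection_smul_idx]
    exact key i hi k hk hk'
  | one =>
    intro k hk hk'
    rw [one_smul]
    exact ⟨hk, hk'⟩
  | mul x y _ _ ihx ihy =>
    intro k hk hk'
    rw [mul_smul]
    obtain ⟨h1, h2⟩ := ihy k hk hk'
    exact ihx _ h1 h2

end Groth.Agent.S5462
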