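import Groth.Statements.S5463
import Groth.Agent.H8.Word
-- import your own Groth.Agent.* helpers here

set_option autoImplicit false
open RootPairing
open scoped Pointwise
open RootD

namespace Groth.Agent.S5463


open Groth.Agent.H8

variable {ι M N : Type*} [AddCommGroup M] [AddCommGroup N]

lemma refl_sub_mem (P : RootPairing ι ℤ M N) {Δ' : Set ι} {a : ι} (ha : a ∈ Δ') (k : ι) :
    P.root (Equiv.reflection P a • k) - P.root k ∈ Submodule.span ℤ (P.root '' Δ') := by
  rw [reflection_smul_idx, RootPairing.root_reflectionPerm, RootPairing.reflection_apply_root]
  have : P.root k - P.pairing k a • P.root a - P.root k = -(P.pairing k a • P.root a) := by abel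
  rw [this]
  exact Submodule.neg_mem _ (Submodule.smul_mem _ _ (Submodule.subset_span ⟨a, ha, rfl⟩))

lemma fwd (P : RootPairing ι ℤ M N) (Δ' : Set ι) (g : P.Aut)
    (hg : g ∈ Subgroup.closure ((fun i : ι => Equiv.reflection P i) '' Δ')) :
    ∀ k : ι, P.root (g • k) - P.root k ∈ Submodule.span ℤ (P.root '' Δ') := by
  induction hg using Subgroup.closure_induction with
  | mem x hx =>
    obtain ⟨a, ha, rfl⟩ := hx
    exact refl_sub_mem P ha
  | one => intro k; simp
  | mul x y _ _ hx hy =>
    intro k
    have : P.root ((x * y) • k) - P.root k =
        (P.root (x • (y • k)) - P.root (y • k)) + (P.root (y • k) - P.root k) := by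
      rw [mul_smul]; abel
    rw [this]
    exact Submodule.add_mem _ (hx _) (hy k)
  | inv x _ hx =>
    intro k
    have h := hx (x⁻¹ • k)
    rw [smul_inv_smul] at h
    have : P.root (x⁻¹ • k) - P.root k = -(P.root k - P.root (x⁻¹ • k)) := by abel
    rw [this]
    exact Submodule.neg_mem _ h

lemma refl_mul_self_aux {P : RootPairing ι ℤ M N} {a : ι} :
    Equiv.reflection P a * Equiv.reflection P a = 1 := by
  have h := mul_inv_cancel (Equiv.reflection P a)
  rwa [RootPairing.Equiv.reflection_inv] at h

/-- An element w of the Weyl group belongs to the subgroup generated by the reflections in Δ' ⊆ Δ (Δ a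
system of simple roots) if and only if w(α) - α lies in the rational span of Δ' for every root α. -/
theorem result {ι M N : Type*} [AddCommGroup M] [AddCommGroup N]
    (P : RootPairing ι ℤ M N) [Finite ι] (Δ Δ' : Set ι) (hΔ : RootD.IsSimpleSys P Δ)
    (hsub : Δ' ⊆ Δ) (g : P.Aut) (hg : g ∈ P.weylGroup) :
    g ∈ Subgroup.closure ((fun i : ι => Equiv.reflection P i) '' Δ') ↔
      ∀ k : ι, ∃ n : ℕ, 0 < n ∧ n • (P.root (g • k) - P.root k) ∈ Submodule.span ℤ (P.root '' Δ') := by
  constructor
  · intro h k
    exact ⟨1, one_pos, by rw [one_smul]; exact fwd P Δ' g h k⟩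
  · intro hyp
    -- strong induction on the length of a word
    have main : ∀ n : ℕ, ∀ l : List ι, (∀ a ∈ l, a ∈ Δ) → l.length ≤ n →
        (∀ k : ι, ∃ m : ℕ, 0 < m ∧
          m • (P.root (wprod P l • k) - P.root k) ∈ Submodule.span ℤ (P.root '' Δ')) →
        wprod P l ∈ Subgroup.closure ((fun i : ι => Equiv.reflection P i) '' Δ') := by
      intro n
      induction n with
      | zero =>
        intro l _ hlen _
        have : l = [] := List.eq_nil_of_length_eq_zero (by omega)
        rw [this, wprod_nil]
        exact Subgroup.one_mem _
      | succ n ih =>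
        intro l hl hlen hH
        obtain ⟨l0, hl0, hp0, hmin0⟩ := exists_min_word P Δ ⟨l, hl, rfl⟩
        rw [← hp0] at hH ⊢
        by_cases hsmall : l0.length ≤ n
        · exact ih l0 hl0 hsmall hH
        · have hne : l0 ≠ [] := by
            intro h; rw [h] at hsmall; simp at hsmall
          set α := l0.getLast hne with hα
          have hαΔ : α ∈ Δ := hl0 α (List.getLast_mem hne)
          have hneg := neg_last_of_min hΔ l0 hl0 hne
            (fun l' hl' h => hmin0 l' hl' (h.trans hp0))
          rw [← hα] at hneg
          -- α ∈ Δ'
          have hαΔ' : α ∈ Δ' := by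
            by_contra hnot
            obtain ⟨m, hm, hmem⟩ := hH α
            rw [Finsupp.mem_span_image_iff_linearCombination] at hmem
            obtain ⟨d, hd, hdlc⟩ := hmem
            let c : ι →₀ ℤ := m • (coef hΔ (wprod P l0 • α) - Finsupp.single α 1)
            have hc : c ∈ Finsupp.supported ℤ ℤ Δ := by
              refine Submodule.smul_mem _ _ (Submodule.sub_mem _ (coef_supp hΔ _) ?_)
              exact Finsupp.single_mem_supported ℤ 1 hαΔ
            have hclc : Finsupp.linearCombination ℤ P.root c =
                m • (P.root (wprod P l0 • α) - P.root α) := by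
              simp only [c, map_nsmul, map_sub, coef_spec]
              simp
            have hcd : c = d := eq_of_lc_eq hΔ hc (Finsupp.supported_mono hsub hd)
              (by rw [hclc, hdlc])
            have h1 := congrArg (fun f => f α) hcd
            simp only [c, Finsupp.coe_smul, Finsupp.coe_sub, Pi.smul_apply, Pi.sub_apply,
              Finsupp.single_eq_same] at h1
            have hdα : d α = 0 := by
              by_contra hne'
              exact hnot (hd (Finsupp.mem_support_iff.mpr hne'))
            rw [hdα] at h1
            have hle := coef_nonpos_of_neg_mem hΔ hneg α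
            have : (m : ℤ) * (coef hΔ (wprod P l0 • α) α - 1) = 0 := by
              rw [← h1]; simp
            rcases mul_eq_zero.mp this with h2 | h2
            · omega
            · omega
          -- peel off the last letter
          have hsplit : l0 = l0.dropLast ++ [α] := (List.dropLast_append_getLast hne).symm
          have hprod : wprod P l0 = wprod P l0.dropLast * Equiv.reflection P α := by
            conv_lhs => rw [hsplit]
            rw [wprod_append]
            simp [wprod]
          have hdl : ∀ a ∈ l0.dropLast, a ∈ Δ := fun a ha => hl0 a (List.mem_of_mem_dropLast ha)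
          have hdlen : l0.dropLast.length ≤ n := by
            rw [List.length_dropLast]
            have := hmin0 l hl rfl
            omega
          have hH' : ∀ k : ι, ∃ m : ℕ, 0 < m ∧
              m • (P.root (wprod P l0.dropLast • k) - P.root k) ∈
                Submodule.span ℤ (P.root '' Δ') := by
            intro k
            obtain ⟨m, hm, hmem⟩ := hH (Equiv.reflection P α • k)
            refine ⟨m, hm, ?_⟩
            have e : wprod P l0 • (Equiv.reflection P α • k) = wprod P l0.dropLast • k := by
              rw [hprod, smul_smul, mul_assoc, refl_mul_self_aux, mul_one]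
            rw [e] at hmem
            have : P.root (wprod P l0.dropLast • k) - P.root k =
                (P.root (wprod P l0.dropLast • k) - P.root (Equiv.reflection P α • k)) +
                  (P.root (Equiv.reflection P α • k) - P.root k) := by abel
            rw [this, smul_add]
            exact Submodule.add_mem _ hmem
              (Submodule.smul_of_tower_mem _ _ (refl_sub_mem P hαΔ' k))
          have hg' := ih l0.dropLast hdl hdlen hH'
          rw [hprod]
          exact Subgroup.mul_mem _ hg' (Subgroup.subset_closure ⟨α, hαΔ', rfl⟩)
    obtain ⟨l, hl, hp⟩ := exists_word_of_mem_weyl hΔ hg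
    rw [← hp] at hyp ⊢
    exact main l.length l hl le_rfl hyp

end Groth.Agent.S5463
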