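import Groth.Statements.S5464
import Groth.Agent.H8.Face
import Groth.Agent.H8.Dual
-- import your own Groth.Agent.* helpers here

set_option autoImplicit false
open RootD

namespace Groth.Agent.S5464

/-- Given an indivisible root α and a root γ not proportional to it, there is a system of simple roots
containing α and a simple root β of it with γ = aα + bβ, a, b ∈ ℕ. -/
theorem result {ι M N : Type*} [AddCommGroup M] [AddCommGroup N]
    (P : RootPairing ι ℤ M N) [Finite ι] (i k : ι) (hα : RootD.IsIndiv P i)
    (hli : LinearIndependent ℤ ![P.root i, P.root k]) :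
    ∃ Δ : Set ι, RootD.IsSimpleSys P Δ ∧ i ∈ Δ ∧
      ∃ j ∈ Δ, ∃ a b : ℕ, P.root k = a • P.root i + b • P.root j := by
  classical
  have := Fintype.ofFinite ι
  have hspan : ∀ x : M, x ∈ Submodule.span ℤ (P.root '' {i, k}) ↔
      ∃ p q : ℤ, p • P.root i + q • P.root k = x := by
    intro x
    rw [Set.image_pair, Submodule.mem_span_pair]
  have hsing : {v | v ∈ [P.root i]} = ({P.root i} : Set M) := by ext; simp
  set u := Groth.Agent.H8.Wt P [P.root i] (P.root k) with hu
  have hαu : P.RootForm (P.root i) u = 0 :=
    Groth.Agent.H8.Wt_orth P _ _ _ (Submodule.subset_span (by simp))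
  obtain ⟨c0, hc0, hsub0⟩ := Groth.Agent.H8.Wt_sub P [P.root i] (P.root k)
  obtain ⟨t0, ht0⟩ : ∃ t : ℤ, u - c0 • P.root k = t • P.root i := by
    rw [hsing, Submodule.mem_span_singleton] at hsub0
    obtain ⟨t, ht⟩ := hsub0
    exact ⟨t, ht.symm⟩
  have hRFu : ∀ x : M, P.RootForm x u =
      c0 * P.RootForm x (P.root k) + t0 * P.RootForm x (P.root i) := by
    intro x
    have : u = c0 • P.root k + t0 • P.root i := by rw [← ht0]; abel
    rw [this, map_add, map_smul, map_smul, smul_eq_mul, smul_eq_mul]
  have hγu : 0 < P.RootForm (P.root k) u := by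
    rcases (Groth.Agent.H8.Wt_nonneg P [P.root i] (P.root k)).lt_or_eq with h | h
    · exact h
    · exfalso
      obtain ⟨n, hn, hmem⟩ := (Groth.Agent.H8.Wt_eq_zero_iff P [P.root i]
        (by simp only [List.mem_singleton, forall_eq]
            exact Submodule.subset_span (Set.mem_range_self i))
        (Submodule.subset_span (Set.mem_range_self k))).mp h.symm
      rw [hsing, Submodule.mem_span_singleton] at hmem
      obtain ⟨t, ht⟩ := hmem
      have := LinearIndependent.pair_iff.mp hli t (-(n : ℤ))
        (by rw [ht, neg_smul, natCast_zsmul, add_neg_cancel])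
      omega
  let φ : M →+ ℤ ×ₗ ℤ :=
    { toFun := fun x => toLex (P.RootForm x u, P.RootForm x (P.root i))
      map_zero' := by simp only [map_zero, LinearMap.zero_apply]; rfl
      map_add' := fun x y => by simp only [map_add, LinearMap.add_apply]; rfl }
  have hφpos : ∀ x : M, 0 < φ x ↔ 0 < P.RootForm x u ∨
      (0 = P.RootForm x u ∧ 0 < P.RootForm x (P.root i)) := fun x => Prod.Lex.toLex_lt_toLex
  set T : Set ι := {i, k} with hT
  have hdec : ∀ j ∈ Groth.Agent.H8.traceSet P T, ∃ n : ℕ, 0 < n ∧ ∃ p q : ℤ,
      n • P.root j = p • P.root i + q • P.root k := by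
    rintro j ⟨n, hn, hmem⟩
    obtain ⟨p, q, hpq⟩ := (hspan _).mp hmem
    exact ⟨n, hn, p, q, hpq.symm⟩
  have hφ0 : ∀ j ∈ Groth.Agent.H8.traceSet P T, φ (P.root j) ≠ 0 := by
    intro j hj h0
    obtain ⟨n, hn, p, q, hpq⟩ := hdec j hj
    have h1 : P.RootForm (P.root j) u = 0 := congrArg (fun z => (ofLex z).1) h0
    have h2 : P.RootForm (P.root j) (P.root i) = 0 := congrArg (fun z => (ofLex z).2) h0
    have h3 : P.RootForm (P.root j) (P.root k) = 0 := by
      rw [hRFu, h2, mul_zero, add_zero] at h1
      rcases mul_eq_zero.mp h1 with h | h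
      · omega
      · exact h
    have e : P.RootForm (P.root j) (n • P.root j) = 0 := by
      rw [hpq, map_add, map_smul, map_smul, h2, h3, smul_zero, smul_zero, add_zero]
    rw [map_nsmul, nsmul_eq_mul] at e
    have hpos := Groth.Agent.H8.rootForm_root_pos P j
    rcases mul_eq_zero.mp e with h | h
    · exact absurd h (by exact_mod_cast hn.ne')
    · exact hpos.ne' h
  set S := Groth.Agent.H8.facePos P T φ with hSdef
  have hS : IsPosSys P S := Groth.Agent.H8.isPosSys_facePos P T φ hφ0
  have hiT : i ∈ Groth.Agent.H8.traceSet P T := Groth.Agent.H8.subset_traceSet P T (by simp [hT])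
  have hkT : k ∈ Groth.Agent.H8.traceSet P T := Groth.Agent.H8.subset_traceSet P T (by simp [hT])
  have hiS : i ∈ S := (Groth.Agent.H8.mem_facePos_of_trace P T φ hiT).mpr
    ((hφpos _).mpr (Or.inr ⟨hαu.symm, Groth.Agent.H8.rootForm_root_pos P i⟩))
  have hkS : k ∈ S := (Groth.Agent.H8.mem_facePos_of_trace P T φ hkT).mpr
    ((hφpos _).mpr (Or.inl hγu))
  set Δ := Groth.Agent.H8.indec (P := P) S with hΔdef
  have hΔ : IsSimpleSys P Δ := Groth.Agent.H8.isSimpleSys_indec hS
  -- the roots of the face proportional to α
  have hprop : ∀ a ∈ Groth.Agent.H8.traceSet P T, P.RootForm (P.root a) u = 0 →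
      ∃ n : ℕ, 0 < n ∧ ∃ p : ℤ, n • P.root a = p • P.root i := by
    intro a ha hau
    obtain ⟨n, hn, p, q, hpq⟩ := hdec a ha
    refine ⟨n, hn, p, ?_⟩
    have e : P.RootForm (n • P.root a) u = 0 := by rw [map_nsmul, LinearMap.smul_apply, hau, smul_zero]
    rw [hpq, map_add, map_smul, map_smul, LinearMap.add_apply, LinearMap.smul_apply,
      LinearMap.smul_apply, hαu, smul_zero, zero_add, smul_eq_mul] at e
    have hq : q = 0 := by
      rcases mul_eq_zero.mp e with h | h
      · exact h
      · exact absurd h hγu.ne'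
    rw [hpq, hq, zero_smul, add_zero]
  have hiΔ : i ∈ Δ := by
    refine ⟨hiS, ?_⟩
    rintro ⟨a, b, ha, hb, hab⟩
    obtain ⟨haT, hbT⟩ := Groth.Agent.H8.trace_of_add P T φ hiT ha hb hab
    have hap := (hφpos _).mp ((Groth.Agent.H8.mem_facePos_of_trace P T φ haT).mp ha)
    have hbp := (hφpos _).mp ((Groth.Agent.H8.mem_facePos_of_trace P T φ hbT).mp hb)
    have hsumu : P.RootForm (P.root a) u + P.RootForm (P.root b) u = 0 := by
      rw [← LinearMap.add_apply, ← map_add, ← hab]; exact hαu
    have hau : P.RootForm (P.root a) u = 0 := by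
      rcases hap with h | h <;> rcases hbp with h' | h' <;> omega
    have hbu : P.RootForm (P.root b) u = 0 := by omega
    obtain ⟨na, hna, pa, hpa⟩ := hprop a haT hau
    obtain ⟨nb, hnb, pb, hpb⟩ := hprop b hbT hbu
    have hpairs : P.pairing a i + P.pairing b i = 2 := by
      have := congrArg (fun x => P.toLinearMap x (P.coroot i)) hab
      simp only [map_add, LinearMap.add_apply, RootPairing.root_coroot_eq_pairing,
        RootPairing.pairing_same] at this
      omega
    have hxa : (na : ℤ) * P.pairing a i = 2 * pa := by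
      have := congrArg (fun x => P.toLinearMap x (P.coroot i)) hpa
      simp only [map_nsmul, map_zsmul, LinearMap.smul_apply, RootPairing.root_coroot_eq_pairing,
        RootPairing.pairing_same, nsmul_eq_mul, smul_eq_mul] at this
      linarith
    have hxb : (nb : ℤ) * P.pairing b i = 2 * pb := by
      have := congrArg (fun x => P.toLinearMap x (P.coroot i)) hpb
      simp only [map_nsmul, map_zsmul, LinearMap.smul_apply, RootPairing.root_coroot_eq_pairing,
        RootPairing.pairing_same, nsmul_eq_mul, smul_eq_mul] at this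
      linarith
    -- positivity of pa, pb from the second coordinate
    have haα : 0 < P.RootForm (P.root a) (P.root i) := by
      rcases hap with h | h
      · omega
      · exact h.2
    have hbα : 0 < P.RootForm (P.root b) (P.root i) := by
      rcases hbp with h | h
      · omega
      · exact h.2
    have hpa0 : 0 < pa := by
      have := congrArg (fun x => P.RootForm x (P.root i)) hpa
      simp only [map_nsmul, map_zsmul, LinearMap.smul_apply, nsmul_eq_mul, smul_eq_mul] at this
      have hl := Groth.Agent.H8.rootForm_root_pos P i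
      have : (0 : ℤ) < na * P.RootForm (P.root a) (P.root i) := mul_pos (by exact_mod_cast hna) haα
      nlinarith
    have hpb0 : 0 < pb := by
      have := congrArg (fun x => P.RootForm x (P.root i)) hpb
      simp only [map_nsmul, map_zsmul, LinearMap.smul_apply, nsmul_eq_mul, smul_eq_mul] at this
      have hl := Groth.Agent.H8.rootForm_root_pos P i
      have : (0 : ℤ) < nb * P.RootForm (P.root b) (P.root i) := mul_pos (by exact_mod_cast hnb) hbα
      nlinarith
    have hxa0 : 0 < P.pairing a i := by
      by_contra hneg; push Not at hneg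
      have : (na : ℤ) * P.pairing a i ≤ 0 :=
        mul_nonpos_of_nonneg_of_nonpos (by positivity) hneg
      omega
    have hxb0 : 0 < P.pairing b i := by
      by_contra hneg; push Not at hneg
      have : (nb : ℤ) * P.pairing b i ≤ 0 :=
        mul_nonpos_of_nonneg_of_nonpos (by positivity) hneg
      omega
    have hx1 : P.pairing a i = 1 := by omega
    rw [hx1, mul_one] at hxa
    have h2 : pa • ((2 : ℤ) • P.root a) = pa • P.root i := by
      rw [smul_smul, mul_comm, ← hxa, natCast_zsmul, hpa]
    exact hα a (Groth.Agent.H8.zsmul_cancel P hpa0.ne' h2)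
  refine ⟨Δ, hΔ, hiΔ, ?_⟩
  -- decomposition of γ
  have hkmem := Groth.Agent.H8.mem_natSpan_indec hS hkS
  obtain ⟨c, hc, hcn, hlc⟩ := Groth.Agent.H8.natSpan_coef hkmem
  have hk0 : Groth.Agent.H8.faceHom P T (P.root k) = 0 :=
    (Groth.Agent.H8.faceHom_root_eq_zero_iff P T k).mpr hkT
  have hall := Groth.Agent.H8.trace_of_lc P T φ hk0
    (Finsupp.supported_mono (Groth.Agent.H8.indec_subset (P := P)) hc) hcn hlc
  have hliΔ := hΔ.linInd
  -- a simple root of the face different from α is not proportional to α
  have hq : ∀ j ∈ Δ, j ≠ i → ∀ n : ℕ, 0 < n → ∀ p q : ℤ,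
      n • P.root j = p • P.root i + q • P.root k → q ≠ 0 := by
    intro j hj hji n hn p q hpq hq0
    rw [hq0, zero_smul, add_zero, ← natCast_zsmul] at hpq
    exact hji (Groth.Agent.H8.eq_of_smul_eq_smul_of_linIndep hliΔ hj hiΔ
      (by exact_mod_cast hn.ne') hpq)
  by_cases hex : ∃ β, c β ≠ 0 ∧ β ≠ i
  · obtain ⟨β, hβc, hβi⟩ := hex
    have hβΔ : β ∈ Δ := hc (Finsupp.mem_support_iff.mpr hβc)
    obtain ⟨nβ, hnβ, pβ, qβ, hβ⟩ := hdec β (hall β hβc)
    have hqβ := hq β hβΔ hβi nβ hnβ pβ qβ hβ
    have hsupp : c.support ⊆ {i, β} := by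
      intro j hj
      have hjc : c j ≠ 0 := Finsupp.mem_support_iff.mp hj
      have hjΔ : j ∈ Δ := hc hj
      by_contra hjn
      simp only [Finset.mem_insert, Finset.mem_singleton, not_or] at hjn
      obtain ⟨hji, hjβ⟩ := hjn
      obtain ⟨nj, hnj, pj, qj, hjd⟩ := hdec j (hall j hjc)
      have hqj := hq j hjΔ hji nj hnj pj qj hjd
      set f : ι →₀ ℤ := Finsupp.single β (qj * nβ) - Finsupp.single j (qβ * nj) -
        Finsupp.single i (qj * pβ - qβ * pj) with hf
      have hfsupp : f ∈ Finsupp.supported ℤ ℤ Δ :=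
        Submodule.sub_mem _ (Submodule.sub_mem _ (Finsupp.single_mem_supported ℤ _ hβΔ)
          (Finsupp.single_mem_supported ℤ _ hjΔ)) (Finsupp.single_mem_supported ℤ _ hiΔ)
      have hflc : Finsupp.linearCombination ℤ P.root f = 0 := by
        rw [hf, map_sub, map_sub, Finsupp.linearCombination_single,
          Finsupp.linearCombination_single, Finsupp.linearCombination_single]
        have e1 : (qj * nβ) • P.root β = qj • (pβ • P.root i + qβ • P.root k) := by
          rw [← hβ, mul_smul, natCast_zsmul]
        have e2 : (qβ * nj) • P.root j = qβ • (pj • P.root i + qj • P.root k) := by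
          rw [← hjd, mul_smul, natCast_zsmul]
        rw [e1, e2, sub_smul, mul_smul, mul_smul]
        simp only [smul_add, smul_smul]
        rw [mul_comm qj qβ]
        abel
      have hf0 := linearIndepOn_iff.mp hliΔ f hfsupp hflc
      have := congrArg (fun g => g β) hf0
      simp only [hf, Finsupp.coe_sub, Pi.sub_apply, Finsupp.single_eq_same,
        Finsupp.single_eq_of_ne (Ne.symm hjβ), Finsupp.single_eq_of_ne hβi,
        Finsupp.coe_zero, Pi.zero_apply, sub_zero] at this
      rcases mul_eq_zero.mp this with h | h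
      · exact hqj h
      · exact absurd h (by exact_mod_cast hnβ.ne')
    refine ⟨β, hβΔ, (c i).toNat, (c β).toNat, ?_⟩
    rw [← hlc, Finsupp.linearCombination_apply, Finsupp.sum_of_support_subset c hsupp (fun j a => a • P.root j)
      (fun _ _ => zero_smul ℤ _), Finset.sum_pair (Ne.symm hβi), ← natCast_zsmul, ← natCast_zsmul,
      Int.toNat_of_nonneg (hcn i), Int.toNat_of_nonneg (hcn β)]
  · exfalso
    push Not at hex
    have hci : c = Finsupp.single i (c i) := by
      ext j
      by_cases hj : j = i
      · subst hj; simp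
      · rw [Finsupp.single_eq_of_ne hj]
        by_contra hne
        exact hj (hex j hne)
    rw [hci, Finsupp.linearCombination_single] at hlc
    have := LinearIndependent.pair_iff.mp hli (c i) (-1) (by rw [hlc, neg_one_smul, add_neg_cancel])
    omega

end Groth.Agent.S5464
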