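import Groth.Statements.S5465
import Groth.Agent.H8.Decomp
-- import your own Groth.Agent.* helpers here

set_option autoImplicit false
open RootD

namespace Groth.Agent.S5465

/-- A map from the roots to an abelian group that is odd and additive on pairs of roots whose sum is a
root extends uniquely to a homomorphism on the lattice generated by the roots. -/
theorem result {ι M N : Type*} [AddCommGroup M] [AddCommGroup N]
    (P : RootPairing ι ℤ M N) [Finite ι] {G : Type*} [AddCommGroup G] (f : ι → G)
    (hneg : ∀ i : ι, f (P.reflectionPerm i i) = -f i)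
    (hadd : ∀ i j k : ι, P.root k = P.root i + P.root j → f k = f i + f j) :
    ∃! φ : Submodule.span ℤ (Set.range P.root) →+ G,
      ∀ i : ι, φ ⟨P.root i, Submodule.subset_span (Set.mem_range_self i)⟩ = f i := by
  classical
  have := Fintype.ofFinite ι
  obtain ⟨S, hS⟩ := Groth.Agent.H8.exists_posSys (P := P)
  have hΔ := Groth.Agent.H8.isSimpleSys_indec hS
  set Δ := Groth.Agent.H8.indec (P := P) S with hΔdef
  set b := Groth.Agent.H8.simpleBasis hΔ with hb
  let φ : Submodule.span ℤ (Set.range P.root) →+ G :=
    (b.constr ℤ (fun d : Δ => f d)).toAddMonoidHom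
  have hφb : ∀ d : Δ, φ (Groth.Agent.H8.latRoot P d) = f d := by
    intro d
    rw [← Groth.Agent.H8.simpleBasis_apply hΔ d]
    show b.constr ℤ _ (b d) = f d
    rw [Module.Basis.constr_basis]
  have hpos : ∀ n : ℕ, ∀ k : ι, k ∈ posOf P Δ → Groth.Agent.H8.height hΔ k ≤ n →
      φ (Groth.Agent.H8.latRoot P k) = f k := by
    intro n
    induction n with
    | zero =>
      intro k hk hh
      have := Groth.Agent.H8.one_le_height hΔ hk
      omega
    | succ n ih =>
      intro k hk hh
      by_cases hkΔ : k ∈ Δ
      · exact hφb ⟨k, hkΔ⟩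
      · obtain ⟨d, hd, k', hk', e⟩ := Groth.Agent.H8.exists_simple_add_pos hΔ hk hkΔ
        have hh' := Groth.Agent.H8.height_add hΔ e
        rw [Groth.Agent.H8.height_simple hΔ hd] at hh'
        have : Groth.Agent.H8.latRoot P k =
            Groth.Agent.H8.latRoot P k' + Groth.Agent.H8.latRoot P d := Subtype.ext e
        rw [this, map_add, ih k' hk' (by push_cast at hh; omega), hφb ⟨d, hd⟩, hadd k' d k e]
  have hall : ∀ k : ι, φ (Groth.Agent.H8.latRoot P k) = f k := by
    intro k
    rcases hΔ.mem_or_neg_mem k with h | h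
    · exact hpos _ k h (Int.self_le_toNat _)
    · have hk' : P.reflectionPerm k k ∈ posOf P Δ := by
        show P.root _ ∈ natSpan P Δ
        rw [Groth.Agent.H8.root_neg]; exact h
      have e : Groth.Agent.H8.latRoot P k = - Groth.Agent.H8.latRoot P (P.reflectionPerm k k) :=
        Subtype.ext (by simp [Groth.Agent.H8.latRoot])
      rw [e, map_neg, hpos _ _ hk' (Int.self_le_toNat _), hneg k, neg_neg]
  refine ⟨φ, hall, ?_⟩
  intro ψ hψ
  have : ψ.toIntLinearMap = b.constr ℤ (fun d : Δ => f d) := by
    apply b.ext
    intro d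
    rw [Module.Basis.constr_basis, Groth.Agent.H8.simpleBasis_apply]
    exact hψ d
  ext x
  exact LinearMap.congr_fun this x

end Groth.Agent.S5465
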