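import Groth.Statements.S5468
import Groth.Agent.H8.RootLib
-- import your own Groth.Agent.* helpers here

set_option autoImplicit false
open RootD

namespace Groth.Agent.S5468

/-- Two roots whose reflections are distinct and commute are orthogonal. -/
theorem result {ι M N : Type*} [AddCommGroup M] [AddCommGroup N]
    (P : RootPairing ι ℤ M N) [Finite ι] (i j : ι)
    (hne : P.reflection i ≠ P.reflection j) (hc : Commute (P.reflection i) (P.reflection j)) :
    P.IsOrthogonal i j := by
  have := Module.IsReflexive.of_isPerfPair P.toLinearMap
  have hcomm := congrArg (fun f => f (P.root j)) hc.eq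
  simp only [LinearEquiv.mul_apply] at hcomm
  rw [RootPairing.reflection_apply_self, map_neg, RootPairing.reflection_apply_root, map_sub,
    RootPairing.reflection_apply_self, map_smul, RootPairing.reflection_apply_root] at hcomm
  by_cases hp : P.pairing j i = 0
  · exact ⟨(P.pairing_eq_zero_iff).mpr hp, hp⟩
  · exfalso
    have h2 : P.pairing j i • ((2 : ℤ) • P.root i) =
        P.pairing j i • (P.pairing i j • P.root j) := by
      rw [smul_smul, smul_smul]
      linear_combination (norm := module) hcomm
    have h3 : (2 : ℤ) • P.root i = P.pairing i j • P.root j := Groth.Agent.H8.zsmul_cancel P hp h2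
    have hpq : P.pairing j i * P.pairing i j = 4 := by
      have := congrArg (fun x => P.toLinearMap x (P.coroot i)) h3
      simp only [map_smul, LinearMap.smul_apply, RootPairing.root_coroot_eq_pairing,
        RootPairing.pairing_same, smul_eq_mul] at this
      linarith
    have hq4 : -4 ≤ P.pairing i j ∧ P.pairing i j ≤ 4 := by
      have hd : P.pairing i j ∣ 4 := ⟨P.pairing j i, by linarith⟩
      have hq0 : P.pairing i j ≠ 0 := by intro h0; rw [h0, mul_zero] at hpq; norm_num at hpq
      have := Int.le_of_dvd (by norm_num) (Int.natAbs_dvd.mpr hd)
      constructor <;> [skip; skip] <;> omega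
    -- even case: root i is a multiple of root j; odd case: root j is twice ± root i
    have heven : ∀ t : ℤ, P.pairing i j = 2 * t → False := by
      intro t ht
      rw [ht, mul_smul] at h3
      have h4 : P.root i = t • P.root j := Groth.Agent.H8.zsmul_cancel P two_ne_zero h3
      exact hne (Groth.Agent.H8.reflection_eq_of_root_eq_smul P h4)
    have hodd : ∀ s : ℤ, P.root j = s • P.root i → False := by
      intro s hs
      exact hne (Groth.Agent.H8.reflection_eq_of_root_eq_smul P hs).symm
    obtain ⟨hl, hu⟩ := hq4
    set q := P.pairing i j with hq
    interval_cases q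
    · exact heven (-2) (by norm_num)
    · omega
    · exact heven (-1) (by norm_num)
    · exact hodd (-2) (by linear_combination (norm := module) h3)
    · omega
    · exact hodd 2 (by linear_combination (norm := module) -h3)
    · exact heven 1 (by norm_num)
    · omega
    · exact heven 2 (by norm_num)

end Groth.Agent.S5468
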