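import Groth.Statements.S5469
import Groth.Agent.H8.RootLib
-- import your own Groth.Agent.* helpers here

set_option autoImplicit false
open RootPairing
open scoped Pointwise
open RootD

namespace Groth.Agent.S5469

/-- Two non-orthogonal roots of equal length (for the canonical form ℓ(x) = Σ_{u ∈ R^v} (u, x)²) are
conjugate under the Weyl group. -/
theorem result {ι M N : Type*} [AddCommGroup M] [AddCommGroup N]
    (P : RootPairing ι ℤ M N) [Finite ι] [Fintype ι] (i j : ι) (hno : ¬ P.IsOrthogonal i j)
    (hl : P.RootForm (P.root i) (P.root i) = P.RootForm (P.root j) (P.root j)) :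
    ∃ g : P.Aut, g ∈ P.weylGroup ∧ g • i = j := by
  have := Module.IsReflexive.of_isPerfPair P.toLinearMap
  have h1 := Groth.Agent.H8.two_mul_rootForm_root P i j
  have h2 := Groth.Agent.H8.two_mul_rootForm_root P j i
  rw [Groth.Agent.H8.rootForm_comm P (P.root j), ← hl] at h2
  have hpos := Groth.Agent.H8.rootForm_root_pos P i
  have hsym : P.pairing j i = P.pairing i j := by
    have := h1.symm.trans h2
    exact mul_left_cancel₀ hpos.ne' this
  have hset := P.pairingIn_pairingIn_mem_set_of_isCrystallographic i j
  simp only [Groth.Agent.H8.pairingIn_eq, hsym] at hset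
  simp only [Set.mem_insert_iff, Set.mem_singleton_iff, Prod.mk.injEq] at hset
  have hW : ∀ k : ι, RootPairing.Equiv.reflection P k ∈ P.weylGroup :=
    fun k => P.reflection_mem_weylGroup k
  rcases hset with h | h | h | h | h | h | h | h | h | h | h | h | h | h | h | h | h <;>
    obtain ⟨ha, hb⟩ := h <;> (try omega)
  · exact absurd ⟨ha, hsym.trans ha⟩ hno
  · refine ⟨RootPairing.Equiv.reflection P j * RootPairing.Equiv.reflection P i *
      RootPairing.Equiv.reflection P j, mul_mem (mul_mem (hW j) (hW i)) (hW j), ?_⟩
    apply P.root.injective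
    simp only [mul_smul, Groth.Agent.H8.reflection_smul_idx, RootPairing.root_reflectionPerm,
      map_sub, map_neg, map_add, map_smul, RootPairing.reflection_apply_self,
      RootPairing.reflection_apply_root, hsym, ha]
    module
  · refine ⟨RootPairing.Equiv.reflection P i * RootPairing.Equiv.reflection P j,
      mul_mem (hW i) (hW j), ?_⟩
    apply P.root.injective
    simp only [mul_smul, Groth.Agent.H8.reflection_smul_idx, RootPairing.root_reflectionPerm,
      map_sub, map_neg, map_add, map_smul, RootPairing.reflection_apply_self,
      RootPairing.reflection_apply_root, hsym, ha]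
    module
  · have hij : i = j := (P.pairing_two_two_iff i j).mp ⟨ha, hsym.trans ha⟩
    exact ⟨1, one_mem _, by rw [one_smul, hij]⟩
  · refine ⟨RootPairing.Equiv.reflection P j, hW j, ?_⟩
    have hneg : P.root i = -P.root j := (P.pairing_neg_two_neg_two_iff i j).mp ⟨ha, hsym.trans ha⟩
    apply P.root.injective
    simp only [Groth.Agent.H8.reflection_smul_idx, RootPairing.root_reflectionPerm, hneg,
      map_neg, RootPairing.reflection_apply_self, neg_neg]

end Groth.Agent.S5469
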