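import Groth.Statements.S5471
import Groth.Agent.H8.Irred
-- import your own Groth.Agent.* helpers here

set_option autoImplicit false
open RootPairing
open scoped Pointwise
open RootD

namespace Groth.Agent.S5471

/-- In a reduced irreducible root datum the ratios of squared root lengths to the minimal one form one
of the sets {1}, {1, 2}, {1, 3}. -/
theorem result {ι M N : Type*} [AddCommGroup M] [AddCommGroup N]
    (P : RootPairing ι ℤ M N) [Finite ι] [Fintype ι] [Nonempty ι] [P.IsReduced]
    (hirr : ∀ R' : Set ι, RootD.IsClosedSub P R' → RootD.IsSymmSub P R' → RootD.IsClosedSub P R'ᶜ →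
      RootD.IsSymmSub P R'ᶜ → R' = ∅ ∨ R' = Set.univ)
    (i₀ : ι) (hmin : ∀ i : ι, P.RootForm (P.root i₀) (P.root i₀) ≤ P.RootForm (P.root i) (P.root i)) :
    (∀ i : ι, P.RootForm (P.root i) (P.root i) = P.RootForm (P.root i₀) (P.root i₀) ∨
        P.RootForm (P.root i) (P.root i) = 2 * P.RootForm (P.root i₀) (P.root i₀) ∨
        P.RootForm (P.root i) (P.root i) = 3 * P.RootForm (P.root i₀) (P.root i₀)) ∧
      ¬ ((∃ i : ι, P.RootForm (P.root i) (P.root i) = 2 * P.RootForm (P.root i₀) (P.root i₀)) ∧
          ∃ j : ι, P.RootForm (P.root j) (P.root j) = 3 * P.RootForm (P.root i₀) (P.root i₀)) := by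
  have := Module.IsReflexive.of_isPerfPair P.toLinearMap
  -- length ratios between non-orthogonal roots
  have hratio : ∀ a b : ι, ¬ P.IsOrthogonal a b →
      P.RootForm (P.root b) (P.root b) = P.RootForm (P.root a) (P.root a) ∨
      P.RootForm (P.root b) (P.root b) = 2 * P.RootForm (P.root a) (P.root a) ∨
      P.RootForm (P.root b) (P.root b) = 3 * P.RootForm (P.root a) (P.root a) ∨
      P.RootForm (P.root a) (P.root a) = 2 * P.RootForm (P.root b) (P.root b) ∨
      P.RootForm (P.root a) (P.root a) = 3 * P.RootForm (P.root b) (P.root b) := by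
    intro a b hab
    have h1 := Groth.Agent.H8.two_mul_rootForm_root P a b
    have h2 := Groth.Agent.H8.two_mul_rootForm_root P b a
    rw [Groth.Agent.H8.rootForm_comm P (P.root b)] at h2
    have hrel : P.RootForm (P.root a) (P.root a) * P.pairing b a =
        P.RootForm (P.root b) (P.root b) * P.pairing a b := by rw [← h1, ← h2]
    by_cases he : P.root a = P.root b
    · left; rw [he]
    by_cases he' : P.root a = -P.root b
    · left; rw [he']; simp
    have hset := P.pairingIn_pairingIn_mem_set_of_isCrystal_of_isRed' a b he he'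
    simp only [Groth.Agent.H8.pairingIn_eq, Set.mem_insert_iff, Set.mem_singleton_iff,
      Prod.mk.injEq] at hset
    rcases hset with h | h | h | h | h | h | h | h | h | h | h <;> obtain ⟨hp, hq⟩ := h <;>
      rw [hp, hq] at hrel
    · exact absurd ⟨hp, hq⟩ hab
    all_goals omega
  have hpos0 := Groth.Agent.H8.rootForm_root_pos P i₀
  constructor
  · intro i
    obtain ⟨w, hw, hno⟩ := Groth.Agent.H8.exists_weyl_not_orth P hirr i₀ i
    have hlen := Groth.Agent.H8.rootForm_root_weyl_smul P hw i₀
    have hmi := hmin i
    have hposi := Groth.Agent.H8.rootForm_root_pos P i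
    rcases hratio _ _ hno with h | h | h | h | h <;> rw [hlen] at h
    · left; exact h
    · right; left; exact h
    · right; right; exact h
    · omega
    · omega
  · rintro ⟨⟨i, hi⟩, ⟨j, hj⟩⟩
    obtain ⟨w, hw, hno⟩ := Groth.Agent.H8.exists_weyl_not_orth P hirr i j
    have hlen := Groth.Agent.H8.rootForm_root_weyl_smul P hw i
    rcases hratio _ _ hno with h | h | h | h | h <;> rw [hlen, hi, hj] at h <;> omega

end Groth.Agent.S5471
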