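import Groth.Statements.S5473
import Groth.Agent.H8.RootLib
-- import your own Groth.Agent.* helpers here

set_option autoImplicit false
open RootD

namespace Groth.Agent.S5473

/-- If a linear map f and its transpose g induce bijections from the roots of R' onto the roots of R and
from the coroots of R onto the coroots of R' respectively (a morphism of root data in the
two-bijection sense), then the two bijections correspond: the coroot of α' is g applied to the
coroot of f(α'). -/
theorem result {ι M N ι' M' N' : Type*} [AddCommGroup M] [AddCommGroup N] [AddCommGroup M'] [AddCommGroup N']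
    (P : RootPairing ι ℤ M N) (P' : RootPairing ι' ℤ M' N') [Finite ι] [Finite ι']
    (f : M' →ₗ[ℤ] M) (g : N →ₗ[ℤ] N') (hfg : ∀ (m' : M') (n : N), P.toLinearMap (f m') n = P'.toLinearMap m' (g n))
    (e : ι' ≃ ι) (he : ∀ i' : ι', f (P'.root i') = P.root (e i'))
    (e' : ι ≃ ι') (he' : ∀ i : ι, g (P.coroot i) = P'.coroot (e' i)) :
    ∀ i' : ι', g (P.coroot (e i')) = P'.coroot i' := by
  intro i'
  classical
  have := Module.IsReflexive.of_isPerfPair P.toLinearMap
  have htf : IsAddTorsionFree M := Groth.Agent.H8.torsionFreeM P
  set a := e i' with ha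
  set b := e'.symm i' with hb
  have hgb : g (P.coroot b) = P'.coroot i' := by rw [he' b, hb, Equiv.apply_symm_apply]
  suffices hab : P.coroot a = P.coroot b by rw [hab, hgb]
  have hpair : ∀ k' : ι', P.toLinearMap (P.root (e k')) (P.coroot b) = P'.pairing k' i' := by
    intro k'
    rw [← he k', hfg, hgb]; rfl
  apply P.injOn_dualMap_subtype_span_root_coroot (Set.mem_range_self a) (Set.mem_range_self b)
  simp only [LinearMap.coe_comp, Function.comp_apply]
  apply Module.Dual.eq_of_preReflection_mapsTo' (Set.finite_range P.root)
  · exact Submodule.subset_span (Set.mem_range_self a)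
  · exact P.coroot_root_two a
  · exact P.mapsTo_reflection_root a
  · show P.toLinearMap.flip (P.coroot b) (P.root a) = 2
    rw [LinearMap.flip_apply, ha, hpair]; simp
  · rintro _ ⟨k, rfl⟩
    obtain ⟨k', rfl⟩ := e.surjective k
    refine ⟨e (P'.reflectionPerm i' k'), ?_⟩
    rw [← he, P'.root_reflectionPerm, P'.reflection_apply_root]
    simp only [Module.preReflection_apply, LinearMap.flip_apply]
    rw [hpair k', map_sub, map_smul, he, he]

end Groth.Agent.S5473
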