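import Groth.Statements.S5474
import Groth.Agent.H8.RootLib
import Mathlib.GroupTheory.FiniteAbelian.Basic
import Mathlib.LinearAlgebra.Dimension.Localization
import Mathlib.LinearAlgebra.Dimension.Torsion.Finite
-- import your own Groth.Agent.* helpers here

set_option autoImplicit false
open RootD

namespace Groth.Agent.S5474


lemma torsion_of_finrank {M : Type*} [AddCommGroup M] [Module.Finite ℤ M]
    (S : Submodule ℤ M) (h : Module.finrank ℤ S = Module.finrank ℤ M) (x : M) :
    ∃ n : ℤ, n ≠ 0 ∧ n • x ∈ S := by
  have h1 := Submodule.finrank_quotient_add_finrank S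
  have h0 : Module.finrank ℤ (M ⧸ S) = 0 := by omega
  have ht := (Module.finrank_eq_zero_iff_isTorsion).mp h0
  obtain ⟨⟨a, ha⟩, hax⟩ := @ht (Submodule.Quotient.mk x)
  refine ⟨a, nonZeroDivisors.ne_zero ha, ?_⟩
  have : Submodule.Quotient.mk (a • x) = (0 : M ⧸ S) := by
    rw [Submodule.Quotient.mk_smul]; exact hax
  exact (Submodule.Quotient.mk_eq_zero S).mp this

/-- Every morphism between semisimple root data is an isogeny (injective on weight lattices with finite
cokernel). -/
theorem result {ι M N ι' M' N' : Type*} [AddCommGroup M] [AddCommGroup N] [AddCommGroup M'] [AddCommGroup N']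
    (P : RootPairing ι ℤ M N) (P' : RootPairing ι' ℤ M' N') [Finite ι] [Finite ι']
    [Module.Finite ℤ M] [Module.Finite ℤ N] [Module.Finite ℤ M'] [Module.Finite ℤ N']
    (hss : Module.finrank ℤ (Submodule.span ℤ (Set.range P.root)) = Module.finrank ℤ M)
    (hss' : Module.finrank ℤ (Submodule.span ℤ (Set.range P'.root)) = Module.finrank ℤ M')
    (f : RootPairing.Hom P' P) :
    Function.Injective f.weightMap ∧ Finite (M ⧸ LinearMap.range f.weightMap) := by
  have hrefl := Module.IsReflexive.of_isPerfPair P'.toLinearMap
  haveI : Fintype ι' := Fintype.ofFinite ι'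
  have htr : ∀ (m' : M') (n : N),
      P.toLinearMap (f.weightMap m') n = P'.toLinearMap m' (f.coweightMap n) := by
    intro m' n
    have h := LinearMap.congr_fun (RootPairing.Hom.weight_coweight_transpose_apply P' P n f) m'
    simpa using h
  refine ⟨?_, ?_⟩
  · -- injectivity
    rw [← LinearMap.ker_eq_bot, Submodule.eq_bot_iff]
    intro x hx
    rw [LinearMap.mem_ker] at hx
    have hperp : ∀ j : ι', P'.toLinearMap x (P'.coroot j) = 0 := by
      intro j
      have h1 := RootPairing.Hom.coroot_coweightMap_apply P' P (f.indexEquiv j) f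
      rw [Equiv.symm_apply_apply] at h1
      rw [← h1, ← htr, hx, map_zero, LinearMap.zero_apply]
    obtain ⟨n, hn, hnx⟩ := torsion_of_finrank _ hss' x
    have hform : P'.RootForm (n • x) (n • x) = 0 := by
      rw [RootPairing.rootForm_apply_apply]
      refine Finset.sum_eq_zero (fun j _ => ?_)
      have : P'.coroot' j (n • x) = 0 := by
        simp only [RootPairing.coroot', map_zsmul]
        have := hperp j
        simp only [LinearMap.flip_apply] at this ⊢
        rw [this, smul_zero]
      rw [this, zero_mul]
    have hnx0 : n • x = 0 := by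
      by_contra hne
      have := Groth.Agent.H8.rootForm_self_pos P' hnx hne
      rw [hform] at this
      exact lt_irrefl 0 this
    exact Groth.Agent.H8.zsmul_cancel P' hn (by rw [hnx0, smul_zero])
  · -- finite cokernel
    have hle : Submodule.span ℤ (Set.range P.root) ≤ LinearMap.range f.weightMap := by
      rw [Submodule.span_le]
      rintro _ ⟨i, rfl⟩
      refine ⟨P'.root (f.indexEquiv.symm i), ?_⟩
      rw [RootPairing.Hom.root_weightMap_apply, Equiv.apply_symm_apply]
    apply Module.finite_of_fg_torsion
    intro y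
    obtain ⟨x, rfl⟩ := Submodule.Quotient.mk_surjective _ y
    obtain ⟨n, hn, hnx⟩ := torsion_of_finrank _ hss x
    refine ⟨⟨n, mem_nonZeroDivisors_of_ne_zero hn⟩, ?_⟩
    rw [Submonoid.mk_smul, ← Submodule.Quotient.mk_smul, Submodule.Quotient.mk_eq_zero]
    exact hle hnx

end Groth.Agent.S5474
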