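import Groth.Statements.S5475
import Groth.Agent.H8.PosSys
import Groth.Agent.S5508
-- import your own Groth.Agent.* helpers here

set_option autoImplicit false
open RootD

namespace Groth.Agent.S5475

/-- In an adjoint root datum every indivisible root is an indivisible element of the weight lattice. -/
theorem result {ι M N : Type*} [AddCommGroup M] [AddCommGroup N]
    (P : RootPairing ι ℤ M N) [Finite ι] (had : Submodule.span ℤ (Set.range P.root) = ⊤)
    (i : ι) (hind : RootD.IsIndiv P i) (m : M) (n : ℤ) (h : n • m = P.root i) : n = 1 ∨ n = -1 := by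
  classical
  obtain ⟨S, hS⟩ := Groth.Agent.H8.exists_posSys (P := P)
  have hΔ0 := Groth.Agent.H8.isSimpleSys_indec hS
  obtain ⟨g, -, d, hd, hgd⟩ := (Groth.Agent.S5508.result P _ hΔ0).2 i hind
  have hΔ := Groth.Agent.H8.isSimpleSys_image g hΔ0
  set Δ := (fun j => g • j) '' Groth.Agent.H8.indec (P := P) S with hΔdef
  have hiΔ : i ∈ Δ := ⟨d, hd, hgd⟩
  have hm : m ∈ Submodule.span ℤ (P.root '' Δ) := by
    have hle : Submodule.span ℤ (Set.range P.root) ≤ Submodule.span ℤ (P.root '' Δ) := by
      rw [Submodule.span_le]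
      rintro _ ⟨k, rfl⟩
      exact Groth.Agent.H8.root_mem_span hΔ k
    exact hle (had ▸ Submodule.mem_top)
  obtain ⟨c, hc, hlc⟩ := (Finsupp.mem_span_image_iff_linearCombination ℤ).mp hm
  have h1 : n • c = Finsupp.single i 1 := by
    apply Groth.Agent.H8.eq_of_lc_eq hΔ (Submodule.smul_mem _ _ hc)
      (Finsupp.single_mem_supported ℤ _ hiΔ)
    rw [map_smul, hlc, h, Finsupp.linearCombination_single, one_smul]
  have h2 := congrArg (fun f => f i) h1
  simp only [Finsupp.coe_smul, Pi.smul_apply, smul_eq_mul, Finsupp.single_eq_same] at h2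
  exact Int.eq_one_or_neg_one_of_mul_eq_one h2

end Groth.Agent.S5475
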