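import Groth.Statements.S5478
import Groth.Agent.H8.RootLib
-- import your own Groth.Agent.* helpers here

set_option autoImplicit false
open RootPairing
open scoped Pointwise
open RootD

namespace Groth.Agent.S5478

/-- The group of automorphisms of a root datum that act trivially on the radical is finite. -/
theorem result {ι M N : Type*} [AddCommGroup M] [AddCommGroup N]
    (P : RootPairing ι ℤ M N) [Finite ι] :
    Set.Finite {u : P.Aut | ∀ m : M, ∃ n : ℕ, 0 < n ∧ n • (u • m - m) ∈ Submodule.span ℤ (Set.range P.root)} := by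
  apply Set.Finite.of_finite_image (f := fun u : P.Aut => RootPairing.Equiv.indexHom P u)
  · exact Set.toFinite _
  · intro u hu v hv huv
    have huv' : ∀ i : ι, u • i = v • i := fun i => congrArg (fun σ : Equiv.Perm ι => σ i) huv
    have hfix : ∀ i : ι, (v⁻¹ * u) • i = i := by
      intro i
      rw [mul_smul, huv' i, inv_smul_smul]
    have hs' : ∀ m : M, ∃ n : ℕ, 0 < n ∧
        n • ((v⁻¹ * u) • m - m) ∈ Submodule.span ℤ (Set.range P.root) := by
      intro m
      obtain ⟨a, ha, hma⟩ := hu m
      obtain ⟨b, hb, hmb⟩ := hv (v⁻¹ • m)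
      refine ⟨a * b, Nat.mul_pos ha hb, ?_⟩
      have e : (v⁻¹ * u) • m - m = v⁻¹ • (u • m - m) - (v • (v⁻¹ • m) - v⁻¹ • m) := by
        rw [smul_inv_smul, mul_smul, smul_sub]; abel
      rw [e, smul_sub]
      apply Submodule.sub_mem
      · rw [mul_comm, mul_smul, smul_comm a v⁻¹]
        exact nsmul_mem (Groth.Agent.H8.smul_mem_rootSpan P v⁻¹ hma) b
      · rw [mul_smul]
        exact nsmul_mem hmb a
    have h1 := Groth.Agent.H8.aut_eq_one_of_fix P (v⁻¹ * u) hs' hfix
    have h2 : u = v := by
      have := congrArg (fun x => v * x) h1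
      simp only [mul_one] at this
      rw [← this, ← mul_assoc, mul_inv_cancel, one_mul]
    exact h2

end Groth.Agent.S5478
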