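import Groth.Statements.S5479
import Groth.Agent.H8.Word
import Groth.Agent.H8.PosSys
import Groth.Agent.S5455
-- import your own Groth.Agent.* helpers here

set_option autoImplicit false
open RootPairing
open scoped Pointwise
open RootD

namespace Groth.Agent.S5479


lemma img_mul {ι M N : Type*} [AddCommGroup M] [AddCommGroup N] {P : RootPairing ι ℤ M N}
    (g h : P.Aut) (S : Set ι) :
    (fun i : ι => (g * h) • i) '' S = (fun i : ι => g • i) '' ((fun i : ι => h • i) '' S) := by
  rw [Set.image_image]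
  simp only [mul_smul]

lemma img_one {ι M N : Type*} [AddCommGroup M] [AddCommGroup N] {P : RootPairing ι ℤ M N}
    (S : Set ι) : (fun i : ι => (1 : P.Aut) • i) '' S = S := by
  simp

/-- Aut(R) is the semidirect product of the Weyl group by the stabiliser E_Δ of a system of simple
roots: every automorphism is uniquely w · e with w ∈ W and e(Δ) = Δ. -/
theorem result {ι M N : Type*} [AddCommGroup M] [AddCommGroup N]
    (P : RootPairing ι ℤ M N) [Finite ι] (Δ : Set ι) (hΔ : RootD.IsSimpleSys P Δ) (u : P.Aut) :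
    ∃! w : P.weylGroup, (fun i : ι => ((w : P.Aut)⁻¹ * u) • i) '' Δ = Δ := by
  have key : ∀ w : P.Aut, (fun i : ι => (w⁻¹ * u) • i) '' Δ = Δ ↔
      (fun i : ι => u • i) '' Δ = (fun i : ι => w • i) '' Δ := by
    intro w
    constructor
    · intro h
      conv_rhs => rw [← h]
      rw [← img_mul, mul_inv_cancel_left]
    · intro h
      rw [img_mul, h, ← img_mul, inv_mul_cancel, img_one]
  obtain ⟨g, hg, hgΔ⟩ := Groth.Agent.S5455.result P Δ _ hΔ
    (Groth.Agent.H8.isSimpleSys_image u hΔ)
  refine ⟨⟨g, hg⟩, (key g).mpr hgΔ.symm, ?_⟩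
  rintro ⟨w, hw⟩ hwΔ
  have h1 := (key w).mp hwΔ
  have h2 : (fun i : ι => (g⁻¹ * w) • i) '' Δ = Δ := by
    rw [img_mul, ← h1, ← hgΔ, ← img_mul, inv_mul_cancel, img_one]
  have h3 := Groth.Agent.H8.eq_one_of_stab hΔ
    (Subgroup.mul_mem _ (Subgroup.inv_mem _ hg) hw) h2
  apply Subtype.ext
  simp only
  rw [← mul_inv_cancel_left g w, h3, mul_one]

end Groth.Agent.S5479
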