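import Groth.Statements.S5480
import Groth.Agent.H8.RootLib
-- import your own Groth.Agent.* helpers here

set_option autoImplicit false
open RootD

namespace Groth.Agent.S5480


open Groth.Agent.H8

lemma weyl_eq_of_idx {ι M N : Type*} [AddCommGroup M] [AddCommGroup N]
    (P : RootPairing ι ℤ M N) [Finite ι] {w1 w2 : P.Aut} (h1 : w1 ∈ P.weylGroup)
    (h2 : w2 ∈ P.weylGroup) (h : ∀ i : ι, w1 • i = w2 • i) : w1 = w2 := by
  have hw : w2⁻¹ * w1 ∈ P.weylGroup := Subgroup.mul_mem _ (Subgroup.inv_mem _ h2) h1
  have : w2⁻¹ * w1 = 1 := by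
    apply aut_eq_one_of_fix P
    · intro m
      exact ⟨1, one_pos, by rw [one_smul]; exact weyl_sub_mem_rootSpan P hw m⟩
    · intro i
      rw [mul_smul, h i, inv_smul_smul]
  rw [← mul_inv_cancel_left w2 w1, this, mul_one]

/-- For a p-morphism of reduced root data with root bijection u and radicial exponents q: (a) for all
roots α, β one has q(s_α(β)) = q(β) and u(s_α(β)) = s_{u(α)}(u(β)); (b) the exponents are invariant
under the Weyl group, q(w(α)) = q(α); (c) there is an isomorphism ū from the Weyl group of the first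
datum to that of the second with ū(s_α) = s_{u(α)} and u(w(α)) = ū(w)(u(α)) for every Weyl group
element w and every root α. -/
theorem result {ι M N ι' M' N' : Type*} [AddCommGroup M] [AddCommGroup N] [AddCommGroup M'] [AddCommGroup N']
    (P : RootPairing ι ℤ M N) (P' : RootPairing ι' ℤ M' N') [Finite ι] [Finite ι'] [P.IsReduced] [P'.IsReduced]
    (p : ℕ) (hp : 0 < p) (f : M' →ₗ[ℤ] M) (g : N →ₗ[ℤ] N')
    (hfg : ∀ (m' : M') (n : N), P.toLinearMap (f m') n = P'.toLinearMap m' (g n))
    (u : ι ≃ ι') (q : ι → ℕ) (hq : ∀ i, ∃ e : ℕ, q i = p ^ e)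
    (hroot : ∀ i : ι, f (P'.root (u i)) = (q i : ℤ) • P.root i)
    (hcoroot : ∀ i : ι, g (P.coroot i) = (q i : ℤ) • P'.coroot (u i)) :
    (∀ i j : ι, q (P.reflectionPerm i j) = q j ∧ u (P.reflectionPerm i j) = P'.reflectionPerm (u i) (u j)) ∧
      (∀ w ∈ P.weylGroup, ∀ i : ι, q (w • i) = q i) ∧
      ∃ ubar : P.weylGroup ≃* P'.weylGroup,
        (∀ i : ι, ubar (RootPairing.weylGroup.ofIdx P i) = RootPairing.weylGroup.ofIdx P' (u i)) ∧
        ∀ (w : P.weylGroup) (i : ι), u ((w : P.Aut) • i) = ((ubar w : P'.weylGroup) : P'.Aut) • u i := by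
  have hrefl := Module.IsReflexive.of_isPerfPair P.toLinearMap
  have hqpos : ∀ i, 0 < q i := by
    intro i; obtain ⟨e, he⟩ := hq i; rw [he]; exact pow_pos hp e
  have hA : ∀ i j, (q j : ℤ) * P.pairing j i = (q i : ℤ) * P'.pairing (u j) (u i) := by
    intro i j
    have h := hfg (P'.root (u j)) (P.coroot i)
    rw [hroot j, hcoroot i, map_smul, map_smul, LinearMap.smul_apply,
      RootPairing.root_coroot_eq_pairing, RootPairing.root_coroot_eq_pairing] at h
    simpa [smul_eq_mul] using h
  -- (a)
  have ha : ∀ i j : ι, q (P.reflectionPerm i j) = q j ∧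
      u (P.reflectionPerm i j) = P'.reflectionPerm (u i) (u j) := by
    intro i j
    set k := P.reflectionPerm i j with hk
    set k' := P'.reflectionPerm (u i) (u j) with hk'
    set k'' := u.symm k' with hk''
    have h1 : f (P'.root k') = (q j : ℤ) • P.root k := by
      have e1 : f (P'.root k') = (q j : ℤ) • P.root j -
          (P'.pairing (u j) (u i) * (q i : ℤ)) • P.root i := by
        rw [hk', RootPairing.root_reflectionPerm, RootPairing.reflection_apply_root, map_sub,
          map_smul, hroot, hroot, smul_smul]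
      have e2 : P.root k = P.root j - P.pairing j i • P.root i := by
        rw [hk, RootPairing.root_reflectionPerm, RootPairing.reflection_apply_root]
      rw [e1, e2, smul_sub, smul_smul, mul_comm (P'.pairing (u j) (u i)), ← hA i j]
    have h2 : f (P'.root k') = (q k'' : ℤ) • P.root k'' := by
      rw [← hroot k'', hk'', Equiv.apply_symm_apply]
    have heq : (q k'' : ℤ) • P.root k'' = (q j : ℤ) • P.root k := h2.symm.trans h1
    have hdep : ¬ LinearIndependent ℤ ![P.root k'', P.root k] := by
      intro hli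
      have := LinearIndependent.pair_iff.mp hli (q k'' : ℤ) (-(q j : ℤ))
        (by rw [heq, neg_smul, add_neg_cancel])
      have := hqpos k''
      omega
    have hne0 : P.root k ≠ 0 := P.ne_zero k
    rcases RootPairing.IsReduced.eq_or_eq_neg k'' k hdep with h | h
    · have hkk : k'' = k := P.root.injective h
      rw [h] at heq
      have hq' : ((q k'' : ℤ) - (q j : ℤ)) • P.root k = 0 := by
        rw [sub_smul, heq, sub_self]
      have hq0 : (q k'' : ℤ) - (q j : ℤ) = 0 := by
        by_contra hne
        exact hne0 (Groth.Agent.H8.zsmul_cancel P hne (by rw [hq', smul_zero]))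
      refine ⟨?_, ?_⟩
      · rw [← hkk]; omega
      · rw [← hkk, hk'', Equiv.apply_symm_apply]
    · exfalso
      rw [h, smul_neg] at heq
      have hq' : ((q k'' : ℤ) + (q j : ℤ)) • P.root k = 0 := by
        rw [add_smul, ← heq, add_neg_cancel]
      have hq0 : (q k'' : ℤ) + (q j : ℤ) = 0 := by
        by_contra hne
        exact hne0 (Groth.Agent.H8.zsmul_cancel P hne (by rw [hq', smul_zero]))
      have := hqpos k''
      have := hqpos j
      omega
  -- (b)
  have hb : ∀ w ∈ P.weylGroup, ∀ i : ι, q (w • i) = q i := by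
    intro w hw
    induction hw using Subgroup.closure_induction with
    | mem x hx =>
      obtain ⟨k, rfl⟩ := hx
      intro i
      rw [reflection_smul_idx]
      exact (ha k i).1
    | one => intro i; rw [one_smul]
    | mul x y _ _ hx hy => intro i; rw [mul_smul, hx, hy]
    | inv x _ hx =>
      intro i
      have := hx (x⁻¹ • i)
      rw [smul_inv_smul] at this
      exact this.symm
  refine ⟨ha, hb, ?_⟩
  -- (c)
  have hex : ∀ w : P.Aut, w ∈ P.weylGroup →
      ∃ w' : P'.Aut, w' ∈ P'.weylGroup ∧ ∀ i : ι, u (w • i) = w' • u i := by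
    intro w hw
    induction hw using Subgroup.closure_induction with
    | mem x hx =>
      obtain ⟨k, rfl⟩ := hx
      refine ⟨RootPairing.Equiv.reflection P' (u k), P'.reflection_mem_weylGroup _, ?_⟩
      intro i
      rw [reflection_smul_idx, reflection_smul_idx]
      exact (ha k i).2
    | one => exact ⟨1, Subgroup.one_mem _, fun i => by rw [one_smul, one_smul]⟩
    | mul x y _ _ hx hy =>
      obtain ⟨x', hx'W, hx'⟩ := hx
      obtain ⟨y', hy'W, hy'⟩ := hy
      exact ⟨x' * y', Subgroup.mul_mem _ hx'W hy'W, fun i => by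
        rw [mul_smul, hx', hy', mul_smul]⟩
    | inv x _ hx =>
      obtain ⟨x', hx'W, hx'⟩ := hx
      refine ⟨x'⁻¹, Subgroup.inv_mem _ hx'W, fun i => ?_⟩
      have := hx' (x⁻¹ • i)
      rw [smul_inv_smul] at this
      rw [this, inv_smul_smul]
  choose φ hφW hφ using fun w : P.weylGroup => hex w.1 w.2
  have huniq : ∀ (w : P.weylGroup) (w' : P'.Aut), w' ∈ P'.weylGroup →
      (∀ i : ι, u ((w : P.Aut) • i) = w' • u i) → φ w = w' := by
    intro w w' hw' h
    apply weyl_eq_of_idx P' (hφW w) hw'
    intro i'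
    obtain ⟨i, rfl⟩ := u.surjective i'
    rw [← hφ w i, h i]
  let Φ : P.weylGroup →* P'.weylGroup :=
    { toFun := fun w => ⟨φ w, hφW w⟩
      map_one' := by
        apply Subtype.ext
        exact huniq 1 1 (Subgroup.one_mem _) (fun i => by simp)
      map_mul' := by
        intro x y
        apply Subtype.ext
        exact huniq (x * y) (φ x * φ y) (Subgroup.mul_mem _ (hφW x) (hφW y))
          (fun i => by
            rw [Subgroup.coe_mul, mul_smul, hφ x, hφ y, mul_smul]) }
  have hΦ : ∀ w : P.weylGroup, ((Φ w : P'.weylGroup) : P'.Aut) = φ w := fun w => rfl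
  have hinj : Function.Injective Φ := by
    intro x y hxy
    have h1 : φ x = φ y := by rw [← hΦ, ← hΦ, hxy]
    apply Subtype.ext
    apply weyl_eq_of_idx P x.2 y.2
    intro i
    apply u.injective
    rw [hφ x, hφ y, h1]
  have hofIdx : ∀ k : ι, Φ (RootPairing.weylGroup.ofIdx P k) = RootPairing.weylGroup.ofIdx P' (u k) := by
    intro k
    apply Subtype.ext
    rw [hΦ]
    apply huniq _ _ (P'.reflection_mem_weylGroup _)
    intro i
    show u (RootPairing.Equiv.reflection P k • i) = RootPairing.Equiv.reflection P' (u k) • u i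
    rw [reflection_smul_idx, reflection_smul_idx]
    exact (ha k i).2
  have hsurj : Function.Surjective Φ := by
    rintro ⟨w', hw'⟩
    suffices H : ∃ w : P.weylGroup, ((Φ w : P'.weylGroup) : P'.Aut) = w' by
      obtain ⟨w, hw⟩ := H
      exact ⟨w, Subtype.ext hw⟩
    induction hw' using Subgroup.closure_induction with
    | mem x hx =>
      obtain ⟨k', rfl⟩ := hx
      refine ⟨RootPairing.weylGroup.ofIdx P (u.symm k'), ?_⟩
      rw [hofIdx, Equiv.apply_symm_apply]
      rfl
    | one => exact ⟨1, by rw [map_one]; rfl⟩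
    | mul x y _ _ hx hy =>
      obtain ⟨a, ha'⟩ := hx
      obtain ⟨b, hb'⟩ := hy
      exact ⟨a * b, by rw [map_mul, Subgroup.coe_mul, ha', hb']⟩
    | inv x _ hx =>
      obtain ⟨a, ha'⟩ := hx
      exact ⟨a⁻¹, by rw [map_inv, Subgroup.coe_inv, ha']⟩
  refine ⟨MulEquiv.ofBijective Φ ⟨hinj, hsurj⟩, ?_, ?_⟩
  · intro k
    exact hofIdx k
  · intro w i
    exact hφ w i

end Groth.Agent.S5480
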