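import Groth.Statements.S5483
import Groth.Agent.H8.RootLib
import Groth.Agent.S5467
-- import your own Groth.Agent.* helpers here

set_option autoImplicit false
open RootD

namespace Groth.Agent.S5483

/-- If a system of simple roots Δ is the disjoint union of two mutually orthogonal subsets Δ', Δ'', then
R_{Δ'} and R_{Δ''} partition the set of roots. -/
theorem result {ι M N : Type*} [AddCommGroup M] [AddCommGroup N]
    (P : RootPairing ι ℤ M N) [Finite ι] (Δ Δ' : Set ι) (hΔ : RootD.IsSimpleSys P Δ)
    (hsub : Δ' ⊆ Δ) (horth : ∀ i ∈ Δ', ∀ j ∈ Δ \ Δ', P.IsOrthogonal i j) (k : ι) :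
    (k ∈ RootD.inSpan P Δ' ∨ k ∈ RootD.inSpan P (Δ \ Δ')) ∧
      ¬ (k ∈ RootD.inSpan P Δ' ∧ k ∈ RootD.inSpan P (Δ \ Δ')) := by
  classical
  have := Fintype.ofFinite ι
  have hsub2 : Δ \ Δ' ⊆ Δ := Set.sdiff_subset
  have hpr : ∀ i k : ι, P.pairing (P.reflectionPerm i k) i = - P.pairing k i := by
    intro i k
    rw [← P.pairing_reflectionPerm i k i, RootPairing.pairing_reflectionPerm_self_right]
  have hzero : ∀ (A : Set ι) (x i : ι), Groth.Agent.H8.coef hΔ x ∈ Finsupp.supported ℤ ℤ A →
      (∀ a ∈ A, P.pairing a i = 0) → P.pairing x i = 0 := by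
    intro A x i hx ha
    rw [Groth.Agent.H8.pairing_eq_sum_coef hΔ]
    apply Finset.sum_eq_zero
    intro a _
    by_cases haA : a ∈ A
    · rw [ha a haA, mul_zero]
    · have : Groth.Agent.H8.coef hΔ x a = 0 := by
        by_contra hne
        exact haA (hx (Finsupp.mem_support_iff.mpr hne))
      rw [this, zero_mul]
  have key : ∀ n : ℕ, ∀ k : ι, k ∈ RootD.posOf P Δ → Groth.Agent.H8.height hΔ k ≤ n →
      Groth.Agent.H8.coef hΔ k ∈ Finsupp.supported ℤ ℤ Δ' ∨
        Groth.Agent.H8.coef hΔ k ∈ Finsupp.supported ℤ ℤ (Δ \ Δ') := by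
    intro n
    induction n with
    | zero =>
      intro k hk hh
      have := Groth.Agent.H8.one_le_height hΔ hk
      omega
    | succ n ih =>
      intro k hk hh
      by_cases hind : RootD.IsIndiv P k
      · by_cases hkΔ : k ∈ Δ
        · rw [Groth.Agent.H8.coef_simple hΔ hkΔ]
          by_cases hk' : k ∈ Δ'
          · left; exact Finsupp.single_mem_supported ℤ 1 hk'
          · right; exact Finsupp.single_mem_supported ℤ 1 ⟨hkΔ, hk'⟩
        · obtain ⟨i, hi, hpos, hpos'⟩ := Groth.Agent.S5467.result P Δ hΔ k hk hkΔ hind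
          have hht := Groth.Agent.H8.height_reflectionPerm hΔ hi k
          have ih' := ih _ hpos' (by rw [hht]; push_cast at hh; omega)
          have hck : Groth.Agent.H8.coef hΔ k = Groth.Agent.H8.coef hΔ (P.reflectionPerm i k) +
              P.pairing k i • Finsupp.single i 1 := by
            rw [Groth.Agent.H8.coef_reflectionPerm, Groth.Agent.H8.coef_simple hΔ hi]; abel
          rcases ih' with h | h
          · by_cases hiA : i ∈ Δ'
            · left; rw [hck]
              exact Submodule.add_mem _ h (Submodule.smul_mem _ _ (Finsupp.single_mem_supported ℤ 1 hiA))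
            · exfalso
              have h0 := hzero Δ' _ i h (fun a ha => (horth a ha i ⟨hi, hiA⟩).1)
              rw [hpr] at h0
              omega
          · by_cases hiA : i ∈ Δ'
            · exfalso
              have h0 := hzero (Δ \ Δ') _ i h (fun a ha => (horth i hiA a ha).2)
              rw [hpr] at h0
              omega
            · right; rw [hck]
              exact Submodule.add_mem _ h
                (Submodule.smul_mem _ _ (Finsupp.single_mem_supported ℤ 1 ⟨hi, hiA⟩))
      · simp only [RootD.IsIndiv, not_forall, not_not] at hind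
        obtain ⟨j, hj⟩ := hind
        have hroot : P.root k = P.root j + P.root j := by rw [← hj, two_smul]
        have hcj := Groth.Agent.H8.coef_add hΔ hroot
        have hjpos : j ∈ RootD.posOf P Δ := by
          rw [Groth.Agent.H8.mem_posOf_iff hΔ]
          intro l
          have := (Groth.Agent.H8.mem_posOf_iff hΔ k).mp hk l
          rw [hcj] at this
          simp only [Finsupp.coe_add, Pi.add_apply] at this
          omega
        have hhj := Groth.Agent.H8.height_add hΔ hroot
        have := Groth.Agent.H8.one_le_height hΔ hjpos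
        rcases ih j hjpos (by push_cast at hh; omega) with h | h
        · left; rw [hcj]; exact Submodule.add_mem _ h h
        · right; rw [hcj]; exact Submodule.add_mem _ h h
  constructor
  · rw [Groth.Agent.H8.mem_inSpan_iff hΔ hsub, Groth.Agent.H8.mem_inSpan_iff hΔ hsub2]
    rcases hΔ.mem_or_neg_mem k with h | h
    · exact key _ k h (Int.self_le_toNat _)
    · have hk' : P.reflectionPerm k k ∈ RootD.posOf P Δ := by
        show P.root (P.reflectionPerm k k) ∈ RootD.natSpan P Δ
        rw [Groth.Agent.H8.root_neg]; exact h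
      have hneg := Groth.Agent.H8.coef_neg hΔ k
      rcases key _ _ hk' (Int.self_le_toNat _) with h' | h'
      · left
        rw [hneg] at h'
        simpa using Submodule.neg_mem _ h'
      · right
        rw [hneg] at h'
        simpa using Submodule.neg_mem _ h'
  · rintro ⟨h1, h2⟩
    rw [Groth.Agent.H8.mem_inSpan_iff hΔ hsub] at h1
    rw [Groth.Agent.H8.mem_inSpan_iff hΔ hsub2] at h2
    apply Groth.Agent.H8.coef_ne_zero hΔ k
    ext a
    by_contra hne
    have ha1 := h1 (Finsupp.mem_support_iff.mpr hne)
    have ha2 := h2 (Finsupp.mem_support_iff.mpr hne)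
    exact ha2.2 ha1

end Groth.Agent.S5483
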