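import Groth.Statements.S5505
import Groth.Agent.S5497
import Mathlib.LinearAlgebra.RootSystem.Finite.Lemmas
-- import your own Groth.Agent.* helpers here

set_option autoImplicit false
open RootD

namespace Groth.Agent.S5505

/-- A subset of roots which, together with its complement, is closed and symmetric contains with any
root every root not orthogonal to it; so it is a union of irreducible components. -/
theorem result {ι M N : Type*} [AddCommGroup M] [AddCommGroup N]
    (P : RootPairing ι ℤ M N) [Finite ι] (R' : Set ι) (hc : RootD.IsClosedSub P R')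
    (hs : RootD.IsSymmSub P R') (hc' : RootD.IsClosedSub P R'ᶜ) (hs' : RootD.IsSymmSub P R'ᶜ)
    (i j : ι) (hi : i ∈ R') (hij : ¬ P.IsOrthogonal i j) : j ∈ R' := by
  have hpin : ∀ a b : ι, P.pairingIn ℤ a b = P.pairing a b := fun a b => by
    simpa using P.algebraMap_pairingIn ℤ a b
  by_contra hj
  have part := Groth.Agent.S5497.result P R' hc hs hc' hs'
  have hij' : i ≠ j := fun e => hj (e ▸ hi)
  have hji' : j ≠ i := fun e => hij' e.symm
  have hn1 : P.root i ≠ -P.root j := by
    intro e
    rw [RootPairing.root_eq_neg_iff] at e
    have : P.reflectionPerm j j ∈ R'ᶜ := hs' hj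
    rw [← e] at this
    exact this hi
  have hn2 : P.root j ≠ -P.root i := by
    intro e
    rw [RootPairing.root_eq_neg_iff] at e
    have : P.reflectionPerm i i ∈ R' := hs hi
    rw [← e] at this
    exact hj this
  have hnot : P.pairing i j ≠ 0 ∨ P.pairing j i ≠ 0 := by
    by_contra hcon
    rw [not_or, not_not, not_not] at hcon
    exact hij ⟨hcon.1, hcon.2⟩
  rcases hnot with h1 | h1
  · rcases lt_or_gt_of_ne h1 with h2 | h2
    · obtain ⟨k, hk⟩ := P.root_add_root_mem_of_pairingIn_neg (i := i) (j := j)
        (by rw [hpin]; exact h2) hn1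
      rcases part i j k hk with h | h
      · exact hj h.2.1
      · exact h.1 hi
    · obtain ⟨k, hk⟩ := P.root_sub_root_mem_of_pairingIn_pos (i := i) (j := j)
        (by rw [hpin]; exact h2) hij'
      rcases part k j i (by rw [hk]; abel) with h | h
      · exact hj h.2.1
      · exact h.2.2 hi
  · rcases lt_or_gt_of_ne h1 with h2 | h2
    · obtain ⟨k, hk⟩ := P.root_add_root_mem_of_pairingIn_neg (i := j) (j := i)
        (by rw [hpin]; exact h2) hn2
      rcases part j i k hk with h | h
      · exact hj h.1
      · exact h.2.1 hi
    · obtain ⟨k, hk⟩ := P.root_sub_root_mem_of_pairingIn_pos (i := j) (j := i)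
        (by rw [hpin]; exact h2) hji'
      rcases part k i j (by rw [hk]; abel) with h | h
      · exact hj h.2.2
      · exact h.2.1 hi

end Groth.Agent.S5505
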