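import Groth.Statements.S5482
import Groth.Agent.H8.RootLib
import Groth.Agent.S5467
import Groth.Agent.S5505
import Groth.Agent.S5483
-- import your own Groth.Agent.* helpers here

set_option autoImplicit false
open RootD

namespace Groth.Agent.S5482

/-- If the roots are partitioned into two closed symmetric subsets R', R'', then with Δ' = Δ ∩ R', Δ'' =
Δ ∩ R'' for a system of simple roots Δ one has R' = R_{Δ'}, R'' = R_{Δ''}, and Δ' is orthogonal to
Δ''. -/
theorem result {ι M N : Type*} [AddCommGroup M] [AddCommGroup N]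
    (P : RootPairing ι ℤ M N) [Finite ι] (Δ : Set ι) (hΔ : RootD.IsSimpleSys P Δ) (R' : Set ι)
    (hc : RootD.IsClosedSub P R') (hs : RootD.IsSymmSub P R') (hc' : RootD.IsClosedSub P R'ᶜ)
    (hs' : RootD.IsSymmSub P R'ᶜ) :
    R' = RootD.inSpan P (Δ ∩ R') ∧ R'ᶜ = RootD.inSpan P (Δ \ R') ∧
      ∀ i ∈ Δ ∩ R', ∀ j ∈ Δ \ R', P.IsOrthogonal i j := by
  classical
  have := Fintype.ofFinite ι
  have horth : ∀ i ∈ Δ ∩ R', ∀ j ∈ Δ \ R', P.IsOrthogonal i j := by
    intro i hi j hj
    by_contra h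
    exact hj.2 (Groth.Agent.S5505.result P R' hc hs hc' hs' i j hi.2 h)
  have hsub1 : Δ ∩ R' ⊆ Δ := Set.inter_subset_left
  have hsub2 : Δ \ R' ⊆ Δ := Set.sdiff_subset
  have hdiff : Δ \ (Δ ∩ R') = Δ \ R' := Set.diff_self_inter
  have hA : ∀ k, k ∈ RootD.inSpan P (Δ ∩ R') → k ∈ R' := by
    intro k hk
    have hsupp := Groth.Agent.H8.coef_supported_of_mem_inSpan hΔ hsub1 hk
    obtain ⟨d, hd, hno⟩ := Groth.Agent.H8.exists_coef_ne_not_orth hΔ k
    have hdR : d ∈ Δ ∩ R' := hsupp (Finsupp.mem_support_iff.mpr hd)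
    exact Groth.Agent.S5505.result P R' hc hs hc' hs' d k hdR.2 (fun h => hno h.symm)
  have hB : ∀ k, k ∈ RootD.inSpan P (Δ \ R') → k ∉ R' := by
    intro k hk
    have hsupp := Groth.Agent.H8.coef_supported_of_mem_inSpan hΔ hsub2 hk
    obtain ⟨d, hd, hno⟩ := Groth.Agent.H8.exists_coef_ne_not_orth hΔ k
    have hdR : d ∈ Δ \ R' := hsupp (Finsupp.mem_support_iff.mpr hd)
    have hc'' : RootD.IsClosedSub P R'ᶜᶜ := by rw [compl_compl]; exact hc
    have hs'' : RootD.IsSymmSub P R'ᶜᶜ := by rw [compl_compl]; exact hs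
    exact Groth.Agent.S5505.result P R'ᶜ hc' hs' hc'' hs'' d k hdR.2 (fun h => hno h.symm)
  have hpart : ∀ k, k ∈ RootD.inSpan P (Δ ∩ R') ∨ k ∈ RootD.inSpan P (Δ \ R') := by
    intro k
    have := (Groth.Agent.S5483.result P Δ (Δ ∩ R') hΔ hsub1
      (by rw [hdiff]; exact horth) k).1
    rwa [hdiff] at this
  refine ⟨?_, ?_, horth⟩
  · ext k
    constructor
    · intro hk
      rcases hpart k with h | h
      · exact h
      · exact absurd hk (hB k h)
    · exact hA k
  · ext k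
    constructor
    · intro hk
      rcases hpart k with h | h
      · exact absurd (hA k h) hk
      · exact h
    · exact hB k

end Groth.Agent.S5482
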