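import Groth.Statements.S5484
import Groth.Agent.H8.RootLib
import Mathlib.Analysis.Matrix.PosDef
import Mathlib.Algebra.Order.Star.Real
import Mathlib.LinearAlgebra.Matrix.ToLinearEquiv
-- import your own Groth.Agent.* helpers here

set_option autoImplicit false
open RootD

namespace Groth.Agent.S5484

open Classical in
/-- Every principal minor of the Cartan matrix (a_{α,β} = (α^v, β), α, β simple) is strictly positive. -/
theorem result {ι M N : Type*} [AddCommGroup M] [AddCommGroup N]
    (P : RootPairing ι ℤ M N) [Finite ι] (Δ : Finset ι) (hΔ : RootD.IsSimpleSys P (↑Δ : Set ι))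
    (Δ' : Finset ι) (hsub : Δ' ⊆ Δ) :
    0 < Matrix.det (Matrix.of fun (a b : ↥Δ') => P.pairing (b : ι) (a : ι)) := by
  haveI : Fintype ι := Fintype.ofFinite ι
  set A : Matrix ↥Δ' ↥Δ' ℤ := Matrix.of fun (a b : ↥Δ') => P.pairing (b : ι) (a : ι) with hA
  set G : Matrix ↥Δ' ↥Δ' ℤ := Matrix.of fun (a b : ↥Δ') =>
    P.RootForm (P.root (a : ι)) (P.root (b : ι)) with hG
  set D : Matrix ↥Δ' ↥Δ' ℤ := Matrix.diagonal fun (a : ↥Δ') =>
    P.RootForm (P.root (a : ι)) (P.root (a : ι)) with hD
  have hDA : D * A = (2 : ℤ) • G := by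
    ext a b
    simp only [hD, hA, hG, Matrix.diagonal_mul, Matrix.of_apply, Matrix.smul_apply, smul_eq_mul]
    rw [Groth.Agent.H8.two_mul_rootForm_root]
  have hdetD : 0 < D.det := by
    rw [hD, Matrix.det_diagonal]
    exact Finset.prod_pos (fun a _ => Groth.Agent.H8.rootForm_root_pos P a)
  -- det G ≠ 0
  have hli : LinearIndependent ℤ (fun a : ↥Δ' => P.root (a : ι)) := by
    have h1 : LinearIndepOn ℤ P.root (↑Δ' : Set ι) := hΔ.linInd.mono (by exact_mod_cast hsub)
    exact h1
  have hGne : G.det ≠ 0 := by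
    intro h0
    obtain ⟨v, hv, hGv⟩ := Matrix.exists_mulVec_eq_zero_iff.mpr h0
    set x : M := ∑ a : ↥Δ', v a • P.root (a : ι) with hx
    have hxx : P.RootForm x x = 0 := by
      have : P.RootForm x x = ∑ a : ↥Δ', v a * (Matrix.mulVec G v) a := by
        simp only [hx, map_sum, map_zsmul, LinearMap.sum_apply, LinearMap.smul_apply,
          Matrix.mulVec, dotProduct, hG, Matrix.of_apply, smul_eq_mul, Finset.mul_sum]
        rw [Finset.sum_comm]
        refine Finset.sum_congr rfl (fun a _ => Finset.sum_congr rfl (fun b _ => ?_))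
        ring
      rw [this, hGv]
      simp
    have hxspan : x ∈ Submodule.span ℤ (Set.range P.root) := by
      rw [hx]
      exact Submodule.sum_mem _ (fun a _ => Submodule.smul_mem _ _
        (Submodule.subset_span (Set.mem_range_self _)))
    have hx0 : x = 0 := by
      by_contra hne
      have := Groth.Agent.H8.rootForm_self_pos P hxspan hne
      rw [hxx] at this
      exact lt_irrefl 0 this
    apply hv
    funext a
    exact Fintype.linearIndependent_iff.mp hli v (by rw [← hx0]) a
  -- det G ≥ 0 via the real Gram matrix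
  have hGnn : 0 ≤ G.det := by
    let C : Matrix ι ↥Δ' ℝ := Matrix.of fun (k : ι) (a : ↥Δ') => ((P.pairing (a : ι) k : ℤ) : ℝ)
    have hGC : (Int.castRingHom ℝ).mapMatrix G = Matrix.conjTranspose C * C := by
      ext a b
      simp only [RingHom.mapMatrix_apply, Matrix.map_apply, hG, Matrix.of_apply, Matrix.mul_apply,
        Matrix.conjTranspose_apply, C, star_trivial]
      rw [RootPairing.rootForm_apply_apply, map_sum]
      refine Finset.sum_congr rfl (fun k _ => ?_)
      rw [map_mul]
      simp [RootPairing.coroot', RootPairing.root_coroot_eq_pairing]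
    have hps : (Matrix.conjTranspose C * C).PosSemidef := Matrix.posSemidef_conjTranspose_mul_self C
    have h1 := hps.det_nonneg
    rw [← hGC, ← RingHom.map_det] at h1
    have h2 : (0 : ℝ) ≤ (G.det : ℝ) := h1
    exact_mod_cast h2
  have hGpos : 0 < G.det := lt_of_le_of_ne hGnn (Ne.symm hGne)
  have hmul : D.det * A.det = (2 : ℤ) ^ Fintype.card ↥Δ' * G.det := by
    rw [← Matrix.det_mul, hDA, Matrix.det_smul]
  have : 0 < D.det * A.det := by
    rw [hmul]; positivity
  exact (pos_iff_pos_of_mul_pos this).mp hdetD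

end Groth.Agent.S5484
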