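import Groth.Statements.S5485
import Groth.Agent.H8.Dual
import Groth.Agent.S5446
-- import your own Groth.Agent.* helpers here

set_option autoImplicit false
open RootD

namespace Groth.Agent.S5485

/-- If Δ is a system of simple roots then ind(Δ^v), the set of coroots of Δ with each divisible coroot
replaced by its half, is a system of simple coroots (a system of simple roots of the dual datum). -/
theorem result {ι M N : Type*} [AddCommGroup M] [AddCommGroup N]
    (P : RootPairing ι ℤ M N) [Finite ι] (Δ : Set ι) (hΔ : RootD.IsSimpleSys P Δ) :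
    RootD.IsSimpleSys P.flip {j : ι | ∃ i ∈ Δ, (j = i ∧ RootD.IsIndiv P.flip i) ∨ (2 : ℤ) • P.coroot j = P.coroot i} := by
  classical
  have := Fintype.ofFinite ι
  set Δ' := {j : ι | ∃ i ∈ Δ, (j = i ∧ IsIndiv P.flip i) ∨ (2 : ℤ) • P.coroot j = P.coroot i}
    with hΔ'
  have hli := hΔ.linInd
  have hno2 : ∀ i ∈ Δ, ∀ i' ∈ Δ, P.root i ≠ (2 : ℤ) • P.root i' := by
    intro i hi i' hi' h
    have := Groth.Agent.H8.eq_of_smul_eq_smul_of_linIndep hli hi hi' one_ne_zero
      (by rw [one_smul]; exact h)
    subst this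
    have e : P.root i = (2 : ℤ) • P.root i - P.root i := by rw [two_smul]; abel
    rw [← h, sub_self] at e
    exact P.ne_zero i e
  have hrep' : ∀ j ∈ Δ', ∃ i ∈ Δ, P.root j = P.root i ∨ P.root j = (2 : ℤ) • P.root i := by
    rintro j ⟨i, hi, (⟨rfl, -⟩ | h)⟩
    · exact ⟨j, hi, Or.inl rfl⟩
    · exact ⟨i, hi, Or.inr (Groth.Agent.H8.root_eq_two_smul_of_coroot P h)⟩
  have hrep : ∀ i ∈ Δ, ∃ j ∈ Δ', P.coroot i = P.coroot j ∨ P.coroot i = (2 : ℤ) • P.coroot j := by
    intro i hi
    by_cases hind : IsIndiv P.flip i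
    · exact ⟨i, ⟨i, hi, Or.inl ⟨rfl, hind⟩⟩, Or.inl rfl⟩
    · simp only [IsIndiv, not_forall, not_not, RootPairing.flip_root] at hind
      obtain ⟨j, hj⟩ := hind
      exact ⟨j, ⟨i, hi, Or.inr hj⟩, Or.inr hj.symm⟩
  -- the crossing case is impossible
  have hcross : ∀ x ∈ Δ', ∀ y ∈ Δ', ∀ i ∈ Δ, P.root x = P.root i →
      P.root y = (2 : ℤ) • P.root i → False := by
    intro x hx y hy i hi hxi hyi
    have hxi' : x = i := P.root.injective hxi
    subst hxi'
    obtain ⟨i1, hi1, (⟨hx1, hind1⟩ | hx2)⟩ := hx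
    · subst hx1
      obtain ⟨i2, hi2, (⟨hy1, -⟩ | hy2)⟩ := hy
      · subst hy1
        exact hno2 y hi2 x hi hyi
      · have h1 := Groth.Agent.H8.root_eq_two_smul_of_coroot P hy2
        rw [hyi] at h1
        have h2 : P.root x = P.root i2 := Groth.Agent.H8.zsmul_cancel P two_ne_zero h1
        have h3 : x = i2 := P.root.injective h2
        subst h3
        exact hind1 y (by simpa using hy2)
    · have h1 := Groth.Agent.H8.root_eq_two_smul_of_coroot P hx2
      exact hno2 x hi i1 hi1 h1
  choose α hα hαm using hrep'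
  let A : Δ' → Δ := fun x => ⟨α x.1 x.2, hα x.1 x.2⟩
  let m : Δ' → ℤ := fun x => if P.root x.1 = P.root (α x.1 x.2) then 1 else 2
  have hm : ∀ x : Δ', P.root x.1 = m x • P.root (A x).1 := by
    intro x
    simp only [m, A]
    split_ifs with h
    · rw [one_smul]; exact h
    · rcases hαm x.1 x.2 with h' | h'
      · exact absurd h' h
      · exact h'
  have hm0 : ∀ x : Δ', m x ≠ 0 := by
    intro x; simp only [m]; split_ifs <;> norm_num
  have hAinj : Function.Injective A := by
    intro x y hxy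
    have hxy' : α x.1 x.2 = α y.1 y.2 := congrArg Subtype.val hxy
    apply Subtype.ext
    rcases hαm x.1 x.2 with hx | hx <;> rcases hαm y.1 y.2 with hy | hy
    · exact P.root.injective (by rw [hx, hy, hxy'])
    · exact (hcross x.1 x.2 y.1 y.2 _ (hα y.1 y.2) (by rw [hx, hxy']) hy).elim
    · exact (hcross y.1 y.2 x.1 x.2 _ (hα y.1 y.2) hy (by rw [hx, hxy'])).elim
    · exact P.root.injective (by rw [hx, hy, hxy'])
  have hrootli : LinearIndependent ℤ (fun x : Δ' => P.root x.1) := by
    have h1 : LinearIndependent ℤ ((fun y : Δ => P.root y.1) ∘ A) := hli.comp A hAinj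
    have h2 := Groth.Agent.H8.linIndep_smul h1 m hm0
    convert h2 using 1
    funext x
    exact hm x
  have hcorootli : LinearIndepOn ℤ P.flip.root Δ' := by
    show LinearIndependent ℤ (fun x : Δ' => P.coroot x.1)
    apply LinearIndependent.of_comp ((2 : ℤ) • P.CoPolarization)
    have h1 := Groth.Agent.H8.linIndep_smul hrootli
      (fun x : Δ' => P.flip.RootForm (P.flip.root x.1) (P.flip.root x.1))
      (fun x => (Groth.Agent.H8.rootForm_root_pos P.flip x.1).ne')
    have e : ⇑((2 : ℤ) • P.CoPolarization) ∘ (fun x : Δ' => P.coroot x.1) =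
        fun x : Δ' => P.flip.RootForm (P.flip.root x.1) (P.flip.root x.1) • P.root x.1 := by
      funext x
      simp only [Function.comp_apply, LinearMap.smul_apply]
      have := P.flip.rootForm_self_smul_coroot x.1
      simp only [RootPairing.flip_coroot] at this
      rw [this, two_smul, two_smul]
      rfl
    rw [e]
    exact h1
  have hnat : ∀ t : ℤ, 0 ≤ t → ∀ j ∈ Δ', t • P.coroot j ∈ natSpan P.flip Δ' := by
    intro t ht j hj
    have e : t • P.coroot j = t.toNat • P.coroot j := by
      rw [← natCast_zsmul, Int.toNat_of_nonneg ht]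
    rw [e]
    exact AddSubmonoid.nsmul_mem _ (show P.coroot j ∈ natSpan P.flip Δ' from
      AddSubmonoid.subset_closure (Set.mem_image_of_mem P.flip.root hj)) _
  have hterm : ∀ i ∈ Δ, ∀ t : ℤ, 0 ≤ t → t • P.coroot i ∈ natSpan P.flip Δ' := by
    intro i hi t ht
    obtain ⟨j, hj, h | h⟩ := hrep i hi
    · rw [h]; exact hnat t ht j hj
    · rw [h, smul_smul]; exact hnat _ (by positivity) j hj
  refine Groth.Agent.S5446.result P.flip Δ' ?_ hcorootli ?_
  · rintro j ⟨i, hi, (⟨rfl, hind⟩ | h)⟩
    · exact hind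
    · intro j' hj'
      simp only [RootPairing.flip_root] at hj'
      have h4 : P.flip.root i = (4 : ℤ) • P.flip.root j' := by
        simp only [RootPairing.flip_root]
        rw [← h, ← hj', smul_smul]; norm_num
      have := Groth.Agent.H8.dvd_two_of_root_eq_smul P.flip h4
      omega
  · intro k
    have hℓ := Groth.Agent.H8.rootForm_root_pos P k
    set ℓ := P.RootForm (P.root k) (P.root k) with hℓdef
    have hsc := Groth.Agent.H8.scaled_coroot P k (Groth.Agent.H8.coef hΔ k)
      (Groth.Agent.H8.coef_spec hΔ k)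
    refine ⟨ℓ.toNat, by omega, ?_⟩
    have hn : ℓ.toNat • P.coroot k = ℓ • P.coroot k := by
      rw [← natCast_zsmul, Int.toNat_of_nonneg hℓ.le]
    simp only [RootPairing.flip_root]
    rcases Groth.Agent.H8.coef_nonneg_or_nonpos hΔ k with hc | hc
    · left
      rw [hn, hsc]
      apply AddSubmonoidClass.finsuppSum_mem
      intro i hi
      have hiΔ : i ∈ Δ := Groth.Agent.H8.coef_supp hΔ k (Finsupp.mem_support_iff.mpr hi)
      exact hterm i hiΔ _ (mul_nonneg (hc i) (Groth.Agent.H8.rootForm_root_pos P i).le)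
    · right
      rw [smul_neg, hn, hsc, ← Finsupp.sum_neg]
      apply AddSubmonoidClass.finsuppSum_mem
      intro i hi
      have hiΔ : i ∈ Δ := Groth.Agent.H8.coef_supp hΔ k (Finsupp.mem_support_iff.mpr hi)
      rw [← neg_smul, ← neg_mul]
      exact hterm i hiΔ _ (mul_nonneg (by linarith [hc i])
        (Groth.Agent.H8.rootForm_root_pos P i).le)

end Groth.Agent.S5485
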