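import Groth.Statements.S5486
-- import your own Groth.Agent.* helpers here

set_option autoImplicit false
open RootD

namespace Groth.Agent.S5486

/-- For orthogonal roots α, β, the sum α + β is a root if and only if the difference α - β is. -/
theorem result {ι M N : Type*} [AddCommGroup M] [AddCommGroup N]
    (P : RootPairing ι ℤ M N) [Finite ι] (i j : ι) (h : P.IsOrthogonal i j) :
    P.root i + P.root j ∈ Set.range P.root ↔ P.root i - P.root j ∈ Set.range P.root := by
  have h1 : P.pairing i j = 0 := h.1
  have e1 : P.reflection j (P.root i + P.root j) = P.root i - P.root j := by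
    rw [map_add, RootPairing.reflection_apply_root, RootPairing.reflection_apply_self, h1]
    simp [sub_eq_add_neg]
  have e2 : P.reflection j (P.root i - P.root j) = P.root i + P.root j := by
    rw [← e1, RootPairing.reflection_same]
  constructor
  · rintro ⟨k, hk⟩
    exact ⟨P.reflectionPerm j k, by rw [RootPairing.root_reflectionPerm, hk, e1]⟩
  · rintro ⟨k, hk⟩
    exact ⟨P.reflectionPerm j k, by rw [RootPairing.root_reflectionPerm, hk, e2]⟩

end Groth.Agent.S5486
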