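import Groth.Statements.S5489
import Mathlib.LinearAlgebra.RootSystem.Finite.Lemmas
-- import your own Groth.Agent.* helpers here

set_option autoImplicit false
open RootD

namespace Groth.Agent.S5489

/-- If a root α, distinct from roots α_1, ..., α_n, is a non-negative rational combination of them, then
some α_l with non-zero coefficient has (α^v, α_l) > 0 and α - α_l a root. -/
theorem result {ι M N : Type*} [AddCommGroup M] [AddCommGroup N]
    (P : RootPairing ι ℤ M N) [Finite ι] {n : ℕ} (a : Fin n → ι) (m : Fin n → ℕ)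
    (k : ι) (hne : ∀ l, a l ≠ k) (c : ℕ) (hc : 0 < c) (hk : c • P.root k = ∑ l, m l • P.root (a l)) :
    ∃ l : Fin n, m l ≠ 0 ∧ 0 < P.pairing (a l) k ∧ P.root k - P.root (a l) ∈ Set.range P.root := by
  have hpin : ∀ a b : ι, P.pairingIn ℤ a b = P.pairing a b := fun a b => by
    simpa using P.algebraMap_pairingIn ℤ a b
  have e := congrArg (P.toLinearMap.flip (P.coroot k)) hk
  simp only [map_nsmul, map_sum, LinearMap.flip_apply,
    RootPairing.root_coroot_eq_pairing, RootPairing.pairing_same] at e
  have hex : ∃ l, m l ≠ 0 ∧ 0 < P.pairing (a l) k := by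
    by_contra hcon
    push Not at hcon
    have hle : ∑ l, m l • P.pairing (a l) k ≤ 0 := by
      apply Finset.sum_nonpos
      intro l _
      by_cases hm : m l = 0
      · rw [hm, zero_smul]
      · exact nsmul_nonpos (hcon l hm) _
    rw [← e] at hle
    have : 0 < c • (2 : ℤ) := by
      rw [nsmul_eq_mul]; positivity
    linarith
  obtain ⟨l, hml, hpos⟩ := hex
  refine ⟨l, hml, hpos, ?_⟩
  have := P.root_sub_root_mem_of_pairingIn_pos (i := a l) (j := k) (by rw [hpin]; exact hpos) (hne l)
  rw [← P.neg_mem_range_root_iff, neg_sub]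
  exact this

end Groth.Agent.S5489
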