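import Groth.Statements.S5491
-- import your own Groth.Agent.* helpers here

set_option autoImplicit false
open RootD

namespace Groth.Agent.S5491

open Classical in
/-- With ρ^v the half-sum of the positive coroots, the order (height) of any root α relative to the
simple system equals (ρ^v, α); equivalently 2·height(α) = Σ_{β > 0} (β^v, α). -/
theorem result {ι M N : Type*} [AddCommGroup M] [AddCommGroup N]
    (P : RootPairing ι ℤ M N) [Finite ι] [Fintype ι] [P.IsReduced] (b : P.Base) (i : ι) :
    2 * b.height i = ∑ j, if b.IsPos j then P.pairing i j else 0 := by
  classical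
  -- simple roots pair to 2 with the sum of the positive coroots
  have hsimple : ∀ s ∈ b.support, (∑ j, if b.IsPos j then P.pairing s j else 0) = 2 := by
    intro s hs
    have hnegs : ¬ b.IsPos (P.reflectionPerm s s) := by
      rw [RootPairing.Base.isPos_iff]
      have h1 := b.height_reflectionPerm_self s
      have h2 := RootPairing.Base.height_one_of_mem_support hs
      have : b.height (P.reflectionPerm s s) = -1 := by
        rw [← h2]; exact h1
      omega
    set F : ι → ℤ := fun j => if b.IsPos j ∧ j ≠ s then P.pairing s j else 0 with hF
    have hsplit : ∀ j, (if b.IsPos j then P.pairing s j else 0) =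
        F j + (if j = s then P.pairing s j else 0) := by
      intro j
      by_cases hj : j = s
      · subst hj
        simp [hF, RootPairing.Base.isPos_of_mem_support hs]
      · simp [hF, hj]
    have hFσ : ∀ j, F (P.reflectionPerm s j) = - F j := by
      intro j
      have hp : P.pairing s (P.reflectionPerm s j) = - P.pairing s j := by
        rw [RootPairing.pairing_reflectionPerm, RootPairing.pairing_reflectionPerm_self_left]
      have hcond : (b.IsPos (P.reflectionPerm s j) ∧ P.reflectionPerm s j ≠ s) ↔
          (b.IsPos j ∧ j ≠ s) := by
        constructor
        · rintro ⟨h1, h2⟩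
          have hj : j ≠ s := by
            rintro rfl
            exact hnegs h1
          refine ⟨?_, hj⟩
          have := RootPairing.Base.IsPos.reflectionPerm h1 hs h2
          rwa [RootPairing.reflectionPerm_self] at this  
        · rintro ⟨h1, h2⟩
          refine ⟨RootPairing.Base.IsPos.reflectionPerm h1 hs h2, ?_⟩
          intro h
          have : j = P.reflectionPerm s s := by
            have := congrArg (P.reflectionPerm s) h
            rwa [RootPairing.reflectionPerm_self] at this
          rw [this] at h1
          exact hnegs h1
      simp only [hF]
      by_cases hc : b.IsPos j ∧ j ≠ s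
      · rw [if_pos (hcond.mpr hc), if_pos hc, hp]
      · rw [if_neg (fun h => hc (hcond.mp h)), if_neg hc, neg_zero]
    have hFsum : ∑ j, F j = 0 := by
      have h1 : ∑ j, F (P.reflectionPerm s j) = ∑ j, F j :=
        Equiv.sum_comp (P.reflectionPerm s) F
      simp only [hFσ, Finset.sum_neg_distrib] at h1
      linarith
    rw [Finset.sum_congr rfl (fun j _ => hsplit j), Finset.sum_add_distrib, hFsum, zero_add,
      Finset.sum_ite_eq' Finset.univ s, if_pos (Finset.mem_univ _), RootPairing.pairing_same]
  obtain ⟨f, -, -, hf⟩ := b.exists_root_eq_sum_int i
  rw [RootPairing.Base.height_eq_sum hf]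
  have hpair : ∀ j, P.pairing i j = ∑ s ∈ b.support, f s * P.pairing s j := by
    intro j
    have := congrArg (fun x => P.toLinearMap x (P.coroot j)) hf
    simp only [map_sum, map_smul, RootPairing.root_coroot_eq_pairing] at this
    rw [this, LinearMap.sum_apply]
    apply Finset.sum_congr rfl
    intro s _
    rw [LinearMap.smul_apply, RootPairing.root_coroot_eq_pairing, smul_eq_mul]
  have : (∑ j, if b.IsPos j then P.pairing i j else 0) =
      ∑ s ∈ b.support, f s * ∑ j, (if b.IsPos j then P.pairing s j else 0) := by
    simp_rw [Finset.mul_sum]
    rw [Finset.sum_comm]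
    apply Finset.sum_congr rfl
    intro j _
    by_cases hj : b.IsPos j
    · simp only [hj, if_true]; exact hpair j
    · simp [hj]
  rw [this, Finset.mul_sum]
  apply Finset.sum_congr rfl
  intro s hs
  rw [hsimple s hs]
  ring

end Groth.Agent.S5491
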