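import Groth.Statements.S5492
import Groth.Agent.H8.RootLib
-- import your own Groth.Agent.* helpers here

set_option autoImplicit false
open RootD

namespace Groth.Agent.S5492

/-- Off-diagonal entries of the Cartan matrix of a system of simple roots are non-positive: (α^v, β) ≤ 0
for distinct simple roots α, β. -/
theorem result {ι M N : Type*} [AddCommGroup M] [AddCommGroup N]
    (P : RootPairing ι ℤ M N) [Finite ι] (Δ : Set ι) (hΔ : RootD.IsSimpleSys P Δ) (i j : ι)
    (hi : i ∈ Δ) (hj : j ∈ Δ) (hij : i ≠ j) : P.pairing j i ≤ 0 := by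
  by_contra hpos
  push Not at hpos
  obtain ⟨k, hk⟩ := P.root_sub_root_mem_of_pairingIn_pos (i := j) (j := i)
    (by rw [Groth.Agent.H8.pairingIn_eq]; exact hpos) (Ne.symm hij)
  have hc := Groth.Agent.H8.coef_sub hΔ hk
  rw [Groth.Agent.H8.coef_simple hΔ hi, Groth.Agent.H8.coef_simple hΔ hj] at hc
  rcases Groth.Agent.H8.coef_nonneg_or_nonpos hΔ k with h | h
  · have := h i
    rw [hc] at this
    simp [Finsupp.single_apply, hij, Ne.symm hij] at this
  · have := h j
    rw [hc] at this
    simp [Finsupp.single_apply, hij, Ne.symm hij] at this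

end Groth.Agent.S5492
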