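import Groth.Statements.S5494
import Groth.Agent.H8.RootLib
-- import your own Groth.Agent.* helpers here

set_option autoImplicit false
open RootD

namespace Groth.Agent.S5494

/-- If a system of simple roots has no partition into two non-empty orthogonal subsets, then any two
roots are linked by a chain of roots with consecutive members non-orthogonal. -/
theorem result {ι M N : Type*} [AddCommGroup M] [AddCommGroup N]
    (P : RootPairing ι ℤ M N) [Finite ι] (Δ : Set ι) (hΔ : RootD.IsSimpleSys P Δ)
    (hconn : ∀ Δ' : Set ι, Δ' ⊆ Δ → (∀ i ∈ Δ', ∀ j ∈ Δ \ Δ', P.IsOrthogonal i j) → Δ' = ∅ ∨ Δ' = Δ)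
    (i j : ι) : Relation.ReflTransGen (fun a b : ι => ¬ P.IsOrthogonal a b) i j := by
  classical
  have := Fintype.ofFinite ι
  set R : ι → ι → Prop := fun a b : ι => ¬ P.IsOrthogonal a b with hR
  have hsymm : ∀ a b, R a b → R b a := by
    intro a b h h'
    exact h h'.symm
  have hrsymm : ∀ a b, Relation.ReflTransGen R a b → Relation.ReflTransGen R b a := by
    intro a b h
    induction h with
    | refl => exact Relation.ReflTransGen.refl
    | tail _ hbc ih => exact Relation.ReflTransGen.head (hsymm _ _ hbc) ih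
  obtain ⟨d₀, hd₀, hid₀⟩ := Groth.Agent.H8.exists_simple_not_orth hΔ i
  obtain ⟨d₁, hd₁, hjd₁⟩ := Groth.Agent.H8.exists_simple_not_orth hΔ j
  -- all simple roots are reachable from d₀
  have hall : ∀ d ∈ Δ, Relation.ReflTransGen R d₀ d := by
    set Δ' : Set ι := {d | d ∈ Δ ∧ Relation.ReflTransGen R d₀ d} with hΔ'
    have hsub : Δ' ⊆ Δ := fun d hd => hd.1
    have horth : ∀ a ∈ Δ', ∀ b ∈ Δ \ Δ', P.IsOrthogonal a b := by
      intro a ha b hb
      by_contra hab
      apply hb.2
      exact ⟨hb.1, Relation.ReflTransGen.tail ha.2 hab⟩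
    rcases hconn Δ' hsub horth with h | h
    · exfalso
      have : d₀ ∈ Δ' := ⟨hd₀, Relation.ReflTransGen.refl⟩
      rw [h] at this
      exact this
    · intro d hd
      rw [← h] at hd
      exact hd.2
  have h1 : Relation.ReflTransGen R i d₀ := Relation.ReflTransGen.single hid₀
  have h2 : Relation.ReflTransGen R d₀ d₁ := hall d₁ hd₁
  have h3 : Relation.ReflTransGen R d₁ j := Relation.ReflTransGen.single (hsymm _ _ hjd₁)
  exact h1.trans (h2.trans h3)

end Groth.Agent.S5494
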