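import Groth.Statements.S5495
-- import your own Groth.Agent.* helpers here

set_option autoImplicit false
open RootD

namespace Groth.Agent.S5495

/-- If α is an indivisible root and kα is a root for a rational k, then k is an integer. -/
theorem result {ι M N : Type*} [AddCommGroup M] [AddCommGroup N]
    (P : RootPairing ι ℤ M N) [Finite ι] (i j : ι) (hind : RootD.IsIndiv P i) (a b : ℤ) (hb : b ≠ 0)
    (h : b • P.root j = a • P.root i) : b ∣ a := by
  have hrefl := Module.IsReflexive.of_isPerfPair P.toLinearMap
  by_cases ha : a = 0
  · rw [ha]; exact dvd_zero b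
  have e1 : b * P.pairing j i = 2 * a := by
    have := congrArg (fun m => P.toLinearMap m (P.coroot i)) h
    simp only [map_smul, LinearMap.smul_apply, RootPairing.root_coroot_eq_pairing,
      RootPairing.pairing_same, smul_eq_mul] at this
    linarith
  have e2 : 2 * b = a * P.pairing i j := by
    have := congrArg (fun m => P.toLinearMap m (P.coroot j)) h
    simp only [map_smul, LinearMap.smul_apply, RootPairing.root_coroot_eq_pairing,
      RootPairing.pairing_same, smul_eq_mul] at this
    linarith
  set p := P.pairing j i with hp
  set q := P.pairing i j with hq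
  have hpq : p * q = 4 := by
    have h3 : (a * b) * (p * q) = (a * b) * 4 := by
      have : (b * p) * (a * q) = (2 * a) * (2 * b) := by rw [e1, e2]
      linarith [this]
    exact mul_left_cancel₀ (mul_ne_zero ha hb) h3
  have hq0 : q ≠ 0 := by rintro h0; rw [h0, mul_zero] at hpq; norm_num at hpq
  have hqle : |q| ≤ 4 := by
    have : |p| * |q| = 4 := by rw [← abs_mul, hpq]; rfl
    have hp1 : 1 ≤ |p| := by
      have : p ≠ 0 := by rintro h0; rw [h0, zero_mul] at hpq; norm_num at hpq
      exact Int.one_le_abs this
    nlinarith [abs_nonneg q]
  have hq4 : -4 ≤ q ∧ q ≤ 4 := abs_le.mp hqle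
  have hinj : Function.Injective (fun m : M => a • m) := smul_right_injective M ha
  obtain ⟨hq4l, hq4u⟩ := hq4
  interval_cases q
  · -- q = -4: b = -2a
    exfalso
    have hb' : b = -2 * a := by linarith
    apply hind (P.reflectionPerm j j)
    apply hinj
    simp only
    rw [← h, hb']
    simp only [RootPairing.root_reflectionPerm, RootPairing.reflection_apply_self]
    module
  · omega
  · exact ⟨-1, by linarith⟩
  · exact ⟨-2, by linarith⟩
  · exact absurd rfl hq0
  · exact ⟨2, by linarith⟩
  · exact ⟨1, by linarith⟩
  · omega
  · -- q = 4: b = 2a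
    exfalso
    have hb' : b = 2 * a := by linarith
    apply hind j
    apply hinj
    simp only
    rw [← h, hb']
    module

end Groth.Agent.S5495
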