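import Groth.Statements.S5506
-- import your own Groth.Agent.* helpers here

set_option autoImplicit false
open RootD

namespace Groth.Agent.S5506

/-- The class of a root under 'joined by a chain of pairwise non-orthogonal roots' is closed and
symmetric, and so is its complement; these classes are the irreducible components. -/
theorem result {ι M N : Type*} [AddCommGroup M] [AddCommGroup N]
    (P : RootPairing ι ℤ M N) [Finite ι] (i : ι) :
    RootD.IsClosedSub P {j : ι | Relation.ReflTransGen (fun a b : ι => ¬ P.IsOrthogonal a b) i j} ∧
      RootD.IsSymmSub P {j : ι | Relation.ReflTransGen (fun a b : ι => ¬ P.IsOrthogonal a b) i j} ∧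
      RootD.IsClosedSub P {j : ι | Relation.ReflTransGen (fun a b : ι => ¬ P.IsOrthogonal a b) i j}ᶜ ∧
      RootD.IsSymmSub P {j : ι | Relation.ReflTransGen (fun a b : ι => ¬ P.IsOrthogonal a b) i j}ᶜ := by
  set C : Set ι := {j : ι | Relation.ReflTransGen (fun a b : ι => ¬ P.IsOrthogonal a b) i j} with hC
  -- two roots adding up to a root: one of them is not orthogonal to the sum
  have key : ∀ a b k : ι, P.root k = P.root a + P.root b →
      ¬ P.IsOrthogonal a k ∨ ¬ P.IsOrthogonal b k := by
    intro a b k h
    by_contra hcon
    rw [not_or, not_not, not_not] at hcon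
    have h2 := RootPairing.pairing_eq_add_of_root_eq_add (l := k) h
    rw [RootPairing.pairing_same, hcon.1.1, hcon.2.1] at h2
    norm_num at h2
  have negno : ∀ a : ι, ¬ P.IsOrthogonal a (P.reflectionPerm a a) := by
    intro a ha
    have := ha.1
    rw [RootPairing.pairing_reflectionPerm_self_right, RootPairing.pairing_same] at this
    norm_num at this
  have symm' : ∀ a b : ι, ¬ P.IsOrthogonal a b → ¬ P.IsOrthogonal b a := by
    intro a b hab h
    exact hab h.symm
  refine ⟨?_, ?_, ?_, ?_⟩
  · intro a b k ha hb h
    rcases key a b k h with hk | hk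
    · exact Relation.ReflTransGen.tail ha hk
    · exact Relation.ReflTransGen.tail hb hk
  · intro a ha
    exact Relation.ReflTransGen.tail ha (negno a)
  · intro a b k ha hb h hk
    rcases key a b k h with h' | h'
    · exact ha (Relation.ReflTransGen.tail hk (symm' _ _ h'))
    · exact hb (Relation.ReflTransGen.tail hk (symm' _ _ h'))
  · intro a ha hna
    apply ha
    have : ¬ P.IsOrthogonal (P.reflectionPerm a a) a := symm' _ _ (negno a)
    exact Relation.ReflTransGen.tail hna this

end Groth.Agent.S5506
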