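import Groth.Statements.S5499
import Groth.Agent.H8.Irred
-- import your own Groth.Agent.* helpers here

set_option autoImplicit false
open RootD

namespace Groth.Agent.S5499

/-- For an irreducible datum, where long(α) = ℓ(α)/ℓ(α₀) with ℓ(α₀) minimal: there is a unique
homomorphism u : Γ_0(R) → M^v with u(α) = long(α) α^v for every root α. -/
theorem result {ι M N : Type*} [AddCommGroup M] [AddCommGroup N]
    (P : RootPairing ι ℤ M N) [Finite ι] [Fintype ι]
    (hirr : ∀ R' : Set ι, RootD.IsClosedSub P R' → RootD.IsSymmSub P R' → RootD.IsClosedSub P R'ᶜ →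
      RootD.IsSymmSub P R'ᶜ → R' = ∅ ∨ R' = Set.univ)
    (i₀ : ι) (hmin : ∀ i : ι, P.RootForm (P.root i₀) (P.root i₀) ≤ P.RootForm (P.root i) (P.root i)) :
    ∃! u : Submodule.span ℤ (Set.range P.root) →+ N, ∀ i : ι,
      u ⟨P.root i, Submodule.subset_span (Set.mem_range_self i)⟩ =
        (P.RootForm (P.root i) (P.root i) / P.RootForm (P.root i₀) (P.root i₀)) • P.coroot i := by
  have := Module.IsReflexive.of_isPerfPair P.toLinearMap
  set ℓ : ι → ℤ := fun i => P.RootForm (P.root i) (P.root i) with hℓdef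
  have hℓ0 : 0 < ℓ i₀ := Groth.Agent.H8.rootForm_root_pos P i₀
  -- length ratios between non-orthogonal roots
  have hratio : ∀ a b : ι, ¬ P.IsOrthogonal a b →
      ℓ b = ℓ a ∨ ℓ b = 2 * ℓ a ∨ ℓ b = 3 * ℓ a ∨ ℓ b = 4 * ℓ a ∨
      ℓ a = 2 * ℓ b ∨ ℓ a = 3 * ℓ b ∨ ℓ a = 4 * ℓ b := by
    intro a b hab
    have h1 := Groth.Agent.H8.two_mul_rootForm_root P a b
    have h2 := Groth.Agent.H8.two_mul_rootForm_root P b a
    rw [Groth.Agent.H8.rootForm_comm P (P.root b)] at h2
    have hrel : ℓ a * P.pairing b a = ℓ b * P.pairing a b := by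
      simp only [hℓdef]; rw [← h1, ← h2]
    have hset := P.pairingIn_pairingIn_mem_set_of_isCrystallographic a b
    simp only [Groth.Agent.H8.pairingIn_eq, Set.mem_insert_iff, Set.mem_singleton_iff,
      Prod.mk.injEq] at hset
    rcases hset with h | h | h | h | h | h | h | h | h | h | h | h | h | h | h | h | h <;>
      obtain ⟨hp, hq⟩ := h <;> rw [hp, hq] at hrel
    · exact absurd ⟨hp, hq⟩ hab
    all_goals omega
  have hdvd : ∀ i, ℓ i₀ ∣ ℓ i := by
    intro i
    obtain ⟨w, hw, hno⟩ := Groth.Agent.H8.exists_weyl_not_orth P hirr i₀ i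
    have hlen : ℓ (w • i₀) = ℓ i₀ := Groth.Agent.H8.rootForm_root_weyl_smul P hw i₀
    have hmi : ℓ i₀ ≤ ℓ i := hmin i
    rcases hratio _ _ hno with h | h | h | h | h | h | h <;> rw [hlen] at h
    · exact ⟨1, by rw [h, mul_one]⟩
    · exact ⟨2, by rw [h, mul_comm]⟩
    · exact ⟨3, by rw [h, mul_comm]⟩
    · exact ⟨4, by rw [h, mul_comm]⟩
    all_goals omega
  -- the linear maps
  let L : (ι →₀ ℤ) →ₗ[ℤ] M := Finsupp.linearCombination ℤ P.root
  have hmemL : ∀ c, L c ∈ Submodule.span ℤ (Set.range P.root) := fun c => by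
    rw [← Finsupp.range_linearCombination]; exact LinearMap.mem_range_self _ c
  let L' : (ι →₀ ℤ) →ₗ[ℤ] Submodule.span ℤ (Set.range P.root) := L.codRestrict _ hmemL
  have hsurj : Function.Surjective L' := by
    rintro ⟨x, hx⟩
    rw [← Finsupp.range_linearCombination] at hx
    obtain ⟨c, rfl⟩ := hx
    exact ⟨c, rfl⟩
  let φ : (ι →₀ ℤ) →ₗ[ℤ] N :=
    Finsupp.linearCombination ℤ (fun i => (ℓ i / ℓ i₀) • P.coroot i)
  have hφ : ∀ c, ℓ i₀ • φ c = 2 • P.Polarization (L c) := by
    intro c
    induction c using Finsupp.induction_linear with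
    | zero => simp
    | add f g hf hg => simp only [map_add, smul_add, hf, hg]
    | single i n =>
      simp only [φ, L, Finsupp.linearCombination_single, map_zsmul]
      have h1 : ℓ i₀ • (ℓ i / ℓ i₀) • P.coroot i = 2 • P.Polarization (P.root i) := by
        rw [smul_smul, Int.mul_ediv_cancel' (hdvd i)]
        exact P.rootForm_self_smul_coroot i
      rw [smul_comm (ℓ i₀) n, h1, smul_comm]
  have hker : LinearMap.ker L' ≤ LinearMap.ker φ := by
    intro c hc
    rw [LinearMap.mem_ker] at hc ⊢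
    have hLc : L c = 0 := by
      have := congrArg Subtype.val hc
      simpa [L'] using this
    have h := hφ c
    rw [hLc, map_zero, smul_zero] at h
    exact Groth.Agent.H8.zsmul_cancel P.flip hℓ0.ne' (by rw [h, smul_zero])
  let e := L'.quotKerEquivOfSurjective hsurj
  let ψ := (LinearMap.ker L').liftQ φ hker
  have hL'single : ∀ i, L' (Finsupp.single i 1) =
      ⟨P.root i, Submodule.subset_span (Set.mem_range_self i)⟩ := by
    intro i
    apply Subtype.ext
    simp [L', L]
  refine ⟨(ψ.comp e.symm.toLinearMap).toAddMonoidHom, ?_, ?_⟩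
  · intro i
    simp only [LinearMap.toAddMonoidHom_coe, LinearMap.coe_comp, LinearEquiv.coe_coe,
      Function.comp_apply]
    rw [← hL'single i, LinearMap.quotKerEquivOfSurjective_symm_apply]
    simp [ψ, φ]
    rfl
  · intro u' hu'
    ext ⟨x, hx⟩
    simp only [LinearMap.toAddMonoidHom_coe, LinearMap.coe_comp, LinearEquiv.coe_coe,
      Function.comp_apply]
    induction hx using Submodule.span_induction with
    | mem y hy =>
      obtain ⟨i, rfl⟩ := hy
      rw [hu' i, ← hL'single i, LinearMap.quotKerEquivOfSurjective_symm_apply]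
      simp [ψ, φ]
      rfl
    | zero =>
      have h0 : (⟨0, Submodule.zero_mem _⟩ : Submodule.span ℤ (Set.range P.root)) = 0 := rfl
      rw [h0, map_zero, map_zero, map_zero]
    | add y z hy hz ihy ihz =>
      have hs : (⟨y + z, Submodule.add_mem _ hy hz⟩ : Submodule.span ℤ (Set.range P.root)) =
          ⟨y, hy⟩ + ⟨z, hz⟩ := rfl
      rw [hs, map_add, map_add, map_add, ihy, ihz]
    | smul n y hy ihy =>
      have hs : (⟨n • y, Submodule.smul_mem _ n hy⟩ : Submodule.span ℤ (Set.range P.root)) =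
          n • ⟨y, hy⟩ := rfl
      rw [hs, map_zsmul, map_zsmul, map_zsmul, ihy]

end Groth.Agent.S5499
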