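import Groth.Statements.S5500
import Groth.Agent.H8.Conn
-- import your own Groth.Agent.* helpers here

set_option autoImplicit false
open RootD

namespace Groth.Agent.S5500

/-- For a p-morphism between irreducible reduced root data there is a rational constant k with k ·
long(u(α)) = q(α)² · long(α) for every root α; stated as the proportionality q(α)² ℓ(α) ℓ'(u β) =
q(β)² ℓ(β) ℓ'(u α) of the canonical quadratic forms. -/
theorem result {ι M N ι' M' N' : Type*} [AddCommGroup M] [AddCommGroup N] [AddCommGroup M'] [AddCommGroup N']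
    (P : RootPairing ι ℤ M N) (P' : RootPairing ι' ℤ M' N') [Finite ι] [Finite ι'] [Fintype ι] [Fintype ι'] [P.IsReduced] [P'.IsReduced]
    (hirr : ∀ R₁ : Set ι, RootD.IsClosedSub P R₁ → RootD.IsSymmSub P R₁ → RootD.IsClosedSub P R₁ᶜ →
      RootD.IsSymmSub P R₁ᶜ → R₁ = ∅ ∨ R₁ = Set.univ)
    (hirr' : ∀ R₁ : Set ι', RootD.IsClosedSub P' R₁ → RootD.IsSymmSub P' R₁ → RootD.IsClosedSub P' R₁ᶜ →
      RootD.IsSymmSub P' R₁ᶜ → R₁ = ∅ ∨ R₁ = Set.univ)
    (p : ℕ) (hp : 0 < p) (f : M' →ₗ[ℤ] M) (g : N →ₗ[ℤ] N')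
    (hfg : ∀ (m' : M') (n : N), P.toLinearMap (f m') n = P'.toLinearMap m' (g n))
    (u : ι ≃ ι') (q : ι → ℕ) (hq : ∀ i, ∃ e : ℕ, q i = p ^ e)
    (hroot : ∀ i : ι, f (P'.root (u i)) = (q i : ℤ) • P.root i)
    (hcoroot : ∀ i : ι, g (P.coroot i) = (q i : ℤ) • P'.coroot (u i)) (i j : ι) :
    ((q i : ℤ) ^ 2 * P.RootForm (P.root i) (P.root i)) * P'.RootForm (P'.root (u j)) (P'.root (u j)) =
      ((q j : ℤ) ^ 2 * P.RootForm (P.root j) (P.root j)) * P'.RootForm (P'.root (u i)) (P'.root (u i)) := by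
  have := Module.IsReflexive.of_isPerfPair P.toLinearMap
  have := Module.IsReflexive.of_isPerfPair P'.toLinearMap
  set ℓ : ι → ℤ := fun i => P.RootForm (P.root i) (P.root i) with hℓ
  set ℓ' : ι' → ℤ := fun i => P'.RootForm (P'.root i) (P'.root i) with hℓ'
  have hqpos : ∀ i, 0 < q i := by
    intro i; obtain ⟨e, he⟩ := hq i; rw [he]; exact pow_pos hp e
  have hℓ'pos : ∀ i', 0 < ℓ' i' := fun i' => Groth.Agent.H8.rootForm_root_pos P' i'
  have hA : ∀ i j, (q j : ℤ) * P.pairing j i = (q i : ℤ) * P'.pairing (u j) (u i) := by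
    intro i j
    have h := hfg (P'.root (u j)) (P.coroot i)
    rw [hroot j, hcoroot i, map_smul, map_smul, LinearMap.smul_apply,
      RootPairing.root_coroot_eq_pairing, RootPairing.root_coroot_eq_pairing] at h
    simpa [smul_eq_mul] using h
  have hB : ∀ i j, ℓ i * P.pairing j i = ℓ j * P.pairing i j := by
    intro i j
    have h1 := Groth.Agent.H8.two_mul_rootForm_root P i j
    have h2 := Groth.Agent.H8.two_mul_rootForm_root P j i
    rw [Groth.Agent.H8.rootForm_comm P (P.root j)] at h2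
    simp only [hℓ]; rw [← h1, ← h2]
  have hB' : ∀ i j, ℓ' i * P'.pairing j i = ℓ' j * P'.pairing i j := by
    intro i j
    have h1 := Groth.Agent.H8.two_mul_rootForm_root P' i j
    have h2 := Groth.Agent.H8.two_mul_rootForm_root P' j i
    rw [Groth.Agent.H8.rootForm_comm P' (P'.root j)] at h2
    simp only [hℓ']; rw [← h1, ← h2]
  let G : ι → ℚ := fun i => ((q i : ℚ) ^ 2 * ℓ i) / ℓ' (u i)
  have hadj : ∀ i j, Groth.Agent.H8.NonOrth P i j → G i = G j := by
    intro i j hij
    have hb : P.pairing j i ≠ 0 := by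
      intro h
      exact hij ⟨(P.pairing_eq_zero_iff' (i := j) (j := i)).mp h, h⟩
    have ha : P.pairing i j ≠ 0 := by
      intro h
      exact hij ⟨h, (P.pairing_eq_zero_iff' (i := i) (j := j)).mp h⟩
    have ha' : P'.pairing (u i) (u j) ≠ 0 := by
      intro h
      have h2 := hA j i
      rw [h, mul_zero] at h2
      rcases mul_eq_zero.mp h2 with h3 | h3
      · have := hqpos i; omega
      · exact ha h3
    have key : ((q i : ℤ) ^ 2 * ℓ i) * ℓ' (u j) = ((q j : ℤ) ^ 2 * ℓ j) * ℓ' (u i) := by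
      apply mul_right_cancel₀ (mul_ne_zero ha' hb)
      have B := hB i j
      have B' := hB' (u i) (u j)
      have Aji := hA i j
      have Aij := hA j i
      linear_combination ((q i : ℤ) ^ 2 * ℓ' (u j) * P'.pairing (u i) (u j)) * B -
        ((q i : ℤ) ^ 2 * ℓ j * P.pairing i j) * B' +
        (ℓ j * ℓ' (u i)) * (-((q i : ℤ) * P.pairing i j) * Aji + ((q j : ℤ) * P.pairing j i) * Aij)
    have h1 : (0 : ℚ) < ℓ' (u i) := by exact_mod_cast hℓ'pos (u i)
    have h2 : (0 : ℚ) < ℓ' (u j) := by exact_mod_cast hℓ'pos (u j)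
    simp only [G]
    rw [div_eq_div_iff h1.ne' h2.ne']
    exact_mod_cast key
  have hall : ∀ a b, G a = G b := by
    intro a b
    induction Groth.Agent.H8.reachable_of_irred P hirr a b with
    | refl => rfl
    | tail _ hbc ih => exact ih.trans (hadj _ _ hbc)
  have h := hall i j
  have h1 : (0 : ℚ) < ℓ' (u i) := by exact_mod_cast hℓ'pos (u i)
  have h2 : (0 : ℚ) < ℓ' (u j) := by exact_mod_cast hℓ'pos (u j)
  simp only [G] at h
  rw [div_eq_div_iff h1.ne' h2.ne'] at h
  exact_mod_cast h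

end Groth.Agent.S5500
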