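import Groth.Statements.S5501
import Mathlib.LinearAlgebra.RootSystem.Reduced
import Mathlib.GroupTheory.FiniteAbelian.Basic
import Mathlib.LinearAlgebra.Dimension.Localization
import Mathlib.LinearAlgebra.Dimension.Torsion.Finite
import Mathlib.LinearAlgebra.Dual.Lemmas
import Mathlib.LinearAlgebra.FreeModule.PID
-- import your own Groth.Agent.* helpers here

set_option autoImplicit false
universe u v w
open RootD

namespace Groth.Agent.S5501


open Module

lemma torsion_of_finrank' {M : Type*} [AddCommGroup M] [Module.Finite ℤ M]
    (S : Submodule ℤ M) (h : Module.finrank ℤ S = Module.finrank ℤ M) (x : M) :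
    ∃ n : ℤ, n ≠ 0 ∧ n • x ∈ S := by
  have h1 := Submodule.finrank_quotient_add_finrank S
  have h0 : Module.finrank ℤ (M ⧸ S) = 0 := by omega
  have ht := (Module.finrank_eq_zero_iff_isTorsion).mp h0
  obtain ⟨⟨a, ha⟩, hax⟩ := @ht (Submodule.Quotient.mk x)
  refine ⟨a, nonZeroDivisors.ne_zero ha, ?_⟩
  have : Submodule.Quotient.mk (a • x) = (0 : M ⧸ S) := by
    rw [Submodule.Quotient.mk_smul]; exact hax
  exact (Submodule.Quotient.mk_eq_zero S).mp this

/-- The root pairing on the root lattice, with the dual lattice as coweights. -/
noncomputable def rootLatticePairing {ι M N : Type*} [AddCommGroup M] [AddCommGroup N] [Finite ι]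
    (P : RootPairing ι ℤ M N)
    [IsReflexive ℤ (Submodule.span ℤ (Set.range P.root))] :
    RootPairing ι ℤ (Submodule.span ℤ (Set.range P.root))
      (Dual ℤ (Submodule.span ℤ (Set.range P.root))) where
  toLinearMap := Dual.eval ℤ _
  isPerfPair_toLinearMap := inferInstance
  root := ⟨fun i => ⟨P.root i, Submodule.subset_span (Set.mem_range_self i)⟩,
    fun i j h => P.root.injective (congrArg Subtype.val h)⟩
  coroot := ⟨fun i => (P.coroot' i).domRestrict _, by
    intro i j h
    have h1 := LinearMap.congr_fun h ⟨P.root i, Submodule.subset_span (Set.mem_range_self i)⟩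
    have h2 := LinearMap.congr_fun h ⟨P.root j, Submodule.subset_span (Set.mem_range_self j)⟩
    change P.toLinearMap (P.root i) (P.coroot i) = P.toLinearMap (P.root i) (P.coroot j) at h1
    change P.toLinearMap (P.root j) (P.coroot i) = P.toLinearMap (P.root j) (P.coroot j) at h2
    rw [RootPairing.root_coroot_eq_pairing, RootPairing.root_coroot_eq_pairing,
      RootPairing.pairing_same] at h1 h2
    have := Module.IsReflexive.of_isPerfPair P.toLinearMap
    exact (P.pairing_two_two_iff i j).mp ⟨h1.symm, h2⟩⟩
  root_coroot_two i := by
    change P.toLinearMap (P.root i) (P.coroot i) = 2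
    exact P.root_coroot_two i
  reflectionPerm := P.reflectionPerm
  reflectionPerm_root i j := by
    ext
    change P.root j - P.toLinearMap (P.root j) (P.coroot i) • P.root i =
      P.root (P.reflectionPerm i j)
    exact P.reflectionPerm_root i j
  reflectionPerm_coroot i j := by
    ext x
    change P.toLinearMap (x : M) (P.coroot j) -
        P.toLinearMap (P.root i) (P.coroot j) • P.toLinearMap (x : M) (P.coroot i) =
      P.toLinearMap (x : M) (P.coroot (P.reflectionPerm i j))
    rw [← P.reflectionPerm_coroot i j, map_sub, map_smul]

/-- Adjoint case; the simply connected case is dual: a semisimple root datum R is adjoint if and only if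
every isogeny R' → R is an isomorphism. -/
theorem result {ι : Type u} {M : Type v} {N : Type w} [AddCommGroup M] [AddCommGroup N]
    (P : RootPairing ι ℤ M N) [Finite ι] [Module.Finite ℤ M] [Module.Finite ℤ N]
    (hss : Module.finrank ℤ (Submodule.span ℤ (Set.range P.root)) = Module.finrank ℤ M) :
    Submodule.span ℤ (Set.range P.root) = ⊤ ↔
      ∀ (ι' : Type u) (M' N' : Type v) [AddCommGroup M'] [AddCommGroup N'] [Finite ι']
        [Module.Finite ℤ M'] [Module.Finite ℤ N'] (P' : RootPairing ι' ℤ M' N') (f : RootPairing.Hom P' P),
        Function.Injective f.weightMap → Finite (M ⧸ LinearMap.range f.weightMap) →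
          Function.Bijective f.weightMap := by
  have hreflM := Module.IsReflexive.of_isPerfPair P.toLinearMap
  set R := Submodule.span ℤ (Set.range P.root) with hR
  constructor
  · intro htop ι' M' N' _ _ _ _ _ P' f hinj _
    refine ⟨hinj, ?_⟩
    rw [← LinearMap.range_eq_top, eq_top_iff, ← htop, Submodule.span_le]
    rintro _ ⟨i, rfl⟩
    refine ⟨P'.root (f.indexEquiv.symm i), ?_⟩
    rw [RootPairing.Hom.root_weightMap_apply, Equiv.apply_symm_apply]
  · intro H
    haveI : Module.Finite ℤ R := Module.Finite.of_injective R.subtype Subtype.val_injective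
    haveI : Module.Free ℤ R := Module.free_of_finite_type_torsion_free'
    haveI : Module.Finite ℤ (Dual ℤ R) := inferInstance
    let P' := rootLatticePairing P
    let f : RootPairing.Hom P' P :=
      { weightMap := R.subtype
        coweightMap := R.subtype.dualMap ∘ₗ P.toLinearMap.flip
        indexEquiv := Equiv.refl ι
        weight_coweight_transpose := by
          ext n x
          simp [P', rootLatticePairing]
        root_weightMap := by
          ext i
          rfl
        coroot_coweightMap := by
          ext i x
          rfl }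
    have hfin : Finite (M ⧸ LinearMap.range f.weightMap) := by
      apply Module.finite_of_fg_torsion
      intro y
      obtain ⟨x, rfl⟩ := Submodule.Quotient.mk_surjective _ y
      obtain ⟨n, hn, hnx⟩ := torsion_of_finrank' _ hss x
      refine ⟨⟨n, mem_nonZeroDivisors_of_ne_zero hn⟩, ?_⟩
      rw [Submonoid.mk_smul, ← Submodule.Quotient.mk_smul, Submodule.Quotient.mk_eq_zero]
      exact ⟨⟨n • x, hnx⟩, rfl⟩
    have hb := H ι R (Dual ℤ R) P' f Subtype.val_injective hfin
    rw [eq_top_iff]
    intro x _
    obtain ⟨y, rfl⟩ := hb.2 x
    exact y.2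

end Groth.Agent.S5501
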