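import Groth.Statements.S5502
import Groth.Agent.H8.Dual
import Groth.Agent.S5485
-- import your own Groth.Agent.* helpers here

set_option autoImplicit false
open RootD

namespace Groth.Agent.S5502

/-- If β = Σ_{α ∈ Δ} a_α α along a system of simple roots Δ, then ℓ(β) divides 2 a_α ℓ(α), and 2ℓ(β)
divides it when α^v is indivisible (ℓ the canonical quadratic form). -/
theorem result {ι M N : Type*} [AddCommGroup M] [AddCommGroup N]
    (P : RootPairing ι ℤ M N) [Finite ι] [Fintype ι] (Δ : Set ι) (hΔ : RootD.IsSimpleSys P Δ)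
    (k : ι) (c : ι →₀ ℤ) (hc : ↑c.support ⊆ Δ) (hck : Finsupp.linearCombination ℤ P.root c = P.root k)
    (i : ι) (hi : i ∈ Δ) :
    P.RootForm (P.root k) (P.root k) ∣ 2 * c i * P.RootForm (P.root i) (P.root i) ∧
      (RootD.IsIndiv P.flip i → 2 * P.RootForm (P.root k) (P.root k) ∣ 2 * c i * P.RootForm (P.root i) (P.root i)) := by
  classical
  have hS := Groth.Agent.S5485.result P Δ hΔ
  set Δ' := {j : ι | ∃ i ∈ Δ, (j = i ∧ IsIndiv P.flip i) ∨ (2 : ℤ) • P.coroot j = P.coroot i}
    with hΔ'
  have hli := hΔ.linInd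
  have hno2 : ∀ i ∈ Δ, ∀ i' ∈ Δ, P.root i ≠ (2 : ℤ) • P.root i' := by
    intro i hi i' hi' h
    have := Groth.Agent.H8.eq_of_smul_eq_smul_of_linIndep hli hi hi' one_ne_zero
      (by rw [one_smul]; exact h)
    subst this
    have e : P.root i = (2 : ℤ) • P.root i - P.root i := by rw [two_smul]; abel
    rw [← h, sub_self] at e
    exact P.ne_zero i e
  have hrep : ∀ i ∈ Δ, ∃ j ∈ Δ', P.coroot i = P.coroot j ∨ P.coroot i = (2 : ℤ) • P.coroot j := by
    intro i hi
    by_cases hind : IsIndiv P.flip i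
    · exact ⟨i, ⟨i, hi, Or.inl ⟨rfl, hind⟩⟩, Or.inl rfl⟩
    · simp only [IsIndiv, not_forall, not_not, RootPairing.flip_root] at hind
      obtain ⟨j, hj⟩ := hind
      exact ⟨j, ⟨i, hi, Or.inr hj⟩, Or.inr hj.symm⟩
  have hcsupp : c ∈ Finsupp.supported ℤ ℤ Δ := (Finsupp.mem_supported ℤ c).mpr hc
  choose j hj hjm using hrep
  let J : ι → ι := fun α => if h : α ∈ Δ then j α h else α
  let Mm : ι → ℤ := fun α => if P.coroot α = P.coroot (J α) then 1 else 2
  have hJ : ∀ α ∈ Δ, J α ∈ Δ' := fun α h => by simp only [J, dif_pos h]; exact hj α h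
  have hJm : ∀ α ∈ Δ, P.coroot α = Mm α • P.coroot (J α) := by
    intro α h
    simp only [Mm]
    split_ifs with h'
    · rw [one_smul]; exact h'
    · have := hjm α h
      simp only [J, dif_pos h] at h' ⊢
      rcases this with h1 | h1
      · exact absurd h1 h'
      · exact h1
  have hMm : ∀ α, Mm α = 1 ∨ Mm α = 2 := fun α => by simp only [Mm]; split_ifs <;> simp
  have hJinj : ∀ α ∈ Δ, ∀ β ∈ Δ, J α = J β → α = β := by
    intro α hα β hβ hαβ
    have e1 := hJm α hα
    have e2 := hJm β hβ
    rw [hαβ] at e1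
    rcases hMm α with h1 | h1 <;> rcases hMm β with h2 | h2 <;> rw [h1] at e1 <;> rw [h2] at e2
    · exact P.coroot.injective (by rw [e1, e2])
    · rw [one_smul] at e1
      have : (2 : ℤ) • P.coroot α = P.coroot β := by rw [e1, e2]
      exact absurd (Groth.Agent.H8.root_eq_two_smul_of_coroot P this) (hno2 α hα β hβ)
    · rw [one_smul] at e2
      have : (2 : ℤ) • P.coroot β = P.coroot α := by rw [e2, e1]
      exact absurd (Groth.Agent.H8.root_eq_two_smul_of_coroot P this) (hno2 β hβ α hα)
    · exact P.coroot.injective (by rw [e1, e2])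
  set ℓ : ι → ℤ := fun α => P.RootForm (P.root α) (P.root α) with hℓ
  have hsc := Groth.Agent.H8.scaled_coroot P k c hck
  let D : ι →₀ ℤ := c.sum (fun α a => Finsupp.single (J α) (a * ℓ α * Mm α))
  have hD : Finsupp.linearCombination ℤ P.flip.root D =
      c.sum (fun α a => (a * P.RootForm (P.root α) (P.root α)) • P.coroot α) := by
    simp only [D, map_finsuppSum, Finsupp.linearCombination_single]
    apply Finsupp.sum_congr
    intro α hα
    have hαΔ : α ∈ Δ := hc hα
    rw [RootPairing.flip_root, hJm α hαΔ, smul_smul]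
  have hDsupp : D ∈ Finsupp.supported ℤ ℤ Δ' := by
    apply AddSubmonoidClass.finsuppSum_mem
    intro α hα
    exact Finsupp.single_mem_supported ℤ _ (hJ α (hc (Finsupp.mem_support_iff.mpr hα)))
  have hkey : ℓ k • Groth.Agent.H8.coef hS k = D := by
    apply Groth.Agent.H8.eq_of_lc_eq hS (Submodule.smul_mem _ _ (Groth.Agent.H8.coef_supp hS k))
      hDsupp
    rw [map_smul, Groth.Agent.H8.coef_spec hS k, hD, ← hsc]
    rfl
  have hval : ℓ k * Groth.Agent.H8.coef hS k (J i) = c i * ℓ i * Mm i := by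
    have := congrArg (fun f => f (J i)) hkey
    simp only [Finsupp.coe_smul, Pi.smul_apply, smul_eq_mul] at this
    rw [this]
    simp only [D, Finsupp.sum_apply]
    rw [Finsupp.sum, Finset.sum_eq_single i]
    · simp
    · intro α hα hne
      rw [Finsupp.single_eq_of_ne]
      intro h
      exact hne (hJinj α (hc hα) i hi h.symm)
    · intro hi'
      rw [Finsupp.notMem_support_iff.mp hi']
      simp
  have hdvd : ℓ k ∣ c i * ℓ i * Mm i := ⟨_, hval.symm⟩
  refine ⟨?_, ?_⟩
  · rcases hMm i with h | h <;> rw [h] at hdvd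
    · have : ℓ k ∣ 2 * (c i * ℓ i) := Dvd.dvd.mul_left (by simpa using hdvd) 2
      simpa [mul_assoc] using this
    · have e : c i * ℓ i * 2 = 2 * c i * ℓ i := by ring
      rw [e] at hdvd
      exact hdvd
  · intro hind
    have h1 : Mm i = 1 := by
      rcases hMm i with h | h
      · exact h
      · exfalso
        have e := hJm i hi
        rw [h] at e
        exact hind (J i) (by simpa using e.symm)
    rw [h1, mul_one] at hdvd
    have := mul_dvd_mul_left (2 : ℤ) hdvd
    simpa [mul_assoc] using this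

end Groth.Agent.S5502
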