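import Groth.Statements.S5507
import Groth.Agent.H8.RootLib
-- import your own Groth.Agent.* helpers here

set_option autoImplicit false
open RootD

namespace Groth.Agent.S5507

/-- For a system of simple roots Δ there are positive integers m_α (the lengths) such that the matrix
(m_α a_{α,β}) with a_{α,β} = (α^v, β) is symmetric and positive definite. -/
theorem result {ι M N : Type*} [AddCommGroup M] [AddCommGroup N]
    (P : RootPairing ι ℤ M N) [Finite ι] (Δ : Finset ι) (hΔ : RootD.IsSimpleSys P (↑Δ : Set ι)) :
    ∃ m : ↥Δ → ℤ, (∀ a, 0 < m a) ∧
      (Matrix.of fun (a b : ↥Δ) => m a * P.pairing (b : ι) (a : ι)).IsSymm ∧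
      (Matrix.of fun (a b : ↥Δ) => m a * P.pairing (b : ι) (a : ι)).PosDef := by
  classical
  have := Fintype.ofFinite ι
  have hentry : ∀ a b : ↥Δ, P.RootForm (P.root a) (P.root a) * P.pairing (b : ι) (a : ι) =
      2 * P.RootForm (P.root a) (P.root b) := fun a b =>
    (Groth.Agent.H8.two_mul_rootForm_root P a b).symm
  have hli : LinearIndependent ℤ (fun a : ↥Δ => P.root (a : ι)) := hΔ.linInd
  refine ⟨fun a => P.RootForm (P.root a) (P.root a),
    fun a => Groth.Agent.H8.rootForm_root_pos P a, ?_, ?_⟩
  · ext a b
    simp only [Matrix.transpose_apply, Matrix.of_apply]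
    rw [hentry, hentry, Groth.Agent.H8.rootForm_comm]
  · rw [Matrix.posDef_iff_dotProduct_mulVec]
    refine ⟨?_, ?_⟩
    · ext a b
      simp only [Matrix.conjTranspose_apply, Matrix.of_apply, star_trivial]
      rw [hentry, hentry, Groth.Agent.H8.rootForm_comm]
    · intro x hx
      set v : M := ∑ a, x a • P.root (a : ι) with hv
      have hv0 : v ≠ 0 := by
        intro h0
        apply hx
        funext a
        exact Fintype.linearIndependent_iff.mp hli x h0 a
      have hvspan : v ∈ Submodule.span ℤ (Set.range P.root) :=
        Submodule.sum_mem _ (fun a _ => Submodule.smul_mem _ _ (Submodule.subset_span ⟨_, rfl⟩))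
      have hpos := Groth.Agent.H8.rootForm_self_pos P hvspan hv0
      have hRF : P.RootForm v v =
          ∑ a, ∑ b, x a * x b * P.RootForm (P.root (a : ι)) (P.root (b : ι)) := by
        rw [hv]
        simp only [map_sum, map_smul, LinearMap.sum_apply, LinearMap.smul_apply, smul_eq_mul,
          Finset.mul_sum]
        apply Finset.sum_congr rfl
        intro a _
        apply Finset.sum_congr rfl
        intro b _
        rw [Groth.Agent.H8.rootForm_comm P (P.root (b : ι))]
        ring
      have key : dotProduct (star x) (Matrix.mulVec (Matrix.of fun (a b : ↥Δ) =>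
          P.RootForm (P.root a) (P.root a) * P.pairing (b : ι) (a : ι)) x) =
          2 * P.RootForm v v := by
        rw [hRF]
        simp only [dotProduct, Matrix.mulVec, Matrix.of_apply, star_trivial, Pi.star_apply, hentry,
          Finset.mul_sum]
        apply Finset.sum_congr rfl
        intro a _
        apply Finset.sum_congr rfl
        intro b _
        ring
      rw [key]
      linarith

end Groth.Agent.S5507
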