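import Groth.Statements.S5578
-- import your own Groth.Agent.* helpers here

set_option autoImplicit false
open CategoryTheory CategoryTheory.Limits Opposite
universe u
open ToposFin

namespace Groth.Agent.S5578

/-- For the topos of sheaves of sets on a small site: every monomorphism is quasi-separated, i.e. its
diagonal is a quasi-compact morphism. -/
theorem isQC_of_iso {C : Type u} [SmallCategory C] {J : GrothendieckTopology C}
    {X X' : ToposFin.Sh J} (e : X ≅ X') (h : ToposFin.IsQC X) : ToposFin.IsQC X' := by
  intro ι F π hπ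
  have h1 : Sigma.desc (fun i => π i ≫ e.inv) = Sigma.desc π ≫ e.inv := by
    ext i
    simp
  have hepi : Epi (Sigma.desc (fun i => π i ≫ e.inv)) := by
    rw [h1]
    exact epi_comp _ _
  obtain ⟨s, hs⟩ := h ι F (fun i => π i ≫ e.inv) hepi
  refine ⟨s, ?_⟩
  have h2 : Sigma.desc (fun i : s => π i) = Sigma.desc (fun i : s => π i ≫ e.inv) ≫ e.hom := by
    ext i
    simp
  rw [h2]
  exact epi_comp _ _

theorem isQCHom_of_isIso {C : Type u} [SmallCategory C] {J : GrothendieckTopology C}
    {X Y : ToposFin.Sh J} (f : X ⟶ Y) [IsIso f] : ToposFin.IsQCHom f := by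
  intro Y' g hY'
  exact isQC_of_iso (asIso (pullback.snd f g)).symm hY'

theorem result {C : Type u} [SmallCategory C] {J : GrothendieckTopology C}
    {X Y : ToposFin.Sh J} (u : X ⟶ Y) [Mono u] : ToposFin.IsQSHom u := by
  unfold ToposFin.IsQSHom
  exact isQCHom_of_isIso _

end Groth.Agent.S5578
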