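import Groth.Statements.S5613
import Groth.Agent.Lib.Helper9.KZero
-- import your own Groth.Agent.* helpers here

set_option autoImplicit false
universe v u
open CategoryTheory CategoryTheory.Limits CategoryTheory.Pretriangulated
open KZero

namespace Groth.Agent.S5613

/-- Let C be a pretriangulated category, L an object of C and n an integer such that the coproduct ∐_{i
≥ 0} L⟦2ni⟧ exists in C. Then cl(L) = 0 in K₀(C). -/
theorem result {C : Type u} [Category.{v} C] [Preadditive C] [HasZeroObject C]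
    [HasShift C ℤ] [∀ n : ℤ, (shiftFunctor C n).Additive] [Pretriangulated C]
    (L : C) (n : ℤ) [HasCoproduct (fun i : ℕ => (shiftFunctor C (2 * n * (i : ℤ))).obj L)] :
    KZero.clTri L = 0 := by
  classical
  set F : ℕ → C := fun i : ℕ => (shiftFunctor C (2 * n * (i : ℤ))).obj L with hF
  set P : C := ∐ F with hP
  let s := shiftFunctor C (2 * n)
  have hQ : IsColimit (Cofan.mk (s.obj P) (fun i => s.map (Sigma.ι F i)) :
      Cofan fun i => s.obj (F i)) :=
    isColimitCofanMkObjOfIsColimit s F (Sigma.ι F) (coproductIsCoproduct F)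
  let e : ∀ i : ℕ, s.obj (F i) ≅ F (i + 1) := fun i =>
    ((shiftFunctorAdd' C (2 * n * (i : ℤ)) (2 * n) (2 * n * ((i + 1 : ℕ) : ℤ))
      (by push_cast; rw [mul_add, mul_one])).app L).symm
  let e0 : F 0 ≅ L := (shiftFunctorZero' C (2 * n * ((0 : ℕ) : ℤ)) (by simp)).app L
  let g : s.obj P ⟶ P := hQ.desc (Cofan.mk P (fun i => (e i).hom ≫ Sigma.ι F (i + 1)))
  have hg : ∀ i, s.map (Sigma.ι F i) ≫ g = (e i).hom ≫ Sigma.ι F (i + 1) := fun i =>
    hQ.fac (Cofan.mk P (fun i => (e i).hom ≫ Sigma.ι F (i + 1))) ⟨i⟩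
  let dsc : ∀ {W : C} (a : L ⟶ W) (b : s.obj P ⟶ W), P ⟶ W := fun {W} a b =>
    Sigma.desc (fun i => Nat.casesOn (motive := fun i => F i ⟶ W) i (e0.hom ≫ a)
      (fun j => (e j).inv ≫ s.map (Sigma.ι F j) ≫ b))
  have hbin : IsColimit (BinaryCofan.mk (e0.inv ≫ Sigma.ι F 0) g) := by
    refine BinaryCofan.IsColimit.mk _ (fun a b => dsc a b) ?_ ?_ ?_
    · intro W a b
      show (e0.inv ≫ Sigma.ι F 0) ≫ dsc a b = a
      rw [Category.assoc, Sigma.ι_desc]
      exact e0.inv_hom_id_assoc a
    · intro W a b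
      show g ≫ dsc a b = b
      apply hQ.hom_ext
      rintro ⟨j⟩
      show s.map (Sigma.ι F j) ≫ g ≫ dsc a b = s.map (Sigma.ι F j) ≫ b
      rw [reassoc_of% (hg j), Sigma.ι_desc]
      exact (e j).hom_inv_id_assoc _
    · intro W a b m h1 h2
      have h1' : (e0.inv ≫ Sigma.ι F 0) ≫ m = a := h1
      have h2' : g ≫ m = b := h2
      refine Sigma.hom_ext (f := F) (X := W) m (dsc a b) (fun i => ?_)
      rw [Sigma.ι_desc]
      cases i with
      | zero =>
        show Sigma.ι F 0 ≫ m = e0.hom ≫ a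
        set_option backward.isDefEq.respectTransparency false in
        rw [← h1', Category.assoc, e0.hom_inv_id_assoc]
      | succ j =>
        show Sigma.ι F (j + 1) ≫ m = (e j).inv ≫ s.map (Sigma.ι F j) ≫ b
        set_option backward.isDefEq.respectTransparency false in
        rw [← h2', reassoc_of% (hg j), (e j).inv_hom_id_assoc]
  let iso : P ≅ L ⊞ s.obj P :=
    hbin.coconePointUniqueUpToIso (BinaryBiproduct.isColimit L (s.obj P))
  have h1 := Groth.Agent.Lib.Helper9.clTri_iso iso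
  rw [Groth.Agent.Lib.Helper9.clTri_biprod, Groth.Agent.Lib.Helper9.clTri_shift_two_mul] at h1
  exact (add_eq_right.mp h1.symm)

end Groth.Agent.S5613
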