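import Groth.Statements.S5615
-- import your own Groth.Agent.* helpers here

set_option autoImplicit false
universe v u
open CategoryTheory CategoryTheory.Limits
open KZero

namespace Groth.Agent.S5615

/-- Let A be an abelian category and S a dense set of objects, meaning that every set of objects which
contains S and which contains the third term of a short exact sequence as soon as it contains the
other two is all of A. Then K₀(A) is generated by the classes of the objects of S. -/
theorem result {A : Type u} [Category.{v} A] [Abelian A] (S : Set A)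
    (hdense : ∀ T : Set A, S ⊆ T →
      (∀ X : ShortComplex A, X.ShortExact →
        (X.X₁ ∈ T → X.X₂ ∈ T → X.X₃ ∈ T) ∧ (X.X₁ ∈ T → X.X₃ ∈ T → X.X₂ ∈ T) ∧
          (X.X₂ ∈ T → X.X₃ ∈ T → X.X₁ ∈ T)) → T = Set.univ) :
    AddSubgroup.closure (KZero.cl '' S) = (⊤ : AddSubgroup (KZero.K0 A)) := by
  set G := AddSubgroup.closure (KZero.cl '' S) with hG
  have hrel : ∀ X : ShortComplex A, X.ShortExact → KZero.cl X.X₂ = KZero.cl X.X₁ + KZero.cl X.X₃ := by
    intro X hX
    have hmem : FreeAbelianGroup.of X.X₂ - FreeAbelianGroup.of X.X₁ - FreeAbelianGroup.of X.X₃ ∈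
        KZero.relAb A := AddSubgroup.subset_closure ⟨X, hX, rfl⟩
    have h0 : (QuotientAddGroup.mk (FreeAbelianGroup.of X.X₂ - FreeAbelianGroup.of X.X₁ -
        FreeAbelianGroup.of X.X₃) : KZero.K0 A) = 0 := (QuotientAddGroup.eq_zero_iff _).mpr hmem
    simp only [QuotientAddGroup.mk_sub] at h0
    unfold KZero.cl
    rw [sub_sub, sub_eq_zero] at h0
    exact h0
  have hT := hdense {X | KZero.cl X ∈ G} (fun X hX => AddSubgroup.subset_closure ⟨X, hX, rfl⟩)
    (fun X hX => by
      have e := hrel X hX
      refine ⟨fun h1 h2 => ?_, fun h1 h3 => ?_, fun h2 h3 => ?_⟩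
      · show KZero.cl X.X₃ ∈ G
        have : KZero.cl X.X₃ = KZero.cl X.X₂ - KZero.cl X.X₁ := by rw [e]; abel
        rw [this]; exact G.sub_mem h2 h1
      · show KZero.cl X.X₂ ∈ G
        rw [e]; exact G.add_mem h1 h3
      · show KZero.cl X.X₁ ∈ G
        have : KZero.cl X.X₁ = KZero.cl X.X₂ - KZero.cl X.X₃ := by rw [e]; abel
        rw [this]; exact G.sub_mem h2 h3)
  rw [eq_top_iff]
  rintro x -
  induction x using QuotientAddGroup.induction_on with
  | H z =>
    induction z using FreeAbelianGroup.induction_on with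
    | zero => simp
    | of X =>
      have : X ∈ {X | KZero.cl X ∈ G} := hT ▸ Set.mem_univ X
      exact this
    | neg X ih =>
      rw [QuotientAddGroup.mk_neg]
      exact G.neg_mem ih
    | add a b ha hb =>
      rw [QuotientAddGroup.mk_add]
      exact G.add_mem ha hb

end Groth.Agent.S5615
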