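import Groth.Statements.S5656
import Mathlib.Algebra.Group.ForwardDiff
import Mathlib.Algebra.Polynomial.Roots
import Mathlib.Tactic.Ring
import Mathlib.Tactic.FieldSimp
-- import your own Groth.Agent.* helpers here

set_option autoImplicit false
universe u
open W4sga6xxiii

namespace Groth.Agent.S5656

open Polynomial

noncomputable def Bpoly (k : ℕ) : ℚ[X] :=
  (1 / (k.factorial : ℚ)) • (descPochhammer ℤ k).map (Int.castRingHom ℚ)

lemma Bpoly_eval (k : ℕ) (n : ℤ) : (Bpoly k).eval (n : ℚ) = ((Ring.choose n k : ℤ) : ℚ) := by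
  rw [Bpoly, eval_smul, eval_intCast_map, eq_intCast, eval_eq_smeval,
    Ring.descPochhammer_eq_factorial_smul_choose]
  have : (k.factorial : ℚ) ≠ 0 := by exact_mod_cast k.factorial_ne_zero
  rw [smul_eq_mul, nsmul_eq_mul, Int.cast_mul, Int.cast_natCast]
  rw [Int.cast_id]
  field_simp

lemma exists_poly {G : Type u} [AddCommGroup G] (f : G → ℚ) (hf : W4sga6xxiii.IsPolyMap f) (z : G) :
    ∃ P : ℚ[X], ∀ n : ℤ, P.eval (n : ℚ) = f (n • z) := by
  obtain ⟨m, y, -, hy⟩ := hf 1 (fun _ => z)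
  refine ⟨∑ k : Fin 1 → Fin (m + 1), y k • Bpoly (k 0 : ℕ), fun n => ?_⟩
  have := hy (fun _ => n)
  simp only [Fin.sum_univ_one, Fin.prod_univ_one] at this
  rw [this, eval_finsetSum]
  apply Finset.sum_congr rfl
  intro k _
  rw [eval_smul, Bpoly_eval, smul_eq_mul, zsmul_eq_mul, mul_comm]

lemma poly_unique (P Q : ℚ[X]) (h : ∀ n : ℤ, P.eval (n : ℚ) = Q.eval (n : ℚ)) : P = Q := by
  apply Polynomial.eq_of_infinite_eval_eq
  apply Set.Infinite.mono _ (Set.infinite_range_of_injective (Int.cast_injective (α := ℚ)))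
  rintro _ ⟨n, rfl⟩
  exact h n

lemma factorial_mul_lc_int (P : ℚ[X]) (h : ∀ n : ℤ, ∃ z : ℤ, P.eval (n : ℚ) = z) :
    ∃ a : ℤ, P.leadingCoeff * (P.natDegree.factorial : ℚ) = a := by
  have h1 := congr_fun (Polynomial.fwdDiff_iter_degree_eq_factorial P) 0
  rw [fwdDiff_iter_eq_sum_shift] at h1
  choose g hg using h
  refine ⟨∑ k ∈ Finset.range (P.natDegree + 1),
    ((-1 : ℤ) ^ (P.natDegree - k) * P.natDegree.choose k) * g k, ?_⟩
  rw [Pi.smul_apply, smul_eq_mul] at h1
  rw [show ((P.natDegree.factorial : ℚ → ℚ) 0) = (P.natDegree.factorial : ℚ) from rfl] at h1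
  rw [← h1, Int.cast_sum]
  apply Finset.sum_congr rfl
  intro k _
  rw [zero_add, nsmul_eq_mul, mul_one, zsmul_eq_mul]
  have := hg k
  push_cast at this ⊢
  rw [this]

/-- if `z = q • w` then the polynomial of `z` is that of `w` composed with `q X`. -/
lemma comp_rel {G : Type u} [AddCommGroup G] (f : G → ℚ) (z w : G) (q : ℕ) (hzw : q • w = z)
    (P Q : ℚ[X]) (hP : ∀ n : ℤ, P.eval (n : ℚ) = f (n • z)) (hQ : ∀ n : ℤ, Q.eval (n : ℚ) = f (n • w)) :
    P = Q.comp (C (q : ℚ) * X) := by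
  apply poly_unique
  intro n
  rw [hP, eval_comp, eval_mul, eval_C, eval_X]
  have : (q : ℚ) * (n : ℚ) = (((q : ℤ) * n : ℤ) : ℚ) := by push_cast; ring
  rw [this, hQ, ← hzw, mul_comm, mul_zsmul, natCast_zsmul]

/-- Let G be an abelian group and G' ⊆ G a subgroup which is divisible by some prime number p (every
element of G' is p times an element of G') and such that G/G' is a torsion group. Then every
polynomial map f : G → ℚ (admitting binomial expansions f(Σ n_i x_i) = Σ_k Π_i C(n_i, k_i) y_k along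
every finite sequence x) which takes only integer values is constant. -/
theorem result {G : Type u} [AddCommGroup G] (G' : AddSubgroup G)
    (p : ℕ) (hp : p.Prime) (hdiv : ∀ x ∈ G', ∃ y ∈ G', p • y = x) (htor : ∀ x : G, ∃ n : ℤ, n ≠ 0 ∧ n • x ∈ G')
    (f : G → ℚ) (hf : W4sga6xxiii.IsPolyMap f) (hint : ∀ x, ∃ z : ℤ, f x = z) (x : G) : f x = f 0 := by
  classical
  choose Pol hPol using exists_poly f hf
  have hintP : ∀ z : G, ∀ n : ℤ, ∃ c : ℤ, (Pol z).eval (n : ℚ) = c := by
    intro z n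
    obtain ⟨c, hc⟩ := hint (n • z)
    exact ⟨c, by rw [hPol, hc]⟩
  have hp2 : 2 ≤ p := hp.two_le
  have hp0 : (p : ℚ) ≠ 0 := by exact_mod_cast hp.ne_zero
  -- iterated divisibility
  have hdivj : ∀ z ∈ G', ∀ j : ℕ, ∃ w ∈ G', (p ^ j) • w = z := by
    intro z hz j
    induction j with
    | zero => exact ⟨z, hz, by simp⟩
    | succ j ih =>
      obtain ⟨w, hw, hwz⟩ := ih
      obtain ⟨v, hv, rfl⟩ := hdiv w hw
      refine ⟨v, hv, ?_⟩
      rw [← hwz, ← mul_nsmul', pow_succ]
  -- polynomials of elements of `G'` are constant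
  have hdeg : ∀ z ∈ G', (Pol z).natDegree = 0 := by
    intro z hz
    by_contra hd
    obtain ⟨a₀, ha₀⟩ := factorial_mul_lc_int (Pol z) (hintP z)
    have hlc : (Pol z).leadingCoeff ≠ 0 := by
      rw [Ne, leadingCoeff_eq_zero]
      rintro h0
      rw [h0, natDegree_zero] at hd
      exact hd rfl
    have ha₀ne : a₀ ≠ 0 := by
      rintro rfl
      rw [Int.cast_zero, mul_eq_zero] at ha₀
      rcases ha₀ with h | h
      · exact hlc h
      · exact (Nat.factorial_ne_zero _) (by exact_mod_cast h)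
    have key : ∀ j : ℕ, ((p : ℤ) ^ (j * (Pol z).natDegree)) ∣ a₀ := by
      intro j
      obtain ⟨w, hw, hwz⟩ := hdivj z hz j
      have hrel := comp_rel f z w (p ^ j) hwz (Pol z) (Pol w) (hPol z) (hPol w)
      have hq : (C ((p ^ j : ℕ) : ℚ) * X).natDegree = 1 := by
        rw [natDegree_C_mul_X]
        exact_mod_cast pow_ne_zero j hp.ne_zero
      have hdegw : (Pol z).natDegree = (Pol w).natDegree := by
        rw [hrel, natDegree_comp, hq, mul_one]
      have hlcw : (Pol z).leadingCoeff = (Pol w).leadingCoeff * ((p : ℚ) ^ j) ^ (Pol w).natDegree := by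
        rw [hrel, leadingCoeff_comp (by rw [hq]; exact one_ne_zero), leadingCoeff_C_mul_X]
        push_cast; ring
      obtain ⟨aw, haw⟩ := factorial_mul_lc_int (Pol w) (hintP w)
      refine ⟨aw, ?_⟩
      have : (a₀ : ℚ) = ((p : ℤ) ^ (j * (Pol z).natDegree) * aw : ℤ) := by
        rw [← ha₀, hlcw, ← hdegw]
        push_cast
        rw [← haw, ← hdegw]
        ring
      exact_mod_cast this
    have hj := key a₀.natAbs
    have hle := Int.natAbs_le_of_dvd_ne_zero hj ha₀ne
    rw [Int.natAbs_pow, Int.natAbs_natCast] at hle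
    have h1 : a₀.natAbs < p ^ a₀.natAbs := Nat.lt_pow_self (by omega)
    have h2 : p ^ a₀.natAbs ≤ p ^ (a₀.natAbs * (Pol z).natDegree) :=
      Nat.pow_le_pow_right (by omega) (Nat.le_mul_of_pos_right _ (Nat.pos_of_ne_zero hd))
    omega
  have hG' : ∀ z ∈ G', f z = f 0 := by
    intro z hz
    have hc := eq_C_of_natDegree_eq_zero (hdeg z hz)
    have e1 := hPol z 1
    have e0 := hPol z 0
    rw [one_smul] at e1
    rw [zero_smul] at e0
    rw [← e1, ← e0, hc]
    simp
  obtain ⟨n, hn, hnx⟩ := htor x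
  have hPx : Pol x = C (f 0) := by
    apply Polynomial.eq_of_infinite_eval_eq
    have hinj : Function.Injective (fun k : ℤ => (((k * n : ℤ)) : ℚ)) := by
      intro a b hab
      have hab' : ((a * n : ℤ) : ℚ) = ((b * n : ℤ) : ℚ) := hab
      have : a * n = b * n := by exact_mod_cast hab'
      exact mul_right_cancel₀ hn this
    apply Set.Infinite.mono _ (Set.infinite_range_of_injective hinj)
    rintro _ ⟨k, rfl⟩
    simp only [Set.mem_ofPred_eq, eval_C]
    rw [hPol, mul_zsmul]
    exact hG' _ (G'.zsmul_mem hnx k)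
  have := hPol x 1
  rw [one_smul, hPx] at this
  simpa using this.symm

end Groth.Agent.S5656
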