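import Groth.Statements.S6047
import Groth.Agent.Lib.Helper9.SheafTensor
import Mathlib.Tactic.Group
-- import your own Groth.Agent.* helpers here

set_option autoImplicit false
open CategoryTheory CategoryTheory.Limits MonoidalCategory
universe w v₁ u₁
open ShfCat

namespace Groth.Agent.S6047

open MonObj GrpObj CartesianMonoidalCategory in
theorem assoc_inv_fst' {D : Type*} [Category D] [CartesianMonoidalCategory D] (X Y Z : D) :
    (α_ X Y Z).inv ≫ fst (X ⊗ Y) Z = X ◁ fst Y Z := by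
  apply CartesianMonoidalCategory.hom_ext <;> simp

open MonObj GrpObj CartesianMonoidalCategory in
theorem whiskerRight_mul {D : Type*} [Category D] [CartesianMonoidalCategory D] {A G : D}
    [MonObj G] (f : A ⟶ G) :
    (f ▷ G) ≫ μ = (fst A G ≫ f) * snd A G := by
  rw [Hom.mul_def]; congr 1; apply CartesianMonoidalCategory.hom_ext <;> simp

open MonObj GrpObj CartesianMonoidalCategory in
theorem whiskerLeft_mul {D : Type*} [Category D] [CartesianMonoidalCategory D] {A G : D}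
    [MonObj G] (f : A ⟶ G) :
    (G ◁ f) ≫ μ = fst G A * (snd G A ≫ f) := by
  rw [Hom.mul_def]; congr 1; apply CartesianMonoidalCategory.hom_ext <;> simp

open MonObj GrpObj CartesianMonoidalCategory in
theorem gen_group {D : Type*} [Category D] [CartesianMonoidalCategory D] {H G : D}
    [GrpObj H] [GrpObj G] (u : H ⟶ G) [IsMonHom u]
    (hn : ∀ (Y : D) (g : Y ⟶ G) (h : Y ⟶ H), ∃ h' : Y ⟶ H, g * (h ≫ u) * g⁻¹ = h' ≫ u)
    {Q : D} (π : G ⟶ Q) (hπ : fst G H ≫ π = ((G ◁ u) ≫ μ) ≫ π)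
    (hc : IsColimit (Cofork.ofπ π hπ))
    (hL : ∀ X : D, IsColimit (Cofork.ofπ (X ◁ π)
      (by rw [← MonoidalCategory.whiskerLeft_comp, hπ, MonoidalCategory.whiskerLeft_comp]) :
        Cofork (X ◁ fst G H) (X ◁ ((G ◁ u) ≫ μ))))
    (hR : ∀ X : D, IsColimit (Cofork.ofπ (π ▷ X)
      (by rw [← comp_whiskerRight, hπ, comp_whiskerRight]) :
        Cofork (fst G H ▷ X) (((G ◁ u) ≫ μ) ▷ X)))
    (hLe : ∀ (X : D) {A B : D} (f : A ⟶ B), Epi f → Epi (X ◁ f))
    (hRe : ∀ (X : D) {A B : D} (f : A ⟶ B), Epi f → Epi (f ▷ X)) :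
    ∃! str : GrpObj Q, @IsMonHom D _ _ G Q _ str.toMonObj π := by
  have hepi : Epi π := epi_of_isColimit_cofork hc
  have hepiT : ∀ {A B A' B' : D} (f : A ⟶ B) (g : A' ⟶ B'), Epi f → Epi g → Epi (f ⊗ₘ g) := by
    intro A B A' B' f g hf hg
    rw [tensorHom_def]
    exact @epi_comp _ _ _ _ _ _ (hRe A' f hf) _ (hLe _ g hg)
  -- right invariance
  have rinv : ∀ {Y : D} (x : Y ⟶ G) (h : Y ⟶ H), (x * (h ≫ u)) ≫ π = x ≫ π := by
    intro Y x h
    have : x * (h ≫ u) = lift x h ≫ (G ◁ u) ≫ μ := by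
      rw [Hom.mul_def, lift_whiskerLeft_assoc]
    rw [this, Category.assoc, ← hπ, lift_fst_assoc]
  -- step A: the action
  have hwA : (G ◁ fst G H) ≫ μ ≫ π = (G ◁ ((G ◁ u) ≫ μ)) ≫ μ ≫ π := by
    have hc' : (G ◁ u) ≫ μ ≫ π = fst G H ≫ π := by rw [hπ, Category.assoc]
    have h1 : (G ◁ μ) ≫ μ = (α_ G G G).inv ≫ (μ ▷ G) ≫ μ := by
      rw [MonObj.mul_assoc G, Iso.inv_hom_id_assoc]
    rw [MonoidalCategory.whiskerLeft_comp, Category.assoc, reassoc_of% h1,
      associator_inv_naturality_right_assoc, whisker_exchange_assoc,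
      hc', whiskerRight_fst_assoc, reassoc_of% (assoc_inv_fst' G G H)]
  let act := (hL G).desc (Cofork.ofπ (μ ≫ π) hwA)
  have hact : (G ◁ π) ≫ act = μ ≫ π := (hL G).fac _ WalkingParallelPair.one
  -- step B: the multiplication
  have hwB : (fst G H ▷ Q) ≫ act = (((G ◁ u) ≫ μ) ▷ Q) ≫ act := by
    have := hLe (G ⊗ H) π hepi
    rw [← cancel_epi ((G ⊗ H) ◁ π), whisker_exchange_assoc, whisker_exchange_assoc, hact,
      ← Category.assoc, ← Category.assoc, whiskerRight_mul, whiskerRight_mul]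
    obtain ⟨h', hh'⟩ := hn ((G ⊗ H) ⊗ G) (snd (G ⊗ H) G)⁻¹ (fst (G ⊗ H) G ≫ snd G H)
    rw [_root_.inv_inv] at hh'
    have e : ((fst (G ⊗ H) G ≫ snd G H) ≫ u) * snd (G ⊗ H) G = snd (G ⊗ H) G * (h' ≫ u) := by
      rw [← hh']; group
    have e2 : fst (G ⊗ H) G ≫ (G ◁ u) ≫ μ =
        (fst (G ⊗ H) G ≫ fst G H) * ((fst (G ⊗ H) G ≫ snd G H) ≫ u) := by
      rw [whiskerLeft_mul, comp_mul, Category.assoc]
    rw [e2, _root_.mul_assoc, e, ← _root_.mul_assoc, rinv]
  let m := (hR Q).desc (Cofork.ofπ act hwB)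
  have hm' : (π ▷ Q) ≫ m = act := (hR Q).fac _ WalkingParallelPair.one
  have hm : (π ⊗ₘ π) ≫ m = μ ≫ π := by
    rw [tensorHom_def', Category.assoc, hm', hact]
  -- the inverse
  have hwI : fst G H ≫ ι ≫ π = ((G ◁ u) ≫ μ) ≫ ι ≫ π := by
    obtain ⟨h'', hh''⟩ := hn (G ⊗ H) (fst G H) ((snd G H)⁻¹)
    rw [GrpObj.inv_comp] at hh''
    have e : (fst G H * (snd G H ≫ u))⁻¹ = (fst G H)⁻¹ * (h'' ≫ u) := by
      rw [← hh'']; group
    have lhs : fst G H ≫ ι ≫ π = (fst G H)⁻¹ ≫ π := by rw [Hom.inv_def, Category.assoc]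
    have rhs : ((G ◁ u) ≫ μ) ≫ ι ≫ π = (fst G H * (snd G H ≫ u))⁻¹ ≫ π := by
      rw [whiskerLeft_mul, Hom.inv_def, Category.assoc]
    rw [lhs, rhs, e, rinv]
  let iQ := hc.desc (Cofork.ofπ (ι ≫ π) hwI)
  have hiQ : π ≫ iQ = ι ≫ π := hc.fac _ WalkingParallelPair.one
  have hππ : Epi (π ⊗ₘ π) := hepiT π π hepi hepi
  have hπππ : Epi ((π ⊗ₘ π) ⊗ₘ π) := hepiT _ _ hππ hepi
  have hL1 : (μ ≫ π) ⊗ₘ π = (μ ▷ G) ≫ (π ⊗ₘ π) := by
    rw [← tensorHom_id, tensorHom_comp_tensorHom, Category.id_comp]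
  have hR1 : π ⊗ₘ (μ ≫ π) = (G ◁ μ) ≫ (π ⊗ₘ π) := by
    rw [← id_tensorHom, tensorHom_comp_tensorHom, Category.id_comp]
  have h1L := hLe (𝟙_ D) π hepi
  have h1R := hRe (𝟙_ D) π hepi
  let strM : MonObj Q :=
    { one := η ≫ π
      mul := m
      one_mul := by
        rw [← cancel_epi (𝟙_ D ◁ π), whisker_exchange_assoc, comp_whiskerRight, Category.assoc,
          ← tensorHom_def_assoc, hm, MonObj.one_mul_assoc, leftUnitor_naturality]
      mul_one := by
        rw [← cancel_epi (π ▷ 𝟙_ D), ← whisker_exchange_assoc,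
          MonoidalCategory.whiskerLeft_comp_assoc, ← tensorHom_def'_assoc, hm,
          MonObj.mul_one_assoc, rightUnitor_naturality]
      mul_assoc := by
        rw [← cancel_epi ((π ⊗ₘ π) ⊗ₘ π), ← tensorHom_id m Q, tensorHom_comp_tensorHom_assoc, hm,
          Category.comp_id, hL1, Category.assoc, hm, MonObj.mul_assoc_assoc,
          associator_naturality_assoc, ← id_tensorHom Q m, tensorHom_comp_tensorHom_assoc, hm,
          Category.comp_id, hR1, Category.assoc, hm] }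
  let str : GrpObj Q :=
    { toMonObj := strM
      inv := iQ
      left_inv := by
        show lift iQ (𝟙 Q) ≫ m = toUnit Q ≫ η ≫ π
        rw [← cancel_epi π, comp_lift_assoc, hiQ, Category.comp_id,
          show lift (ι ≫ π) π = lift ι (𝟙 G) ≫ (π ⊗ₘ π) by rw [lift_map, Category.id_comp],
          Category.assoc, hm, GrpObj.left_inv_assoc, comp_toUnit_assoc]
      right_inv := by
        show lift (𝟙 Q) iQ ≫ m = toUnit Q ≫ η ≫ π
        rw [← cancel_epi π, comp_lift_assoc, hiQ, Category.comp_id,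
          show lift π (ι ≫ π) = lift (𝟙 G) ι ≫ (π ⊗ₘ π) by rw [lift_map, Category.id_comp],
          Category.assoc, hm, GrpObj.right_inv_assoc, comp_toUnit_assoc] }
  refine ⟨str, ⟨rfl, hm.symm⟩, ?_⟩
  intro str' hstr'
  apply GrpObj.ext
  apply MonObj.ext
  have hmul := hstr'.mul_hom
  rw [← cancel_epi (π ⊗ₘ π), ← hmul]
  exact hm.symm

open MonObj CartesianMonoidalCategory SemiCartesianMonoidalCategory in
/-- Let `u : H ⟶ G` be a monomorphism of sheaves of groups on a site identifying `H` with a normal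
subgroup sheaf of `G`. Then the quotient sheaf `G/H` (the coequalizer, in sheaves of sets, of the
projection and the multiplication `G × H ⇉ G`) carries exactly one structure of sheaf of groups for
which the canonical map `G ⟶ G/H` is a homomorphism. Stated for sheaves of sets valued in `Type w`
whenever sheafification exists; group sheaves are group objects for the cartesian monoidal
structure. -/
theorem result {C : Type u₁} [Category.{v₁} C]
    (J : GrothendieckTopology C) [HasSheafify J (Type w)]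
    {H G : Sheaf J (Type w)} [hH : GrpObj H] [hG : GrpObj G] (u : H ⟶ G) [Mono u]
    (hu : @IsMonHom (Sheaf J (Type w)) _ _ H G hH.toMonObj hG.toMonObj u)
    (hn : ∀ (Y : Sheaf J (Type w)) (g : Y ⟶ G) (h : Y ⟶ H), ∃ h' : Y ⟶ H, g * (h ≫ u) * g⁻¹ = h' ≫ u) :
    ∃! str : GrpObj (coequalizer (fst G H) ((G ◁ u) ≫ hG.mul)),
      @IsMonHom (Sheaf J (Type w)) _ _ G (coequalizer (fst G H) ((G ◁ u) ≫ hG.mul)) hG.toMonObj str.toMonObj
        (coequalizer.π (fst G H) ((G ◁ u) ≫ hG.mul)) := by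
  haveI := hu
  refine gen_group u hn (coequalizer.π (fst G H) ((G ◁ u) ≫ hG.mul)) (coequalizer.condition _ _)
    (coequalizerIsCoequalizer _ _) (fun X => ?_) (fun X => ?_)
    (fun X _ _ f hf => Groth.Agent.Lib.Helper9.SheafTensor.whiskerLeft_epi J X f)
    (fun X _ _ f hf => Groth.Agent.Lib.Helper9.SheafTensor.whiskerRight_epi J X f)
  · haveI := Groth.Agent.Lib.Helper9.SheafTensor.preservesColimitsOfShape_tensorLeft J
      WalkingParallelPair X
    exact (isColimitMapCoconeCoforkEquiv (tensorLeft X)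
      (coequalizer.condition (fst G H) ((G ◁ u) ≫ hG.mul))).toFun
      (isColimitOfPreserves (tensorLeft X) (coequalizerIsCoequalizer _ _))
  · haveI := Groth.Agent.Lib.Helper9.SheafTensor.preservesColimitsOfShape_tensorRight J
      WalkingParallelPair X
    exact (isColimitMapCoconeCoforkEquiv (tensorRight X)
      (coequalizer.condition (fst G H) ((G ◁ u) ≫ hG.mul))).toFun
      (isColimitOfPreserves (tensorRight X) (coequalizerIsCoequalizer _ _))

end Groth.Agent.S6047
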