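import Groth.Statements.S6051
import Groth.Agent.Lib.Helper9.SheafTensor
-- import your own Groth.Agent.* helpers here

set_option autoImplicit false
open CategoryTheory CategoryTheory.Limits MonoidalCategory
universe w v₁ u₁
open ShfCat

namespace Groth.Agent.S6051

open MonObj CartesianMonoidalCategory in
theorem assoc_inv_fst' {D : Type*} [Category D] [CartesianMonoidalCategory D] (X Y Z : D) :
    (α_ X Y Z).inv ≫ fst (X ⊗ Y) Z = X ◁ fst Y Z := by
  apply CartesianMonoidalCategory.hom_ext <;> simp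

open MonObj CartesianMonoidalCategory in
theorem gen_action {D : Type*} [Category D] [CartesianMonoidalCategory D] {H G : D} [MonObj G]
    (u : H ⟶ G) {Q : D} (π : G ⟶ Q) (hπ : fst G H ≫ π = ((G ◁ u) ≫ μ) ≫ π)
    (hX : ∀ X : D, IsColimit (Cofork.ofπ (X ◁ π)
      (by rw [← MonoidalCategory.whiskerLeft_comp, hπ, MonoidalCategory.whiskerLeft_comp]) :
        Cofork (X ◁ fst G H) (X ◁ ((G ◁ u) ≫ μ)))) :
    ∃! act : G ⊗ Q ⟶ Q, (η ▷ Q) ≫ act = (λ_ Q).hom ∧
      (μ ▷ Q) ≫ act = (α_ G G Q).hom ≫ (G ◁ act) ≫ act ∧ μ ≫ π = (G ◁ π) ≫ act := by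
  have hepi : ∀ X : D, Epi (X ◁ π) := fun X => epi_of_isColimit_cofork (hX X)
  have hc : (G ◁ u) ≫ μ ≫ π = fst G H ≫ π := by rw [hπ, Category.assoc]
  have hw : (G ◁ fst G H) ≫ μ ≫ π = (G ◁ ((G ◁ u) ≫ μ)) ≫ μ ≫ π := by
    have h1 : (G ◁ μ) ≫ μ = (α_ G G G).inv ≫ (μ ▷ G) ≫ μ := by
      rw [MonObj.mul_assoc G, Iso.inv_hom_id_assoc]
    rw [MonoidalCategory.whiskerLeft_comp, Category.assoc, reassoc_of% h1,
      associator_inv_naturality_right_assoc, whisker_exchange_assoc,
      hc, whiskerRight_fst_assoc, reassoc_of% (assoc_inv_fst' G G H)]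
  let act := (hX G).desc (Cofork.ofπ (μ ≫ π) hw)
  have hact : (G ◁ π) ≫ act = μ ≫ π := (hX G).fac _ WalkingParallelPair.one
  refine ⟨act, ⟨?_, ?_, hact.symm⟩, ?_⟩
  · rw [← cancel_epi (𝟙_ D ◁ π), whisker_exchange_assoc, hact, MonObj.one_mul_assoc,
      leftUnitor_naturality]
  · rw [← cancel_epi ((G ⊗ G) ◁ π), whisker_exchange_assoc, hact, MonObj.mul_assoc_assoc,
      associator_naturality_right_assoc, ← MonoidalCategory.whiskerLeft_comp_assoc, hact,
      MonoidalCategory.whiskerLeft_comp_assoc, hact]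
  · intro act' h'
    rw [← cancel_epi (G ◁ π), hact, ← h'.2.2]

open MonObj CartesianMonoidalCategory SemiCartesianMonoidalCategory in
/-- Let `u : H ⟶ G` be a monomorphism of sheaves of groups on a site and `G/H` the quotient sheaf
(coequalizer in sheaves of sets of the projection and the multiplication `G × H ⇉ G`), with `π : G ⟶
G/H`. Then `G/H` carries exactly one action of `G` (a unital, associative morphism `G × G/H ⟶ G/H`)
for which `π` is equivariant for the action of `G` on itself by left translations. Stated for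
sheaves of sets in `Type w` with sheafification. (The published statement adds that this structure
is functorial in the pair `(G, H)`; that clause is not stated here.) -/
theorem result {C : Type u₁} [Category.{v₁} C]
    (J : GrothendieckTopology C) [HasSheafify J (Type w)]
    {H G : Sheaf J (Type w)} [hH : GrpObj H] [hG : GrpObj G] (u : H ⟶ G) [Mono u]
    (hu : @IsMonHom (Sheaf J (Type w)) _ _ H G hH.toMonObj hG.toMonObj u) :
    ∃! act : G ⊗ coequalizer (fst G H) ((G ◁ u) ≫ hG.mul) ⟶ coequalizer (fst G H) ((G ◁ u) ≫ hG.mul),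
      (hG.one ▷ coequalizer (fst G H) ((G ◁ u) ≫ hG.mul)) ≫ act =
          (λ_ (coequalizer (fst G H) ((G ◁ u) ≫ hG.mul))).hom ∧
        (hG.mul ▷ coequalizer (fst G H) ((G ◁ u) ≫ hG.mul)) ≫ act =
          (α_ G G (coequalizer (fst G H) ((G ◁ u) ≫ hG.mul))).hom ≫ (G ◁ act) ≫ act ∧
        hG.mul ≫ coequalizer.π (fst G H) ((G ◁ u) ≫ hG.mul) =
          (G ◁ coequalizer.π (fst G H) ((G ◁ u) ≫ hG.mul)) ≫ act := by
  refine gen_action u (coequalizer.π (fst G H) ((G ◁ u) ≫ hG.mul))
    (coequalizer.condition _ _) (fun X => ?_)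
  haveI := Groth.Agent.Lib.Helper9.SheafTensor.preservesColimitsOfShape_tensorLeft J
    WalkingParallelPair X
  exact (isColimitMapCoconeCoforkEquiv (tensorLeft X)
    (coequalizer.condition (fst G H) ((G ◁ u) ≫ hG.mul))).toFun
    (isColimitOfPreserves (tensorLeft X) (coequalizerIsCoequalizer _ _))

end Groth.Agent.S6051
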