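import Groth.Statements.S6121
import Groth.Agent.Lib.Helper9.FibClv
-- import your own Groth.Agent.* helpers here

set_option autoImplicit false
open CategoryTheory
universe v₁ v₂ u₁ u₂
open SGA4

namespace Groth.Agent.S6121

open CategoryTheory.Functor in
set_option backward.isDefEq.respectTransparency false in
theorem main_iff
    {B : Type u₁} [Category.{v₁} B] {E : Type u₂} [Category.{v₂} E] (p : E ⥤ B) [p.IsFibered] :
    p.ReflectsIsomorphisms ↔ ∀ b : B, IsGroupoid (p.Fiber b) := by
  constructor
  · intro hp b
    refine ⟨fun {x y} f => ?_⟩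
    apply Groth.Agent.Lib.Helper9.FibClv.fiber_isIso
    have hf : p.IsHomLift (𝟙 b) (Fiber.fiberInclusion.map f) := inferInstance
    have : IsIso (p.map (Fiber.fiberInclusion.map f)) := by
      rw [CategoryTheory.IsHomLift.fac' p (𝟙 b) (Fiber.fiberInclusion.map f)]
      infer_instance
    exact isIso_of_reflects_iso _ p
  · intro hfib
    refine ⟨fun {x y} f hf => ?_⟩
    let φ := IsPreFibered.pullbackMap (p := p) (rfl : p.obj y = p.obj y) (p.map f)
    let τ := IsCartesian.map p (p.map f) φ f
    have hτ : τ ≫ φ = f := IsCartesian.fac p (p.map f) φ f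
    haveI : IsIso φ := IsStronglyCartesian.isIso_of_base_isIso p (p.map f) φ
    haveI : IsIso (Fiber.homMk p (p.obj x) τ) := IsGroupoid.all_isIso _
    haveI : IsIso τ := by
      have := Fiber.fiberInclusion_homMk p (p.obj x) τ
      rw [← this]
      infer_instance
    rw [← hτ]
    infer_instance

/-- For a fibered functor `p : E ⥤ B` (every morphism of `B` has a cartesian lift with prescribed
codomain, and cartesian morphisms compose), `p` reflects isomorphisms if and only if every fibre
category of `p` (objects over `b`, morphisms lying over the identity of `b`) is a groupoid. -/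
theorem result
    {B : Type u₁} [Category.{v₁} B] {E : Type u₂} [Category.{v₂} E] (p : E ⥤ B) [p.IsFibered] :
    p.ReflectsIsomorphisms ↔ ∀ b : B, IsGroupoid (p.Fiber b) := by
  exact main_iff p

end Groth.Agent.S6121
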