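import Groth.Statements.S6122
-- import your own Groth.Agent.* helpers here

set_option autoImplicit false
open CategoryTheory
universe v₁ v₂ u₁ u₂
open SGA4

namespace Groth.Agent.S6122

open CategoryTheory.Functor in
set_option backward.isDefEq.respectTransparency false in
theorem main_iff
    {B : Type u₁} [Category.{v₁} B] {E : Type u₂} [Category.{v₂} E] (p : E ⥤ B) [p.IsFibered] :
    p.Faithful ↔ ∀ (b : B) (x y : p.Fiber b), Subsingleton (x ⟶ y) := by
  constructor
  · intro hp b x y
    refine ⟨fun f g => ?_⟩
    apply Fiber.hom_ext
    apply p.map_injective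
    rw [CategoryTheory.IsHomLift.fac' p (𝟙 b) (Fiber.fiberInclusion.map f),
      CategoryTheory.IsHomLift.fac' p (𝟙 b) (Fiber.fiberInclusion.map g)]
  · intro hfib
    refine ⟨fun {x y} f g hfg => ?_⟩
    let φ := IsPreFibered.pullbackMap (p := p) (rfl : p.obj y = p.obj y) (p.map f)
    haveI : p.IsHomLift (p.map f) g := by rw [hfg]; infer_instance
    let τf := IsCartesian.map p (p.map f) φ f
    let τg := IsCartesian.map p (p.map f) φ g
    have hf : τf ≫ φ = f := IsCartesian.fac p (p.map f) φ f
    have hg : τg ≫ φ = g := IsCartesian.fac p (p.map f) φ g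
    have : Fiber.homMk p (p.obj x) τf = Fiber.homMk p (p.obj x) τg := Subsingleton.elim _ _
    have h2 : τf = τg := by
      have := congrArg (fun h => Fiber.fiberInclusion.map h) this
      simpa using this
    rw [← hf, ← hg, h2]

/-- For a fibered functor `p : E ⥤ B` (every morphism of `B` has a cartesian lift with prescribed
codomain, and cartesian morphisms compose), `p` is faithful if and only if every fibre category of
`p` (objects over `b`, morphisms lying over the identity of `b`) has at most one morphism between
any two objects. -/
theorem result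
    {B : Type u₁} [Category.{v₁} B] {E : Type u₂} [Category.{v₂} E] (p : E ⥤ B) [p.IsFibered] :
    p.Faithful ↔ ∀ (b : B) (x y : p.Fiber b), Subsingleton (x ⟶ y) := by
  exact main_iff p

end Groth.Agent.S6122
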