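import Groth.Statements.S6123
import Mathlib.CategoryTheory.Limits.Shapes.Diagonal
import Mathlib.CategoryTheory.Limits.Preserves.Shapes.Pullbacks
-- import your own Groth.Agent.* helpers here

set_option autoImplicit false
open CategoryTheory CategoryTheory.Limits Opposite
universe w v₁ v₂ u₁ u₂
open SGA4

namespace Groth.Agent.S6123

/-- For a single functor. Let `E` have pullbacks and let `φ : E ⥤ F` preserve them. If every
monomorphism `u` of `E` with `φ u` invertible is invertible, then `φ` reflects all isomorphisms. -/
theorem result
    {E : Type u₁} [Category.{v₁} E] {F : Type u₂} [Category.{v₂} F] (φ : E ⥤ F)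
    [HasPullbacks E] [PreservesLimitsOfShape WalkingCospan φ]
    (h : ∀ ⦃X Y : E⦄ (u : X ⟶ Y), Mono u → IsIso (φ.map u) → IsIso u) :
    φ.ReflectsIsomorphisms := by
  constructor
  intro X Y f hf
  have hΔ : IsIso (φ.map (pullback.diagonal f)) := by
    have e : φ.map (pullback.diagonal f) ≫ (PreservesPullback.iso φ f f).hom =
        pullback.diagonal (φ.map f) := by
      apply pullback.hom_ext
      · simp only [Category.assoc, PreservesPullback.iso_hom_fst, pullback.diagonal_fst]
        rw [← φ.map_comp, pullback.diagonal_fst, φ.map_id]
      · simp only [Category.assoc, PreservesPullback.iso_hom_snd, pullback.diagonal_snd]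
        rw [← φ.map_comp, pullback.diagonal_snd, φ.map_id]
    have : φ.map (pullback.diagonal f) =
        pullback.diagonal (φ.map f) ≫ (PreservesPullback.iso φ f f).inv := by
      rw [← e, Category.assoc, Iso.hom_inv_id, Category.comp_id]
    rw [this]
    infer_instance
  have hΔ' : IsIso (pullback.diagonal f) := h _ inferInstance hΔ
  have hmono : Mono f := (pullback.isIso_diagonal_iff f).mp hΔ'
  exact h f hmono hf

end Groth.Agent.S6123
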