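import Groth.Statements.S6126
-- import your own Groth.Agent.* helpers here

set_option autoImplicit false
open CategoryTheory CategoryTheory.Limits
universe v₁ u₁
open SGA4

namespace Groth.Agent.S6126

/-- Let `E` be a category with `v₁`-small hom-sets admitting a separating family of objects `G t`
indexed by a `v₁`-small type, in which every object admits a monomorphism into an injective object.
Assume that each coproduct `G t ⨿ G t` exists and that every morphism out of `G t ⨿ G t` factors as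
an effective epimorphism followed by a monomorphism. Then `E` admits a coseparating family of
injective objects indexed by a `v₁`-small type. (The published statement moreover bounds the size of
this family in terms of the hom-sets `Hom (G t', G t ⨿ G t)`; only existence is stated here. The
published statement speaks of generating and cogenerating families; its proof uses and produces
joint faithfulness of maps out of, resp. into, the family, which is the sense taken here.) -/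
theorem result
    {E : Type u₁} [Category.{v₁} E] {ι : Type v₁} (G : ι → E)
    (hG : (ObjectProperty.ofObj G).IsSeparating)
    [EnoughInjectives E] [∀ t, HasBinaryCoproduct (G t) (G t)]
    (hfac : ∀ (t : ι) (X : E) (f : G t ⨿ G t ⟶ X),
      ∃ (Y : E) (e : G t ⨿ G t ⟶ Y) (m : Y ⟶ X), EffectiveEpi e ∧ Mono m ∧ e ≫ m = f) :
    ∃ (κ : Type v₁) (H : κ → E),
      (∀ k, Injective (H k)) ∧ (ObjectProperty.ofObj H).IsCoseparating := by
  classical
  -- the relation of a morphism out of `G t ⨿ G t`, tested on the separating family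
  let rel : ∀ {t : ι} {Y : E}, (G t ⨿ G t ⟶ Y) →
      Set (Σ t' : ι, (G t' ⟶ G t ⨿ G t) × (G t' ⟶ G t ⨿ G t)) :=
    fun {t} {Y} e => {p | p.2.1 ≫ e = p.2.2 ≫ e}
  have hrel : ∀ {t : ι} {Y : E} (e : G t ⨿ G t ⟶ Y) (p : Σ t' : ι, (G t' ⟶ G t ⨿ G t) × (G t' ⟶ G t ⨿ G t)),
      p ∈ rel e ↔ p.2.1 ≫ e = p.2.2 ≫ e := fun _ _ => Iff.rfl
  let κ : Type v₁ := Σ t : ι, {R : Set (Σ t' : ι, (G t' ⟶ G t ⨿ G t) × (G t' ⟶ G t ⨿ G t)) //
    ∃ (Y : E) (e : G t ⨿ G t ⟶ Y), EffectiveEpi e ∧ rel e = R}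
  let H : κ → E := fun k => Injective.under k.2.2.choose
  refine ⟨κ, H, fun k => Injective.injective_under _, ?_⟩
  intro X Y f g hfg
  by_contra hne
  have : ∃ (t : ι) (x : G t ⟶ X), x ≫ f ≠ x ≫ g := by
    by_contra hcon
    push Not at hcon
    apply hne
    apply hG
    intro G₀ hG₀ h
    obtain ⟨t⟩ := hG₀
    exact hcon t h
  obtain ⟨t, x, hx⟩ := this
  obtain ⟨Y', e, m, he, hm, hem⟩ := hfac t Y (coprod.desc (x ≫ f) (x ≫ g))
  have hR : ∃ (Y : E) (e' : G t ⨿ G t ⟶ Y), EffectiveEpi e' ∧ rel e' = rel e := ⟨Y', e, he, rfl⟩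
  let k : κ := ⟨t, ⟨rel e, hR⟩⟩
  have hk : H k = Injective.under hR.choose := rfl
  let Y₁ : E := hR.choose
  let e₁ : G t ⨿ G t ⟶ Y₁ := hR.choose_spec.choose
  have he₁ : EffectiveEpi e₁ := hR.choose_spec.choose_spec.1
  have hrel₁ : rel e₁ = rel e := hR.choose_spec.choose_spec.2
  have hcomp : ∀ {Z : E} (g₁ g₂ : Z ⟶ G t ⨿ G t), g₁ ≫ e = g₂ ≫ e → g₁ ≫ e₁ = g₂ ≫ e₁ := by
    intro Z g₁ g₂ h12
    apply hG
    intro G₀ hG₀ h
    obtain ⟨t'⟩ := hG₀
    have hmem : (⟨t', h ≫ g₁, h ≫ g₂⟩ : Σ t' : ι, (G t' ⟶ G t ⨿ G t) × (G t' ⟶ G t ⨿ G t)) ∈ rel e := by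
      rw [hrel]; simp only [Category.assoc, h12]
    rw [← hrel₁, hrel] at hmem
    simpa only [Category.assoc] using hmem
  let ψ : Y' ⟶ Y₁ := EffectiveEpi.desc e e₁ hcomp
  have hψ : e ≫ ψ = e₁ := EffectiveEpi.fac e e₁ hcomp
  let j : Y₁ ⟶ Injective.under Y₁ := Injective.ι Y₁
  let hh : Y ⟶ Injective.under Y₁ := Injective.factorThru (ψ ≫ j) m
  have hhm : m ≫ hh = ψ ≫ j := Injective.comp_factorThru _ _
  have key : f ≫ hh = g ≫ hh := hfg (H k) ⟨k⟩ hh
  have h1 : x ≫ f ≫ hh = coprod.inl ≫ e₁ ≫ j := by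
    have : x ≫ f = coprod.inl ≫ e ≫ m := by rw [hem, coprod.inl_desc]
    rw [← Category.assoc, this, Category.assoc, Category.assoc, hhm, ← Category.assoc e, hψ]
  have h2 : x ≫ g ≫ hh = coprod.inr ≫ e₁ ≫ j := by
    have : x ≫ g = coprod.inr ≫ e ≫ m := by rw [hem, coprod.inr_desc]
    rw [← Category.assoc, this, Category.assoc, Category.assoc, hhm, ← Category.assoc e, hψ]
  have h3 : (coprod.inl : G t ⟶ G t ⨿ G t) ≫ e₁ = coprod.inr ≫ e₁ := by
    rw [← cancel_mono j, Category.assoc, Category.assoc, ← h1, ← h2, key]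
  have hmem : (⟨t, coprod.inl, coprod.inr⟩ : Σ t' : ι, (G t' ⟶ G t ⨿ G t) × (G t' ⟶ G t ⨿ G t)) ∈ rel e₁ := by
    rw [hrel]; exact h3
  rw [hrel₁, hrel] at hmem
  apply hx
  have hinl : x ≫ f = coprod.inl ≫ e ≫ m := by rw [hem, coprod.inl_desc]
  have hinr : x ≫ g = coprod.inr ≫ e ≫ m := by rw [hem, coprod.inr_desc]
  rw [hinl, hinr, ← Category.assoc, ← Category.assoc, hmem]

end Groth.Agent.S6126
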