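import Groth.Statements.S6130
-- import your own Groth.Agent.* helpers here

set_option autoImplicit false
open CategoryTheory
universe v₁ u₁
open SGA4

namespace Groth.Agent.S6130

/-- The reference). Let `J` be a topology on `C` and `G` a topologically generating family of objects:
every object `X` is covered by the sieve generated by all morphisms `Y ⟶ X` with `G Y`. Then for
every covering sieve `S` of `X`, the sieve generated by those morphisms of `S` whose source
satisfies `G` covers `X`; in particular every covering sieve contains a covering sieve generated by
morphisms out of objects of `G`. -/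
theorem result
    {C : Type u₁} [Category.{v₁} C] (J : GrothendieckTopology C) (G : ObjectProperty C)
    (hG : ∀ X : C, Sieve.generate (fun Y => {_f : Y ⟶ X | G Y}) ∈ J X)
    {X : C} (S : Sieve X) (hS : S ∈ J X) :
    Sieve.generate (fun Y => {f : Y ⟶ X | G Y ∧ S.arrows f}) ∈ J X := by
  apply J.transitive hS
  intro Y f hf
  apply J.superset_covering _ (hG Y)
  rintro Z g ⟨W, h, k, hW, rfl⟩
  refine ⟨W, h, k ≫ f, ⟨hW, S.downward_closed hf k⟩, ?_⟩
  simp

end Groth.Agent.S6130
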