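import Groth.Statements.S6131
import Mathlib.CategoryTheory.Sites.Closed
-- import your own Groth.Agent.* helpers here

set_option autoImplicit false
open CategoryTheory CategoryTheory.Limits
universe u
open SGA4

namespace Groth.Agent.S6131

/-- The reference). For a small site `(C, J)` and an object `X` of `C`, the sheaf associated to the
presheaf represented by `X` is an initial object of the category of sheaves of sets if and only if
the empty sieve covers `X`. -/
theorem result
    {C : Type u} [SmallCategory C] (J : GrothendieckTopology C) (X : C) :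
    Nonempty (IsInitial ((presheafToSheaf J (Type u)).obj (yoneda.obj X))) ↔ (⊥ : Sieve X) ∈ J X := by
  let e : ∀ F : Sheaf J (Type u),
      ((presheafToSheaf J (Type u)).obj (yoneda.obj X) ⟶ F) ≃ F.obj.obj (Opposite.op X) :=
    fun F => ((sheafificationAdjunction J (Type u)).homEquiv _ F).trans yonedaEquiv
  constructor
  · rintro ⟨hI⟩
    let Ω : Sheaf J (Type u) := ⟨(Functor.closedSieves J).toFunctor,
      (isSheaf_iff_isSheaf_of_type J _).mpr (classifier_isSheaf J)⟩
    have hsub : Subsingleton (Ω.obj.obj (Opposite.op X)) := by
      constructor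
      intro a b
      have := hI.hom_ext ((e Ω).symm a) ((e Ω).symm b)
      exact (e Ω).symm.injective this
    let a : Ω.obj.obj (Opposite.op X) := ⟨(⊤ : Sieve X), J.isClosed_iff_close_eq_self _ |>.mpr
      ((J.close_eq_top_iff_mem ⊤).mpr (J.top_mem X))⟩
    let b : Ω.obj.obj (Opposite.op X) := ⟨J.close (⊥ : Sieve X), J.close_isClosed _⟩
    have hab : a = b := Subsingleton.elim _ _
    have : J.close (⊥ : Sieve X) = ⊤ := (congrArg Subtype.val hab).symm
    exact (J.close_eq_top_iff_mem ⊥).mp this
  · intro H
    refine ⟨@IsInitial.ofUnique _ _ _ fun F => ?_⟩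
    have : Unique (F.obj.obj (Opposite.op X)) :=
      Types.isTerminalEquivUnique _ (Sheaf.isTerminalOfBotCover F X H)
    exact (e F).unique

end Groth.Agent.S6131
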