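import Groth.Statements.S6132
-- import your own Groth.Agent.* helpers here

set_option autoImplicit false
open CategoryTheory CategoryTheory.Limits
universe u
open SGA4

namespace Groth.Agent.S6132

/-- Let `(C, J)` be a small site, `X` an object and `s i : Y i ⟶ X` a family of morphisms all of whose
base changes exist in `C`. If the family is covering, every `s i` is a monomorphism, and for `i ≠ j`
the fibre product `Y i ×_X Y j` is covered by the empty sieve, then the associated sheaf of `X`,
with the maps induced by the `s i`, is a coproduct of the associated sheaves of the `Y i` in the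
category of sheaves of sets. -/
theorem result
    {C : Type u} [SmallCategory C] (J : GrothendieckTopology C) {X : C} {ι : Type u}
    (Y : ι → C) (s : ∀ i, Y i ⟶ X) [∀ (i : ι) (Z : C) (g : Z ⟶ X), HasPullback (s i) g]
    (hcov : Sieve.ofArrows Y s ∈ J X) (hmono : ∀ i, Mono (s i))
    (hdisj : ∀ i j, i ≠ j → (⊥ : Sieve (pullback (s i) (s j))) ∈ J (pullback (s i) (s j))) :
    Nonempty (IsColimit (Cofan.mk ((presheafToSheaf J (Type u)).obj (yoneda.obj X))
      (fun i => (presheafToSheaf J (Type u)).map (yoneda.map (s i))))) := by
  classical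
  -- for every sheaf `G`, restriction `G(X) → Π G(Y i)` is bijective
  have key : ∀ (G : Sheaf J (Type u)) (x : ∀ i, G.obj.obj (Opposite.op (Y i))),
      ∃! t : G.obj.obj (Opposite.op X), ∀ i, G.obj.map (s i).op t = x i := by
    intro G x
    have hG : Presieve.IsSheaf J G.obj := (isSheaf_iff_isSheaf_of_type J G.obj).1 G.property
    have h1 : Presieve.IsSheafFor G.obj (Presieve.ofArrows Y s) := by
      rw [Presieve.isSheafFor_iff_generate]; exact hG _ hcov
    rw [Presieve.isSheafFor_arrows_iff] at h1
    apply h1
    intro i j Z gi gj hij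
    by_cases h : i = j
    · subst h
      have := (hmono i).right_cancellation gi gj hij
      rw [this]
    · have hZ : (⊥ : Sieve Z) ∈ J Z := by
        have := J.pullback_stable (pullback.lift gi gj hij) (hdisj i j h)
        rwa [Sieve.pullback_bot] at this
      exact (hG _ hZ).isSeparatedFor.ext (fun _ _ hf => False.elim hf)
  let a := presheafToSheaf J (Type u)
  let adj := sheafificationAdjunction J (Type u)
  let E : ∀ (Z : C) (G : Sheaf J (Type u)), (a.obj (yoneda.obj Z) ⟶ G) ≃ G.obj.obj (Opposite.op Z) :=
    fun Z G => (adj.homEquiv _ _).trans yonedaEquiv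
  have hE : ∀ (Z Z' : C) (f : Z' ⟶ Z) (G : Sheaf J (Type u)) (φ : a.obj (yoneda.obj Z) ⟶ G),
      E Z' G (a.map (yoneda.map f) ≫ φ) = G.obj.map f.op (E Z G φ) := by
    intro Z Z' f G φ
    simp only [E, Equiv.trans_apply]
    rw [adj.homEquiv_naturality_left, yonedaEquiv_naturality]
  refine ⟨Cofan.IsColimit.mk _ (fun t => (E X t.pt).symm
    (Classical.choose (key t.pt (fun i => E (Y i) t.pt (t.inj i))))) ?_ ?_⟩
  · intro t j
    apply (E (Y j) t.pt).injective
    show E (Y j) t.pt (a.map (yoneda.map (s j)) ≫ _) = _
    rw [hE, Equiv.apply_symm_apply]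
    exact (Classical.choose_spec (key t.pt (fun i => E (Y i) t.pt (t.inj i)))).1 j
  · intro t m hm
    apply (E X t.pt).injective
    rw [Equiv.apply_symm_apply]
    apply (Classical.choose_spec (key t.pt (fun i => E (Y i) t.pt (t.inj i)))).2
    intro i
    rw [← hE]
    exact congrArg _ (hm i)

end Groth.Agent.S6132
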