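import Groth.Statements.S6133
-- import your own Groth.Agent.* helpers here

set_option autoImplicit false
open CategoryTheory CategoryTheory.Limits
universe v₁ u₁
open SGA4

namespace Groth.Agent.S6133

/-- Let `C` be a separating family of objects of `E` and let `i' : X' ⟶ X`, `i'' : X'' ⟶ X` be regular
monomorphisms (equalizers of pairs). If for every `T` with `C T` a morphism `T ⟶ X` factors through
`i'` exactly when it factors through `i''`, then `i'` and `i''` define the same subobject of `X`: a
regular subobject is determined by the morphisms from objects of `C` that it contains. (The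
published statement is for strict subobjects, of which regular ones are a special case, and for a
generating family in the sense of jointly reflecting isomorphisms, while the published proof uses
joint faithfulness; the row takes `C` separating.) -/
theorem factor_aux {E : Type u₁} [Category.{v₁} E] {C : ObjectProperty E} (hC : C.IsSeparating)
    {X X' X'' : E} (i' : X' ⟶ X) (i'' : X'' ⟶ X) (r : RegularMono i'')
    (h : ∀ (T : E), C T → ∀ (g : T ⟶ X),
      (∃ g' : T ⟶ X', g' ≫ i' = g) → (∃ g'' : T ⟶ X'', g'' ≫ i'' = g)) :
    ∃ l : X' ⟶ X'', l ≫ i'' = i' := by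
  have hw : i' ≫ r.left = i' ≫ r.right := by
    apply hC
    intro T hT t
    obtain ⟨g'', hg''⟩ := h T hT (t ≫ i') ⟨t, rfl⟩
    rw [← Category.assoc, ← Category.assoc, ← hg'', Category.assoc, Category.assoc, r.w]
  exact ⟨(r.lift' i' hw).1, (r.lift' i' hw).2⟩

theorem result
    {E : Type u₁} [Category.{v₁} E] {C : ObjectProperty E} (hC : C.IsSeparating)
    {X X' X'' : E} (i' : X' ⟶ X) (i'' : X'' ⟶ X) [IsRegularMono i'] [IsRegularMono i'']
    (h : ∀ (T : E), C T → ∀ (g : T ⟶ X),
      (∃ g' : T ⟶ X', g' ≫ i' = g) ↔ (∃ g'' : T ⟶ X'', g'' ≫ i'' = g)) :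
    Subobject.mk i' = Subobject.mk i'' := by
  obtain ⟨r'⟩ := (inferInstance : IsRegularMono i').regularMono
  obtain ⟨r''⟩ := (inferInstance : IsRegularMono i'').regularMono
  have : Mono i' := r'.mono
  have : Mono i'' := r''.mono
  obtain ⟨l, hl⟩ := factor_aux hC i' i'' r'' (fun T hT g => (h T hT g).mp)
  obtain ⟨l', hl'⟩ := factor_aux hC i'' i' r' (fun T hT g => (h T hT g).mpr)
  exact le_antisymm (Subobject.mk_le_mk_of_comm l hl) (Subobject.mk_le_mk_of_comm l' hl')

end Groth.Agent.S6133
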