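import Groth.Statements.S6139
-- import your own Groth.Agent.* helpers here

set_option autoImplicit false
open CategoryTheory CategoryTheory.Limits
universe v u
open SGA4

namespace Groth.Agent.S6139

/-- The reference 1). For an object `X` of a category `C`, the empty sieve on `X` is covering for the
canonical topology of `C` (the finest topology for which every representable presheaf is a sheaf) if
and only if `X` is a strict initial object: `X` is initial and every morphism with target `X` is an
isomorphism. (The source phrases the first condition as: for some topology coarser than the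
canonical one the associated sheaf of `h_X` is initial; by the reference 1) that sheaf is initial
exactly when the empty sieve covers `X`, and coverage by the empty sieve passes to the finer
canonical topology.) -/
theorem initial_of_bot_mem {C : Type u} [Category.{v} C] (X : C)
    (H : (⊥ : Sieve X) ∈ Sheaf.canonicalTopology C X) : Nonempty (IsInitial X) := by
  refine ⟨@IsInitial.ofUnique _ _ _ fun W => ?_⟩
  have hS := Sheaf.isSheaf_yoneda_obj W ⊥ H
  let x : Presieve.FamilyOfElements (yoneda.obj W) (⊥ : Sieve X).arrows :=
    fun _ _ hf => False.elim (by simp at hf)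
  have hx : x.Compatible := by
    intro _ _ _ _ _ _ _ h1 _ _
    exact False.elim (by simp at h1)
  have hex := hS x hx
  refine ⟨⟨hex.exists.choose⟩, fun a => ?_⟩
  apply hex.unique _ hex.exists.choose_spec
  intro _ _ hf
  exact False.elim (by simp at hf)

theorem result
    {C : Type u} [Category.{v} C] (X : C) :
    (⊥ : Sieve X) ∈ Sheaf.canonicalTopology C X ↔
      (Nonempty (IsInitial X) ∧ ∀ (Y : C) (f : Y ⟶ X), IsIso f) := by
  constructor
  · intro H
    obtain ⟨hX⟩ := initial_of_bot_mem X H
    refine ⟨⟨hX⟩, fun Y f => ?_⟩
    have HY : (⊥ : Sieve Y) ∈ Sheaf.canonicalTopology C Y := by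
      have := (Sheaf.canonicalTopology C).pullback_stable f H
      rwa [Sieve.pullback_bot] at this
    obtain ⟨hY⟩ := initial_of_bot_mem Y HY
    exact ⟨⟨hX.to Y, hY.hom_ext _ _, hX.hom_ext _ _⟩⟩
  · rintro ⟨⟨hX⟩, hiso⟩
    apply Sheaf.mem_finestTopology_of_forall_isSheafFor
    rintro P ⟨W, rfl⟩ Y f
    rw [Sieve.pullback_bot]
    have : IsIso f := hiso Y f
    have hY : IsInitial Y := hX.ofIso (asIso f).symm
    intro x hx
    refine ⟨hY.to W, fun _ _ hg => False.elim (by simp at hg), fun t _ => hY.hom_ext _ _⟩

end Groth.Agent.S6139
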