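import Groth.Statements.S6177
import Mathlib.CategoryTheory.Sites.CartesianClosed
import Mathlib.CategoryTheory.Monoidal.Closed.FunctorToTypes
import Mathlib.CategoryTheory.Monoidal.Closed.Types
-- import your own Groth.Agent.* helpers here

set_option autoImplicit false
universe u
open CategoryTheory
open SGA4

namespace Groth.Agent.S6177

open CategoryTheory.Limits in
/-- Topos of sheaves of sets on a small site; U an open, i.e. a subobject of the final object; X_CU the
pushout of U <- U x X -> X along the two projections: (ii) <=> (iii): the canonical map X -> X_CU is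
an isomorphism if and only if the projection U x X -> U is an isomorphism (X belongs to the closed
complement of U); and (i) => (iii): if X is isomorphic to Y_CU for some Y then X belongs to the
closed complement of U ((iii) => (i) with Y = X is then immediate from (ii)). -/
theorem result {C : Type u} [SmallCategory C] (J : GrothendieckTopology C)
    (U : Sheaf J (Type u)) (hU : SGA4.IsOpen U) (X : Sheaf J (Type u)) :
    (SGA4.closedCompl U X ↔ IsIso (pushout.inr (prod.fst : U ⨯ X ⟶ U) (prod.snd : U ⨯ X ⟶ X))) ∧
    ((∃ Y : Sheaf J (Type u), Nonempty (X ≅ pushout (prod.fst : U ⨯ Y ⟶ U) (prod.snd : U ⨯ Y ⟶ Y))) →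
      SGA4.closedCompl U X) := by
  have hsub : ∀ {T : Sheaf J (Type u)} (a b : T ⟶ U), a = b := by
    intro T a b
    have : Mono (terminal.from U) := hU
    rw [← cancel_mono (terminal.from U)]
    exact Subsingleton.elim _ _
  refine ⟨⟨fun h => ?_, fun h => ?_⟩, ?_⟩
  · -- fst iso ⇒ inr iso
    have : IsIso (prod.fst : U ⨯ X ⟶ U) := h
    refine ⟨⟨pushout.desc (inv (prod.fst : U ⨯ X ⟶ U) ≫ prod.snd) (𝟙 X) (by simp), ?_, ?_⟩⟩
    · exact pushout.inr_desc _ _ _
    · apply pushout.hom_ext
      · rw [pushout.inl_desc_assoc, Category.assoc, ← pushout.condition, IsIso.inv_hom_id_assoc,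
          Category.comp_id]
      · rw [pushout.inr_desc_assoc, Category.id_comp, Category.comp_id]
  · -- inr iso ⇒ fst iso
    let r : U ⟶ X := pushout.inl _ _ ≫ inv (pushout.inr (prod.fst : U ⨯ X ⟶ U) (prod.snd : U ⨯ X ⟶ X))
    have hr : (prod.fst : U ⨯ X ⟶ U) ≫ r = prod.snd := by
      simp only [r]
      rw [← Category.assoc, pushout.condition, Category.assoc, IsIso.hom_inv_id, Category.comp_id]
    show IsIso (prod.fst : U ⨯ X ⟶ U)
    refine ⟨⟨prod.lift (𝟙 U) r, ?_, prod.lift_fst _ _⟩⟩
    apply prod.hom_ext
    · rw [Category.assoc, prod.lift_fst, Category.comp_id, Category.id_comp]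
    · simp [hr]
  · rintro ⟨Y, ⟨e⟩⟩
    let Q := pushout (prod.fst : U ⨯ Y ⟶ U) (prod.snd : U ⨯ Y ⟶ Y)
    let F := prod.functor.obj U
    have h0 : PreservesColimitsOfSize.{0, 0} (MonoidalCategory.tensorLeft U) :=
      (ihom.adjunction U).leftAdjoint_preservesColimits
    have : PreservesColimitsOfSize.{0, 0} F :=
      @preservesColimits_of_natIso _ _ _ _ _ _ (CartesianMonoidalCategory.tensorLeftIsoProd U) h0
    have hc := (isColimitMapCoconePushoutCoconeEquiv F pushout.condition).1
      (isColimitOfPreserves F (pushoutIsPushout (prod.fst : U ⨯ Y ⟶ U) (prod.snd : U ⨯ Y ⟶ Y)))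
    have key : (prod.fst : U ⨯ Q ⟶ U) ≫ pushout.inl _ _ = prod.snd := by
      apply PushoutCocone.IsColimit.hom_ext hc
      · simp only [PushoutCocone.mk_inl, F, prod.functor_obj_map]
        set_option backward.isDefEq.respectTransparency false in
        rw [prod.map_fst_assoc, prod.map_snd, Category.id_comp, hsub (prod.fst : U ⨯ U ⟶ U) prod.snd]
      · simp only [PushoutCocone.mk_inr, F, prod.functor_obj_map]
        set_option backward.isDefEq.respectTransparency false in
        rw [prod.map_fst_assoc, prod.map_snd, Category.id_comp, pushout.condition]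
    have hQ : IsIso (prod.fst : U ⨯ Q ⟶ U) := by
      refine ⟨⟨prod.lift (𝟙 U) (pushout.inl _ _), ?_, prod.lift_fst _ _⟩⟩
      apply prod.hom_ext
      · rw [Category.assoc, prod.lift_fst, Category.comp_id, Category.id_comp]
      · rw [Category.assoc, prod.lift_snd, Category.id_comp, key]
    show IsIso (prod.fst : U ⨯ X ⟶ U)
    have : (prod.fst : U ⨯ X ⟶ U) = prod.map (𝟙 U) e.hom ≫ prod.fst := by simp
    rw [this]
    infer_instance

end Groth.Agent.S6177
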