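import Groth.Statements.S8369
import Mathlib.RingTheory.Flat.EquationalCriterion
-- import your own Groth.Agent.* helpers here

set_option autoImplicit false
universe u v
open SGA3

namespace Groth.Agent.S8369

theorem key_inter {A : Type u} [CommRing A] (J : Ideal A)
    {M : Type v} [AddCommGroup M] [Module A M] (N : Submodule A M) [Module.Flat A (M ⧸ N)]
    (x : M) (hxN : x ∈ N) (hxJ : x ∈ J • (⊤ : Submodule A M)) : x ∈ J • N := by
  classical
  have hspan : (⊤ : Submodule A M) = Submodule.span A (Set.range (id : M → M)) := by
    simp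
  rw [hspan, Submodule.mem_ideal_smul_span_iff_exists_sum] at hxJ
  obtain ⟨a, ha, hx⟩ := hxJ
  rw [Finsupp.sum] at hx
  -- index by the support
  let ι := a.support
  have hx' : x = ∑ i : ι, a i • (i : M) := by
    rw [← hx]
    exact (Finset.sum_coe_sort a.support (fun m => a m • id m)).symm
  have hrel : ∑ i : ι, a i • N.mkQ (i : M) = 0 := by
    have : N.mkQ x = 0 := (Submodule.Quotient.mk_eq_zero N).mpr hxN
    rw [hx', map_sum] at this
    simpa using this
  obtain ⟨k, b, y, hy, hb⟩ := Module.Flat.isTrivialRelation_of_sum_smul_eq_zero hrel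
  choose y' hy' using fun j => N.mkQ_surjective (y j)
  have hn : ∀ i : ι, (i : M) - ∑ j, b i j • y' j ∈ N := by
    intro i
    have h0 : N.mkQ ((i : M) - ∑ j, b i j • y' j) = 0 := by
      have := hy i
      simp only at this
      rw [map_sub, map_sum]
      simp_rw [map_smul, hy']
      rw [this, sub_self]
    exact (Submodule.Quotient.mk_eq_zero N).mp h0
  have hxeq : x = ∑ i : ι, a i • ((i : M) - ∑ j, b i j • y' j) := by
    have e : ∑ i : ι, a i • ∑ j, b i j • y' j = 0 := by
      simp_rw [Finset.smul_sum, smul_smul]
      rw [Finset.sum_comm]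
      simp_rw [← Finset.sum_smul]
      refine Finset.sum_eq_zero fun j _ => ?_
      have := hb j
      simp only at this
      rw [this, zero_smul]
    simp_rw [smul_sub, Finset.sum_sub_distrib, e, sub_zero]
    exact hx'
  rw [hxeq]
  exact Submodule.sum_mem _ fun i _ => Submodule.smul_mem_smul (ha i) (hn i)


/-- Let A be a commutative ring, J a nilpotent ideal, N ⊆ M A-modules with M/N flat over A. If elements
of N have images generating the image of N in M/JM, then they generate N. (The published statement
takes finitely many elements; this row allows an arbitrary set, which the same argument permits.) -/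
theorem result (A : Type u) [CommRing A] (J : Ideal A) (hJ : IsNilpotent J)
    (M : Type v) [AddCommGroup M] [Module A M] (N : Submodule A M) [Module.Flat A (M ⧸ N)] (s : Set M)
    (hs : s ⊆ N)
    (hgen : (Submodule.span A s).map (J • (⊤ : Submodule A M)).mkQ = N.map (J • (⊤ : Submodule A M)).mkQ) :
    Submodule.span A s = N := by
  set P := Submodule.span A s with hP
  have hPN : P ≤ N := Submodule.span_le.mpr hs
  have h1 : N ≤ P ⊔ J • N := by
    intro x hx
    have hmem : (J • (⊤ : Submodule A M)).mkQ x ∈ P.map (J • (⊤ : Submodule A M)).mkQ := by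
      rw [hgen]; exact Submodule.mem_map_of_mem hx
    obtain ⟨p, hp, hpx⟩ := hmem
    have hd : x - p ∈ J • (⊤ : Submodule A M) := by
      rw [← Submodule.Quotient.mk_eq_zero]
      simp only [Submodule.mkQ_apply] at hpx
      rw [Submodule.Quotient.mk_sub, hpx, sub_self]
    have hdN : x - p ∈ N := N.sub_mem hx (hPN hp)
    have := key_inter J N (x - p) hdN hd
    have e : x = p + (x - p) := by abel
    rw [e]
    exact Submodule.add_mem_sup hp this
  have h2 : ∀ k : ℕ, N ≤ P ⊔ J ^ k • N := by
    intro k
    induction k with
    | zero => simp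
    | succ k ih =>
      calc N ≤ P ⊔ J • N := h1
        _ ≤ P ⊔ J • (P ⊔ J ^ k • N) := sup_le_sup_left (Submodule.smul_mono le_rfl ih) _
        _ ≤ P ⊔ J ^ (k + 1) • N := by
          rw [Submodule.smul_sup, ← sup_assoc]
          apply sup_le
          · exact sup_le le_sup_left (le_trans (Submodule.smul_le_right) le_sup_left)
          · rw [pow_succ', Submodule.mul_smul]; exact le_sup_right
  obtain ⟨n, hn⟩ := hJ
  have := h2 n
  rw [hn, Ideal.zero_eq_bot, Submodule.bot_smul, sup_bot_eq] at this
  exact le_antisymm hPN this

end Groth.Agent.S8369
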