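import Groth.Statements.S8383
import Mathlib.RingTheory.TensorProduct.Free
-- import your own Groth.Agent.* helpers here

set_option autoImplicit false
universe u
open scoped TensorProduct
open SGA3t2b

namespace Groth.Agent.S8383

/-- Let k be a finite field with algebraic closure K, V a finite-dimensional vector space over k, and
θ₁, …, θₙ a basis of the dual of the K-vector space K ⊗ V. Then there is x ∈ V with θᵢ(1 ⊗ x) ≠ 0
for every i. -/
theorem result (k : Type u) [Field k] [Finite k]
    (V : Type u) [AddCommGroup V] [Module k V] [Module.Finite k V] {ι : Type} [Fintype ι]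
    (θ : Module.Basis ι (AlgebraicClosure k) (Module.Dual (AlgebraicClosure k) (AlgebraicClosure k ⊗[k] V))) :
    ∃ x : V, ∀ i : ι, θ i ((1 : AlgebraicClosure k) ⊗ₜ[k] x) ≠ 0 := by
  classical
  set K := AlgebraicClosure k
  -- a basis of V indexed by ι
  let b0 : Module.Basis (Fin (Module.finrank k V)) K (K ⊗[k] V) :=
    Algebra.TensorProduct.basis K (Module.finBasis k V)
  let eqv : ι ≃ Fin (Module.finrank k V) := θ.indexEquiv b0.dualBasis
  let e : Module.Basis ι k V := (Module.finBasis k V).reindex eqv.symm
  let b : Module.Basis ι K (K ⊗[k] V) := Algebra.TensorProduct.basis K e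
  have hb : ∀ j, b j = (1 : K) ⊗ₜ[k] e j := fun j => Algebra.TensorProduct.basis_apply e j
  let M : Matrix ι ι K := fun i j => θ i (b j)
  have hMT : M = (b.dualBasis.toMatrix θ).transpose := by
    ext i j
    simp [M, Module.Basis.toMatrix_apply]
  have hMu : IsUnit M.det := by
    rw [hMT, Matrix.det_transpose]
    exact Matrix.isUnit_det_of_right_inverse (Module.Basis.toMatrix_mul_toMatrix_flip _ _)
  -- a basis of K over k
  let β := Module.Free.chooseBasis k K
  let L := Module.Free.ChooseBasisIndex k K
  let c : ι → ι → L → k := fun i j l => β.repr (M i j) l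
  let T : Finset L := Finset.univ.biUnion (fun p : ι × ι => (β.repr (M p.1 p.2)).support)
  have hexp : ∀ i j, M i j = ∑ l ∈ T, algebraMap k K (c i j l) * β l := by
    intro i j
    have hsub : (β.repr (M i j)).support ⊆ T := by
      intro l hl
      exact Finset.mem_biUnion.mpr ⟨(i, j), Finset.mem_univ _, hl⟩
    conv_lhs => rw [← β.linearCombination_repr (M i j)]
    rw [Finsupp.linearCombination_apply, Finsupp.sum_of_support_subset _ hsub]
    · refine Finset.sum_congr rfl fun l _ => ?_
      rw [Algebra.smul_def]
    · intro l _; simp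
  -- expand the determinant
  let N : (ι → L) → Matrix ι ι k := fun r i j => c i j (r i)
  have hdet : M.det = ∑ r ∈ Fintype.piFinset (fun _ : ι => T),
      (∏ i, β (r i)) * algebraMap k K (N r).det := by
    have hrow : (M : ι → ι → K) = fun i => ∑ l ∈ T, β l • (fun j => algebraMap k K (c i j l)) := by
      funext i j
      rw [hexp i j, Finset.sum_apply]
      refine Finset.sum_congr rfl fun l _ => ?_
      simp [mul_comm]
    have h1 : M.det = Matrix.detRowAlternating (M : ι → ι → K) := rfl
    have key := (Matrix.detRowAlternating : (ι → K) [⋀^ι]→ₗ[K] K).toMultilinearMap.map_sum_finset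
      (fun i l => β l • (fun j => algebraMap k K (c i j l))) (fun _ => T)
    simp only [AlternatingMap.coe_multilinearMap] at key
    rw [h1, hrow, key]
    refine Finset.sum_congr rfl fun r _ => ?_
    have key2 := (Matrix.detRowAlternating : (ι → K) [⋀^ι]→ₗ[K] K).toMultilinearMap.map_smul_univ
      (fun i => β (r i)) (fun i j => algebraMap k K (c i j (r i)))
    simp only [AlternatingMap.coe_multilinearMap] at key2
    rw [key2, smul_eq_mul, RingHom.map_det]
    rfl
  obtain ⟨r, hr⟩ : ∃ r : ι → L, (N r).det ≠ 0 := by
    by_contra hcon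
    push Not at hcon
    have : M.det = 0 := by
      rw [hdet]
      refine Finset.sum_eq_zero fun r _ => ?_
      rw [hcon r, map_zero, mul_zero]
    exact hMu.ne_zero this
  have hNu : IsUnit (N r).det := isUnit_iff_ne_zero.mpr hr
  let v : ι → k := Matrix.mulVec (N r)⁻¹ (fun _ => 1)
  have hv : Matrix.mulVec (N r) v = fun _ => 1 := by
    simp only [v, Matrix.mulVec_mulVec, Matrix.mul_nonsing_inv _ hNu, Matrix.one_mulVec]
  refine ⟨(∑ j, v j • e j), fun i hi => ?_⟩
  have hval : θ i ((1 : K) ⊗ₜ[k] ∑ j, v j • e j) = ∑ j, v j • M i j := by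
    rw [TensorProduct.tmul_sum, map_sum]
    refine Finset.sum_congr rfl fun j _ => ?_
    rw [TensorProduct.tmul_smul, LinearMap.map_smul_of_tower, ← hb j]
  have hrep : β.repr (θ i ((1 : K) ⊗ₜ[k] ∑ j, v j • e j)) (r i) = 1 := by
    rw [hval, map_sum]
    simp only [map_smul, Finsupp.coe_finsetSum, Finset.sum_apply, Finsupp.smul_apply, smul_eq_mul]
    have := congrFun hv i
    rw [← this, Matrix.mulVec, dotProduct]
    refine Finset.sum_congr rfl fun j _ => ?_
    simp [N, c, mul_comm]
  rw [hi, map_zero, Finsupp.zero_apply] at hrep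
  exact zero_ne_one hrep

end Groth.Agent.S8383
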