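import Groth.Statements.S8448
import Groth.Agent.Lib.Helper13.GaPoints
-- import your own Groth.Agent.* helpers here

set_option autoImplicit false
universe u
open CategoryTheory MonoidalCategory CartesianMonoidalCategory MonObj GrpObj AlgebraicGeometry CategoryTheory.Limits
open Red

namespace Groth.Agent.S8448

open Groth.Agent.Lib.Helper13.GaPoints


/-- Let G be an S-group scheme, i : T ⟶ G a torus of G (a monomorphism of groups), α : T ⟶ 𝔾_m and α^* :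
𝔾_m ⟶ T homomorphisms with α ∘ α^* the squaring map, and p₊, p₋ : 𝔾_a ⟶ G homomorphisms normalised
by T with multipliers α and α⁻¹ which satisfy the rank-one commutation rule: whenever 1 + xy is
invertible, p₊(x) p₋(y) = p₋(y/(1+xy)) · i(α^*(1+xy)) · p₊(x/(1+xy)) (the situation of any reductive
group of semisimple rank 1 with trivialised root groups, where α^* is the coroot). For a point x of
𝔾_a whose coordinate is invertible put w(x) = p₊(x) p₋(-x⁻¹) p₊(x). Then w(x) normalises T: w(x)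
i(t) w(x)⁻¹ = i(α^*(α(t)))⁻¹ · i(t) for every point t of T, and for every point z of 𝔾_m one has
w(zx) = i(α^*(z)) · w(x) = w(x) · i(α^*(z))⁻¹. (The published statement is for a reductive group of
semisimple rank one with a maximal torus and a root; this row assumes only the commutation rule, the
normalisation of p₊, p₋ by T and α ∘ α^* the squaring map, which is all the published proof uses.) -/
theorem result (S : Scheme.{u}) (G T : Over S) [GrpObj G] [GrpObj T] (i : T ⟶ G) [IsMonHom i] [Mono i] (hT : Red.IsTorus T)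
    (α : T ⟶ Red.Gm S) [IsMonHom α]
    (pp pm : Red.Ga S ⟶ G) [IsMonHom pp] [IsMonHom pm]
    (hpp : ∀ (X : Over S) (t : X ⟶ T) (x : X ⟶ Red.Ga S), ∃ x' : X ⟶ Red.Ga S,
      x' ≫ pp = (t ≫ i) * (x ≫ pp) * (t ≫ i)⁻¹ ∧ Red.gaFn x' = Red.gmFn (t ≫ α) * Red.gaFn x)
    (hpm : ∀ (X : Over S) (t : X ⟶ T) (y : X ⟶ Red.Ga S), ∃ y' : X ⟶ Red.Ga S,
      y' ≫ pm = (t ≫ i) * (y ≫ pm) * (t ≫ i)⁻¹ ∧ Red.gaFn y' * Red.gmFn (t ≫ α) = Red.gaFn y)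
    (av : Red.Gm S ⟶ T) [IsMonHom av] (h2 : av ≫ α = (𝟙 (Red.Gm S)) ^ 2)
    (hF : ∀ (X : Over S) (x y : X ⟶ Red.Ga S), IsUnit (1 + Red.gaFn x * Red.gaFn y) →
      ∃ (x' y' : X ⟶ Red.Ga S) (z : X ⟶ Red.Gm S), Red.gmFn z = 1 + Red.gaFn x * Red.gaFn y ∧
        Red.gaFn x' * Red.gmFn z = Red.gaFn x ∧ Red.gaFn y' * Red.gmFn z = Red.gaFn y ∧
        (x ≫ pp) * (y ≫ pm) = (y' ≫ pm) * (z ≫ av ≫ i) * (x' ≫ pp))
    (X : Over S) (x x' : X ⟶ Red.Ga S) (hx : Red.gaFn x' * Red.gaFn x = -1) :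
    (∀ t : X ⟶ T, ((x ≫ pp) * (x' ≫ pm) * (x ≫ pp)) * (t ≫ i) * ((x ≫ pp) * (x' ≫ pm) * (x ≫ pp))⁻¹ =
        (t ≫ α ≫ av ≫ i)⁻¹ * (t ≫ i)) ∧
      ∀ (z : X ⟶ Red.Gm S) (y y' : X ⟶ Red.Ga S), Red.gaFn y = Red.gmFn z * Red.gaFn x →
        Red.gaFn y' * Red.gaFn y = -1 →
        (y ≫ pp) * (y' ≫ pm) * (y ≫ pp) = (z ≫ av ≫ i) * ((x ≫ pp) * (x' ≫ pm) * (x ≫ pp)) ∧
          (y ≫ pp) * (y' ≫ pm) * (y ≫ pp) = ((x ≫ pp) * (x' ≫ pm) * (x ≫ pp)) * (z ≫ av ≫ i)⁻¹ := by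
  have hX0 : IsUnit (Red.gaFn x) := by
    refine isUnit_iff_exists_inv.mpr ⟨-Red.gaFn x', ?_⟩
    linear_combination -hx
  have L : ∀ (z : X ⟶ Red.Gm S) (y y' : X ⟶ Red.Ga S), Red.gaFn y = Red.gmFn z * Red.gaFn x →
      Red.gaFn y' * Red.gaFn y = -1 →
      (y ≫ pp) * (y' ≫ pm) * (y ≫ pp) = (z ≫ av ≫ i) * ((x ≫ pp) * (x' ≫ pm) * (x ≫ pp)) := by
    intro z y y' hy hy'
    have hu := isUnit_gmFn X z
    obtain ⟨a', b', z', hz', ha', hb', hrel⟩ := hF X (y * x⁻¹) x'⁻¹ (by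
      have : 1 + Red.gaFn (y * x⁻¹) * Red.gaFn x'⁻¹ = Red.gmFn z := by
        rw [gaFn_mul, gaFn_inv, gaFn_inv, hy]
        linear_combination (1 - Red.gmFn z) * hx
      rw [this]; exact hu)
    have hzz : z' = z := gmFn_injective X (by
      rw [hz', gaFn_mul, gaFn_inv, gaFn_inv, hy]
      linear_combination (1 - Red.gmFn z) * hx)
    subst hzz
    obtain ⟨c, hc, hc'⟩ := hpp X (z' ≫ av) (a' * x⁻¹)
    have hsq : Red.gmFn ((z' ≫ av) ≫ α) = Red.gmFn z' ^ 2 := by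
      rw [Category.assoc, h2, gmFn_comp_sq]
    rw [hsq, gaFn_mul, gaFn_inv] at hc'
    rw [gaFn_mul, gaFn_inv] at ha'
    rw [gaFn_inv] at hb'
    have e1 : Red.gaFn (y' * b') = 0 := by
      rw [gaFn_mul]
      apply (hu.mul hX0).mul_left_injective
      simp only
      linear_combination (-Red.gaFn y') * hy + hy' + Red.gaFn x * hb' - hx
    have e2 : Red.gaFn (y * c) = 0 := by
      rw [gaFn_mul]
      linear_combination hc' + Red.gmFn z' * ha' + (1 + Red.gmFn z') * hy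
    have e1' : (y' ≫ pm) * (b' ≫ pm) = 1 := by
      rw [← MonObj.mul_comp y' b' pm]; exact comp_eq_one_of_gaFn_eq_zero pm _ e1
    have e2' : (y ≫ pp) * (c ≫ pp) = 1 := by
      rw [← MonObj.mul_comp y c pp]; exact comp_eq_one_of_gaFn_eq_zero pp _ e2
    rw [MonObj.mul_comp y x⁻¹ pp, GrpObj.inv_comp x pp, GrpObj.inv_comp x' pm] at hrel
    rw [MonObj.mul_comp a' x⁻¹ pp, GrpObj.inv_comp x pp] at hc
    simp only [Category.assoc] at hc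
    calc (y ≫ pp) * (y' ≫ pm) * (y ≫ pp)
        = (y ≫ pp) * (y' ≫ pm) * ((y ≫ pp) * (x ≫ pp)⁻¹ * (x' ≫ pm)⁻¹ * (x' ≫ pm) * (x ≫ pp)) := by
          group
      _ = (y ≫ pp) * (y' ≫ pm) * ((b' ≫ pm) * (z' ≫ av ≫ i) * (a' ≫ pp) * (x' ≫ pm) * (x ≫ pp)) := by
          rw [hrel]
      _ = (y ≫ pp) * ((y' ≫ pm) * (b' ≫ pm)) * (z' ≫ av ≫ i) * (a' ≫ pp) * (x' ≫ pm) * (x ≫ pp) := by
          group
      _ = (y ≫ pp) * ((z' ≫ av ≫ i) * ((a' ≫ pp) * (x ≫ pp)⁻¹) * (z' ≫ av ≫ i)⁻¹) * (z' ≫ av ≫ i) *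
            (x ≫ pp) * (x' ≫ pm) * (x ≫ pp) := by
          rw [e1']; group
      _ = ((y ≫ pp) * (c ≫ pp)) * (z' ≫ av ≫ i) * (x ≫ pp) * (x' ≫ pm) * (x ≫ pp) := by
          rw [hc]
      _ = (z' ≫ av ≫ i) * ((x ≫ pp) * (x' ≫ pm) * (x ≫ pp)) := by
          rw [e2']; group
  have P1 : ∀ t : X ⟶ T, ((x ≫ pp) * (x' ≫ pm) * (x ≫ pp)) * (t ≫ i) * ((x ≫ pp) * (x' ≫ pm) * (x ≫ pp))⁻¹ =
      (t ≫ α ≫ av ≫ i)⁻¹ * (t ≫ i) := by
    intro t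
    obtain ⟨x₁, hx₁, hx₁'⟩ := hpp X t x
    obtain ⟨x₂, hx₂, hx₂'⟩ := hpm X t x'
    have h := L (t ≫ α) x₁ x₂ hx₁' (by
      rw [hx₁']
      linear_combination Red.gaFn x * hx₂' + hx)
    rw [hx₁, hx₂] at h
    simp only [Category.assoc] at h
    have hA : (t ≫ α ≫ av ≫ i) = (t ≫ i) * ((x ≫ pp) * (x' ≫ pm) * (x ≫ pp)) * (t ≫ i)⁻¹ *
        ((x ≫ pp) * (x' ≫ pm) * (x ≫ pp))⁻¹ := by
      rw [eq_mul_inv_iff_mul_eq, ← h]
      group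
    rw [hA]
    group
  refine ⟨P1, ?_⟩
  intro z y y' hy hy'
  have h1 := L z y y' hy hy'
  refine ⟨h1, ?_⟩
  have h3 := P1 (z ≫ av)
  have hB : (z ≫ av) ≫ α ≫ av ≫ i = (z ≫ av ≫ i) * (z ≫ av ≫ i) := by
    rw [← Category.assoc (z ≫ av) α, Category.assoc z av α, h2, comp_sq, ← Category.assoc,
      MonObj.mul_comp z z av, MonObj.mul_comp (z ≫ av) (z ≫ av) i]
    simp only [Category.assoc]
  rw [hB] at h3
  simp only [Category.assoc] at h3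
  have h4 : ((x ≫ pp) * (x' ≫ pm) * (x ≫ pp)) * (z ≫ av ≫ i) * ((x ≫ pp) * (x' ≫ pm) * (x ≫ pp))⁻¹ =
      (z ≫ av ≫ i)⁻¹ := by
    rw [h3]; group
  calc (y ≫ pp) * (y' ≫ pm) * (y ≫ pp) = (z ≫ av ≫ i) * ((x ≫ pp) * (x' ≫ pm) * (x ≫ pp)) := h1
    _ = (((x ≫ pp) * (x' ≫ pm) * (x ≫ pp)) * (z ≫ av ≫ i) * ((x ≫ pp) * (x' ≫ pm) * (x ≫ pp))⁻¹)⁻¹ *
          ((x ≫ pp) * (x' ≫ pm) * (x ≫ pp)) := by
        rw [h4, _root_.inv_inv]
    _ = ((x ≫ pp) * (x' ≫ pm) * (x ≫ pp)) * (z ≫ av ≫ i)⁻¹ := by group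

end Groth.Agent.S8448
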