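import Groth.Statements.S8625
import Mathlib.Tactic.Group
-- import your own Groth.Agent.* helpers here

set_option autoImplicit false
universe u
open SGA4h

namespace Groth.Agent.S8625

theorem wd1 {G : Type*} [Group G] (F : G →* G) (g g' c : G) (hc : F c = c)
    (hx : c * (F g * g⁻¹) * c⁻¹ = F g' * g'⁻¹) :
    ∃ u, F u = u ∧ u * (g⁻¹ * F g) * u⁻¹ = g'⁻¹ * F g' := by
  have hFg' : F g' = c * (F g * g⁻¹) * c⁻¹ * g' := by
    rw [hx]; group
  refine ⟨g'⁻¹ * c * g, ?_, ?_⟩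
  · simp only [map_mul, map_inv, hc]
    rw [hFg']; group
  · rw [hFg']; group

theorem wd2 {G : Type*} [Group G] (F : G →* G) (g g' c : G) (hc : F c = c)
    (hx : c * (g⁻¹ * F g) * c⁻¹ = g'⁻¹ * F g') :
    ∃ u, F u = u ∧ u * (F g * g⁻¹) * u⁻¹ = F g' * g'⁻¹ := by
  have hFg' : F g' = g' * (c * (g⁻¹ * F g) * c⁻¹) := by
    rw [hx]; group
  refine ⟨g' * c * g⁻¹, ?_, ?_⟩
  · simp only [map_mul, map_inv, hc]
    rw [hFg']; group
  · rw [hFg']; group

/-- Let G be a group with an endomorphism F, and assume the Lang map g ↦ F(g)g⁻¹ is surjective (for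
instance the geometric points of a connected algebraic group over F_q with its Frobenius, where the
surjectivity is the classical result of Lang; the other Lang map g ↦ g⁻¹F(g) is then surjective too,
by g ↦ g⁻¹). Let G^F be the subgroup of fixed points of F. (i) If F(g)g⁻¹ is fixed by F then so is
g⁻¹F(g). (ii), (iii) There is a bijection of the set of conjugacy classes of G^F with itself
sending, for every g with F(g)g⁻¹ ∈ G^F, the class of F(g)g⁻¹ to the class of g⁻¹F(g) (in particular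
the latter class depends only on the former). -/
theorem result {G : Type u} [Group G] (F : G →* G)
    (hL : Function.Surjective fun g : G => F g * g⁻¹) :
    (∀ g : G, F (F g * g⁻¹) = F g * g⁻¹ → F (g⁻¹ * F g) = g⁻¹ * F g) ∧
    ∃ φ : ConjClasses ↥(F.eqLocus (MonoidHom.id G)) → ConjClasses ↥(F.eqLocus (MonoidHom.id G)),
      Function.Bijective φ ∧
      ∀ (g : G) (h : F (F g * g⁻¹) = F g * g⁻¹) (h' : F (g⁻¹ * F g) = g⁻¹ * F g),
        φ (ConjClasses.mk (⟨F g * g⁻¹, h⟩ : ↥(F.eqLocus (MonoidHom.id G)))) =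
          ConjClasses.mk (⟨g⁻¹ * F g, h'⟩ : ↥(F.eqLocus (MonoidHom.id G))) := by
  classical
  have hi : ∀ g : G, F (F g * g⁻¹) = F g * g⁻¹ → F (g⁻¹ * F g) = g⁻¹ * F g := by
    intro g h
    simp only [map_mul, map_inv] at h ⊢
    have h2 : F (F g) = F g * g⁻¹ * F g := by
      calc F (F g) = F (F g) * (F g)⁻¹ * F g := by group
        _ = F g * g⁻¹ * F g := by rw [h]
    rw [h2]; group
  have hi' : ∀ g : G, F (g⁻¹ * F g) = g⁻¹ * F g → F (F g * g⁻¹) = F g * g⁻¹ := by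
    intro g h
    simp only [map_mul, map_inv] at h ⊢
    have h2 : F (F g) = F g * (g⁻¹ * F g) := by
      calc F (F g) = F g * ((F g)⁻¹ * F (F g)) := by group
        _ = F g * (g⁻¹ * F g) := by rw [h]
    rw [h2]; group
  refine ⟨hi, ?_⟩
  set H := F.eqLocus (MonoidHom.id G) with hH
  choose γ hγ using hL
  have hγH : ∀ x : H, F (F (γ x) * (γ x)⁻¹) = F (γ x) * (γ x)⁻¹ := by
    intro x; simp only at hγ; rw [hγ]; exact x.2
  let ψ : H → H := fun x => ⟨(γ x)⁻¹ * F (γ x), hi _ (hγH x)⟩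
  have hψ : ∀ x y : H, IsConj x y → IsConj (ψ x) (ψ y) := by
    intro x y hxy
    obtain ⟨c, hc⟩ := isConj_iff.mp hxy
    have hc' : (c : G) * (F (γ x) * (γ x)⁻¹) * (c : G)⁻¹ = F (γ y) * (γ y)⁻¹ := by
      simp only at hγ
      rw [hγ, hγ]; exact congrArg Subtype.val hc
    obtain ⟨u, hu, hu'⟩ := wd1 F _ _ _ c.2 hc'
    exact isConj_iff.mpr ⟨⟨u, hu⟩, Subtype.ext hu'⟩
  let φ : ConjClasses H → ConjClasses H :=
    Quotient.lift (s := IsConj.setoid H) (fun x => ConjClasses.mk (ψ x))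
      (fun x y hxy => ConjClasses.mk_eq_mk_iff_isConj.mpr (hψ x y hxy))
  have hφ : ∀ x : H, φ (ConjClasses.mk x) = ConjClasses.mk (ψ x) := fun x => rfl
  have hmain : ∀ (g : G) (h : F (F g * g⁻¹) = F g * g⁻¹) (h' : F (g⁻¹ * F g) = g⁻¹ * F g),
      φ (ConjClasses.mk (⟨F g * g⁻¹, h⟩ : H)) = ConjClasses.mk (⟨g⁻¹ * F g, h'⟩ : H) := by
    intro g h h'
    rw [hφ, ConjClasses.mk_eq_mk_iff_isConj]
    have e : (1 : G) * (F (γ (F g * g⁻¹)) * (γ (F g * g⁻¹))⁻¹) * (1 : G)⁻¹ = F g * g⁻¹ := by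
      simp only at hγ
      rw [hγ]; group
    obtain ⟨u, hu, hu'⟩ := wd1 F _ _ _ (map_one F) e
    exact isConj_iff.mpr ⟨⟨u, hu⟩, Subtype.ext hu'⟩
  refine ⟨φ, ⟨?_, ?_⟩, hmain⟩
  · intro a b hab
    obtain ⟨x, rfl⟩ := ConjClasses.mk_surjective a
    obtain ⟨y, rfl⟩ := ConjClasses.mk_surjective b
    rw [hφ, hφ, ConjClasses.mk_eq_mk_iff_isConj] at hab
    rw [ConjClasses.mk_eq_mk_iff_isConj]
    obtain ⟨c, hc⟩ := isConj_iff.mp hab
    have hc' : (c : G) * ((γ x)⁻¹ * F (γ x)) * (c : G)⁻¹ = (γ y)⁻¹ * F (γ y) :=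
      congrArg Subtype.val hc
    obtain ⟨u, hu, hu'⟩ := wd2 F _ _ _ c.2 hc'
    simp only at hγ
    rw [hγ, hγ] at hu'
    exact isConj_iff.mpr ⟨⟨u, hu⟩, Subtype.ext hu'⟩
  · intro b
    obtain ⟨y, rfl⟩ := ConjClasses.mk_surjective b
    let g := (γ ((y : G)⁻¹))⁻¹
    have hg : g⁻¹ * F g = (y : G) := by
      have := hγ ((y : G)⁻¹)
      simp only at this
      simp only [g, inv_inv, map_inv]
      calc γ (↑y)⁻¹ * (F (γ (↑y)⁻¹))⁻¹ = (F (γ (↑y)⁻¹) * (γ (↑y)⁻¹)⁻¹)⁻¹ := by group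
        _ = y := by rw [this, inv_inv]
    have h' : F (g⁻¹ * F g) = g⁻¹ * F g := by rw [hg]; exact y.2
    refine ⟨ConjClasses.mk ⟨F g * g⁻¹, hi' g h'⟩, ?_⟩
    rw [hmain g (hi' g h') h']
    congr 1
    exact Subtype.ext hg

end Groth.Agent.S8625
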