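import Groth.Statements.S8630
import Mathlib.RingTheory.Localization.Integral
import Mathlib.RingTheory.Polynomial.Content
import Mathlib.Data.ZMod.Basic
import Mathlib.Algebra.Field.ZMod
import Mathlib.RingTheory.PowerSeries.NoZeroDivisors
-- import your own Groth.Agent.* helpers here

set_option autoImplicit false
open Zeta

namespace Groth.Agent.S8630

open Polynomial

section Aux

/-- Clearing denominators. -/
theorem exists_int_mul (p : ℚ[X]) :
    ∃ q : ℤ[X], ∃ d : ℤ, d ≠ 0 ∧ q.map (Int.castRingHom ℚ) = C (d : ℚ) * p := by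
  obtain ⟨b, hbM, hb⟩ := IsLocalization.integerNormalization_spec (nonZeroDivisors ℤ) p
  refine ⟨IsLocalization.integerNormalization (nonZeroDivisors ℤ) p, b,
    nonZeroDivisors.ne_zero hbM, ?_⟩
  have h1 : (algebraMap ℤ ℚ) = Int.castRingHom ℚ := RingHom.ext_int _ _
  rw [← h1, hb]
  ext n
  simp

/-- The key step: a primitive integer polynomial times an integer power series equal to a nonzero
integer constant has constant coefficient prime to every prime. -/
theorem not_dvd_coeff_zero (Q₁ : ℤ[X]) (hQ₁ : Q₁.IsPrimitive) (p : ℕ) [hp : Fact p.Prime] :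
    ∀ (n : ℕ) (N : ℤ) (G : PowerSeries ℤ), N.natAbs = n → N ≠ 0 →
      (Q₁ : PowerSeries ℤ) * G = PowerSeries.C N → ¬ (p : ℤ) ∣ Q₁.coeff 0 := by
  intro n
  induction n using Nat.strong_induction_on with
  | _ n IH =>
    intro N G hn hN hQG hdvd
    -- constant coefficient
    have h0 := congrArg PowerSeries.constantCoeff hQG
    rw [map_mul, Polynomial.constantCoeff_coe, PowerSeries.constantCoeff_C] at h0
    have hpN : (p : ℤ) ∣ N := h0 ▸ dvd_mul_of_dvd_left hdvd _
    -- reduce mod p
    have hmap := congrArg (PowerSeries.map (Int.castRingHom (ZMod p))) hQG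
    rw [map_mul, PowerSeries.map_C] at hmap
    have hNp : (Int.castRingHom (ZMod p)) N = 0 := by
      simpa using (ZMod.intCast_zmod_eq_zero_iff_dvd N p).mpr hpN
    rw [hNp, map_zero] at hmap
    have hQne : PowerSeries.map (Int.castRingHom (ZMod p)) (Q₁ : PowerSeries ℤ) ≠ 0 := by
      rw [← Polynomial.polynomial_map_coe]
      intro h
      have h' : Q₁.map (Int.castRingHom (ZMod p)) = 0 := by
        apply Polynomial.coe_injective
        rw [h]; simp
      have hC : Polynomial.C (p : ℤ) ∣ Q₁ := by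
        rw [Polynomial.C_dvd_iff_dvd_coeff]
        intro i
        have := congrArg (fun q => q.coeff i) h'
        simp only [Polynomial.coeff_map, Polynomial.coeff_zero] at this
        exact (ZMod.intCast_zmod_eq_zero_iff_dvd _ p).mp (by simpa using this)
      have hu := hQ₁ (p : ℤ) hC
      rw [Int.isUnit_iff] at hu
      have h2 := hp.out.two_le
      omega
    have hG0 : PowerSeries.map (Int.castRingHom (ZMod p)) G = 0 :=
      (mul_eq_zero.mp hmap).resolve_left hQne
    have hdvdG : ∀ i, (p : ℤ) ∣ PowerSeries.coeff i G := by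
      intro i
      have := congrArg (PowerSeries.coeff i) hG0
      rw [PowerSeries.coeff_map, map_zero] at this
      exact (ZMod.intCast_zmod_eq_zero_iff_dvd _ p).mp (by simpa using this)
    let G' : PowerSeries ℤ := PowerSeries.mk fun i => PowerSeries.coeff i G / p
    have hGG' : G = PowerSeries.C (p : ℤ) * G' := by
      ext i
      rw [PowerSeries.coeff_C_mul, PowerSeries.coeff_mk]
      exact (Int.mul_ediv_cancel' (hdvdG i)).symm
    obtain ⟨N', hN'⟩ := hpN
    have hp0 : (p : ℤ) ≠ 0 := by exact_mod_cast hp.out.ne_zero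
    have hN'0 : N' ≠ 0 := by rintro rfl; simp at hN'; exact hN hN'
    have hQG' : (Q₁ : PowerSeries ℤ) * G' = PowerSeries.C N' := by
      have h3 : PowerSeries.C (p : ℤ) * ((Q₁ : PowerSeries ℤ) * G') =
          PowerSeries.C (p : ℤ) * PowerSeries.C N' := by
        rw [← map_mul, ← hN', ← hQG, hGG']
        ring
      have hC0 : PowerSeries.C (p : ℤ) ≠ 0 := by
        intro h; apply hp0
        have := congrArg PowerSeries.constantCoeff h
        simpa using this
      exact mul_left_cancel₀ hC0 h3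
    have hlt : N'.natAbs < n := by
      rw [← hn, hN', Int.natAbs_mul]
      have h2 := hp.out.two_le
      have h4 : 0 < N'.natAbs := Int.natAbs_pos.mpr hN'0
      simp only [Int.natAbs_natCast]
      nlinarith
    exact IH N'.natAbs hlt N' G' rfl hN'0 hQG' hdvd

end Aux


/-- Fatou's lemma: let P, Q ∈ ℚ[T] be coprime with constant coefficient 1, and suppose the power series
P/Q has integer coefficients, i.e. P = Q·Z in ℚ⟦T⟧ for a power series Z with coefficients in ℤ. Then
P and Q have integer coefficients. -/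
theorem result (P Q : Polynomial ℚ)
    (hPQ : IsCoprime P Q) (hP : P.coeff 0 = 1) (hQ : Q.coeff 0 = 1) (Z : PowerSeries ℤ)
    (hZ : (P : PowerSeries ℚ) = (Q : PowerSeries ℚ) * PowerSeries.map (Int.castRingHom ℚ) Z) :
    (∃ P₀ : Polynomial ℤ, P₀.map (Int.castRingHom ℚ) = P) ∧
      ∃ Q₀ : Polynomial ℤ, Q₀.map (Int.castRingHom ℚ) = Q := by
  have hψinj : Function.Injective (Int.castRingHom ℚ) := Int.cast_injective
  obtain ⟨Qi, b, hb0, hQi⟩ := exists_int_mul Q
  have hQi0 : Qi ≠ 0 := by
    rintro rfl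
    rw [Polynomial.map_zero] at hQi
    have := congrArg (fun q => q.coeff 0) hQi
    simp only [Polynomial.coeff_zero, Polynomial.coeff_C_mul, hQ, mul_one] at this
    exact hb0 (by exact_mod_cast this.symm)
  have hQ₁prim : Qi.primPart.IsPrimitive := Polynomial.isPrimitive_primPart Qi
  have hQi_eq : Qi = C Qi.content * Qi.primPart := Polynomial.eq_C_content_mul_primPart Qi
  have hc0 : Qi.content ≠ 0 := by rw [Ne, Polynomial.content_eq_zero_iff]; exact hQi0
  have hrel : C (b : ℚ) * Q = C (Qi.content : ℚ) * Qi.primPart.map (Int.castRingHom ℚ) := by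
    rw [← hQi]
    conv_lhs => rw [hQi_eq]
    rw [Polynomial.map_mul, Polynomial.map_C]
    rfl
  obtain ⟨U, V, hUV⟩ := hPQ
  obtain ⟨Ui, bu, hbu0, hUi⟩ := exists_int_mul U
  obtain ⟨Vi, bv, hbv0, hVi⟩ := exists_int_mul V
  set Q₁ := Qi.primPart with hQ₁def
  set c := Qi.content with hcdef
  let G : PowerSeries ℤ := PowerSeries.C c *
    (PowerSeries.C bv * (Ui : PowerSeries ℤ) * Z + PowerSeries.C bu * (Vi : PowerSeries ℤ))
  have hN0 : b * bu * bv ≠ 0 := mul_ne_zero (mul_ne_zero hb0 hbu0) hbv0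
  have hQG : (Q₁ : PowerSeries ℤ) * G = PowerSeries.C (b * bu * bv) := by
    apply PowerSeries.map_injective (Int.castRingHom ℚ) hψinj
    have e1 : PowerSeries.map (Int.castRingHom ℚ) (Q₁ : PowerSeries ℤ) =
        ((Q₁.map (Int.castRingHom ℚ) : ℚ[X]) : PowerSeries ℚ) :=
      (Polynomial.polynomial_map_coe).symm
    have e2 : PowerSeries.map (Int.castRingHom ℚ) (Ui : PowerSeries ℤ) =
        PowerSeries.C (bu : ℚ) * (U : PowerSeries ℚ) := by
      rw [← Polynomial.polynomial_map_coe, hUi, Polynomial.coe_mul, Polynomial.coe_C]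
    have e3 : PowerSeries.map (Int.castRingHom ℚ) (Vi : PowerSeries ℤ) =
        PowerSeries.C (bv : ℚ) * (V : PowerSeries ℚ) := by
      rw [← Polynomial.polynomial_map_coe, hVi, Polynomial.coe_mul, Polynomial.coe_C]
    have e4 : PowerSeries.C (b : ℚ) * (Q : PowerSeries ℚ) =
        PowerSeries.C (c : ℚ) * ((Q₁.map (Int.castRingHom ℚ) : ℚ[X]) : PowerSeries ℚ) := by
      rw [← Polynomial.coe_C, ← Polynomial.coe_C, ← Polynomial.coe_mul, ← Polynomial.coe_mul,
        hrel]
    have e5 : (U : PowerSeries ℚ) * (P : PowerSeries ℚ) + (V : PowerSeries ℚ) * (Q : PowerSeries ℚ)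
        = 1 := by
      rw [← Polynomial.coe_mul, ← Polynomial.coe_mul, ← Polynomial.coe_add, hUV, Polynomial.coe_one]
    simp only [G, map_mul, map_add, PowerSeries.map_C, e1, e2, e3]
    simp only [eq_intCast]
    linear_combination
      (PowerSeries.C (bu : ℚ) * PowerSeries.C (bv : ℚ) *
        ((U : PowerSeries ℚ) * PowerSeries.map (Int.castRingHom ℚ) Z + (V : PowerSeries ℚ))) * e4.symm
      - (PowerSeries.C (b : ℚ) * PowerSeries.C (bu : ℚ) * PowerSeries.C (bv : ℚ) *
        (U : PowerSeries ℚ)) * hZ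
      + (PowerSeries.C (b : ℚ) * PowerSeries.C (bu : ℚ) * PowerSeries.C (bv : ℚ)) * e5
  -- the constant coefficient of `Q₁` is a unit
  have hnd : ∀ p : ℕ, p.Prime → ¬ (p : ℤ) ∣ Q₁.coeff 0 := by
    intro p hp
    have : Fact p.Prime := ⟨hp⟩
    exact not_dvd_coeff_zero Q₁ hQ₁prim p _ _ G rfl hN0 hQG
  have hu : (Q₁.coeff 0).natAbs = 1 := by
    rw [Nat.eq_one_iff_not_exists_prime_dvd]
    intro p hp hdvd
    exact hnd p hp (Int.natCast_dvd.mpr hdvd)
  set u := Q₁.coeff 0 with hudef
  have hu2 : u * u = 1 := by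
    rcases Int.natAbs_eq u with h | h <;> rw [h, hu] <;> norm_num
  have hbcu : (b : ℚ) = (c : ℚ) * (u : ℚ) := by
    have := congrArg (fun q => q.coeff 0) hrel
    simp only [Polynomial.coeff_C_mul, hQ, mul_one, Polynomial.coeff_map] at this
    rw [this]; rfl
  have hQ0 : (C u * Q₁).map (Int.castRingHom ℚ) = Q := by
    rw [Polynomial.map_mul, Polynomial.map_C]
    have hc0' : (C (c : ℚ) : ℚ[X]) ≠ 0 := by
      rw [Ne, Polynomial.C_eq_zero]; exact_mod_cast hc0
    apply mul_left_cancel₀ hc0'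
    have hu2' : ((u : ℚ) * (u : ℚ)) = 1 := by exact_mod_cast hu2
    calc C (c : ℚ) * (C ((Int.castRingHom ℚ) u) * Q₁.map (Int.castRingHom ℚ))
        = C ((Int.castRingHom ℚ) u) * (C (c : ℚ) * Q₁.map (Int.castRingHom ℚ)) := by ring
      _ = C ((Int.castRingHom ℚ) u) * (C (b : ℚ) * Q) := by rw [hrel]
      _ = C (c : ℚ) * Q := by
        rw [hbcu, ← mul_assoc, ← Polynomial.C_mul]
        simp only [eq_intCast]
        rw [show (u : ℚ) * ((c : ℚ) * (u : ℚ)) = (c : ℚ) * ((u : ℚ) * (u : ℚ)) by ring, hu2',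
          mul_one]
  refine ⟨?_, ⟨C u * Q₁, hQ0⟩⟩
  -- the numerator
  set Q₀ := C u * Q₁ with hQ₀def
  have hPZ : (P : PowerSeries ℚ) = PowerSeries.map (Int.castRingHom ℚ) ((Q₀ : PowerSeries ℤ) * Z) := by
    rw [map_mul, ← Polynomial.polynomial_map_coe, hQ0, hZ]
  refine ⟨∑ n ∈ Finset.range (P.natDegree + 1),
    Polynomial.monomial n (PowerSeries.coeff n ((Q₀ : PowerSeries ℤ) * Z)), ?_⟩
  ext n
  rw [Polynomial.coeff_map, Polynomial.finsetSum_coeff]
  simp only [Polynomial.coeff_monomial]
  rw [Finset.sum_ite_eq' (Finset.range (P.natDegree + 1))]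
  split_ifs with hn
  · have := congrArg (PowerSeries.coeff n) hPZ
    rw [Polynomial.coeff_coe, PowerSeries.coeff_map] at this
    exact this.symm
  · rw [map_zero]
    rw [Finset.mem_range, not_lt] at hn
    exact (Polynomial.coeff_eq_zero_of_natDegree_lt (by omega)).symm

end Groth.Agent.S8630
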