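import Groth.Statements.S8650
import Groth.Agent.Lib.Helper13.Lambda
-- import your own Groth.Agent.* helpers here

set_option autoImplicit false
universe u
open Finset
open LambdaRing

namespace Groth.Agent.S8650

/-- Let K be a pre-λ-ring (λ^0 = 1, λ^1 = id, additive formula) in which λ^k(1) = 0 for all k ≥ 2. Then
for every x ∈ K and every n, λ^n(x + n − 1) = (−1)^n Σ_{i=0}^{n} (−1)^i λ^i(x + n). (The published
statement is for a λ-ring; its proof uses only additivity and λ_t(1) = 1 + t, the hypotheses taken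
here.) -/
theorem result (K : Type u) [CommRing K] [LambdaRing.LambdaOps K]
    (h1 : ∀ k : ℕ, 2 ≤ k → LambdaRing.LambdaOps.lam k (1 : K) = 0) (n : ℕ) (x : K) :
    LambdaRing.LambdaOps.lam n (x + (n : K) - 1) =
      (-1 : K) ^ n * ∑ i ∈ range (n + 1), (-1 : K) ^ i * LambdaRing.LambdaOps.lam i (x + (n : K)) := by
  have e : x + (n : K) - 1 = (x + (n : K)) + (-1) := by ring
  rw [e, LambdaRing.LambdaOps.lam_add, Finset.mul_sum]
  refine Finset.sum_congr rfl fun i hi => ?_
  rw [Finset.mem_range] at hi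
  rw [Groth.Agent.Lib.Helper13.Lambda.lam_neg_one h1]
  have : (-1 : K) ^ n = (-1 : K) ^ (n - i) * (-1 : K) ^ i := by
    rw [← pow_add, Nat.sub_add_cancel (by omega)]
  rw [this]
  have h2 : (-1 : K) ^ i * (-1 : K) ^ i = 1 := by rw [← mul_pow]; simp
  calc LambdaRing.LambdaOps.lam i (x + (n : K)) * (-1 : K) ^ (n - i)
      = (-1 : K) ^ (n - i) * ((-1 : K) ^ i * (-1 : K) ^ i) * LambdaRing.LambdaOps.lam i (x + (n : K)) := by
        rw [h2]; ring
    _ = _ := by ring

end Groth.Agent.S8650
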