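import Groth.Statements.S8651
import Groth.Agent.Lib.Helper13.Lambda
import Mathlib.RingTheory.PowerSeries.Substitution
import Mathlib.RingTheory.PowerSeries.WellKnown
import Mathlib.Algebra.BigOperators.Ring.Finset
-- import your own Groth.Agent.* helpers here

set_option autoImplicit false
universe u
open Finset
open LambdaRing

namespace Groth.Agent.S8651

section
variable {A : Type*} [CommRing A]

/-- `t/(1-t)` -/
noncomputable def uu : PowerSeries A := PowerSeries.X * PowerSeries.mk 1

theorem hasSubst_uu : PowerSeries.HasSubst (uu (A := A)) :=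
  PowerSeries.HasSubst.of_constantCoeff_zero' (by simp [uu])

theorem coeff_uu_pow (j k : ℕ) : PowerSeries.coeff k ((uu : PowerSeries A) ^ (j + 1)) =
    if j + 1 ≤ k then ((k - 1).choose j : A) else 0 := by
  rw [uu, mul_pow, PowerSeries.mk_one_pow_eq_mk_choose_add, PowerSeries.coeff_X_pow_mul']
  split_ifs with h
  · rw [PowerSeries.coeff_mk]
    congr 2
    omega
  · rfl

theorem subst_one' : (1 : PowerSeries A).subst (uu (A := A)) = 1 := by
  rw [← PowerSeries.coe_substAlgHom hasSubst_uu, map_one]

theorem one_add_uu : (1 + uu : PowerSeries A) = PowerSeries.mk 1 := by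
  ext n
  rcases n with _ | n
  · simp [uu]
  · rw [map_add, uu, PowerSeries.coeff_succ_X_mul]
    simp

end

section
variable {A : Type*} [CommRing A] [LambdaRing.LambdaOps A]

/-- `γ_t(z) = λ_{t/(1-t)}(z)` -/
noncomputable def Gam (z : A) : PowerSeries A := (LambdaRing.lamSeries z).subst (uu (A := A))

theorem coeff_Gam (z : A) (k : ℕ) : PowerSeries.coeff k (Gam z) = LambdaRing.gamma k z := by
  rw [Gam, PowerSeries.coeff_subst' hasSubst_uu]
  rw [finsum_eq_sum_of_support_subset _ (s := Finset.range (k + 1)) ?_]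
  · rcases k with _ | k
    · simp [LambdaRing.gamma, LambdaRing.lamSeries, LambdaRing.LambdaOps.lam_zero]
    · unfold LambdaRing.gamma
      rw [if_neg (Nat.succ_ne_zero k)]
      refine Finset.sum_congr rfl fun d hd => ?_
      rw [Finset.mem_range] at hd
      rcases d with _ | j
      · simp
      · rw [coeff_uu_pow, if_pos (by omega), if_neg (Nat.succ_ne_zero j)]
        simp only [LambdaRing.lamSeries, PowerSeries.coeff_mk, smul_eq_mul, Nat.add_sub_cancel]
        ring
  · intro d hd
    rw [Function.mem_support] at hd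
    rw [Finset.coe_range, Set.mem_Iio]
    by_contra hcon
    apply hd
    obtain ⟨j, rfl⟩ : ∃ j, d = j + 1 := ⟨d - 1, by omega⟩
    rw [coeff_uu_pow, if_neg (by omega), smul_zero]

theorem Gam_add (z w : A) : Gam (z + w) = Gam z * Gam w := by
  rw [Gam, Groth.Agent.Lib.Helper13.Lambda.lamSeries_add, PowerSeries.subst_mul hasSubst_uu]
  rfl

theorem Gam_zero : Gam (0 : A) = 1 := by
  rw [Gam, Groth.Agent.Lib.Helper13.Lambda.lamSeries_zero, subst_one']

theorem Gam_neg_one (h1 : ∀ k : ℕ, 2 ≤ k → LambdaRing.LambdaOps.lam k (1 : A) = 0) :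
    Gam (-1 : A) = 1 - PowerSeries.X := by
  have hmul : LambdaRing.lamSeries (-1 : A) * (1 + PowerSeries.X) = 1 := by
    rw [← Groth.Agent.Lib.Helper13.Lambda.lamSeries_one h1,
      ← Groth.Agent.Lib.Helper13.Lambda.lamSeries_add, neg_add_cancel,
      Groth.Agent.Lib.Helper13.Lambda.lamSeries_zero]
  have h2 : Gam (-1 : A) * PowerSeries.mk 1 = 1 := by
    have := congrArg (fun f : PowerSeries A => f.subst (uu (A := A))) hmul
    rw [PowerSeries.subst_mul hasSubst_uu, PowerSeries.subst_add hasSubst_uu, subst_one',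
      PowerSeries.subst_X hasSubst_uu, one_add_uu] at this
    exact this
  calc Gam (-1 : A) = Gam (-1 : A) * (PowerSeries.mk 1 * (1 - PowerSeries.X)) := by
        rw [PowerSeries.mk_one_mul_one_sub_eq_one, mul_one]
    _ = 1 - PowerSeries.X := by rw [← mul_assoc, h2, one_mul]

theorem Gam_line_sub_one (h1 : ∀ k : ℕ, 2 ≤ k → LambdaRing.LambdaOps.lam k (1 : A) = 0)
    (y : A) (hy : ∀ j : ℕ, 2 ≤ j → LambdaRing.LambdaOps.lam j y = 0) :
    Gam (y - 1) = 1 + PowerSeries.C (y - 1) * PowerSeries.X := by
  have hLs : LambdaRing.lamSeries y = 1 + PowerSeries.C y * PowerSeries.X := by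
    ext n
    rw [LambdaRing.lamSeries, PowerSeries.coeff_mk, map_add, PowerSeries.coeff_one,
      PowerSeries.coeff_C_mul, PowerSeries.coeff_X]
    rcases n with _ | _ | n
    · simp [LambdaRing.LambdaOps.lam_zero]
    · simp [LambdaRing.LambdaOps.lam_one]
    · rw [hy (n + 2) (by omega)]
      simp
  have hGy : Gam y = 1 + PowerSeries.C y * uu := by
    rw [Gam, hLs, PowerSeries.subst_add hasSubst_uu, PowerSeries.subst_mul hasSubst_uu,
      subst_one', PowerSeries.subst_X hasSubst_uu, PowerSeries.subst_C]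
    rfl
  rw [sub_eq_add_neg, Gam_add, hGy, Gam_neg_one h1, uu]
  have := PowerSeries.mk_one_mul_one_sub_eq_one A
  calc (1 + PowerSeries.C y * (PowerSeries.X * PowerSeries.mk 1)) * (1 - PowerSeries.X)
      = (1 - PowerSeries.X) + PowerSeries.C y * PowerSeries.X *
          (PowerSeries.mk 1 * (1 - PowerSeries.X)) := by ring
    _ = 1 + PowerSeries.C (y + -1) * PowerSeries.X := by
        rw [this, map_add, map_neg, map_one]; ring

end

theorem coeff_prod_one_add {A : Type*} [CommRing A] {ι : Type*} [DecidableEq ι] (s : Finset ι)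
    (a : ι → A) (k : ℕ) :
    PowerSeries.coeff k (∏ i ∈ s, (1 + PowerSeries.C (a i) * PowerSeries.X)) =
      ∑ t ∈ s.powersetCard k, ∏ i ∈ t, a i := by
  have e : ∏ i ∈ s, (1 + PowerSeries.C (a i) * PowerSeries.X) =
      ∑ t ∈ s.powerset, PowerSeries.C (∏ i ∈ t, a i) * PowerSeries.X ^ t.card := by
    rw [show (∏ i ∈ s, (1 + PowerSeries.C (a i) * PowerSeries.X)) =
      ∏ i ∈ s, (PowerSeries.C (a i) * PowerSeries.X + 1) by
        refine Finset.prod_congr rfl fun i _ => add_comm _ _]
    rw [Finset.prod_add]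
    refine Finset.sum_congr rfl fun t _ => ?_
    rw [Finset.prod_const_one, mul_one, Finset.prod_mul_distrib, Finset.prod_const, map_prod]
  rw [e, map_sum, Finset.powersetCard_eq_filter, Finset.sum_filter]
  refine Finset.sum_congr rfl fun t _ => ?_
  rw [PowerSeries.coeff_C_mul_X_pow]
  split_ifs with h1 h2 h2
  · rfl
  · exact absurd h1.symm h2
  · exact absurd h2.symm h1
  · rfl

/-- Let A be a pre-λ-ring (λ^0 = 1, λ^1 = id, additive formula) in which λ^k(1) = 0 for all k ≥ 2, and
let y_1, …, y_n ∈ A satisfy λ^j(y_i) = 0 for every j ≥ 2; put x = Σ_i y_i. Then for every k the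
element γ^k(x − n) (γ-operations: the coefficients of λ_{t/(1−t)}) equals the k-th elementary
symmetric function of y_1 − 1, …, y_n − 1, namely the sum over the k-element subsets s of the index
set of Π_{i ∈ s} (y_i − 1); in particular γ^k(x − n) = 0 for k > n. (The published statement is for
a λ-ring; its proof uses only additivity and λ_t(1) = 1 + t, the hypotheses taken here.) -/
theorem result (A : Type u) [CommRing A] [LambdaRing.LambdaOps A]
    (h1 : ∀ k : ℕ, 2 ≤ k → LambdaRing.LambdaOps.lam k (1 : A) = 0) (n : ℕ) (y : Fin n → A)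
    (hy : ∀ (i : Fin n) (j : ℕ), 2 ≤ j → LambdaRing.LambdaOps.lam j (y i) = 0) (k : ℕ) :
    LambdaRing.gamma k (∑ i : Fin n, y i - (n : A)) =
      ∑ s ∈ (univ : Finset (Fin n)).powersetCard k, ∏ i ∈ s, (y i - 1) := by
  classical
  have hx : ∑ i : Fin n, y i - (n : A) = ∑ i : Fin n, (y i - 1) := by
    rw [Finset.sum_sub_distrib]
    simp
  rw [hx, ← coeff_Gam]
  have hprod : ∀ s : Finset (Fin n), Gam (∑ i ∈ s, (y i - 1)) =
      ∏ i ∈ s, (1 + PowerSeries.C (y i - 1) * PowerSeries.X) := by
    intro s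
    induction s using Finset.induction_on with
    | empty => simp [Gam_zero]
    | insert a s ha ih =>
      rw [Finset.sum_insert ha, Gam_add, ih, Finset.prod_insert ha, Gam_line_sub_one h1 (y a) (hy a)]
  rw [hprod, coeff_prod_one_add]

end Groth.Agent.S8651
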