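import Groth.Statements.S8666
-- import your own Groth.Agent.* helpers here

set_option autoImplicit false
universe u
open CAlg

namespace Groth.Agent.S8666

open LocalizedModule

section Aux

variable {A : Type u} [CommRing A] {M : Type u} [AddCommGroup M] [Module A M]

theorem exists_mk (S : Submonoid A) (g : LocalizedModule S M) :
    ∃ (m : M) (u : S), g = LocalizedModule.mk m u := by
  induction g using LocalizedModule.induction_on with
  | h m s => exact ⟨m, s, rfl⟩

theorem gen_exists [Module.Invertible A M] (P : Ideal A) [P.IsPrime] :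
    ∃ t : M, Submodule.span (Localization.AtPrime P)
      {LocalizedModule.mk t (1 : P.primeCompl)} = ⊤ := by
  have hfree : Module.Free (Localization.AtPrime P) (LocalizedModule P.primeCompl M) :=
    inferInstance
  obtain ⟨e⟩ := (Module.Invertible.free_iff_linearEquiv (R := Localization.AtPrime P)
    (M := LocalizedModule P.primeCompl M)).mp hfree
  have hg : Submodule.span (Localization.AtPrime P) {e.symm 1} = ⊤ := by
    rw [eq_top_iff]
    intro x _
    rw [Submodule.mem_span_singleton]
    exact ⟨e x, by rw [← LinearEquiv.map_smul, smul_eq_mul, mul_one, LinearEquiv.symm_apply_apply]⟩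
  obtain ⟨m, u, hmu⟩ := exists_mk P.primeCompl (e.symm 1)
  refine ⟨m, ?_⟩
  have h1 : (Localization.mk (u : A) (1 : P.primeCompl) : Localization.AtPrime P) •
      (LocalizedModule.mk m u : LocalizedModule P.primeCompl M) = LocalizedModule.mk m 1 := by
    rw [LocalizedModule.mk_smul_mk, one_mul]
    exact LocalizedModule.mk_cancel u m
  have hunit : IsUnit (Localization.mk (u : A) (1 : P.primeCompl) : Localization.AtPrime P) := by
    rw [Localization.mk_one_eq_algebraMap]
    exact IsLocalization.map_units (Localization.AtPrime P) u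
  rw [← h1, Submodule.span_singleton_smul_eq hunit, ← hmu, hg]

theorem span_top_of_le {P Q : Ideal A} [P.IsPrime] [Q.IsPrime] (hPQ : P ≤ Q) (s : M)
    (hs : Submodule.span (Localization.AtPrime Q) {LocalizedModule.mk s (1 : Q.primeCompl)} = ⊤) :
    Submodule.span (Localization.AtPrime P) {LocalizedModule.mk s (1 : P.primeCompl)} = ⊤ := by
  rw [eq_top_iff]
  rintro x -
  obtain ⟨m, w, rfl⟩ := exists_mk P.primeCompl x
  have hm : (LocalizedModule.mk m (1 : Q.primeCompl) : LocalizedModule Q.primeCompl M) ∈
      Submodule.span (Localization.AtPrime Q) {LocalizedModule.mk s 1} := by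
    rw [hs]; trivial
  rw [Submodule.mem_span_singleton] at hm
  obtain ⟨c, hc⟩ := hm
  obtain ⟨a, u, rfl⟩ := IsLocalization.exists_mk'_eq Q.primeCompl c
  rw [← Localization.mk_eq_mk'_apply, LocalizedModule.mk_smul_mk, LocalizedModule.mk_eq] at hc
  obtain ⟨v, hv⟩ := hc
  have hu' : (u : A) ∈ P.primeCompl := fun h => u.2 (hPQ h)
  have hv' : (v : A) ∈ P.primeCompl := fun h => v.2 (hPQ h)
  refine Submodule.mem_span_singleton.mpr
    ⟨(Localization.mk a (⟨u, hu'⟩ * w) : Localization.AtPrime P), ?_⟩
  rw [LocalizedModule.mk_smul_mk, LocalizedModule.mk_eq]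
  refine ⟨⟨v, hv'⟩, ?_⟩
  simp only [Submonoid.smul_def, Submonoid.coe_mul, one_smul, mul_one,
    smul_smul] at hv ⊢
  calc ((v : A) * ((w : A) * a)) • s = (w : A) • (((v : A) * a) • s) := by
        rw [smul_smul]; ring_nf
    _ = (w : A) • (((v : A) * (u : A)) • m) := by rw [hv]
    _ = ((v : A) * ((u : A) * (w : A))) • m := by rw [smul_smul]; ring_nf

end Aux


/-- Let A be a Noetherian ring, M an invertible A-module and p_1, …, p_k finitely many primes of A
(points of Spec A). Then there is a single element s ∈ M whose image generates M_{p_i} as an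
A_{p_i}-module for every i, i.e. s is a basis of the stalk of M at each of the given points. -/
theorem result (A : Type u) [CommRing A] [IsNoetherianRing A]
    (M : Type u) [AddCommGroup M] [Module A M] [Module.Invertible A M] (ι : Type) [Finite ι] (p : ι → PrimeSpectrum A) :
    ∃ s : M, ∀ i : ι, Submodule.span (Localization.AtPrime (p i).asIdeal)
      {LocalizedModule.mkLinearMap (p i).asIdeal.primeCompl M s} = ⊤ := by
  classical
  have hgen : ∀ q : PrimeSpectrum A, ∃ t : M, Submodule.span (Localization.AtPrime q.asIdeal)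
      {LocalizedModule.mk t (1 : q.asIdeal.primeCompl)} = ⊤ := fun q => gen_exists q.asIdeal
  choose t ht using hgen
  let R0 : Finset (PrimeSpectrum A) := (Set.finite_range p).toFinset
  let T : Finset (PrimeSpectrum A) := R0.filter (fun q => Maximal (· ∈ R0) q)
  have havoid : ∀ q ∈ T, ∃ a : A, a ∉ q.asIdeal ∧ ∀ q' ∈ T, q' ≠ q → a ∈ q'.asIdeal := by
    intro q hq
    have hnot : ¬ (∏ q' ∈ T.erase q, q'.asIdeal) ≤ q.asIdeal := by
      rw [Ideal.IsPrime.prod_le q.isPrime]
      rintro ⟨q', hq', hle⟩
      have hq'T := Finset.mem_of_mem_erase hq'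
      have hne := Finset.ne_of_mem_erase hq'
      have hmax := (Finset.mem_filter.mp hq'T).2
      have hle' : q' ≤ q := hle
      exact hne (le_antisymm hle' (hmax.2 (Finset.mem_filter.mp hq).1 hle'))
    obtain ⟨x, hx, hnx⟩ := Set.not_subset.mp hnot
    refine ⟨x, hnx, fun q' hq' hne => ?_⟩
    exact Ideal.prod_le_inf.trans (Finset.inf_le (Finset.mem_erase.mpr ⟨hne, hq'⟩)) hx
  choose a ha1 ha2 using havoid
  let a' : PrimeSpectrum A → A := fun q => if hq : q ∈ T then a q hq else 0
  let s : M := ∑ q ∈ T, a' q • t q
  refine ⟨s, fun i => ?_⟩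
  rw [show LocalizedModule.mkLinearMap (p i).asIdeal.primeCompl M s = LocalizedModule.mk s 1
    from rfl]
  obtain ⟨q, hle, hqmax⟩ := Finset.exists_le_maximal R0 (show p i ∈ R0 by simp [R0])
  have hqT : q ∈ T := Finset.mem_filter.mpr ⟨hqmax.1, hqmax⟩
  apply span_top_of_le (show (p i).asIdeal ≤ q.asIdeal from hle) s
  have hc : ∀ q' : PrimeSpectrum A, ∃ c : Localization.AtPrime q.asIdeal,
      (LocalizedModule.mk (t q') 1 : LocalizedModule q.asIdeal.primeCompl M) =
        c • LocalizedModule.mk (t q) 1 := by
    intro q'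
    have : (LocalizedModule.mk (t q') 1 : LocalizedModule q.asIdeal.primeCompl M) ∈
        Submodule.span (Localization.AtPrime q.asIdeal) {LocalizedModule.mk (t q) 1} := by
      rw [ht q]; trivial
    obtain ⟨c, hc⟩ := Submodule.mem_span_singleton.mp this
    exact ⟨c, hc.symm⟩
  choose c hc using hc
  let c' : PrimeSpectrum A → Localization.AtPrime q.asIdeal := fun q' =>
    if q' = q then 1 else c q'
  have hc' : ∀ q', (LocalizedModule.mk (t q') 1 : LocalizedModule q.asIdeal.primeCompl M) =
      c' q' • LocalizedModule.mk (t q) 1 := by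
    intro q'
    by_cases h : q' = q
    · subst h; simp [c']
    · simp only [c', if_neg h]; exact hc q'
  let γ : Localization.AtPrime q.asIdeal :=
    ∑ q' ∈ T, algebraMap A (Localization.AtPrime q.asIdeal) (a' q') * c' q'
  have hs : (LocalizedModule.mk s 1 : LocalizedModule q.asIdeal.primeCompl M) =
      γ • LocalizedModule.mk (t q) 1 := by
    have : (LocalizedModule.mk s 1 : LocalizedModule q.asIdeal.primeCompl M) =
        LocalizedModule.mkLinearMap q.asIdeal.primeCompl M s := rfl
    rw [this]
    simp only [s, map_sum, map_smul, LocalizedModule.mkLinearMap_apply]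
    rw [Finset.sum_smul]
    refine Finset.sum_congr rfl fun q' _ => ?_
    rw [hc' q', ← algebraMap_smul (Localization.AtPrime q.asIdeal) (a' q'), smul_smul]
  have hγ : IsUnit γ := by
    rw [← IsLocalRing.notMem_maximalIdeal]
    intro hmem
    have hsplit : γ = algebraMap A (Localization.AtPrime q.asIdeal) (a' q) +
        ∑ q' ∈ T.erase q, algebraMap A (Localization.AtPrime q.asIdeal) (a' q') * c' q' := by
      show ∑ q' ∈ T, algebraMap A (Localization.AtPrime q.asIdeal) (a' q') * c' q' = _
      rw [← Finset.add_sum_erase T _ hqT]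
      simp [c']
    have hrest : ∑ q' ∈ T.erase q, algebraMap A (Localization.AtPrime q.asIdeal) (a' q') * c' q' ∈
        IsLocalRing.maximalIdeal (Localization.AtPrime q.asIdeal) := by
      apply Ideal.sum_mem
      intro q' hq'
      apply Ideal.mul_mem_right
      rw [IsLocalization.AtPrime.to_map_mem_maximal_iff (Localization.AtPrime q.asIdeal) q.asIdeal]
      have hq'T := Finset.mem_of_mem_erase hq'
      have hne := Finset.ne_of_mem_erase hq'
      simp only [a', dif_pos hq'T]
      exact ha2 q' hq'T q hqT (Ne.symm hne)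
    have hmain : algebraMap A (Localization.AtPrime q.asIdeal) (a' q) ∈
        IsLocalRing.maximalIdeal (Localization.AtPrime q.asIdeal) := by
      have := Ideal.sub_mem _ hmem hrest
      rwa [hsplit, add_sub_cancel_right] at this
    rw [IsLocalization.AtPrime.to_map_mem_maximal_iff (Localization.AtPrime q.asIdeal) q.asIdeal]
      at hmain
    simp only [a', dif_pos hqT] at hmain
    exact ha1 q hqT hmain
  rw [hs, Submodule.span_singleton_smul_eq hγ, ht q]

end Groth.Agent.S8666
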