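import Groth.Statements.S8678
import Groth.Agent.Lib.Helper13.Lambda
import Mathlib.RingTheory.Ideal.Quotient.Operations
-- import your own Groth.Agent.* helpers here

set_option autoImplicit false
universe u
open Finset
open LambdaRing

namespace Groth.Agent.S8678

/-- As the identity it proves in the pre-λ-ring K(Y') of the exceptional divisor: let K be a pre-λ-ring
(λ^0 = 1, λ^1 = id, additive formula) with λ^k(1) = 0 for all k ≥ 2, let d ≥ 2, and let F, L, N' ∈ K
satisfy λ^j(L) = 0 for j ≥ 2 (L is the class of an invertible module), λ^i(N') = 0 for i ≥ d − 1 (N'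
is the class of a bundle of rank d − 2) and F + L = N' + 2 (for the blowing up of a regular
immersion of codimension d: on the exceptional divisor the pulled-back conormal class is F + L, and
N = N' + 2). Then 1 − L divides λ_{−1}(F) = Σ_{i<d} (−1)^i λ^i(F). (The published proof uses only
additivity of λ_t and λ_t(1) = 1 + t, the hypotheses taken here.) -/
theorem result (K : Type u) [CommRing K] [LambdaRing.LambdaOps K]
    (h1 : ∀ k : ℕ, 2 ≤ k → LambdaRing.LambdaOps.lam k (1 : K) = 0) (d : ℕ) (hd : 2 ≤ d) (F L N' : K)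
    (hL : ∀ j : ℕ, 2 ≤ j → LambdaRing.LambdaOps.lam j L = 0) (hN' : ∀ i : ℕ, d - 1 ≤ i → LambdaRing.LambdaOps.lam i N' = 0)
    (hrel : F + L = N' + 2) :
    (1 - L) ∣ ∑ i ∈ range d, (-1 : K) ^ i * LambdaRing.LambdaOps.lam i F := by
  classical
  rw [← Ideal.mem_span_singleton, ← Ideal.Quotient.eq_zero_iff_mem]
  set I : Ideal K := Ideal.span {1 - L} with hI
  set π : K →+* K ⧸ I := Ideal.Quotient.mk I with hπ
  have hπL : π L = 1 := by
    have : π (1 - L) = 0 := Ideal.Quotient.eq_zero_iff_mem.mpr (Ideal.subset_span rfl)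
    rw [map_sub, map_one, sub_eq_zero] at this
    exact this.symm
  have hLs : LambdaRing.lamSeries L = 1 + PowerSeries.C L * PowerSeries.X := by
    ext n
    rw [LambdaRing.lamSeries, PowerSeries.coeff_mk, map_add, PowerSeries.coeff_one,
      PowerSeries.coeff_C_mul, PowerSeries.coeff_X]
    rcases n with _ | _ | n
    · simp [LambdaRing.LambdaOps.lam_zero]
    · simp [LambdaRing.LambdaOps.lam_one]
    · rw [hL (n + 2) (by omega)]
      simp
  have h2 : LambdaRing.lamSeries ((2 : ℕ) : K) = (1 + PowerSeries.X) ^ 2 :=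
    Groth.Agent.Lib.Helper13.Lambda.lamSeries_natCast h1 2
  have hrel' : LambdaRing.lamSeries F * LambdaRing.lamSeries L =
      LambdaRing.lamSeries N' * (1 + PowerSeries.X) ^ 2 := by
    rw [← Groth.Agent.Lib.Helper13.Lambda.lamSeries_add, hrel, ← h2,
      ← Groth.Agent.Lib.Helper13.Lambda.lamSeries_add]
    norm_num
  have hGL : PowerSeries.map π (LambdaRing.lamSeries L) = 1 + PowerSeries.X := by
    rw [hLs, map_add, map_one, map_mul, PowerSeries.map_C, PowerSeries.map_X, hπL, map_one, one_mul]
  have hu : IsUnit (1 + PowerSeries.X : PowerSeries (K ⧸ I)) := by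
    rw [PowerSeries.isUnit_iff_constantCoeff]
    simp
  have hcancel : PowerSeries.map π (LambdaRing.lamSeries F) =
      PowerSeries.map π (LambdaRing.lamSeries N') * (1 + PowerSeries.X) := by
    apply hu.mul_right_cancel
    have := congrArg (PowerSeries.map π) hrel'
    rw [map_mul, map_mul, hGL, map_pow, map_add, map_one, PowerSeries.map_X] at this
    rw [this]
    ring
  have hcoef : ∀ i, π (LambdaRing.LambdaOps.lam (i + 1) F) =
      π (LambdaRing.LambdaOps.lam (i + 1) N') + π (LambdaRing.LambdaOps.lam i N') := by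
    intro i
    have := congrArg (PowerSeries.coeff (i + 1)) hcancel
    rw [PowerSeries.coeff_map, LambdaRing.lamSeries, PowerSeries.coeff_mk, mul_add, mul_one,
      map_add, PowerSeries.coeff_succ_mul_X, PowerSeries.coeff_map, PowerSeries.coeff_map] at this
    simpa [LambdaRing.lamSeries, PowerSeries.coeff_mk] using this
  obtain ⟨e, rfl⟩ : ∃ e, d = e + 1 := ⟨d - 1, by omega⟩
  have hae : LambdaRing.LambdaOps.lam e N' = 0 := hN' e (by omega)
  rw [map_sum, Finset.sum_range_succ']
  simp only [map_mul, map_pow, map_neg, map_one, hcoef, pow_zero, one_mul,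
    LambdaRing.LambdaOps.lam_zero]
  -- telescoping
  have key : ∀ n : ℕ, (∑ i ∈ Finset.range n, (-1 : K ⧸ I) ^ (i + 1) *
      (π (LambdaRing.LambdaOps.lam (i + 1) N') + π (LambdaRing.LambdaOps.lam i N'))) + 1 =
      (-1 : K ⧸ I) ^ n * π (LambdaRing.LambdaOps.lam n N') := by
    intro n
    induction n with
    | zero => simp [LambdaRing.LambdaOps.lam_zero]
    | succ n ih =>
      rw [Finset.sum_range_succ, add_right_comm, ih]
      ring
  rw [key e, hae, map_zero, mul_zero]

end Groth.Agent.S8678
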