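import Groth.Statements.S8702
import Groth.Agent.Lib.Helper13.Adams
-- import your own Groth.Agent.* helpers here

set_option autoImplicit false
universe u
open LambdaRing

namespace Groth.Agent.S8702

universe w

section
variable {K : Type w} [CommRing K] [Algebra ℚ K]

/-- λ^n defined by Newton's recursion from the ψ^k. -/
noncomputable def lamRec (ψ : ℕ → K →+ K) : ℕ → K → K
  | 0, _ => 1
  | n + 1, x => algebraMap ℚ K ((n + 1 : ℚ)⁻¹) *
      ∑ i ∈ Finset.range (n + 1), (-1 : K) ^ i * ψ (i + 1) x * lamRec ψ (n - i) x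
termination_by n => n
decreasing_by omega

theorem lamRec_zero (ψ : ℕ → K →+ K) (x : K) : lamRec ψ 0 x = 1 := by
  rw [lamRec]

theorem unit_succ (n : ℕ) : IsUnit ((n : K) + 1) := by
  have : ((n : K) + 1) = algebraMap ℚ K ((n : ℚ) + 1) := by simp
  rw [this]
  exact (IsUnit.mk0 _ (by positivity)).map _

theorem lamRec_succ (ψ : ℕ → K →+ K) (n : ℕ) (x : K) :
    lamRec ψ (n + 1) x * ((n : K) + 1) =
      ∑ i ∈ Finset.range (n + 1), (-1 : K) ^ i * ψ (i + 1) x * lamRec ψ (n - i) x := by
  rw [lamRec]
  have h : algebraMap ℚ K ((n + 1 : ℚ)⁻¹) * ((n : K) + 1) = 1 := by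
    have : ((n : K) + 1) = algebraMap ℚ K ((n : ℚ) + 1) := by simp
    rw [this, ← map_mul, inv_mul_cancel₀ (by positivity), map_one]
  rw [mul_comm, ← mul_assoc, mul_comm ((n : K) + 1), h, one_mul]

/-- uniqueness of the solution of `F' = P F` with given constant term, in a ℚ-algebra -/
theorem ode_unique (P F G : PowerSeries K) (hF : PowerSeries.derivative K F = P * F)
    (hG : PowerSeries.derivative K G = P * G)
    (h0 : PowerSeries.coeff 0 F = PowerSeries.coeff 0 G) : F = G := by
  ext n
  induction n using Nat.strong_induction_on with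
  | _ n ih =>
    rcases n with _ | m
    · exact h0
    · apply (unit_succ (K := K) m).mul_right_cancel
      have e1 := congrArg (PowerSeries.coeff m) hF
      have e2 := congrArg (PowerSeries.coeff m) hG
      rw [PowerSeries.coeff_derivative, PowerSeries.coeff_mul] at e1 e2
      rw [e1, e2]
      refine Finset.sum_congr rfl fun p hp => ?_
      have h := Finset.mem_antidiagonal.mp hp
      rw [ih p.2 (by omega)]

/-- the series `Σ (-1)^i ψ^{i+1}(x) t^i` -/
noncomputable def Pser (ψ : ℕ → K →+ K) (x : K) : PowerSeries K :=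
  PowerSeries.mk fun i => (-1 : K) ^ i * ψ (i + 1) x

/-- the series `Σ λ^n(x) t^n` for the recursive λ -/
noncomputable def Lser (ψ : ℕ → K →+ K) (x : K) : PowerSeries K :=
  PowerSeries.mk fun n => lamRec ψ n x

theorem Lser_deriv (ψ : ℕ → K →+ K) (x : K) :
    PowerSeries.derivative K (Lser ψ x) = Pser ψ x * Lser ψ x := by
  ext n
  rw [PowerSeries.coeff_derivative, PowerSeries.coeff_mul, Lser, PowerSeries.coeff_mk,
    lamRec_succ, Finset.Nat.sum_antidiagonal_eq_sum_range_succ_mk]
  simp [Pser, PowerSeries.coeff_mk, mul_assoc]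

omit [Algebra ℚ K] in
theorem Pser_add (ψ : ℕ → K →+ K) (x y : K) : Pser ψ (x + y) = Pser ψ x + Pser ψ y := by
  ext n
  simp [Pser, PowerSeries.coeff_mk, mul_add]

theorem Lser_add (ψ : ℕ → K →+ K) (x y : K) : Lser ψ (x + y) = Lser ψ x * Lser ψ y := by
  apply ode_unique (Pser ψ (x + y))
  · exact Lser_deriv ψ (x + y)
  · rw [Derivation.leibniz, Lser_deriv, Lser_deriv, Pser_add, smul_eq_mul, smul_eq_mul]
    ring
  · simp [Lser, PowerSeries.coeff_mk, PowerSeries.coeff_mul, lamRec_zero]

/-- the pre-λ-structure -/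
@[instance_reducible] noncomputable def lamOps (ψ : ℕ → K →+ K) (hψ : ψ 1 = AddMonoidHom.id K) : LambdaRing.LambdaOps K where
  lam := lamRec ψ
  lam_zero x := lamRec_zero ψ x
  lam_one x := by
    have := lamRec_succ ψ 0 x
    simp only [Nat.cast_zero, zero_add, mul_one, Finset.range_one, Finset.sum_singleton, pow_zero,
      one_mul, Nat.sub_zero, lamRec_zero] at this
    rw [this, hψ]
    rfl
  lam_add k x y := by
    have := congrArg (PowerSeries.coeff k) (Lser_add ψ x y)
    rw [PowerSeries.coeff_mul, Finset.Nat.sum_antidiagonal_eq_sum_range_succ_mk] at this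
    simpa [Lser, PowerSeries.coeff_mk] using this

end

/-- Let K be a commutative ring which is an algebra over the rationals, and let ψ^k : K → K, k ≥ 1, be
additive maps with ψ^1 the identity. Then there is one and only one pre-λ-structure on K whose Adams
operations (defined through the logarithmic derivative of λ_t) are the ψ^k for every k ≥ 1, namely
λ_t(x) = exp(Σ_{k ≥ 1} (−1)^{k−1} ψ^k(x) t^k / k): in characteristic zero, pre-λ-structures and
families of additive operations ψ^k with ψ^1 = id determine each other. (The value of the family at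
k = 0 is ignored.) -/
theorem result (K : Type u) [CommRing K] [Algebra ℚ K]
    (ψ : ℕ → K →+ K) (hψ : ψ 1 = AddMonoidHom.id K) :
    ∃! L : LambdaRing.LambdaOps K, ∀ k : ℕ, 1 ≤ k → ∀ x : K, @LambdaRing.adamsOp K _ L k x = ψ k x := by
  refine ⟨lamOps ψ hψ, ?_, ?_⟩
  · intro k hk x
    obtain ⟨j, rfl⟩ : ∃ j, k = j + 1 := ⟨k - 1, by omega⟩
    let _ := lamOps ψ hψ
    have hL : LambdaRing.lamSeries x = Lser ψ x := rfl
    have hlog : LambdaRing.logDerivSeries x = Pser ψ x := by
      apply (Groth.Agent.Lib.Helper13.Lambda.isUnit_lamSeries x).mul_right_cancel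
      rw [← Groth.Agent.Lib.Helper13.Adams.newton, hL, Lser_deriv]
    show (-1) ^ j * PowerSeries.coeff j (LambdaRing.logDerivSeries x) = ψ (j + 1) x
    rw [hlog, Pser, PowerSeries.coeff_mk, ← mul_assoc, ← mul_pow]
    simp
  · intro L' hL'
    have hlam : ∀ x, (@LambdaRing.lamSeries K _ L' x) = Lser ψ x := by
      intro x
      apply ode_unique (Pser ψ x)
      · have := @Groth.Agent.Lib.Helper13.Adams.newton K _ L' x
        rw [this]
        congr 1
        ext i
        rw [Groth.Agent.Lib.Helper13.Adams.coeff_logDeriv, hL' (i + 1) (by omega)]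
        simp [Pser, PowerSeries.coeff_mk]
      · exact Lser_deriv ψ x
      · simp [LambdaRing.lamSeries, Lser, PowerSeries.coeff_mk, lamRec_zero,
          @LambdaRing.LambdaOps.lam_zero K _ L']
    obtain ⟨lam', h0', h1', hadd'⟩ := L'
    have : lam' = lamRec ψ := by
      funext n x
      have := congrArg (PowerSeries.coeff n) (hlam x)
      simpa [LambdaRing.lamSeries, Lser, PowerSeries.coeff_mk] using this
    subst this
    rfl

end Groth.Agent.S8702
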