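import Groth.Statements.S8703
import Groth.Agent.Lib.Helper13.Adams
-- import your own Groth.Agent.* helpers here

set_option autoImplicit false
universe u
open LambdaRing

namespace Groth.Agent.S8703

/-- The Adams operations commute with λ-homomorphisms, and conversely, if K and K' are pre-λ-rings which
are algebras over the rationals, a ring homomorphism f : K → K' commuting with the ψ^k for all k ≥ 1
is a λ-homomorphism (commutes with all λ^i), the λ^i being expressible through the ψ^k in
characteristic zero. -/
theorem result (K K' : Type u) [CommRing K] [CommRing K']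
    [LambdaRing.LambdaOps K] [LambdaRing.LambdaOps K'] [Algebra ℚ K] [Algebra ℚ K'] (f : K →+* K') :
    LambdaRing.IsLambdaHom f ↔
      ∀ k : ℕ, 1 ≤ k → ∀ x : K, f (LambdaRing.adamsOp k x) = LambdaRing.adamsOp k (f x) := by
  constructor
  · intro hf k hk x
    obtain ⟨j, rfl⟩ : ∃ j, k = j + 1 := ⟨k - 1, by omega⟩
    have hlam : PowerSeries.map f (LambdaRing.lamSeries x) = LambdaRing.lamSeries (f x) := by
      ext n
      simp [PowerSeries.coeff_map, LambdaRing.lamSeries, hf n x]
    have hlog : PowerSeries.map f (LambdaRing.logDerivSeries x) = LambdaRing.logDerivSeries (f x) := by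
      apply (Groth.Agent.Lib.Helper13.Lambda.isUnit_lamSeries (f x)).mul_right_cancel
      rw [← Groth.Agent.Lib.Helper13.Adams.newton, ← hlam, ← map_mul,
        ← Groth.Agent.Lib.Helper13.Adams.newton, Groth.Agent.Lib.Helper13.Adams.map_derivative]
    show f ((-1) ^ j * PowerSeries.coeff j (LambdaRing.logDerivSeries x)) =
      (-1) ^ j * PowerSeries.coeff j (LambdaRing.logDerivSeries (f x))
    rw [← hlog, PowerSeries.coeff_map, map_mul, map_pow, map_neg, map_one]
  · intro hf n
    induction n using Nat.strong_induction_on with
    | _ n ih =>
      intro x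
      rcases n with _ | m
      · rw [LambdaRing.LambdaOps.lam_zero, LambdaRing.LambdaOps.lam_zero, map_one]
      · have hunit : IsUnit ((m : K') + 1) := by
          have : ((m : K') + 1) = algebraMap ℚ K' ((m : ℚ) + 1) := by simp
          rw [this]
          exact (IsUnit.mk0 _ (by positivity)).map _
        apply hunit.mul_right_cancel
        have h1 := congrArg f (Groth.Agent.Lib.Helper13.Adams.newton_coeff x m)
        rw [map_mul, map_add, map_natCast, map_one] at h1
        rw [h1, Groth.Agent.Lib.Helper13.Adams.newton_coeff (f x) m, map_sum]
        refine Finset.sum_congr rfl fun p hp => ?_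
        have hp2 : p.2 < m + 1 := by
          have h := Finset.mem_antidiagonal.mp hp
          omega
        rw [map_mul, map_mul, map_pow, map_neg, map_one, hf (p.1 + 1) (by omega) x, ih p.2 hp2 x]

end Groth.Agent.S8703
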