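import Groth.Statements.S8705
import Mathlib.Tactic.Abel
import Mathlib.LinearAlgebra.Quotient.Basic
-- import your own Groth.Agent.* helpers here

set_option autoImplicit false
universe u
open SGA7

namespace Groth.Agent.S8705

/-- The set `P × Q` with the addition twisted by a symmetric 2-cocycle `ω`. -/
structure CExt {P Q : Type*} (ω : P → P → Q) where
  fst : P
  snd : Q

namespace CExt

variable {P Q : Type*} [AddCommGroup P] [AddCommGroup Q] {ω : P → P → Q}

omit [AddCommGroup P] [AddCommGroup Q] in
theorem ext' {x y : CExt ω} (h1 : x.fst = y.fst) (h2 : x.snd = y.snd) : x = y := by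
  cases x; cases y; simp_all

theorem w0 (hassoc : ∀ p q r, ω (p + q) r + ω p q = ω p (q + r) + ω q r) (r : P) :
    ω 0 r = ω 0 0 := by
  have := hassoc 0 0 r
  simp only [zero_add] at this
  exact (add_left_cancel this).symm

instance : Add (CExt ω) := ⟨fun x y => ⟨x.fst + y.fst, x.snd + y.snd + ω x.fst y.fst⟩⟩
instance : Zero (CExt ω) := ⟨⟨0, -ω 0 0⟩⟩
instance : Neg (CExt ω) := ⟨fun x => ⟨-x.fst, -x.snd - ω x.fst (-x.fst) - ω 0 0⟩⟩

@[simp] theorem add_fst' (x y : CExt ω) : (x + y).fst = x.fst + y.fst := rfl
@[simp] theorem add_snd' (x y : CExt ω) : (x + y).snd = x.snd + y.snd + ω x.fst y.fst := rfl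
@[simp] theorem zero_fst' : (0 : CExt ω).fst = 0 := rfl
@[simp] theorem zero_snd' : (0 : CExt ω).snd = -ω 0 0 := rfl
@[simp] theorem neg_fst' (x : CExt ω) : (-x).fst = -x.fst := rfl
@[simp] theorem neg_snd' (x : CExt ω) : (-x).snd = -x.snd - ω x.fst (-x.fst) - ω 0 0 := rfl

/-- the twisted group structure -/
abbrev grp (hassoc : ∀ p q r, ω (p + q) r + ω p q = ω p (q + r) + ω q r)
    (hcomm : ∀ p q, ω p q = ω q p) : AddCommGroup (CExt ω) where
  add_assoc x y z := by
    apply ext'
    · exact add_assoc _ _ _
    · show x.snd + y.snd + ω x.fst y.fst + z.snd + ω (x.fst + y.fst) z.fst =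
        x.snd + (y.snd + z.snd + ω y.fst z.fst) + ω x.fst (y.fst + z.fst)
      have := hassoc x.fst y.fst z.fst
      rw [← sub_eq_zero]
      rw [← sub_eq_zero] at this
      rw [← this]; abel
  zero_add x := by
    apply ext'
    · exact zero_add _
    · show -ω 0 0 + x.snd + ω 0 x.fst = x.snd
      rw [w0 hassoc x.fst]; abel
  add_zero x := by
    apply ext'
    · exact add_zero _
    · show x.snd + -ω 0 0 + ω x.fst 0 = x.snd
      rw [hcomm x.fst 0, w0 hassoc x.fst]; abel
  neg_add_cancel x := by
    apply ext'
    · exact neg_add_cancel _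
    · show -x.snd - ω x.fst (-x.fst) - ω 0 0 + x.snd + ω (-x.fst) x.fst = -ω 0 0
      rw [hcomm (-x.fst)]; abel
  add_comm x y := by
    apply ext'
    · exact add_comm _ _
    · show x.snd + y.snd + ω x.fst y.fst = y.snd + x.snd + ω y.fst x.fst
      rw [hcomm]; abel
  nsmul := nsmulRec
  zsmul := zsmulRec

end CExt

/-- In the case of the punctual topos (ordinary abelian groups): let P be an abelian group and consider
the complex of free abelian groups Z[P × P × P] ⊕ Z[P × P] → Z[P × P] → Z[P], augmented to P by [p]
↦ p, with d₀[p, q] = [p + q] − [p] − [q], with d₁ on the first summand given by [p, q, r] ↦ [p + q,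
r] − [p, q + r] + [p, q] − [q, r] and on the second summand by [p, q] ↦ [p, q] − [q, p]. Then the
augmentation is surjective with kernel the image of d₀ (so H₀ is P), and the kernel of d₀ is the sum
of the images of the two components of d₁ (so H₁ vanishes). (The published statement is for abelian
sheaves on an arbitrary topos; this row is its case of a one-point space.) -/
theorem result (P : Type u) [AddCommGroup P] :
    letI ε : (P →₀ ℤ) →ₗ[ℤ] P := Finsupp.linearCombination ℤ (fun p : P => p)
    letI d₀ : (P × P →₀ ℤ) →ₗ[ℤ] (P →₀ ℤ) := Finsupp.linearCombination ℤ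
      (fun pq : P × P => Finsupp.single (pq.1 + pq.2) 1 - Finsupp.single pq.1 1 - Finsupp.single pq.2 1)
    letI d₁ : (P × P × P →₀ ℤ) →ₗ[ℤ] (P × P →₀ ℤ) := Finsupp.linearCombination ℤ
      (fun t : P × P × P => Finsupp.single (t.1 + t.2.1, t.2.2) 1 - Finsupp.single (t.1, t.2.1 + t.2.2) 1
        + Finsupp.single (t.1, t.2.1) 1 - Finsupp.single (t.2.1, t.2.2) 1)
    letI d₁' : (P × P →₀ ℤ) →ₗ[ℤ] (P × P →₀ ℤ) := Finsupp.linearCombination ℤ
      (fun pq : P × P => Finsupp.single pq 1 - Finsupp.single (pq.2, pq.1) 1)
    Function.Surjective ε ∧ LinearMap.ker ε = LinearMap.range d₀ ∧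
      LinearMap.ker d₀ = LinearMap.range d₁ ⊔ LinearMap.range d₁' := by
  set ε : (P →₀ ℤ) →ₗ[ℤ] P := Finsupp.linearCombination ℤ (fun p : P => p) with hεdef
  set d₀ : (P × P →₀ ℤ) →ₗ[ℤ] (P →₀ ℤ) := Finsupp.linearCombination ℤ
      (fun pq : P × P => Finsupp.single (pq.1 + pq.2) 1 - Finsupp.single pq.1 1 - Finsupp.single pq.2 1)
    with hd₀def
  set d₁ : (P × P × P →₀ ℤ) →ₗ[ℤ] (P × P →₀ ℤ) := Finsupp.linearCombination ℤ
      (fun t : P × P × P => Finsupp.single (t.1 + t.2.1, t.2.2) 1 - Finsupp.single (t.1, t.2.1 + t.2.2) 1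
        + Finsupp.single (t.1, t.2.1) 1 - Finsupp.single (t.2.1, t.2.2) 1) with hd₁def
  set d₁' : (P × P →₀ ℤ) →ₗ[ℤ] (P × P →₀ ℤ) := Finsupp.linearCombination ℤ
      (fun pq : P × P => Finsupp.single pq 1 - Finsupp.single (pq.2, pq.1) 1) with hd₁'def
  have hd₀ : ∀ a b : P, d₀ (Finsupp.single (a, b) 1) =
      Finsupp.single (a + b) 1 - Finsupp.single a 1 - Finsupp.single b 1 := by
    intro a b
    simp only [d₀, Finsupp.linearCombination_single, one_smul]
  have hε : ∀ a : P, ε (Finsupp.single a 1) = a := by
    intro a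
    simp only [ε, Finsupp.linearCombination_single, one_smul]
  refine ⟨fun a => ⟨Finsupp.single a 1, hε a⟩, ?_, ?_⟩
  · -- ker ε = range d₀
    apply le_antisymm
    · let Q₀ := (P →₀ ℤ) ⧸ LinearMap.range d₀
      have h0 : (Submodule.Quotient.mk (Finsupp.single (0 : P) (1 : ℤ)) : Q₀) = 0 := by
        rw [Submodule.Quotient.mk_eq_zero]
        refine ⟨-Finsupp.single ((0 : P), (0 : P)) 1, ?_⟩
        rw [map_neg, hd₀]; simp
      have hadd : ∀ a b : P, (Submodule.Quotient.mk (Finsupp.single (a + b) (1 : ℤ)) : Q₀) =
          Submodule.Quotient.mk (Finsupp.single a 1) + Submodule.Quotient.mk (Finsupp.single b 1) := by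
        intro a b
        rw [← Submodule.Quotient.mk_add, ← sub_eq_zero, ← Submodule.Quotient.mk_sub,
          Submodule.Quotient.mk_eq_zero]
        refine ⟨Finsupp.single (a, b) 1, ?_⟩
        rw [hd₀]; abel
      let g : P →+ Q₀ :=
        { toFun := fun a => Submodule.Quotient.mk (Finsupp.single a 1)
          map_zero' := h0
          map_add' := hadd }
      have hlin : (LinearMap.range d₀).mkQ = g.toIntLinearMap ∘ₗ ε := by
        apply Finsupp.lhom_ext'
        intro a
        apply LinearMap.ext_ring
        simp only [LinearMap.comp_apply, Finsupp.lsingle_apply, Submodule.mkQ_apply,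
          AddMonoidHom.coe_toIntLinearMap, hε]
        rfl
      intro x hx
      have : (LinearMap.range d₀).mkQ x = 0 := by
        rw [hlin, LinearMap.comp_apply, LinearMap.mem_ker.mp hx, map_zero]
      simpa using this
    · rw [LinearMap.range_le_ker_iff]
      apply Finsupp.lhom_ext'
      intro pq
      apply LinearMap.ext_ring
      simp only [LinearMap.comp_apply, Finsupp.lsingle_apply, LinearMap.zero_apply]
      rw [hd₀, map_sub, map_sub, hε, hε, hε]
      abel
  · apply le_antisymm
    · -- the twisted extension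
      let R := LinearMap.range d₁ ⊔ LinearMap.range d₁'
      let Q := (P × P →₀ ℤ) ⧸ R
      let ω : P → P → Q := fun a b => Submodule.Quotient.mk (Finsupp.single (a, b) 1)
      have hassoc : ∀ p q r, ω (p + q) r + ω p q = ω p (q + r) + ω q r := by
        intro p q r
        have hmem : d₁ (Finsupp.single (p, q, r) 1) ∈ R :=
          Submodule.mem_sup_left (LinearMap.mem_range_self _ _)
        rw [← Submodule.Quotient.mk_eq_zero] at hmem
        simp only [d₁, Finsupp.linearCombination_single, one_smul, Submodule.Quotient.mk_add,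
          Submodule.Quotient.mk_sub] at hmem
        rw [← sub_eq_zero, ← hmem]
        simp only [ω]
        abel
      have hcomm : ∀ p q, ω p q = ω q p := by
        intro p q
        have hmem : d₁' (Finsupp.single (p, q) 1) ∈ R :=
          Submodule.mem_sup_right (LinearMap.mem_range_self _ _)
        rw [← Submodule.Quotient.mk_eq_zero] at hmem
        simp only [d₁', Finsupp.linearCombination_single, one_smul, Submodule.Quotient.mk_sub] at hmem
        exact sub_eq_zero.mp hmem
      let _ : AddCommGroup (CExt ω) := CExt.grp hassoc hcomm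
      let ι : Q →+ CExt ω :=
        { toFun := fun a => ⟨0, a - ω 0 0⟩
          map_zero' := by
            apply CExt.ext'
            · rfl
            · show 0 - ω 0 0 = -ω 0 0
              abel
          map_add' := by
            intro a b
            apply CExt.ext'
            · show (0 : P) = 0 + 0
              simp
            · show a + b - ω 0 0 = (a - ω 0 0) + (b - ω 0 0) + ω 0 0
              abel }
      have hB : ∀ (c : Q) (p : P) (a : Q), ι c + (⟨p, a⟩ : CExt ω) = ⟨p, a + c⟩ := by
        intro c p a
        apply CExt.ext'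
        · show 0 + p = p
          simp
        · show c - ω 0 0 + a + ω 0 p = a + c
          rw [CExt.w0 hassoc p]
          abel
      let Φ : (P →₀ ℤ) →ₗ[ℤ] CExt ω := Finsupp.linearCombination ℤ (fun p => (⟨p, 0⟩ : CExt ω))
      have hΦ : ∀ p : P, Φ (Finsupp.single p 1) = ⟨p, 0⟩ := by
        intro p
        simp only [Φ, Finsupp.linearCombination_single, one_smul]
      have hkey : Φ ∘ₗ d₀ = -(ι.toIntLinearMap ∘ₗ R.mkQ) := by
        apply Finsupp.lhom_ext'
        intro pq
        apply LinearMap.ext_ring
        obtain ⟨p, q⟩ := pq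
        simp only [LinearMap.comp_apply, Finsupp.lsingle_apply, LinearMap.neg_apply,
          AddMonoidHom.coe_toIntLinearMap]
        rw [hd₀, map_sub, map_sub, hΦ, hΦ, hΦ]
        have h2 : (⟨p, 0⟩ : CExt ω) + ⟨q, 0⟩ = ι (ω p q) + ⟨p + q, 0⟩ := by
          rw [hB]
          apply CExt.ext'
          · rfl
          · show 0 + 0 + ω p q = 0 + ω p q
            simp
        rw [sub_sub, h2]
        show _ = -ι (ω p q)
        abel
      intro z hz
      have h1 : ι (R.mkQ z) = 0 := by
        have := LinearMap.congr_fun hkey z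
        rw [LinearMap.comp_apply, LinearMap.mem_ker.mp hz, map_zero, LinearMap.neg_apply] at this
        exact neg_eq_zero.mp this.symm
      have h2 : R.mkQ z = 0 := by
        have := congrArg CExt.snd h1
        change R.mkQ z - ω 0 0 = -ω 0 0 at this
        rw [sub_eq_neg_add] at this
        simpa using this
      simpa using h2
    · apply sup_le
      · rw [LinearMap.range_le_ker_iff]
        apply Finsupp.lhom_ext'
        intro t
        apply LinearMap.ext_ring
        obtain ⟨p, q, r⟩ := t
        simp only [LinearMap.comp_apply, Finsupp.lsingle_apply, LinearMap.zero_apply, d₁,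
          Finsupp.linearCombination_single, one_smul]
        rw [map_sub, map_add, map_sub, hd₀, hd₀, hd₀, hd₀, add_assoc p q r]
        abel
      · rw [LinearMap.range_le_ker_iff]
        apply Finsupp.lhom_ext'
        intro t
        apply LinearMap.ext_ring
        obtain ⟨p, q⟩ := t
        simp only [LinearMap.comp_apply, Finsupp.lsingle_apply, LinearMap.zero_apply, d₁',
          Finsupp.linearCombination_single, one_smul]
        rw [map_sub, hd₀, hd₀, add_comm q p]
        abel

end Groth.Agent.S8705
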