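import Groth.Statements.S8724
import Mathlib.Algebra.BigOperators.Ring.Finset
import Mathlib.Algebra.Ring.GeomSum
import Mathlib.Data.Nat.Choose.Sum
import Mathlib.Tactic.Ring
-- import your own Groth.Agent.* helpers here

set_option autoImplicit false
open LefPen

namespace Groth.Agent.S8724

theorem G {R : Type*} [CommRing R] (y z : R) (n N : ℕ) (hN : n ≤ N) (c : ℕ → R) :
    (∑ i ∈ Finset.range N, ∑ j ∈ Finset.range N,
        if i + j < n then c (i + j) * y ^ i * z ^ j else 0) * (y - z)
      = ∑ k ∈ Finset.range n, c k * (y ^ (k + 1) - z ^ (k + 1)) := by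
  have h1 : (∑ i ∈ Finset.range N, ∑ j ∈ Finset.range N,
        if i + j < n then c (i + j) * y ^ i * z ^ j else 0) =
      ∑ q ∈ (Finset.range n).sigma (fun k => Finset.range (k + 1)),
        c q.1 * y ^ q.2 * z ^ (q.1 - q.2) := by
    rw [← Finset.sum_product', ← Finset.sum_filter]
    apply Finset.sum_nbij' (fun p => (⟨p.1 + p.2, p.1⟩ : Σ _ : ℕ, ℕ)) (fun q => (q.2, q.1 - q.2))
    · intro p hp
      simp only [Finset.mem_filter, Finset.mem_product, Finset.mem_range] at hp
      simp only [Finset.mem_sigma, Finset.mem_range]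
      omega
    · intro q hq
      simp only [Finset.mem_sigma, Finset.mem_range] at hq
      simp only [Finset.mem_filter, Finset.mem_product, Finset.mem_range]
      omega
    · intro p hp
      simp
    · intro q hq
      simp only [Finset.mem_sigma, Finset.mem_range] at hq
      obtain ⟨k, i⟩ := q
      simp only at hq ⊢
      have : i + (k - i) = k := by omega
      rw [this]
    · intro p hp
      simp
  rw [h1, Finset.sum_sigma, Finset.sum_mul]
  refine Finset.sum_congr rfl fun k _ => ?_
  rw [← geom_sum₂_mul, ← mul_assoc, Finset.mul_sum]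
  congr 1
  refine Finset.sum_congr rfl fun i _ => ?_
  have : k + 1 - 1 - i = k - i := by omega
  simp only [this]
  ring

/-- The algebraic identity established in its proof: let a >= 1 and work in Z[y, z]. Then (1+y)^(a-1) -
(1+z)^(a-1) = (y - z) * (sum over i, j >= 0 with i + j + 1 <= a - 1 of C(a-1, i+j+1) y^i z^j), and
(1+y)^a z - (1+z)^a y = (y - z) * (-1 + sum over i, j >= 1 with i + j <= a of C(a, i+j) y^i z^j).
Consequently the rational function -((1+y)^(a-1) - (1+z)^(a-1)) / ((1+y)^a z - (1+z)^a y), the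
generating series of the primitive middle Hodge numbers of smooth hypersurfaces of degree a, equals
(sum_{i,j >= 0} C(a-1, i+j+1) y^i z^j) / (1 - sum_{i,j >= 1} C(a, i+j) y^i z^j). -/
theorem result (a : ℕ) (ha : 1 ≤ a) :
    let y : MvPolynomial (Fin 2) ℤ := MvPolynomial.X 0
    let z : MvPolynomial (Fin 2) ℤ := MvPolynomial.X 1
    ((1 + y) ^ (a - 1) - (1 + z) ^ (a - 1) =
      (y - z) * ∑ i ∈ Finset.range a, ∑ j ∈ Finset.range a,
        if i + j + 1 ≤ a - 1 then ((a - 1).choose (i + j + 1) : MvPolynomial (Fin 2) ℤ) * y ^ i * z ^ j else 0) ∧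
    ((1 + y) ^ a * z - (1 + z) ^ a * y =
      (y - z) * (-1 + ∑ i ∈ Finset.range (a + 1), ∑ j ∈ Finset.range (a + 1),
        if 1 ≤ i ∧ 1 ≤ j ∧ i + j ≤ a then (a.choose (i + j) : MvPolynomial (Fin 2) ℤ) * y ^ i * z ^ j else 0)) := by
  intro y z
  obtain ⟨m, rfl⟩ : ∃ m, a = m + 1 := ⟨a - 1, by omega⟩
  simp only [Nat.add_sub_cancel]
  constructor
  · -- first identity
    have hG := G y z m (m + 1) (by omega) (fun k => ((m.choose (k + 1) : ℕ) : MvPolynomial (Fin 2) ℤ))
    have hsum : (∑ i ∈ Finset.range (m + 1), ∑ j ∈ Finset.range (m + 1),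
        if i + j + 1 ≤ m then ((m.choose (i + j + 1) : ℕ) : MvPolynomial (Fin 2) ℤ) * y ^ i * z ^ j
          else 0) =
        ∑ i ∈ Finset.range (m + 1), ∑ j ∈ Finset.range (m + 1),
          if i + j < m then ((m.choose (i + j + 1) : ℕ) : MvPolynomial (Fin 2) ℤ) * y ^ i * z ^ j
            else 0 := by
      refine Finset.sum_congr rfl fun i _ => Finset.sum_congr rfl fun j _ => ?_
      have : (i + j + 1 ≤ m) ↔ (i + j < m) := by omega
      simp only [this]
    rw [hsum, mul_comm, hG]
    rw [add_comm (1 : MvPolynomial (Fin 2) ℤ) y, add_comm (1 : MvPolynomial (Fin 2) ℤ) z,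
      add_pow, add_pow, ← Finset.sum_sub_distrib, Finset.sum_range_succ']
    simp only [one_pow, mul_one, pow_zero, Nat.choose_zero_right, sub_self, add_zero]
    refine Finset.sum_congr rfl fun k _ => ?_
    ring
  · -- second identity
    have hG := G y z m (m + 1) (by omega) (fun k => (((m + 1).choose (k + 2) : ℕ) : MvPolynomial (Fin 2) ℤ))
    have hsum : (∑ i ∈ Finset.range (m + 1 + 1), ∑ j ∈ Finset.range (m + 1 + 1),
        if 1 ≤ i ∧ 1 ≤ j ∧ i + j ≤ m + 1 then
          (((m + 1).choose (i + j) : ℕ) : MvPolynomial (Fin 2) ℤ) * y ^ i * z ^ j else 0) =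
        y * z * ∑ i ∈ Finset.range (m + 1), ∑ j ∈ Finset.range (m + 1),
          if i + j < m then (((m + 1).choose (i + j + 2) : ℕ) : MvPolynomial (Fin 2) ℤ) * y ^ i * z ^ j
            else 0 := by
      rw [Finset.sum_range_succ', Finset.mul_sum]
      simp only [Nat.le_zero, one_ne_zero, false_and, if_false, Finset.sum_const_zero, add_zero]
      refine Finset.sum_congr rfl fun i _ => ?_
      rw [Finset.sum_range_succ', Finset.mul_sum]
      simp only [Nat.le_zero, one_ne_zero, false_and, and_false, if_false, add_zero]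
      refine Finset.sum_congr rfl fun j _ => ?_
      have e : (1 ≤ i + 1 ∧ 1 ≤ j + 1 ∧ i + 1 + (j + 1) ≤ m + 1) ↔ (i + j < m) := by omega
      simp only [e]
      split_ifs
      · have : i + 1 + (j + 1) = i + j + 2 := by ring
        rw [this]; ring
      · simp
    rw [hsum, mul_add, mul_neg, mul_one, mul_comm (y - z) (y * z * _), mul_assoc, hG]
    rw [add_comm (1 : MvPolynomial (Fin 2) ℤ) y, add_comm (1 : MvPolynomial (Fin 2) ℤ) z,
      add_pow, add_pow, Finset.sum_mul, Finset.sum_mul, ← Finset.sum_sub_distrib,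
      Finset.sum_range_succ', Finset.sum_range_succ', Finset.mul_sum]
    simp only [one_pow, mul_one, pow_zero, Nat.choose_zero_right]
    have hsplit : ∀ k ∈ Finset.range m,
        y ^ (k + 1 + 1) * ((m + 1).choose (k + 1 + 1) : MvPolynomial (Fin 2) ℤ) * z -
          z ^ (k + 1 + 1) * ((m + 1).choose (k + 1 + 1) : MvPolynomial (Fin 2) ℤ) * y =
        y * z * ((((m + 1).choose (k + 2) : ℕ) : MvPolynomial (Fin 2) ℤ) * (y ^ (k + 1) - z ^ (k + 1))) := by
      intro k _
      ring
    rw [Finset.sum_congr rfl hsplit]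
    ring

end Groth.Agent.S8724
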